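import Cfsg.Agent.Lib.Helper3.Cover.Basic
set_option autoImplicit false

/-!
# The index of a subgroup of a covering group

`D.E → D.P` is the covering presentation of helper3's `CoverData`.  If the images in `D.E` of all relators of
`D.P` lie in a subgroup `H` (or in `H ∪ ζ H` for a central `ζ` with `ζ² ∈ H`), then the index of `H` in `D.E`
is at most (twice) the index of its image in `D.P`.
-/

namespace Cfsg.Agent.Lib.Helper16.RuM.CoverIdx
open Cfsg.Agent.Lib.Helper3.Cover Subgroup

section General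
variable {E P : Type*} [Group E] [Group P]

/-- the index of a subgroup containing the kernel is the index of its image -/
theorem index_eq_of_ker_le (f : E →* P) (hf : Function.Surjective f) (K : Subgroup E) (hker : f.ker ≤ K) :
    K.index = (K.map f).index := by
  have h : (K.map f).comap f = K := by
    rw [Subgroup.comap_map_eq, sup_eq_left]
    exact hker
  rw [← Subgroup.index_comap_of_surjective (K.map f) hf, h]

/-- the set `H ∪ ζ H` for a central element `ζ` with `ζ² ∈ H` -/
def extend (H : Subgroup E) (ζ : E) (hc : ζ ∈ center E) (h2 : ζ * ζ ∈ H) : Subgroup E where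
  carrier := {k | k ∈ H ∨ k * ζ⁻¹ ∈ H}
  one_mem' := Or.inl H.one_mem
  mul_mem' := by
    have hcz : ∀ g : E, g * ζ = ζ * g := Subgroup.mem_center_iff.mp hc
    have hci : ∀ g : E, g * ζ⁻¹ = ζ⁻¹ * g := Subgroup.mem_center_iff.mp (Subgroup.inv_mem _ hc)
    rintro a b (ha | ha) (hb | hb)
    · exact Or.inl (H.mul_mem ha hb)
    · right
      rw [mul_assoc]
      exact H.mul_mem ha hb
    · right
      have : a * b * ζ⁻¹ = a * ζ⁻¹ * b := by
        rw [mul_assoc, hci b, ← mul_assoc]
      rw [this]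
      exact H.mul_mem ha hb
    · left
      have : a * b = a * ζ⁻¹ * (b * ζ⁻¹) * (ζ * ζ) := by
        calc a * b = a * ζ⁻¹ * (ζ * b) := by group
          _ = a * ζ⁻¹ * (b * ζ) := by rw [hcz b]
          _ = a * ζ⁻¹ * (b * ζ⁻¹) * (ζ * ζ) := by group
      rw [this]
      exact H.mul_mem (H.mul_mem ha hb) h2
  inv_mem' := by
    have hcz : ∀ g : E, g * ζ = ζ * g := Subgroup.mem_center_iff.mp hc
    rintro a (ha | ha)
    · exact Or.inl (H.inv_mem ha)
    · right
      have : a⁻¹ * ζ⁻¹ = (a * ζ⁻¹)⁻¹ * (ζ * ζ)⁻¹ := by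
        calc a⁻¹ * ζ⁻¹ = (a⁻¹ * ζ) * (ζ⁻¹ * ζ⁻¹) := by group
          _ = (ζ * a⁻¹) * (ζ⁻¹ * ζ⁻¹) := by rw [hcz a⁻¹]
          _ = (a * ζ⁻¹)⁻¹ * (ζ * ζ)⁻¹ := by group
      rw [this]
      exact H.mul_mem (H.inv_mem ha) (H.inv_mem h2)

theorem mem_extend {H : Subgroup E} {ζ : E} {hc : ζ ∈ center E} {h2 : ζ * ζ ∈ H} {k : E} :
    k ∈ extend H ζ hc h2 ↔ k ∈ H ∨ k * ζ⁻¹ ∈ H := Iff.rfl

theorem le_extend (H : Subgroup E) (ζ : E) (hc : ζ ∈ center E) (h2 : ζ * ζ ∈ H) : H ≤ extend H ζ hc h2 :=
  fun _ hk => Or.inl hk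

/-- `H` has index at most 2 in `H ∪ ζ H` -/
theorem relIndex_extend (H : Subgroup E) (ζ : E) (hc : ζ ∈ center E) (h2 : ζ * ζ ∈ H) :
    H.relIndex (extend H ζ hc h2) ≠ 0 ∧ H.relIndex (extend H ζ hc h2) ≤ 2 := by
  set K := extend H ζ hc h2 with hK
  have hζK : ζ ∈ K := Or.inr (by rw [mul_inv_cancel]; exact H.one_mem)
  let g : Bool → K ⧸ H.subgroupOf K := fun b => cond b (QuotientGroup.mk ⟨ζ, hζK⟩) (QuotientGroup.mk 1)
  have hg : Function.Surjective g := by
    intro q
    induction q using QuotientGroup.induction_on with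
    | H k =>
      rcases k.2 with hk | hk
      · refine ⟨false, ?_⟩
        show (QuotientGroup.mk 1 : K ⧸ H.subgroupOf K) = QuotientGroup.mk k
        rw [QuotientGroup.eq, inv_one, one_mul, Subgroup.mem_subgroupOf]
        exact hk
      · refine ⟨true, ?_⟩
        show (QuotientGroup.mk ⟨ζ, hζK⟩ : K ⧸ H.subgroupOf K) = QuotientGroup.mk k
        rw [QuotientGroup.eq, Subgroup.mem_subgroupOf]
        have : ((⟨ζ, hζK⟩ : K)⁻¹ * k : K).val = ζ⁻¹ * k.val := rfl
        rw [this]
        have hci : k.val * ζ⁻¹ = ζ⁻¹ * k.val :=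
          (Subgroup.mem_center_iff.mp (Subgroup.inv_mem _ hc)) k.val
        rw [← hci]
        exact hk
  have hfinK : Finite (K ⧸ H.subgroupOf K) := Finite.of_surjective g hg
  have h1 : Nat.card (K ⧸ H.subgroupOf K) ≤ Nat.card Bool := Nat.card_le_card_of_surjective g hg
  have hb2 : Nat.card Bool = 2 := by rw [Nat.card_eq_fintype_card, Fintype.card_bool]
  rw [hb2] at h1
  have h0 : 0 < Nat.card (K ⧸ H.subgroupOf K) := Nat.card_pos
  exact ⟨by unfold Subgroup.relIndex Subgroup.index; omega, by unfold Subgroup.relIndex Subgroup.index; exact h1⟩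

end General

section Cover
variable {α : Type} [DecidableEq α] [Fintype α] (D : CoverData α)

/-- a subgroup of the covering group that contains the images of the relators contains the kernel -/
theorem ker_proj_le (K : Subgroup D.E)
    (h : ∀ r ∈ D.R, PresentedGroup.mk D.relsE (FreeGroup.mk r) ∈ K) : D.proj.ker ≤ K := by
  intro e he
  obtain ⟨w, rfl⟩ := PresentedGroup.mk_surjective _ e
  rw [MonoidHom.mem_ker, D.proj_mk] at he
  have hw : w ∈ normalClosure (relSet D.R) := PresentedGroup.mk_eq_one_iff.mp he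
  let C : Subgroup D.E := K ⊓ center D.E
  haveI : C.Normal := by
    constructor
    intro n hn g
    have hc : n ∈ center D.E := hn.2
    have : g * n * g⁻¹ = n := by
      rw [(Subgroup.mem_center_iff.mp hc) g, mul_assoc, mul_inv_cancel, mul_one]
    rw [this]
    exact hn
  have : normalClosure (relSet D.R) ≤ C.comap (PresentedGroup.mk D.relsE) := by
    apply normalClosure_le_normal
    rintro _ ⟨r, hr, rfl⟩
    exact ⟨h r hr, D.mk_rel_mem_center r hr⟩
  exact (this hw).1

/-- the index bound: all relators lie in the subgroup -/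
theorem card_quot_le (S : Set (FreeGroup α)) (n : ℕ)
    (hP : Finite (D.P ⧸ (Subgroup.closure S).map (PresentedGroup.mk (relSet D.R))) ∧
      Nat.card (D.P ⧸ (Subgroup.closure S).map (PresentedGroup.mk (relSet D.R))) ≤ n)
    (hR : ∀ r ∈ D.R, PresentedGroup.mk D.relsE (FreeGroup.mk r) ∈
      (Subgroup.closure S).map (PresentedGroup.mk D.relsE)) :
    Finite (D.E ⧸ (Subgroup.closure S).map (PresentedGroup.mk D.relsE)) ∧
      Nat.card (D.E ⧸ (Subgroup.closure S).map (PresentedGroup.mk D.relsE)) ≤ n := by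
  set H := (Subgroup.closure S).map (PresentedGroup.mk D.relsE) with hH
  have hmap : H.map D.proj = (Subgroup.closure S).map (PresentedGroup.mk (relSet D.R)) := by
    rw [hH, Subgroup.map_map]
    congr 1
    ext x
    exact D.proj_mk (FreeGroup.of x)
  have hidx := index_eq_of_ker_le D.proj D.proj_surjective H (ker_proj_le D H hR)
  rw [hmap] at hidx
  have hfinP := hP.1
  have hpos : 0 < Nat.card (D.P ⧸ (Subgroup.closure S).map (PresentedGroup.mk (relSet D.R))) := Nat.card_pos
  have e : Nat.card (D.E ⧸ H) = Nat.card (D.P ⧸ (Subgroup.closure S).map (PresentedGroup.mk (relSet D.R))) := hidx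
  refine ⟨Nat.finite_of_card_ne_zero (by rw [e]; omega), by rw [e]; exact hP.2⟩

/-- the index bound: all relators lie in `H ∪ ζ H`, where `ζ` is the image of a relator and `ζ² ∈ H` -/
theorem card_quot_le_two (S : Set (FreeGroup α)) (n : ℕ)
    (hP : Finite (D.P ⧸ (Subgroup.closure S).map (PresentedGroup.mk (relSet D.R))) ∧
      Nat.card (D.P ⧸ (Subgroup.closure S).map (PresentedGroup.mk (relSet D.R))) ≤ n)
    (z : List (α × Bool)) (hz : z ∈ D.R)
    (hR : ∀ r ∈ D.R, PresentedGroup.mk D.relsE (FreeGroup.mk r) ∈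
        (Subgroup.closure S).map (PresentedGroup.mk D.relsE) ∨
      PresentedGroup.mk D.relsE (FreeGroup.mk r) * (PresentedGroup.mk D.relsE (FreeGroup.mk z))⁻¹ ∈
        (Subgroup.closure S).map (PresentedGroup.mk D.relsE))
    (hz2 : PresentedGroup.mk D.relsE (FreeGroup.mk z) * PresentedGroup.mk D.relsE (FreeGroup.mk z) ∈
      (Subgroup.closure S).map (PresentedGroup.mk D.relsE)) :
    Finite (D.E ⧸ (Subgroup.closure S).map (PresentedGroup.mk D.relsE)) ∧
      Nat.card (D.E ⧸ (Subgroup.closure S).map (PresentedGroup.mk D.relsE)) ≤ 2 * n := by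
  set H := (Subgroup.closure S).map (PresentedGroup.mk D.relsE) with hH
  set ζ := PresentedGroup.mk D.relsE (FreeGroup.mk z) with hζ
  have hc : ζ ∈ center D.E := D.mk_rel_mem_center z hz
  set K := extend H ζ hc hz2 with hK
  have hζ1 : D.proj ζ = 1 := by
    rw [hζ, D.proj_mk]
    exact PresentedGroup.one_of_mem ⟨z, hz, rfl⟩
  have hmapH : H.map D.proj = (Subgroup.closure S).map (PresentedGroup.mk (relSet D.R)) := by
    rw [hH, Subgroup.map_map]
    congr 1
    ext x
    exact D.proj_mk (FreeGroup.of x)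
  have hmap : K.map D.proj = (Subgroup.closure S).map (PresentedGroup.mk (relSet D.R)) := by
    rw [← hmapH]
    apply le_antisymm
    · rintro _ ⟨k, hk, rfl⟩
      rcases hk with hk | hk
      · exact ⟨k, hk, rfl⟩
      · refine ⟨k * ζ⁻¹, hk, ?_⟩
        rw [map_mul, map_inv, hζ1, inv_one, mul_one]
    · exact Subgroup.map_mono (le_extend H ζ hc hz2)
  have hidx := index_eq_of_ker_le D.proj D.proj_surjective K (ker_proj_le D K hR)
  rw [hmap] at hidx
  have hfinP := hP.1
  have hpos : 0 < Nat.card (D.P ⧸ (Subgroup.closure S).map (PresentedGroup.mk (relSet D.R))) := Nat.card_pos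
  have hKi : K.index = Nat.card (D.P ⧸ (Subgroup.closure S).map (PresentedGroup.mk (relSet D.R))) := hidx
  obtain ⟨hr0, hr2⟩ := relIndex_extend H ζ hc hz2
  have hmul := Subgroup.relIndex_mul_index (le_extend H ζ hc hz2)
  have e : Nat.card (D.E ⧸ H) = H.relIndex K * K.index := hmul.symm
  have hle : H.relIndex K * K.index ≤ 2 * n := Nat.mul_le_mul hr2 (by rw [hKi]; exact hP.2)
  have hne : H.relIndex K * K.index ≠ 0 := Nat.mul_ne_zero hr0 (by rw [hKi]; omega)
  exact ⟨Nat.finite_of_card_ne_zero (by rw [e]; exact hne), by rw [e]; exact hle⟩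

end Cover

end Cfsg.Agent.Lib.Helper16.RuM.CoverIdx
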