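import Cfsg.Agent.Lib.Helper28.TC2Upper
import Cfsg.Agent.Lib.Helper16.RuM.E1DataC0
set_option autoImplicit false
set_option maxRecDepth 100000

namespace Cfsg.Agent.Lib.Helper16.RuM.E1Data
open Cfsg.Agent.Lib.Helper28.TC2Upper

/-- relators -/
def relT : BT (ℕ × List ℕ × List ℕ) := (BT.node 5 (BT.node 2 (BT.node 1 (BT.node 0 (BT.leaf (6, [1, 1, 1, 0, 0, 0], [1, 1, 1, 0, 0, 0])) (BT.leaf (6, [3, 1, 1, 2, 0, 0], [1, 1, 3, 0, 0, 2]))) (BT.leaf (18, [1, 1, 3, 1, 3, 1, 3, 1, 3, 0, 2, 0, 2, 0, 2, 0, 2, 0], [1, 3, 1, 3, 1, 3, 1, 3, 1, 2, 0, 2, 0, 2, 0, 2, 0, 0]))) (BT.node 4 (BT.node 3 (BT.leaf (18, [3, 1, 3, 1, 3, 1, 3, 1, 3, 2, 2, 0, 2, 0, 2, 0, 2, 0], [1, 3, 1, 3, 1, 3, 1, 3, 3, 2, 0, 2, 0, 2, 0, 2, 0, 2])) (BT.leaf (26, [1, 1, 3, 3, 1, 3, 3, 1, 3, 3, 1, 3, 3, 0, 2, 2, 0, 2, 2, 0, 2, 2, 0, 2, 2, 0], [1, 3, 3, 1, 3, 3, 1, 3, 3,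 1, 3, 3, 1, 2, 2, 0, 2, 2, 0, 2, 2, 0, 2, 2, 0, 0]))) (BT.leaf (26, [3, 1, 3, 3, 1, 3, 3, 1, 3, 3, 1, 3, 3, 2, 2, 2, 0, 2, 2, 0, 2, 2, 0, 2, 2, 0], [1, 3, 3, 1, 3, 3, 1, 3, 3, 1, 3, 3, 3, 2, 2, 0, 2, 2, 0, 2, 2, 0, 2, 2, 0, 2])))) (BT.node 8 (BT.node 7 (BT.node 6 (BT.leaf (28, [1, 3, 3, 3, 3, 3, 3, 3, 3, 3, 3, 3, 3, 3, 0, 2, 2, 2, 2, 2, 2, 2, 2, 2, 2, 2, 2, 2], [3, 3, 3, 3, 3, 3, 3, 3, 3, 3, 3, 3, 3, 1, 2, 2, 2, 2, 2, 2, 2, 2, 2, 2, 2, 2, 2, 0])) (BT.leaf (28, [3, 3, 3, 3, 3, 3, 3, 3, 3, 3, 3, 3, 3, 3, 2, 2, 2, 2, 2, 2, 2, 2, 2, 2, 2, 2, 2, 2], [3, 3, 3, 3, 3, 3, 3, 3, 3, 3, 3, 3, 3, 3, 2, 2, 2, 2, 2, 2, 2, 2, 2, 2, 2, 2, 2, 2]))) (BT.leaf (32, [1, 1, 3, 3, 3, 3, 1, 3, 3, 3, 3, 1, 3, 3, 3, 3, 0, 2, 2, 2, 2, 0, 2, 2, 2, 2, 0, 2, 2, 2, 2, 0], [1, 3, 3, 3, 3, 1, 3, 3, 3, 3, 1, 3, 3, 3, 3, 1, 2, 2, 2, 2, 0, 2, 2, 2, 2, 0, 2, 2,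 2, 2, 0, 0]))) (BT.node 10 (BT.node 9 (BT.leaf (32, [3, 1, 3, 3, 3, 3, 1, 3, 3, 3, 3, 1, 3, 3, 3, 3, 2, 2, 2, 2, 2, 0, 2, 2, 2, 2, 0, 2, 2, 2, 2, 0], [1, 3, 3, 3, 3, 1, 3, 3, 3, 3, 1, 3, 3, 3, 3, 3, 2, 2, 2, 2, 0, 2, 2, 2, 2, 0, 2, 2, 2, 2, 0, 2])) (BT.leaf (39, [1, 1, 1, 1, 1, 3, 3, 3, 3, 1, 3, 3, 3, 3, 1, 3, 3, 3, 3, 2, 2, 0, 2, 2, 0, 2, 2, 0, 2, 2, 0, 2, 0, 2, 0, 2, 0, 2, 0], [1, 3, 1, 3, 1, 3, 1, 3, 1, 3, 3, 1, 3, 3, 1, 3, 3, 1, 3, 3, 2, 2, 2, 2, 0, 2, 2, 2, 2, 0, 2, 2, 2, 2, 0, 0, 0, 0, 0]))) (BT.leaf (41, [2, 2, 2, 2, 2, 2, 2, 2, 2, 2, 2, 2, 2, 0, 0, 0, 0, 0, 0, 0, 0, 1, 3, 3, 1, 3, 3, 1, 3, 3, 1, 3, 3, 1, 3, 1, 3, 1, 3, 1, 3], [2, 0, 2, 0, 2, 0, 2, 0, 2, 2, 0, 2, 2, 0, 2, 2, 0, 2, 2, 0, 1, 1, 1, 1, 1, 1, 1, 1, 3, 3, 3, 3, 3, 3, 3, 3, 3, 3, 3, 3, 3])))))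
/-- subgroup generators -/
def subT : BT (ℕ × List ℕ × List ℕ) := (BT.leaf (0, [], []))
/-- fact chunks -/
noncomputable def colET : BT ℕ := (BT.node 117 (BT.node 58 (BT.node 29 (BT.node 14 (BT.node 7 (BT.node 3 (BT.node 1 (BT.node 0 (BT.leaf cE0) (BT.leaf cE1)) (BT.node 2 (BT.leaf cE2) (BT.leaf cE3))) (BT.node 5 (BT.node 4 (BT.leaf cE4) (BT.leaf cE5)) (BT.node 6 (BT.leaf cE6) (BT.leaf cE7)))) (BT.node 11 (BT.node 9 (BT.node 8 (BT.leaf cE8) (BT.leaf cE9)) (BT.node 10 (BT.leaf cE10) (BT.leaf cE11))) (BT.node 13 (BT.node 12 (BT.leaf cE12) (BT.leaf cE13)) (BT.leaf cE14)))) (BT.node 22 (BT.node 18 (BT.node 16 (BT.node 15 (BT.leaf cE15) (BT.leaf cE16)) (BT.node 17 (BT.leaf cE17) (BT.leaf cE18))) (BT.node 20 (BT.node 19 (BT.leaf cE19) (BT.leaf cE20)) (BT.node 21 (BT.leaf cE21) (BT.leaf cE22)))) (BT.node 26 (BT.node 24 (BT.node 23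 (BT.leaf cE23) (BT.leaf cE24)) (BT.node 25 (BT.leaf cE25) (BT.leaf cE26))) (BT.node 28 (BT.node 27 (BT.leaf cE27) (BT.leaf cE28)) (BT.leaf cE29))))) (BT.node 44 (BT.node 37 (BT.node 33 (BT.node 31 (BT.node 30 (BT.leaf cE30) (BT.leaf cE31)) (BT.node 32 (BT.leaf cE32) (BT.leaf cE33))) (BT.node 35 (BT.node 34 (BT.leaf cE34) (BT.leaf cE35)) (BT.node 36 (BT.leaf cE36) (BT.leaf cE37)))) (BT.node 41 (BT.node 39 (BT.node 38 (BT.leaf cE38) (BT.leaf cE39)) (BT.node 40 (BT.leaf cE40) (BT.leaf cE41))) (BT.node 43 (BT.node 42 (BT.leaf cE42) (BT.leaf cE43)) (BT.leaf cE44)))) (BT.node 51 (BT.node 48 (BT.node 46 (BT.node 45 (BT.leaf cE45) (BT.leaf cE46)) (BT.node 47 (BT.leaf cE47) (BT.leaf cE48))) (BT.node 50 (BT.node 49 (BT.leaf cE49) (BT.leaf cE50)) (BT.leaf cE51))) (BT.node 55 (BT.node 53 (BT.node 52 (BT.leaf cE52) (BT.leaf cE53)) (BT.node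 54 (BT.leaf cE54) (BT.leaf cE55))) (BT.node 57 (BT.node 56 (BT.leaf cE56) (BT.leaf cE57)) (BT.leaf cE58)))))) (BT.node 88 (BT.node 73 (BT.node 66 (BT.node 62 (BT.node 60 (BT.node 59 (BT.leaf cE59) (BT.leaf cE60)) (BT.node 61 (BT.leaf cE61) (BT.leaf cE62))) (BT.node 64 (BT.node 63 (BT.leaf cE63) (BT.leaf cE64)) (BT.node 65 (BT.leaf cE65) (BT.leaf cE66)))) (BT.node 70 (BT.node 68 (BT.node 67 (BT.leaf cE67) (BT.leaf cE68)) (BT.node 69 (BT.leaf cE69) (BT.leaf cE70))) (BT.node 72 (BT.node 71 (BT.leaf cE71) (BT.leaf cE72)) (BT.leaf cE73)))) (BT.node 81 (BT.node 77 (BT.node 75 (BT.node 74 (BT.leaf cE74) (BT.leaf cE75)) (BT.node 76 (BT.leaf cE76) (BT.leaf cE77))) (BT.node 79 (BT.node 78 (BT.leaf cE78) (BT.leaf cE79)) (BT.node 80 (BT.leaf cE80) (BT.leaf cE81)))) (BT.node 85 (BT.node 83 (BT.node 82 (BT.leaf cE82) (BT.leaf cE83)) (BT.node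 84 (BT.leaf cE84) (BT.leaf cE85))) (BT.node 87 (BT.node 86 (BT.leaf cE86) (BT.leaf cE87)) (BT.leaf cE88))))) (BT.node 103 (BT.node 96 (BT.node 92 (BT.node 90 (BT.node 89 (BT.leaf cE89) (BT.leaf cE90)) (BT.node 91 (BT.leaf cE91) (BT.leaf cE92))) (BT.node 94 (BT.node 93 (BT.leaf cE93) (BT.leaf cE94)) (BT.node 95 (BT.leaf cE95) (BT.leaf cE96)))) (BT.node 100 (BT.node 98 (BT.node 97 (BT.leaf cE97) (BT.leaf cE98)) (BT.node 99 (BT.leaf cE99) (BT.leaf cE100))) (BT.node 102 (BT.node 101 (BT.leaf cE101) (BT.leaf cE102)) (BT.leaf cE103)))) (BT.node 110 (BT.node 107 (BT.node 105 (BT.node 104 (BT.leaf cE104) (BT.leaf cE105)) (BT.node 106 (BT.leaf cE106) (BT.leaf cE107))) (BT.node 109 (BT.node 108 (BT.leaf cE108) (BT.leaf cE109)) (BT.leaf cE110))) (BT.node 114 (BT.node 112 (BT.node 111 (BT.leaf cE111) (BT.leaf cE112)) (BT.node 113 (BT.leaf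 cE113) (BT.leaf cE114))) (BT.node 116 (BT.node 115 (BT.leaf cE115) (BT.leaf cE116)) (BT.leaf cE117))))))) (BT.node 176 (BT.node 147 (BT.node 132 (BT.node 125 (BT.node 121 (BT.node 119 (BT.node 118 (BT.leaf cE118) (BT.leaf cE119)) (BT.node 120 (BT.leaf cE120) (BT.leaf cE121))) (BT.node 123 (BT.node 122 (BT.leaf cE122) (BT.leaf cE123)) (BT.node 124 (BT.leaf cE124) (BT.leaf cE125)))) (BT.node 129 (BT.node 127 (BT.node 126 (BT.leaf cE126) (BT.leaf cE127)) (BT.node 128 (BT.leaf cE128) (BT.leaf cE129))) (BT.node 131 (BT.node 130 (BT.leaf cE130) (BT.leaf cE131)) (BT.leaf cE132)))) (BT.node 140 (BT.node 136 (BT.node 134 (BT.node 133 (BT.leaf cE133) (BT.leaf cE134)) (BT.node 135 (BT.leaf cE135) (BT.leaf cE136))) (BT.node 138 (BT.node 137 (BT.leaf cE137) (BT.leaf cE138)) (BT.node 139 (BT.leaf cE139) (BT.leaf cE140)))) (BT.node 144 (BT.node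 142 (BT.node 141 (BT.leaf cE141) (BT.leaf cE142)) (BT.node 143 (BT.leaf cE143) (BT.leaf cE144))) (BT.node 146 (BT.node 145 (BT.leaf cE145) (BT.leaf cE146)) (BT.leaf cE147))))) (BT.node 162 (BT.node 155 (BT.node 151 (BT.node 149 (BT.node 148 (BT.leaf cE148) (BT.leaf cE149)) (BT.node 150 (BT.leaf cE150) (BT.leaf cE151))) (BT.node 153 (BT.node 152 (BT.leaf cE152) (BT.leaf cE153)) (BT.node 154 (BT.leaf cE154) (BT.leaf cE155)))) (BT.node 159 (BT.node 157 (BT.node 156 (BT.leaf cE156) (BT.leaf cE157)) (BT.node 158 (BT.leaf cE158) (BT.leaf cE159))) (BT.node 161 (BT.node 160 (BT.leaf cE160) (BT.leaf cE161)) (BT.leaf cE162)))) (BT.node 169 (BT.node 166 (BT.node 164 (BT.node 163 (BT.leaf cE163) (BT.leaf cE164)) (BT.node 165 (BT.leaf cE165) (BT.leaf cE166))) (BT.node 168 (BT.node 167 (BT.leaf cE167) (BT.leaf cE168)) (BT.leaf cE169))) (BT.node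 173 (BT.node 171 (BT.node 170 (BT.leaf cE170) (BT.leaf cE171)) (BT.node 172 (BT.leaf cE172) (BT.leaf cE173))) (BT.node 175 (BT.node 174 (BT.leaf cE174) (BT.leaf cE175)) (BT.leaf cE176)))))) (BT.node 205 (BT.node 191 (BT.node 184 (BT.node 180 (BT.node 178 (BT.node 177 (BT.leaf cE177) (BT.leaf cE178)) (BT.node 179 (BT.leaf cE179) (BT.leaf cE180))) (BT.node 182 (BT.node 181 (BT.leaf cE181) (BT.leaf cE182)) (BT.node 183 (BT.leaf cE183) (BT.leaf cE184)))) (BT.node 188 (BT.node 186 (BT.node 185 (BT.leaf cE185) (BT.leaf cE186)) (BT.node 187 (BT.leaf cE187) (BT.leaf cE188))) (BT.node 190 (BT.node 189 (BT.leaf cE189) (BT.leaf cE190)) (BT.leaf cE191)))) (BT.node 198 (BT.node 195 (BT.node 193 (BT.node 192 (BT.leaf cE192) (BT.leaf cE193)) (BT.node 194 (BT.leaf cE194) (BT.leaf cE195))) (BT.node 197 (BT.node 196 (BT.leaf cE196) (BT.leaf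 cE197)) (BT.leaf cE198))) (BT.node 202 (BT.node 200 (BT.node 199 (BT.leaf cE199) (BT.leaf cE200)) (BT.node 201 (BT.leaf cE201) (BT.leaf cE202))) (BT.node 204 (BT.node 203 (BT.leaf cE203) (BT.leaf cE204)) (BT.leaf cE205))))) (BT.node 220 (BT.node 213 (BT.node 209 (BT.node 207 (BT.node 206 (BT.leaf cE206) (BT.leaf cE207)) (BT.node 208 (BT.leaf cE208) (BT.leaf cE209))) (BT.node 211 (BT.node 210 (BT.leaf cE210) (BT.leaf cE211)) (BT.node 212 (BT.leaf cE212) (BT.leaf cE213)))) (BT.node 217 (BT.node 215 (BT.node 214 (BT.leaf cE214) (BT.leaf cE215)) (BT.node 216 (BT.leaf cE216) (BT.leaf cE217))) (BT.node 219 (BT.node 218 (BT.leaf cE218) (BT.leaf cE219)) (BT.leaf cE220)))) (BT.node 227 (BT.node 224 (BT.node 222 (BT.node 221 (BT.leaf cE221) (BT.leaf cE222)) (BT.node 223 (BT.leaf cE223) (BT.leaf cE224))) (BT.node 226 (BT.node 225 (BT.leaf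 cE225) (BT.leaf cE226)) (BT.leaf cE227))) (BT.node 231 (BT.node 229 (BT.node 228 (BT.leaf cE228) (BT.leaf cE229)) (BT.node 230 (BT.leaf cE230) (BT.leaf cE231))) (BT.node 233 (BT.node 232 (BT.leaf cE232) (BT.leaf cE233)) (BT.leaf cE234))))))))
/-- justification chunks -/
noncomputable def colJT : BT ℕ := (BT.node 117 (BT.node 58 (BT.node 29 (BT.node 14 (BT.node 7 (BT.node 3 (BT.node 1 (BT.node 0 (BT.leaf cJ0) (BT.leaf cJ1)) (BT.node 2 (BT.leaf cJ2) (BT.leaf cJ3))) (BT.node 5 (BT.node 4 (BT.leaf cJ4) (BT.leaf cJ5)) (BT.node 6 (BT.leaf cJ6) (BT.leaf cJ7)))) (BT.node 11 (BT.node 9 (BT.node 8 (BT.leaf cJ8) (BT.leaf cJ9)) (BT.node 10 (BT.leaf cJ10) (BT.leaf cJ11))) (BT.node 13 (BT.node 12 (BT.leaf cJ12) (BT.leaf cJ13)) (BT.leaf cJ14)))) (BT.node 22 (BT.node 18 (BT.node 16 (BT.node 15 (BT.leaf cJ15) (BT.leaf cJ16)) (BT.node 17 (BT.leaf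 cJ17) (BT.leaf cJ18))) (BT.node 20 (BT.node 19 (BT.leaf cJ19) (BT.leaf cJ20)) (BT.node 21 (BT.leaf cJ21) (BT.leaf cJ22)))) (BT.node 26 (BT.node 24 (BT.node 23 (BT.leaf cJ23) (BT.leaf cJ24)) (BT.node 25 (BT.leaf cJ25) (BT.leaf cJ26))) (BT.node 28 (BT.node 27 (BT.leaf cJ27) (BT.leaf cJ28)) (BT.leaf cJ29))))) (BT.node 44 (BT.node 37 (BT.node 33 (BT.node 31 (BT.node 30 (BT.leaf cJ30) (BT.leaf cJ31)) (BT.node 32 (BT.leaf cJ32) (BT.leaf cJ33))) (BT.node 35 (BT.node 34 (BT.leaf cJ34) (BT.leaf cJ35)) (BT.node 36 (BT.leaf cJ36) (BT.leaf cJ37)))) (BT.node 41 (BT.node 39 (BT.node 38 (BT.leaf cJ38) (BT.leaf cJ39)) (BT.node 40 (BT.leaf cJ40) (BT.leaf cJ41))) (BT.node 43 (BT.node 42 (BT.leaf cJ42) (BT.leaf cJ43)) (BT.leaf cJ44)))) (BT.node 51 (BT.node 48 (BT.node 46 (BT.node 45 (BT.leaf cJ45) (BT.leaf cJ46)) (BT.node 47 (BT.leaf cJ47) (BT.leaf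 cJ48))) (BT.node 50 (BT.node 49 (BT.leaf cJ49) (BT.leaf cJ50)) (BT.leaf cJ51))) (BT.node 55 (BT.node 53 (BT.node 52 (BT.leaf cJ52) (BT.leaf cJ53)) (BT.node 54 (BT.leaf cJ54) (BT.leaf cJ55))) (BT.node 57 (BT.node 56 (BT.leaf cJ56) (BT.leaf cJ57)) (BT.leaf cJ58)))))) (BT.node 88 (BT.node 73 (BT.node 66 (BT.node 62 (BT.node 60 (BT.node 59 (BT.leaf cJ59) (BT.leaf cJ60)) (BT.node 61 (BT.leaf cJ61) (BT.leaf cJ62))) (BT.node 64 (BT.node 63 (BT.leaf cJ63) (BT.leaf cJ64)) (BT.node 65 (BT.leaf cJ65) (BT.leaf cJ66)))) (BT.node 70 (BT.node 68 (BT.node 67 (BT.leaf cJ67) (BT.leaf cJ68)) (BT.node 69 (BT.leaf cJ69) (BT.leaf cJ70))) (BT.node 72 (BT.node 71 (BT.leaf cJ71) (BT.leaf cJ72)) (BT.leaf cJ73)))) (BT.node 81 (BT.node 77 (BT.node 75 (BT.node 74 (BT.leaf cJ74) (BT.leaf cJ75)) (BT.node 76 (BT.leaf cJ76) (BT.leaf cJ77))) (BT.node 79 (BT.node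 78 (BT.leaf cJ78) (BT.leaf cJ79)) (BT.node 80 (BT.leaf cJ80) (BT.leaf cJ81)))) (BT.node 85 (BT.node 83 (BT.node 82 (BT.leaf cJ82) (BT.leaf cJ83)) (BT.node 84 (BT.leaf cJ84) (BT.leaf cJ85))) (BT.node 87 (BT.node 86 (BT.leaf cJ86) (BT.leaf cJ87)) (BT.leaf cJ88))))) (BT.node 103 (BT.node 96 (BT.node 92 (BT.node 90 (BT.node 89 (BT.leaf cJ89) (BT.leaf cJ90)) (BT.node 91 (BT.leaf cJ91) (BT.leaf cJ92))) (BT.node 94 (BT.node 93 (BT.leaf cJ93) (BT.leaf cJ94)) (BT.node 95 (BT.leaf cJ95) (BT.leaf cJ96)))) (BT.node 100 (BT.node 98 (BT.node 97 (BT.leaf cJ97) (BT.leaf cJ98)) (BT.node 99 (BT.leaf cJ99) (BT.leaf cJ100))) (BT.node 102 (BT.node 101 (BT.leaf cJ101) (BT.leaf cJ102)) (BT.leaf cJ103)))) (BT.node 110 (BT.node 107 (BT.node 105 (BT.node 104 (BT.leaf cJ104) (BT.leaf cJ105)) (BT.node 106 (BT.leaf cJ106) (BT.leaf cJ107))) (BT.node 109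 (BT.node 108 (BT.leaf cJ108) (BT.leaf cJ109)) (BT.leaf cJ110))) (BT.node 114 (BT.node 112 (BT.node 111 (BT.leaf cJ111) (BT.leaf cJ112)) (BT.node 113 (BT.leaf cJ113) (BT.leaf cJ114))) (BT.node 116 (BT.node 115 (BT.leaf cJ115) (BT.leaf cJ116)) (BT.leaf cJ117))))))) (BT.node 176 (BT.node 147 (BT.node 132 (BT.node 125 (BT.node 121 (BT.node 119 (BT.node 118 (BT.leaf cJ118) (BT.leaf cJ119)) (BT.node 120 (BT.leaf cJ120) (BT.leaf cJ121))) (BT.node 123 (BT.node 122 (BT.leaf cJ122) (BT.leaf cJ123)) (BT.node 124 (BT.leaf cJ124) (BT.leaf cJ125)))) (BT.node 129 (BT.node 127 (BT.node 126 (BT.leaf cJ126) (BT.leaf cJ127)) (BT.node 128 (BT.leaf cJ128) (BT.leaf cJ129))) (BT.node 131 (BT.node 130 (BT.leaf cJ130) (BT.leaf cJ131)) (BT.leaf cJ132)))) (BT.node 140 (BT.node 136 (BT.node 134 (BT.node 133 (BT.leaf cJ133) (BT.leaf cJ134)) (BT.node 135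 (BT.leaf cJ135) (BT.leaf cJ136))) (BT.node 138 (BT.node 137 (BT.leaf cJ137) (BT.leaf cJ138)) (BT.node 139 (BT.leaf cJ139) (BT.leaf cJ140)))) (BT.node 144 (BT.node 142 (BT.node 141 (BT.leaf cJ141) (BT.leaf cJ142)) (BT.node 143 (BT.leaf cJ143) (BT.leaf cJ144))) (BT.node 146 (BT.node 145 (BT.leaf cJ145) (BT.leaf cJ146)) (BT.leaf cJ147))))) (BT.node 162 (BT.node 155 (BT.node 151 (BT.node 149 (BT.node 148 (BT.leaf cJ148) (BT.leaf cJ149)) (BT.node 150 (BT.leaf cJ150) (BT.leaf cJ151))) (BT.node 153 (BT.node 152 (BT.leaf cJ152) (BT.leaf cJ153)) (BT.node 154 (BT.leaf cJ154) (BT.leaf cJ155)))) (BT.node 159 (BT.node 157 (BT.node 156 (BT.leaf cJ156) (BT.leaf cJ157)) (BT.node 158 (BT.leaf cJ158) (BT.leaf cJ159))) (BT.node 161 (BT.node 160 (BT.leaf cJ160) (BT.leaf cJ161)) (BT.leaf cJ162)))) (BT.node 169 (BT.node 166 (BT.node 164 (BT.node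 163 (BT.leaf cJ163) (BT.leaf cJ164)) (BT.node 165 (BT.leaf cJ165) (BT.leaf cJ166))) (BT.node 168 (BT.node 167 (BT.leaf cJ167) (BT.leaf cJ168)) (BT.leaf cJ169))) (BT.node 173 (BT.node 171 (BT.node 170 (BT.leaf cJ170) (BT.leaf cJ171)) (BT.node 172 (BT.leaf cJ172) (BT.leaf cJ173))) (BT.node 175 (BT.node 174 (BT.leaf cJ174) (BT.leaf cJ175)) (BT.leaf cJ176)))))) (BT.node 205 (BT.node 191 (BT.node 184 (BT.node 180 (BT.node 178 (BT.node 177 (BT.leaf cJ177) (BT.leaf cJ178)) (BT.node 179 (BT.leaf cJ179) (BT.leaf cJ180))) (BT.node 182 (BT.node 181 (BT.leaf cJ181) (BT.leaf cJ182)) (BT.node 183 (BT.leaf cJ183) (BT.leaf cJ184)))) (BT.node 188 (BT.node 186 (BT.node 185 (BT.leaf cJ185) (BT.leaf cJ186)) (BT.node 187 (BT.leaf cJ187) (BT.leaf cJ188))) (BT.node 190 (BT.node 189 (BT.leaf cJ189) (BT.leaf cJ190)) (BT.leaf cJ191)))) (BT.node 198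 (BT.node 195 (BT.node 193 (BT.node 192 (BT.leaf cJ192) (BT.leaf cJ193)) (BT.node 194 (BT.leaf cJ194) (BT.leaf cJ195))) (BT.node 197 (BT.node 196 (BT.leaf cJ196) (BT.leaf cJ197)) (BT.leaf cJ198))) (BT.node 202 (BT.node 200 (BT.node 199 (BT.leaf cJ199) (BT.leaf cJ200)) (BT.node 201 (BT.leaf cJ201) (BT.leaf cJ202))) (BT.node 204 (BT.node 203 (BT.leaf cJ203) (BT.leaf cJ204)) (BT.leaf cJ205))))) (BT.node 220 (BT.node 213 (BT.node 209 (BT.node 207 (BT.node 206 (BT.leaf cJ206) (BT.leaf cJ207)) (BT.node 208 (BT.leaf cJ208) (BT.leaf cJ209))) (BT.node 211 (BT.node 210 (BT.leaf cJ210) (BT.leaf cJ211)) (BT.node 212 (BT.leaf cJ212) (BT.leaf cJ213)))) (BT.node 217 (BT.node 215 (BT.node 214 (BT.leaf cJ214) (BT.leaf cJ215)) (BT.node 216 (BT.leaf cJ216) (BT.leaf cJ217))) (BT.node 219 (BT.node 218 (BT.leaf cJ218) (BT.leaf cJ219)) (BT.leaf cJ220))))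 (BT.node 227 (BT.node 224 (BT.node 222 (BT.node 221 (BT.leaf cJ221) (BT.leaf cJ222)) (BT.node 223 (BT.leaf cJ223) (BT.leaf cJ224))) (BT.node 226 (BT.node 225 (BT.leaf cJ225) (BT.leaf cJ226)) (BT.leaf cJ227))) (BT.node 231 (BT.node 229 (BT.node 228 (BT.leaf cJ228) (BT.leaf cJ229)) (BT.node 230 (BT.leaf cJ230) (BT.leaf cJ231))) (BT.node 233 (BT.node 232 (BT.leaf cJ232) (BT.leaf cJ233)) (BT.leaf cJ234))))))))
/-- parent chunks -/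
noncomputable def parCT : BT ℕ := (BT.node 23 (BT.node 11 (BT.node 5 (BT.node 2 (BT.node 1 (BT.node 0 (BT.leaf cP0) (BT.leaf cP1)) (BT.leaf cP2)) (BT.node 4 (BT.node 3 (BT.leaf cP3) (BT.leaf cP4)) (BT.leaf cP5))) (BT.node 8 (BT.node 7 (BT.node 6 (BT.leaf cP6) (BT.leaf cP7)) (BT.leaf cP8)) (BT.node 10 (BT.node 9 (BT.leaf cP9) (BT.leaf cP10)) (BT.leaf cP11)))) (BT.node 17 (BT.node 14 (BT.node 13 (BT.node 12 (BT.leaf cP12) (BT.leaf cP13)) (BT.leaf cP14)) (BT.node 16 (BT.node 15 (BT.leaf cP15) (BT.leaf cP16)) (BT.leaf cP17))) (BT.node 20 (BT.node 19 (BT.node 18 (BT.leaf cP18) (BT.leaf cP19)) (BT.leaf cP20)) (BT.node 22 (BT.node 21 (BT.leaf cP21) (BT.leaf cP22)) (BT.leaf cP23))))) (BT.node 35 (BT.node 29 (BT.node 26 (BT.node 25 (BT.node 24 (BT.leaf cP24) (BT.leaf cP25)) (BT.leaf cP26)) (BT.node 28 (BT.node 27 (BT.leaf cP27) (BT.leaf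 cP28)) (BT.leaf cP29))) (BT.node 32 (BT.node 31 (BT.node 30 (BT.leaf cP30) (BT.leaf cP31)) (BT.leaf cP32)) (BT.node 34 (BT.node 33 (BT.leaf cP33) (BT.leaf cP34)) (BT.leaf cP35)))) (BT.node 41 (BT.node 38 (BT.node 37 (BT.node 36 (BT.leaf cP36) (BT.leaf cP37)) (BT.leaf cP38)) (BT.node 40 (BT.node 39 (BT.leaf cP39) (BT.leaf cP40)) (BT.leaf cP41))) (BT.node 44 (BT.node 43 (BT.node 42 (BT.leaf cP42) (BT.leaf cP43)) (BT.leaf cP44)) (BT.node 45 (BT.leaf cP45) (BT.leaf cP46))))))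
/-- the certificate -/
noncomputable def data : Data where
  k := 4
  N := 24040
  W := 31
  MW := 2147483648
  B := 32768
  CH := 512
  NCH := 47
  colE := colET
  JW := 64
  MJ := 18446744073709551616
  A := 1048576
  colJ := colJT
  PW := 25
  MP := 33554432
  parC := parCT
  inv := (BT.node 2 (BT.node 1 (BT.node 0 (BT.leaf 1) (BT.leaf 0)) (BT.leaf 3)) (BT.node 3 (BT.leaf 2) (BT.leaf 4)))
  rel := relT
  sub := subT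
  fuel := 64

end Cfsg.Agent.Lib.Helper16.RuM.E1Data
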