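import Cfsg.Agent.Lib.Helper3.Cover.Basic
set_option autoImplicit false
set_option maxRecDepth 100000

namespace Cfsg.Agent.Lib.Helper16.RuM.E1Def

/-- the generators -/
inductive Gen
  | b
  | v
  deriving DecidableEq

instance : Fintype Gen := ⟨⟨(([Gen.b, Gen.v] : List Gen) : Multiset Gen), by decide⟩, by intro x; cases x <;> decide⟩

open Cfsg.Agent.Lib.Helper3.Cover

/-- the relators of the group -/
def R : List (List (Gen × Bool)) := [
  [(.b, true), (.b, true)],
  [(.b, true), (.v, true), (.b, true), (.v, true), (.b, true), (.v, true), (.b, true), (.v, true)],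
  [(.b, true), (.v, true), (.v, true), (.b, true), (.v, true), (.v, true), (.b, true), (.v, true), (.v, true), (.b, true), (.v, true), (.v, true)],
  [(.v, true), (.v, true), (.v, true), (.v, true), (.v, true), (.v, true), (.v, true), (.v, true), (.v, true), (.v, true), (.v, true), (.v, true), (.v, true)],
  [(.b, true), (.v, true), (.v, true), (.v, true), (.v, true), (.b, true), (.v, true), (.v, true), (.v, true), (.v, true), (.b, true), (.v, true), (.v, true), (.v, true), (.v, true)] ]

/-- the normalising word of `b` -/
def nrm_b : List (Gen × Bool) := combWord [(R.getD 1 [], 1), (R.getD 2 [], 1), (R.getD 4 [], -1), (R.getD 0 [], -2)]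
/-- the normalising word of `v` -/
def nrm_v : List (Gen × Bool) := combWord [(R.getD 1 [], -1), (R.getD 2 [], -1), (R.getD 0 [], 4), (R.getD 3 [], 1)]

/-- the normalising words -/
def nrm : Gen → List (Gen × Bool)
  | .b => nrm_b
  | .v => nrm_v

theorem hR : ∀ L ∈ R, PresentedGroup.mk (relSet R) (FreeGroup.mk L) = 1 :=
  fun L hL => PresentedGroup.one_of_mem ⟨L, hL, rfl⟩

theorem hn_b : PresentedGroup.mk (relSet R) (FreeGroup.mk nrm_b) = 1 :=
  map_combWord_eq_one _ _ (by
    intro p hp
    simp only [List.mem_cons, List.not_mem_nil, or_false] at hp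
    rcases hp with rfl | rfl | rfl | rfl
    · exact hR _ (by decide)
    · exact hR _ (by decide)
    · exact hR _ (by decide)
    · exact hR _ (by decide))

theorem hn_v : PresentedGroup.mk (relSet R) (FreeGroup.mk nrm_v) = 1 :=
  map_combWord_eq_one _ _ (by
    intro p hp
    simp only [List.mem_cons, List.not_mem_nil, or_false] at hp
    rcases hp with rfl | rfl | rfl | rfl
    · exact hR _ (by decide)
    · exact hR _ (by decide)
    · exact hR _ (by decide)
    · exact hR _ (by decide))

/-- the covering presentation -/
def cover : CoverData Gen where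
  R := R
  gens := [.b, .v]
  nrm := nrm
  norms := [nrm_b, nrm_v]
  hgens := by intro x; cases x <;> decide
  hnorms := by intro x; cases x <;> simp [nrm]
  hnorms' := by
    intro L hL
    simp only [List.mem_cons, List.not_mem_nil, or_false] at hL
    rcases hL with rfl | rfl
    · exact ⟨.b, rfl⟩
    · exact ⟨.v, rfl⟩
  hnrm := by
    intro x
    cases x
    · exact hn_b
    · exact hn_v
  hexp := by intro x y; cases x <;> cases y <;> decide +kernel

/-- the relators of the covering group in list form -/
abbrev relWords : List (List (Gen × Bool)) := coverWords cover.R cover.gens cover.norms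

end Cfsg.Agent.Lib.Helper16.RuM.E1Def
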