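import Cfsg.Agent.Lib.Helper28.TC2Orbit
set_option autoImplicit false
set_option maxRecDepth 100000

namespace Cfsg.Agent.Lib.Helper16.RuM.E1Table
open Cfsg.Agent.Lib.Helper28.TC2Upper Cfsg.Agent.Lib.Helper28.TC2Lower Cfsg.Agent.Lib.Helper28.TC2Orbit

def cT0 : ℕ := 0x0
def cT1 : ℕ := 0x0
def cT2 : ℕ := 0x0
def cT3 : ℕ := 0x0
def cR0 : ℕ := 0x0
/-- table chunks -/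
def colTT : BT ℕ := (BT.node 1 (BT.node 0 (BT.leaf cT0) (BT.leaf cT1)) (BT.node 2 (BT.leaf cT2) (BT.leaf cT3)))
/-- spanning tree chunks -/
def treeT : BT ℕ := (BT.leaf cR0)
/-- relator paths -/
def relPaths : List (List ℕ) := [[1, 1, 1, 0, 0, 0], [3, 1, 1, 2, 0, 0], [1, 1, 3, 1, 3, 1, 3, 1, 3, 0, 2, 0, 2, 0, 2, 0, 2, 0], [3, 1, 3, 1, 3, 1, 3, 1, 3, 2, 2, 0, 2, 0, 2, 0, 2, 0], [1, 1, 3, 3, 1, 3, 3, 1, 3, 3, 1, 3, 3, 0, 2, 2, 0, 2, 2, 0, 2, 2, 0, 2, 2, 0], [3, 1, 3, 3, 1, 3, 3, 1, 3, 3, 1, 3, 3, 2, 2, 2, 0, 2, 2, 0, 2, 2, 0, 2, 2, 0], [1, 3, 3, 3, 3, 3, 3, 3, 3, 3, 3, 3, 3, 3, 0, 2, 2, 2, 2, 2, 2, 2, 2, 2, 2, 2, 2, 2], [3, 3, 3, 3, 3, 3, 3, 3, 3, 3, 3, 3, 3, 3, 2, 2, 2, 2, 2, 2, 2, 2, 2, 2, 2, 2, 2,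 2], [1, 1, 3, 3, 3, 3, 1, 3, 3, 3, 3, 1, 3, 3, 3, 3, 0, 2, 2, 2, 2, 0, 2, 2, 2, 2, 0, 2, 2, 2, 2, 0], [3, 1, 3, 3, 3, 3, 1, 3, 3, 3, 3, 1, 3, 3, 3, 3, 2, 2, 2, 2, 2, 0, 2, 2, 2, 2, 0, 2, 2, 2, 2, 0], [1, 1, 1, 1, 1, 3, 3, 3, 3, 1, 3, 3, 3, 3, 1, 3, 3, 3, 3, 2, 2, 0, 2, 2, 0, 2, 2, 0, 2, 2, 0, 2, 0, 2, 0, 2, 0, 2, 0], [2, 2, 2, 2, 2, 2, 2, 2, 2, 2, 2, 2, 2, 0, 0, 0, 0, 0, 0, 0, 0, 1, 3, 3, 1, 3, 3, 1, 3, 3, 1, 3, 3, 1, 3, 1, 3, 1, 3, 1, 3]]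
/-- subgroup generator paths -/
def subPaths : List (List ℕ) := [[]]
/-- the relator paths that are checked directly -/
def chkPaths : List (List ℕ) := [[1, 1, 1, 0, 0, 0], [3, 1, 1, 2, 0, 0], [1, 1, 3, 1, 3, 1, 3, 1, 3, 0, 2, 0, 2, 0, 2, 0, 2, 0], [3, 1, 3, 1, 3, 1, 3, 1, 3, 2, 2, 0, 2, 0, 2, 0, 2, 0], [1, 1, 3, 3, 1, 3, 3, 1, 3, 3, 1, 3, 3, 0, 2, 2, 0, 2, 2, 0, 2, 2, 0, 2, 2, 0], [3, 1, 3, 3, 1, 3, 3, 1, 3, 3, 1, 3, 3, 2, 2, 2, 0, 2, 2, 0, 2, 2, 0, 2, 2, 0], [1, 3, 3, 3, 3, 3, 3, 3, 3, 3, 3, 3, 3, 3, 0, 2, 2, 2, 2, 2, 2, 2, 2, 2, 2, 2, 2, 2], [3, 3, 3, 3, 3, 3, 3, 3, 3, 3, 3, 3, 3, 3, 2, 2, 2, 2, 2, 2, 2, 2, 2, 2, 2, 2, 2, 2], [1, 1, 3, 3, 3, 3, 1, 3, 3, 3, 3, 1, 3, 3, 3, 3, 0, 2, 2, 2, 2, 0, 2,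 2, 2, 2, 0, 2, 2, 2, 2, 0], [3, 1, 3, 3, 3, 3, 1, 3, 3, 3, 3, 1, 3, 3, 3, 3, 2, 2, 2, 2, 2, 0, 2, 2, 2, 2, 0, 2, 2, 2, 2, 0], [1, 1, 1, 1, 1, 3, 3, 3, 3, 1, 3, 3, 3, 3, 1, 3, 3, 3, 3, 2, 2, 0, 2, 2, 0, 2, 2, 0, 2, 2, 0, 2, 0, 2, 0, 2, 0, 2, 0], [2, 2, 2, 2, 2, 2, 2, 2, 2, 2, 2, 2, 2, 0, 0, 0, 0, 0, 0, 0, 0, 1, 3, 3, 1, 3, 3, 1, 3, 3, 1, 3, 3, 1, 3, 1, 3, 1, 3, 1, 3]]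
/-- the coset table -/
def table : Table where
  n := 1
  k := 4
  w := 1
  M := 2
  CH := 1024
  NCH := 1
  col := colTT
  inv := (BT.node 2 (BT.node 1 (BT.node 0 (BT.leaf 1) (BT.leaf 0)) (BT.leaf 3)) (BT.node 3 (BT.leaf 2) (BT.leaf 4)))
  tw := 9
  TM := 512
  tree := treeT

end Cfsg.Agent.Lib.Helper16.RuM.E1Table
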