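import Cfsg.Agent.Lib.Helper16.RuM.E1Data
set_option autoImplicit false
set_option maxRecDepth 100000
set_option maxHeartbeats 0

namespace Cfsg.Agent.Lib.Helper16.RuM.E1U0
open Cfsg.Agent.Lib.Helper28.TC2Upper Cfsg.Agent.Lib.Helper16.RuM.E1Data

theorem chk0 : data.checkRange 0 1278 = true := by decide +kernel
theorem chk1 : data.checkRange 1278 1361 = true := by decide +kernel
theorem chk2 : data.checkRange 2639 1326 = true := by decide +kernel
theorem chk3 : data.checkRange 3965 1352 = true := by decide +kernel
theorem chk4 : data.checkRange 5317 1484 = true := by decide +kernel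

theorem all : ∀ v, 0 ≤ v → v < 6801 → data.checkNode v = true := by
  intro v h1 h2
  rcases Nat.lt_or_ge v 1278 with h | h
  · exact (data.checkRange_iff 0 1278).mp chk0 v (by omega) (by omega)
  rcases Nat.lt_or_ge v 2639 with h | h
  · exact (data.checkRange_iff 1278 1361).mp chk1 v (by omega) (by omega)
  rcases Nat.lt_or_ge v 3965 with h | h
  · exact (data.checkRange_iff 2639 1326).mp chk2 v (by omega) (by omega)
  rcases Nat.lt_or_ge v 5317 with h | h
  · exact (data.checkRange_iff 3965 1352).mp chk3 v (by omega) (by omega)
  exact (data.checkRange_iff 5317 1484).mp chk4 v (by omega) (by omega)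

end Cfsg.Agent.Lib.Helper16.RuM.E1U0
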