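import Cfsg.Agent.Lib.Helper16.RuM.E1Data
set_option autoImplicit false
set_option maxRecDepth 100000
set_option maxHeartbeats 0

namespace Cfsg.Agent.Lib.Helper16.RuM.E1U1
open Cfsg.Agent.Lib.Helper28.TC2Upper Cfsg.Agent.Lib.Helper16.RuM.E1Data

theorem chk5 : data.checkRange 6801 1514 = true := by decide +kernel
theorem chk6 : data.checkRange 8315 1583 = true := by decide +kernel
theorem chk7 : data.checkRange 9898 1726 = true := by decide +kernel
theorem chk8 : data.checkRange 11624 1838 = true := by decide +kernel
theorem chk9 : data.checkRange 13462 1791 = true := by decide +kernel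

theorem all : ∀ v, 6801 ≤ v → v < 15253 → data.checkNode v = true := by
  intro v h1 h2
  rcases Nat.lt_or_ge v 8315 with h | h
  · exact (data.checkRange_iff 6801 1514).mp chk5 v (by omega) (by omega)
  rcases Nat.lt_or_ge v 9898 with h | h
  · exact (data.checkRange_iff 8315 1583).mp chk6 v (by omega) (by omega)
  rcases Nat.lt_or_ge v 11624 with h | h
  · exact (data.checkRange_iff 9898 1726).mp chk7 v (by omega) (by omega)
  rcases Nat.lt_or_ge v 13462 with h | h
  · exact (data.checkRange_iff 11624 1838).mp chk8 v (by omega) (by omega)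
  exact (data.checkRange_iff 13462 1791).mp chk9 v (by omega) (by omega)

end Cfsg.Agent.Lib.Helper16.RuM.E1U1
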