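import Cfsg.Agent.Lib.Helper16.RuM.E1Data
set_option autoImplicit false
set_option maxRecDepth 100000
set_option maxHeartbeats 0

namespace Cfsg.Agent.Lib.Helper16.RuM.E1U2
open Cfsg.Agent.Lib.Helper28.TC2Upper Cfsg.Agent.Lib.Helper16.RuM.E1Data

theorem chk10 : data.checkRange 15253 1990 = true := by decide +kernel
theorem chk11 : data.checkRange 17243 2187 = true := by decide +kernel
theorem chk12 : data.checkRange 19430 2706 = true := by decide +kernel
theorem chk13 : data.checkRange 22136 1904 = true := by decide +kernel

theorem all : ∀ v, 15253 ≤ v → v < 24040 → data.checkNode v = true := by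
  intro v h1 h2
  rcases Nat.lt_or_ge v 17243 with h | h
  · exact (data.checkRange_iff 15253 1990).mp chk10 v (by omega) (by omega)
  rcases Nat.lt_or_ge v 19430 with h | h
  · exact (data.checkRange_iff 17243 2187).mp chk11 v (by omega) (by omega)
  rcases Nat.lt_or_ge v 22136 with h | h
  · exact (data.checkRange_iff 19430 2706).mp chk12 v (by omega) (by omega)
  exact (data.checkRange_iff 22136 1904).mp chk13 v (by omega) (by omega)

end Cfsg.Agent.Lib.Helper16.RuM.E1U2
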