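import Cfsg.Agent.Lib.Helper28.TC2Glue
set_option autoImplicit false

/-!
# Membership in a subgroup from a partial coset enumeration certificate

A certificate in helper28's format all of whose recorded facts pass their checks need not describe a finished
enumeration: if the walk of a word from node `0` returns to node `0`, the word lies in the subgroup.
-/

namespace Cfsg.Agent.Lib.Helper16.RuM.Target
open Cfsg.Agent.Lib.Helper28.TC2Upper Cfsg.Agent.Lib.Helper28.TC2Lower Cfsg.Agent.Lib.Helper28.TC2Glue

variable {α : Type} {rels S : Set (FreeGroup α)} {relWords subWords : List (List (α × Bool))}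
  {lw : α × Bool → ℕ} {dec : ℕ → α × Bool} {D : Data} {T : Table}

/-- all facts of a certificate whose nodes pass their checks hold -/
theorem all_hold_of_link (hL : Link rels S relWords subWords lw dec D T)
    (hchk : ∀ v, v < D.N → D.checkNode v = true) :
    ∀ r, IH D (gam D.k dec : ℕ → PresentedGroup rels)
      ((QuotientGroup.mk 1 : PresentedGroup rels ⧸ (Subgroup.closure S).map (PresentedGroup.mk rels))) r := by
  have hy := hyp_of_link hL
  have hnode : ∀ v, v < D.N → (∀ l, l < D.k → D.checkE v l = true) ∧ D.checkQ v = true := by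
    intro v hv
    have := hchk v hv
    unfold Data.checkNode at this
    rw [Bool.and_eq_true, allLoop_eq_true] at this
    exact this
  have hE : ∀ p l, l < D.k → D.rnk (D.ent l p) ≠ 0 → D.checkE p l = true := by
    intro p l hl hr
    rcases Nat.lt_or_ge p D.N with hp | hp
    · exact (hnode p hp).1 l hl
    · exact absurd (D.rnk_ent_eq_zero hp l) hr
  have hQ : ∀ v, D.rnk (D.ent D.k v) ≠ 0 → D.checkQ v = true := by
    intro v hr
    rcases Nat.lt_or_ge v D.N with hp | hp
    · exact (hnode v hp).2
    · exact absurd (D.rnk_ent_eq_zero hp D.k) hr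
  exact all_hold hy hE hQ

/-- a word whose walk from node `0` returns to node `0` lies in the subgroup -/
theorem mem_of_walk (hL : Link rels S relWords subWords lw dec D T)
    (hchk : ∀ v, v < D.N → D.checkNode v = true) (L : List (α × Bool))
    (hw : D.walkN D.MW (pathOf lw L).length (pathOf lw L) 0 = some (0, [])) :
    PresentedGroup.mk rels (FreeGroup.mk L) ∈ (Subgroup.closure S).map (PresentedGroup.mk rels) := by
  have hall := all_hold_of_link hL hchk
  have hlt : ∀ l ∈ pathOf lw L, l < D.k := by
    intro l hl
    unfold pathOf at hl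
    rw [List.mem_reverse, List.mem_map] at hl
    obtain ⟨xb, _, rfl⟩ := hl
    exact hL.lwk _
  obtain ⟨pre, h1, _, h3⟩ := walkN_sound (hall D.MW) _ _ 0 0 [] hlt hw
  rw [List.append_nil] at h1
  rw [← h1, omega_zero, pathAct_eq_pathProd, ← mk_eq_pathProd hL] at h3
  have h4 : (QuotientGroup.mk (PresentedGroup.mk rels (FreeGroup.mk L) * 1) :
      PresentedGroup rels ⧸ (Subgroup.closure S).map (PresentedGroup.mk rels)) = QuotientGroup.mk 1 := h3
  rw [mul_one, QuotientGroup.eq, mul_one] at h4
  exact (Subgroup.inv_mem_iff _).mp h4

end Cfsg.Agent.Lib.Helper16.RuM.Target
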