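import Cfsg.Agent.Lib.Helper28.TC2Glue
import Cfsg.Agent.Lib.Helper28.TC2Range
import Cfsg.Agent.Lib.Helper16.RuM.Target
import Cfsg.Agent.Lib.Helper16.RuM.E1Link
import Cfsg.Agent.Lib.Helper16.RuM.E1W
import Cfsg.Agent.Lib.Helper16.RuM.E1U0
import Cfsg.Agent.Lib.Helper16.RuM.E1U1
import Cfsg.Agent.Lib.Helper16.RuM.E1U2

set_option autoImplicit false
set_option maxRecDepth 100000
open Cfsg

namespace Cfsg.Agent.Lib.Helper16.RuM.E1MainT
open Cfsg.Agent.Lib.Helper28.TC2Upper Cfsg.Agent.Lib.Helper28.TC2Lower Cfsg.Agent.Lib.Helper28.TC2Glue Cfsg.Agent.Lib.Helper28.TC2Range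
open Cfsg.Agent.Lib.Helper16.RuM.E1Data Cfsg.Agent.Lib.Helper16.RuM.E1Table Cfsg.Agent.Lib.Helper16.RuM.E1Link

theorem hchk : ∀ v, v < data.N → data.checkNode v = true := by
  intro v hv
  have hv' : v < 24040 := hv
  rcases Nat.lt_or_ge v 6801 with h0 | h0
  · exact Cfsg.Agent.Lib.Helper16.RuM.E1U0.all v (by omega) (by omega)
  rcases Nat.lt_or_ge v 15253 with h1 | h1
  · exact Cfsg.Agent.Lib.Helper16.RuM.E1U1.all v (by omega) (by omega)
  exact Cfsg.Agent.Lib.Helper16.RuM.E1U2.all v (by omega) (by omega)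

/-- the target words lie in the subgroup -/
theorem hmem : ∀ L ∈ Cfsg.Agent.Lib.Helper16.RuM.E1W.targets,
    PresentedGroup.mk rels (FreeGroup.mk L) ∈ (Subgroup.closure S).map (PresentedGroup.mk rels) :=
  fun L hL => Cfsg.Agent.Lib.Helper16.RuM.Target.mem_of_walk link hchk L (Cfsg.Agent.Lib.Helper16.RuM.E1W.walk_all L hL)

end Cfsg.Agent.Lib.Helper16.RuM.E1MainT
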