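import Cfsg.Agent.Lib.Helper28.TC2Upper
import Cfsg.Agent.Lib.Helper16.RuM.E2DataC0
import Cfsg.Agent.Lib.Helper16.RuM.E2DataC1
import Cfsg.Agent.Lib.Helper16.RuM.E2DataC2
import Cfsg.Agent.Lib.Helper16.RuM.E2DataC3
import Cfsg.Agent.Lib.Helper16.RuM.E2DataC4
import Cfsg.Agent.Lib.Helper16.RuM.E2DataC5
import Cfsg.Agent.Lib.Helper16.RuM.E2DataC6
import Cfsg.Agent.Lib.Helper16.RuM.E2DataC7
import Cfsg.Agent.Lib.Helper16.RuM.E2DataC8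
set_option autoImplicit false
set_option maxRecDepth 100000

namespace Cfsg.Agent.Lib.Helper16.RuM.E2Data
open Cfsg.Agent.Lib.Helper28.TC2Upper

/-- relators -/
def relT : BT (ℕ × List ℕ × List ℕ) := (BT.node 62 (BT.node 31 (BT.node 15 (BT.node 7 (BT.node 3 (BT.node 1 (BT.node 0 (BT.leaf (6, [1, 3, 3, 0, 2, 2], [3, 3, 1, 2, 2, 0])) (BT.leaf (6, [3, 3, 3, 2, 2, 2], [3, 3, 3, 2, 2, 2]))) (BT.node 2 (BT.leaf (6, [5, 3, 3, 4, 2, 2], [3, 3, 5, 2, 2, 4])) (BT.leaf (6, [7, 3, 3, 6, 2, 2], [3, 3, 7, 2, 2, 6])))) (BT.node 5 (BT.node 4 (BT.leaf (6, [9, 3, 3, 8, 2, 2], [3, 3, 9, 2, 2, 8])) (BT.leaf (18, [1, 3, 9, 3, 9, 3, 9, 3, 9, 0, 8, 2, 8, 2, 8, 2, 8, 2], [3, 9, 3, 9, 3, 9, 3, 9, 1, 8, 2, 8, 2, 8, 2, 8, 2, 0]))) (BT.node 6 (BT.leaf (18, [3, 3, 9, 3, 9, 3, 9, 3, 9, 2, 8, 2, 8, 2, 8, 2, 8, 2], [3, 9, 3, 9, 3, 9, 3, 9, 3, 8, 2, 8, 2,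 8, 2, 8, 2, 2])) (BT.leaf (18, [5, 3, 9, 3, 9, 3, 9, 3, 9, 4, 8, 2, 8, 2, 8, 2, 8, 2], [3, 9, 3, 9, 3, 9, 3, 9, 5, 8, 2, 8, 2, 8, 2, 8, 2, 4]))))) (BT.node 11 (BT.node 9 (BT.node 8 (BT.leaf (18, [7, 3, 9, 3, 9, 3, 9, 3, 9, 6, 8, 2, 8, 2, 8, 2, 8, 2], [3, 9, 3, 9, 3, 9, 3, 9, 7, 8, 2, 8, 2, 8, 2, 8, 2, 6])) (BT.leaf (18, [9, 3, 9, 3, 9, 3, 9, 3, 9, 8, 8, 2, 8, 2, 8, 2, 8, 2], [3, 9, 3, 9, 3, 9, 3, 9, 9, 8, 2, 8, 2, 8, 2, 8, 2, 8]))) (BT.node 10 (BT.leaf (26, [1, 3, 9, 9, 3, 9, 9, 3, 9, 9, 3, 9, 9, 0, 8, 8, 2, 8, 8, 2, 8, 8, 2, 8, 8, 2], [3, 9, 9, 3, 9, 9, 3, 9, 9, 3, 9, 9, 1, 8, 8, 2, 8, 8, 2, 8, 8, 2, 8, 8, 2, 0])) (BT.leaf (26, [3, 3, 9, 9, 3, 9, 9, 3, 9, 9, 3, 9, 9, 2, 8, 8, 2, 8, 8, 2, 8, 8, 2, 8, 8, 2], [3, 9, 9, 3, 9, 9, 3, 9, 9, 3, 9, 9, 3, 8, 8, 2, 8, 8, 2, 8, 8, 2, 8, 8, 2, 2])))) (BT.node 13 (BT.node 12 (BT.leaf (26,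 [5, 3, 9, 9, 3, 9, 9, 3, 9, 9, 3, 9, 9, 4, 8, 8, 2, 8, 8, 2, 8, 8, 2, 8, 8, 2], [3, 9, 9, 3, 9, 9, 3, 9, 9, 3, 9, 9, 5, 8, 8, 2, 8, 8, 2, 8, 8, 2, 8, 8, 2, 4])) (BT.leaf (26, [7, 3, 9, 9, 3, 9, 9, 3, 9, 9, 3, 9, 9, 6, 8, 8, 2, 8, 8, 2, 8, 8, 2, 8, 8, 2], [3, 9, 9, 3, 9, 9, 3, 9, 9, 3, 9, 9, 7, 8, 8, 2, 8, 8, 2, 8, 8, 2, 8, 8, 2, 6]))) (BT.node 14 (BT.leaf (26, [9, 3, 9, 9, 3, 9, 9, 3, 9, 9, 3, 9, 9, 8, 8, 8, 2, 8, 8, 2, 8, 8, 2, 8, 8, 2], [3, 9, 9, 3, 9, 9, 3, 9, 9, 3, 9, 9, 9, 8, 8, 2, 8, 8, 2, 8, 8, 2, 8, 8, 2, 8])) (BT.leaf (28, [1, 9, 9, 9, 9, 9, 9, 9, 9, 9, 9, 9, 9, 9, 0, 8, 8, 8, 8, 8, 8, 8, 8, 8, 8, 8, 8, 8], [9, 9, 9, 9, 9, 9, 9, 9, 9, 9, 9, 9, 9, 1, 8, 8, 8, 8, 8, 8, 8, 8, 8, 8, 8, 8, 8, 0])))))) (BT.node 23 (BT.node 19 (BT.node 17 (BT.node 16 (BT.leaf (28, [3, 9, 9, 9, 9, 9, 9, 9, 9, 9, 9, 9, 9, 9, 2, 8, 8, 8, 8,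 8, 8, 8, 8, 8, 8, 8, 8, 8], [9, 9, 9, 9, 9, 9, 9, 9, 9, 9, 9, 9, 9, 3, 8, 8, 8, 8, 8, 8, 8, 8, 8, 8, 8, 8, 8, 2])) (BT.leaf (28, [5, 9, 9, 9, 9, 9, 9, 9, 9, 9, 9, 9, 9, 9, 4, 8, 8, 8, 8, 8, 8, 8, 8, 8, 8, 8, 8, 8], [9, 9, 9, 9, 9, 9, 9, 9, 9, 9, 9, 9, 9, 5, 8, 8, 8, 8, 8, 8, 8, 8, 8, 8, 8, 8, 8, 4]))) (BT.node 18 (BT.leaf (28, [7, 9, 9, 9, 9, 9, 9, 9, 9, 9, 9, 9, 9, 9, 6, 8, 8, 8, 8, 8, 8, 8, 8, 8, 8, 8, 8, 8], [9, 9, 9, 9, 9, 9, 9, 9, 9, 9, 9, 9, 9, 7, 8, 8, 8, 8, 8, 8, 8, 8, 8, 8, 8, 8, 8, 6])) (BT.leaf (28, [9, 9, 9, 9, 9, 9, 9, 9, 9, 9, 9, 9, 9, 9, 8, 8, 8, 8, 8, 8, 8, 8, 8, 8, 8, 8, 8, 8], [9, 9, 9, 9, 9, 9, 9, 9, 9, 9, 9, 9, 9, 9, 8, 8, 8, 8, 8, 8, 8, 8, 8, 8, 8, 8, 8, 8])))) (BT.node 21 (BT.node 20 (BT.leaf (32, [1, 3, 9, 9, 9, 9, 3, 9, 9, 9, 9, 3, 9, 9, 9, 9, 0, 8, 8, 8, 8, 2, 8, 8, 8, 8, 2, 8, 8, 8, 8, 2], [3, 9, 9,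 9, 9, 3, 9, 9, 9, 9, 3, 9, 9, 9, 9, 1, 8, 8, 8, 8, 2, 8, 8, 8, 8, 2, 8, 8, 8, 8, 2, 0])) (BT.leaf (32, [3, 3, 9, 9, 9, 9, 3, 9, 9, 9, 9, 3, 9, 9, 9, 9, 2, 8, 8, 8, 8, 2, 8, 8, 8, 8, 2, 8, 8, 8, 8, 2], [3, 9, 9, 9, 9, 3, 9, 9, 9, 9, 3, 9, 9, 9, 9, 3, 8, 8, 8, 8, 2, 8, 8, 8, 8, 2, 8, 8, 8, 8, 2, 2]))) (BT.node 22 (BT.leaf (32, [5, 3, 9, 9, 9, 9, 3, 9, 9, 9, 9, 3, 9, 9, 9, 9, 4, 8, 8, 8, 8, 2, 8, 8, 8, 8, 2, 8, 8, 8, 8, 2], [3, 9, 9, 9, 9, 3, 9, 9, 9, 9, 3, 9, 9, 9, 9, 5, 8, 8, 8, 8, 2, 8, 8, 8, 8, 2, 8, 8, 8, 8, 2, 4])) (BT.leaf (32, [7, 3, 9, 9, 9, 9, 3, 9, 9, 9, 9, 3, 9, 9, 9, 9, 6, 8, 8, 8, 8, 2, 8, 8, 8, 8, 2, 8, 8, 8, 8, 2], [3, 9, 9, 9, 9, 3, 9, 9, 9, 9, 3, 9, 9, 9, 9, 7, 8, 8, 8, 8, 2, 8, 8, 8, 8, 2, 8, 8, 8, 8, 2, 6]))))) (BT.node 27 (BT.node 25 (BT.node 24 (BT.leaf (32, [9, 3, 9, 9, 9, 9, 3, 9, 9, 9, 9, 3, 9, 9, 9, 9,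 8, 8, 8, 8, 8, 2, 8, 8, 8, 8, 2, 8, 8, 8, 8, 2], [3, 9, 9, 9, 9, 3, 9, 9, 9, 9, 3, 9, 9, 9, 9, 9, 8, 8, 8, 8, 2, 8, 8, 8, 8, 2, 8, 8, 8, 8, 2, 8])) (BT.leaf (14, [1, 8, 1, 5, 1, 3, 5, 0, 4, 2, 0, 4, 0, 9], [8, 1, 5, 1, 3, 5, 1, 4, 2, 0, 4, 0, 9, 0]))) (BT.node 26 (BT.leaf (14, [3, 8, 1, 5, 1, 3, 5, 2, 4, 2, 0, 4, 0, 9], [8, 1, 5, 1, 3, 5, 3, 4, 2, 0, 4, 0, 9, 2])) (BT.leaf (14, [5, 8, 1, 5, 1, 3, 5, 4, 4, 2, 0, 4, 0, 9], [8, 1, 5, 1, 3, 5, 5, 4, 2, 0, 4, 0, 9, 4])))) (BT.node 29 (BT.node 28 (BT.leaf (14, [7, 8, 1, 5, 1, 3, 5, 6, 4, 2, 0, 4, 0, 9], [8, 1, 5, 1, 3, 5, 7, 4, 2, 0, 4, 0, 9, 6])) (BT.leaf (14, [9, 8, 1, 5, 1, 3, 5, 8, 4, 2, 0, 4, 0, 9], [8, 1, 5, 1, 3, 5, 9, 4, 2, 0, 4, 0, 9, 8]))) (BT.node 30 (BT.leaf (6, [1, 1, 1, 0, 0, 0], [1, 1, 1, 0, 0, 0])) (BT.leaf (6, [3, 1, 1, 2, 0, 0], [1, 1, 3, 0, 0, 2]))))))) (BT.node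 47 (BT.node 39 (BT.node 35 (BT.node 33 (BT.node 32 (BT.leaf (6, [5, 1, 1, 4, 0, 0], [1, 1, 5, 0, 0, 4])) (BT.leaf (6, [7, 1, 1, 6, 0, 0], [1, 1, 7, 0, 0, 6]))) (BT.node 34 (BT.leaf (6, [9, 1, 1, 8, 0, 0], [1, 1, 9, 0, 0, 8])) (BT.leaf (6, [1, 5, 5, 0, 4, 4], [5, 5, 1, 4, 4, 0])))) (BT.node 37 (BT.node 36 (BT.leaf (6, [3, 5, 5, 2, 4, 4], [5, 5, 3, 4, 4, 2])) (BT.leaf (6, [5, 5, 5, 4, 4, 4], [5, 5, 5, 4, 4, 4]))) (BT.node 38 (BT.leaf (6, [7, 5, 5, 6, 4, 4], [5, 5, 7, 4, 4, 6])) (BT.leaf (6, [9, 5, 5, 8, 4, 4], [5, 5, 9, 4, 4, 8]))))) (BT.node 43 (BT.node 41 (BT.node 40 (BT.leaf (6, [1, 7, 7, 0, 6, 6], [7, 7, 1, 6, 6, 0])) (BT.leaf (6, [3, 7, 7, 2, 6, 6], [7, 7, 3, 6, 6, 2]))) (BT.node 42 (BT.leaf (6, [5, 7, 7, 4, 6, 6], [7, 7, 5, 6, 6, 4])) (BT.leaf (6, [7, 7, 7, 6, 6, 6], [7, 7, 7, 6, 6, 6])))) (BT.node 45 (BT.node 44 (BT.leaf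 (6, [9, 7, 7, 8, 6, 6], [7, 7, 9, 6, 6, 8])) (BT.leaf (10, [1, 1, 3, 1, 3, 0, 2, 0, 2, 0], [1, 3, 1, 3, 1, 2, 0, 2, 0, 0]))) (BT.node 46 (BT.leaf (10, [3, 1, 3, 1, 3, 2, 2, 0, 2, 0], [1, 3, 1, 3, 3, 2, 0, 2, 0, 2])) (BT.leaf (10, [5, 1, 3, 1, 3, 4, 2, 0, 2, 0], [1, 3, 1, 3, 5, 2, 0, 2, 0, 4])))))) (BT.node 55 (BT.node 51 (BT.node 49 (BT.node 48 (BT.leaf (10, [7, 1, 3, 1, 3, 6, 2, 0, 2, 0], [1, 3, 1, 3, 7, 2, 0, 2, 0, 6])) (BT.leaf (10, [9, 1, 3, 1, 3, 8, 2, 0, 2, 0], [1, 3, 1, 3, 9, 2, 0, 2, 0, 8]))) (BT.node 50 (BT.leaf (50, [1, 1, 5, 1, 5, 1, 5, 1, 5, 1, 5, 1, 5, 1, 5, 1, 5, 1, 5, 1, 5, 1, 5, 1, 5, 0, 4, 0, 4, 0, 4, 0, 4, 0, 4, 0, 4, 0, 4, 0, 4, 0, 4, 0, 4, 0, 4, 0, 4, 0], [1, 5, 1, 5, 1, 5, 1, 5, 1, 5, 1, 5, 1, 5, 1, 5, 1, 5, 1, 5, 1, 5, 1, 5, 1, 4, 0, 4, 0, 4, 0, 4, 0, 4, 0, 4, 0, 4, 0, 4, 0, 4, 0, 4, 0, 4, 0, 4, 0, 0]))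 (BT.leaf (50, [3, 1, 5, 1, 5, 1, 5, 1, 5, 1, 5, 1, 5, 1, 5, 1, 5, 1, 5, 1, 5, 1, 5, 1, 5, 2, 4, 0, 4, 0, 4, 0, 4, 0, 4, 0, 4, 0, 4, 0, 4, 0, 4, 0, 4, 0, 4, 0, 4, 0], [1, 5, 1, 5, 1, 5, 1, 5, 1, 5, 1, 5, 1, 5, 1, 5, 1, 5, 1, 5, 1, 5, 1, 5, 3, 4, 0, 4, 0, 4, 0, 4, 0, 4, 0, 4, 0, 4, 0, 4, 0, 4, 0, 4, 0, 4, 0, 4, 0, 2])))) (BT.node 53 (BT.node 52 (BT.leaf (50, [5, 1, 5, 1, 5, 1, 5, 1, 5, 1, 5, 1, 5, 1, 5, 1, 5, 1, 5, 1, 5, 1, 5, 1, 5, 4, 4, 0, 4, 0, 4, 0, 4, 0, 4, 0, 4, 0, 4, 0, 4, 0, 4, 0, 4, 0, 4, 0, 4, 0], [1, 5, 1, 5, 1, 5, 1, 5, 1, 5, 1, 5, 1, 5, 1, 5, 1, 5, 1, 5, 1, 5, 1, 5, 5, 4, 0, 4, 0, 4, 0, 4, 0, 4, 0, 4, 0, 4, 0, 4, 0, 4, 0, 4, 0, 4, 0, 4, 0, 4])) (BT.leaf (50, [7, 1, 5, 1, 5, 1, 5, 1, 5, 1, 5, 1, 5, 1, 5, 1, 5, 1, 5, 1, 5, 1, 5, 1, 5, 6, 4, 0, 4, 0, 4, 0, 4, 0, 4, 0, 4, 0, 4, 0, 4, 0, 4, 0, 4, 0, 4, 0, 4, 0], [1, 5,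 1, 5, 1, 5, 1, 5, 1, 5, 1, 5, 1, 5, 1, 5, 1, 5, 1, 5, 1, 5, 1, 5, 7, 4, 0, 4, 0, 4, 0, 4, 0, 4, 0, 4, 0, 4, 0, 4, 0, 4, 0, 4, 0, 4, 0, 4, 0, 6]))) (BT.node 54 (BT.leaf (50, [9, 1, 5, 1, 5, 1, 5, 1, 5, 1, 5, 1, 5, 1, 5, 1, 5, 1, 5, 1, 5, 1, 5, 1, 5, 8, 4, 0, 4, 0, 4, 0, 4, 0, 4, 0, 4, 0, 4, 0, 4, 0, 4, 0, 4, 0, 4, 0, 4, 0], [1, 5, 1, 5, 1, 5, 1, 5, 1, 5, 1, 5, 1, 5, 1, 5, 1, 5, 1, 5, 1, 5, 1, 5, 9, 4, 0, 4, 0, 4, 0, 4, 0, 4, 0, 4, 0, 4, 0, 4, 0, 4, 0, 4, 0, 4, 0, 4, 0, 8])) (BT.leaf (10, [1, 1, 7, 1, 7, 0, 6, 0, 6, 0], [1, 7, 1, 7, 1, 6, 0, 6, 0, 0]))))) (BT.node 59 (BT.node 57 (BT.node 56 (BT.leaf (10, [3, 1, 7, 1, 7, 2, 6, 0, 6, 0], [1, 7, 1, 7, 3, 6, 0, 6, 0, 2])) (BT.leaf (10, [5, 1, 7, 1, 7, 4, 6, 0, 6, 0], [1, 7, 1, 7, 5, 6, 0, 6, 0, 4]))) (BT.node 58 (BT.leaf (10, [7, 1, 7, 1, 7, 6, 6, 0, 6, 0], [1, 7, 1, 7, 7, 6, 0,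 6, 0, 6])) (BT.leaf (10, [9, 1, 7, 1, 7, 8, 6, 0, 6, 0], [1, 7, 1, 7, 9, 6, 0, 6, 0, 8])))) (BT.node 61 (BT.node 60 (BT.leaf (18, [1, 3, 5, 3, 5, 3, 5, 3, 5, 0, 4, 2, 4, 2, 4, 2, 4, 2], [3, 5, 3, 5, 3, 5, 3, 5, 1, 4, 2, 4, 2, 4, 2, 4, 2, 0])) (BT.leaf (18, [3, 3, 5, 3, 5, 3, 5, 3, 5, 2, 4, 2, 4, 2, 4, 2, 4, 2], [3, 5, 3, 5, 3, 5, 3, 5, 3, 4, 2, 4, 2, 4, 2, 4, 2, 2]))) (BT.leaf (18, [5, 3, 5, 3, 5, 3, 5, 3, 5, 4, 4, 2, 4, 2, 4, 2, 4, 2], [3, 5, 3, 5, 3, 5, 3, 5, 5, 4, 2, 4, 2, 4, 2, 4, 2, 4]))))))) (BT.node 93 (BT.node 78 (BT.node 70 (BT.node 66 (BT.node 64 (BT.node 63 (BT.leaf (18, [7, 3, 5, 3, 5, 3, 5, 3, 5, 6, 4, 2, 4, 2, 4, 2, 4, 2], [3, 5, 3, 5, 3, 5, 3, 5, 7, 4, 2, 4, 2, 4, 2, 4, 2, 6])) (BT.leaf (18, [9, 3, 5, 3, 5, 3, 5, 3, 5, 8, 4, 2, 4, 2, 4, 2, 4, 2], [3, 5, 3, 5, 3, 5, 3, 5, 9, 4, 2, 4, 2, 4, 2, 4, 2, 8]))) (BT.node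 65 (BT.leaf (10, [1, 3, 7, 3, 7, 0, 6, 2, 6, 2], [3, 7, 3, 7, 1, 6, 2, 6, 2, 0])) (BT.leaf (10, [3, 3, 7, 3, 7, 2, 6, 2, 6, 2], [3, 7, 3, 7, 3, 6, 2, 6, 2, 2])))) (BT.node 68 (BT.node 67 (BT.leaf (10, [5, 3, 7, 3, 7, 4, 6, 2, 6, 2], [3, 7, 3, 7, 5, 6, 2, 6, 2, 4])) (BT.leaf (10, [7, 3, 7, 3, 7, 6, 6, 2, 6, 2], [3, 7, 3, 7, 7, 6, 2, 6, 2, 6]))) (BT.node 69 (BT.leaf (10, [9, 3, 7, 3, 7, 8, 6, 2, 6, 2], [3, 7, 3, 7, 9, 6, 2, 6, 2, 8])) (BT.leaf (18, [1, 5, 7, 5, 7, 5, 7, 5, 7, 0, 6, 4, 6, 4, 6, 4, 6, 4], [5, 7, 5, 7, 5, 7, 5, 7, 1, 6, 4, 6, 4, 6, 4, 6, 4, 0]))))) (BT.node 74 (BT.node 72 (BT.node 71 (BT.leaf (18, [3, 5, 7, 5, 7, 5, 7, 5, 7, 2, 6, 4, 6, 4, 6, 4, 6, 4], [5, 7, 5, 7, 5, 7, 5, 7, 3, 6, 4, 6, 4, 6, 4, 6, 4, 2])) (BT.leaf (18, [5, 5, 7, 5, 7, 5, 7, 5, 7, 4, 6, 4, 6, 4, 6, 4, 6, 4], [5, 7, 5, 7, 5, 7, 5, 7, 5, 6, 4, 6,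 4, 6, 4, 6, 4, 4]))) (BT.node 73 (BT.leaf (18, [7, 5, 7, 5, 7, 5, 7, 5, 7, 6, 6, 4, 6, 4, 6, 4, 6, 4], [5, 7, 5, 7, 5, 7, 5, 7, 7, 6, 4, 6, 4, 6, 4, 6, 4, 6])) (BT.leaf (18, [9, 5, 7, 5, 7, 5, 7, 5, 7, 8, 6, 4, 6, 4, 6, 4, 6, 4], [5, 7, 5, 7, 5, 7, 5, 7, 9, 6, 4, 6, 4, 6, 4, 6, 4, 8])))) (BT.node 76 (BT.node 75 (BT.leaf (62, [1, 1, 5, 1, 5, 1, 5, 1, 5, 3, 5, 1, 5, 1, 5, 1, 5, 1, 5, 3, 5, 1, 5, 1, 5, 1, 5, 1, 5, 3, 5, 0, 4, 2, 4, 0, 4, 0, 4, 0, 4, 0, 4, 2, 4, 0, 4, 0, 4, 0, 4, 0, 4, 2, 4, 0, 4, 0, 4, 0, 4, 0], [1, 5, 1, 5, 1, 5, 1, 5, 3, 5, 1, 5, 1, 5, 1, 5, 1, 5, 3, 5, 1, 5, 1, 5, 1, 5, 1, 5, 3, 5, 1, 4, 2, 4, 0, 4, 0, 4, 0, 4, 0, 4, 2, 4, 0, 4, 0, 4, 0, 4, 0, 4, 2, 4, 0, 4, 0, 4, 0, 4, 0, 0])) (BT.leaf (62, [3, 1, 5, 1, 5, 1, 5, 1, 5, 3, 5, 1, 5, 1, 5, 1, 5, 1, 5, 3, 5, 1, 5, 1, 5, 1, 5, 1, 5, 3, 5, 2, 4, 2, 4, 0, 4, 0, 4,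 0, 4, 0, 4, 2, 4, 0, 4, 0, 4, 0, 4, 0, 4, 2, 4, 0, 4, 0, 4, 0, 4, 0], [1, 5, 1, 5, 1, 5, 1, 5, 3, 5, 1, 5, 1, 5, 1, 5, 1, 5, 3, 5, 1, 5, 1, 5, 1, 5, 1, 5, 3, 5, 3, 4, 2, 4, 0, 4, 0, 4, 0, 4, 0, 4, 2, 4, 0, 4, 0, 4, 0, 4, 0, 4, 2, 4, 0, 4, 0, 4, 0, 4, 0, 2]))) (BT.node 77 (BT.leaf (62, [5, 1, 5, 1, 5, 1, 5, 1, 5, 3, 5, 1, 5, 1, 5, 1, 5, 1, 5, 3, 5, 1, 5, 1, 5, 1, 5, 1, 5, 3, 5, 4, 4, 2, 4, 0, 4, 0, 4, 0, 4, 0, 4, 2, 4, 0, 4, 0, 4, 0, 4, 0, 4, 2, 4, 0, 4, 0, 4, 0, 4, 0], [1, 5, 1, 5, 1, 5, 1, 5, 3, 5, 1, 5, 1, 5, 1, 5, 1, 5, 3, 5, 1, 5, 1, 5, 1, 5, 1, 5, 3, 5, 5, 4, 2, 4, 0, 4, 0, 4, 0, 4, 0, 4, 2, 4, 0, 4, 0, 4, 0, 4, 0, 4, 2, 4, 0, 4, 0, 4, 0, 4, 0, 4])) (BT.leaf (62, [7, 1, 5, 1, 5, 1, 5, 1, 5, 3, 5, 1, 5, 1, 5, 1, 5, 1, 5, 3, 5, 1, 5, 1, 5, 1, 5, 1, 5, 3, 5, 6, 4, 2, 4, 0, 4, 0, 4, 0, 4, 0, 4, 2, 4, 0, 4, 0, 4, 0, 4, 0, 4,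 2, 4, 0, 4, 0, 4, 0, 4, 0], [1, 5, 1, 5, 1, 5, 1, 5, 3, 5, 1, 5, 1, 5, 1, 5, 1, 5, 3, 5, 1, 5, 1, 5, 1, 5, 1, 5, 3, 5, 7, 4, 2, 4, 0, 4, 0, 4, 0, 4, 0, 4, 2, 4, 0, 4, 0, 4, 0, 4, 0, 4, 2, 4, 0, 4, 0, 4, 0, 4, 0, 6])))))) (BT.node 86 (BT.node 82 (BT.node 80 (BT.node 79 (BT.leaf (62, [9, 1, 5, 1, 5, 1, 5, 1, 5, 3, 5, 1, 5, 1, 5, 1, 5, 1, 5, 3, 5, 1, 5, 1, 5, 1, 5, 1, 5, 3, 5, 8, 4, 2, 4, 0, 4, 0, 4, 0, 4, 0, 4, 2, 4, 0, 4, 0, 4, 0, 4, 0, 4, 2, 4, 0, 4, 0, 4, 0, 4, 0], [1, 5, 1, 5, 1, 5, 1, 5, 3, 5, 1, 5, 1, 5, 1, 5, 1, 5, 3, 5, 1, 5, 1, 5, 1, 5, 1, 5, 3, 5, 9, 4, 2, 4, 0, 4, 0, 4, 0, 4, 0, 4, 2, 4, 0, 4, 0, 4, 0, 4, 0, 4, 2, 4, 0, 4, 0, 4, 0, 4, 0, 8])) (BT.leaf (62, [1, 3, 5, 1, 5, 3, 5, 1, 5, 1, 3, 5, 3, 5, 1, 5, 1, 5, 3, 5, 3, 1, 5, 1, 5, 3, 5, 1, 5, 3, 5, 0, 4, 2, 4, 0, 4, 2, 4, 0, 4, 0, 2, 4, 2, 4, 0, 4, 0, 4, 2, 4, 2, 0,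 4, 0, 4, 2, 4, 0, 4, 2], [3, 5, 1, 5, 3, 5, 1, 5, 1, 3, 5, 3, 5, 1, 5, 1, 5, 3, 5, 3, 1, 5, 1, 5, 3, 5, 1, 5, 3, 5, 1, 4, 2, 4, 0, 4, 2, 4, 0, 4, 0, 2, 4, 2, 4, 0, 4, 0, 4, 2, 4, 2, 0, 4, 0, 4, 2, 4, 0, 4, 2, 0]))) (BT.node 81 (BT.leaf (62, [3, 3, 5, 1, 5, 3, 5, 1, 5, 1, 3, 5, 3, 5, 1, 5, 1, 5, 3, 5, 3, 1, 5, 1, 5, 3, 5, 1, 5, 3, 5, 2, 4, 2, 4, 0, 4, 2, 4, 0, 4, 0, 2, 4, 2, 4, 0, 4, 0, 4, 2, 4, 2, 0, 4, 0, 4, 2, 4, 0, 4, 2], [3, 5, 1, 5, 3, 5, 1, 5, 1, 3, 5, 3, 5, 1, 5, 1, 5, 3, 5, 3, 1, 5, 1, 5, 3, 5, 1, 5, 3, 5, 3, 4, 2, 4, 0, 4, 2, 4, 0, 4, 0, 2, 4, 2, 4, 0, 4, 0, 4, 2, 4, 2, 0, 4, 0, 4, 2, 4, 0, 4, 2, 2])) (BT.leaf (62, [5, 3, 5, 1, 5, 3, 5, 1, 5, 1, 3, 5, 3, 5, 1, 5, 1, 5, 3, 5, 3, 1, 5, 1, 5, 3, 5, 1, 5, 3, 5, 4, 4, 2, 4, 0, 4, 2, 4, 0, 4, 0, 2, 4, 2, 4, 0, 4, 0, 4, 2, 4, 2, 0, 4, 0, 4, 2, 4, 0, 4, 2], [3, 5, 1, 5, 3,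 5, 1, 5, 1, 3, 5, 3, 5, 1, 5, 1, 5, 3, 5, 3, 1, 5, 1, 5, 3, 5, 1, 5, 3, 5, 5, 4, 2, 4, 0, 4, 2, 4, 0, 4, 0, 2, 4, 2, 4, 0, 4, 0, 4, 2, 4, 2, 0, 4, 0, 4, 2, 4, 0, 4, 2, 4])))) (BT.node 84 (BT.node 83 (BT.leaf (62, [7, 3, 5, 1, 5, 3, 5, 1, 5, 1, 3, 5, 3, 5, 1, 5, 1, 5, 3, 5, 3, 1, 5, 1, 5, 3, 5, 1, 5, 3, 5, 6, 4, 2, 4, 0, 4, 2, 4, 0, 4, 0, 2, 4, 2, 4, 0, 4, 0, 4, 2, 4, 2, 0, 4, 0, 4, 2, 4, 0, 4, 2], [3, 5, 1, 5, 3, 5, 1, 5, 1, 3, 5, 3, 5, 1, 5, 1, 5, 3, 5, 3, 1, 5, 1, 5, 3, 5, 1, 5, 3, 5, 7, 4, 2, 4, 0, 4, 2, 4, 0, 4, 0, 2, 4, 2, 4, 0, 4, 0, 4, 2, 4, 2, 0, 4, 0, 4, 2, 4, 0, 4, 2, 6])) (BT.leaf (62, [9, 3, 5, 1, 5, 3, 5, 1, 5, 1, 3, 5, 3, 5, 1, 5, 1, 5, 3, 5, 3, 1, 5, 1, 5, 3, 5, 1, 5, 3, 5, 8, 4, 2, 4, 0, 4, 2, 4, 0, 4, 0, 2, 4, 2, 4, 0, 4, 0, 4, 2, 4, 2, 0, 4, 0, 4, 2, 4, 0, 4, 2], [3, 5, 1, 5, 3, 5, 1, 5, 1, 3, 5, 3, 5, 1,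 5, 1, 5, 3, 5, 3, 1, 5, 1, 5, 3, 5, 1, 5, 3, 5, 9, 4, 2, 4, 0, 4, 2, 4, 0, 4, 0, 2, 4, 2, 4, 0, 4, 0, 4, 2, 4, 2, 0, 4, 0, 4, 2, 4, 0, 4, 2, 8]))) (BT.node 85 (BT.leaf (60, [1, 3, 5, 1, 5, 1, 5, 1, 5, 1, 5, 1, 5, 3, 5, 1, 3, 5, 1, 5, 1, 5, 1, 5, 1, 5, 3, 1, 5, 1, 0, 0, 4, 0, 2, 4, 0, 4, 0, 4, 0, 4, 0, 4, 2, 0, 4, 2, 4, 0, 4, 0, 4, 0, 4, 0, 4, 0, 4, 2], [3, 5, 1, 5, 1, 5, 1, 5, 1, 5, 1, 5, 3, 5, 1, 3, 5, 1, 5, 1, 5, 1, 5, 1, 5, 3, 1, 5, 1, 1, 0, 4, 0, 2, 4, 0, 4, 0, 4, 0, 4, 0, 4, 2, 0, 4, 2, 4, 0, 4, 0, 4, 0, 4, 0, 4, 0, 4, 2, 0])) (BT.leaf (60, [3, 3, 5, 1, 5, 1, 5, 1, 5, 1, 5, 1, 5, 3, 5, 1, 3, 5, 1, 5, 1, 5, 1, 5, 1, 5, 3, 1, 5, 1, 2, 0, 4, 0, 2, 4, 0, 4, 0, 4, 0, 4, 0, 4, 2, 0, 4, 2, 4, 0, 4, 0, 4, 0, 4, 0, 4, 0, 4, 2], [3, 5, 1, 5, 1, 5, 1, 5, 1, 5, 1, 5, 3, 5, 1, 3, 5, 1, 5, 1, 5, 1, 5, 1, 5, 3, 1, 5, 1, 3, 0, 4, 0, 2,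 4, 0, 4, 0, 4, 0, 4, 0, 4, 2, 0, 4, 2, 4, 0, 4, 0, 4, 0, 4, 0, 4, 0, 4, 2, 2]))))) (BT.node 90 (BT.node 88 (BT.node 87 (BT.leaf (60, [5, 3, 5, 1, 5, 1, 5, 1, 5, 1, 5, 1, 5, 3, 5, 1, 3, 5, 1, 5, 1, 5, 1, 5, 1, 5, 3, 1, 5, 1, 4, 0, 4, 0, 2, 4, 0, 4, 0, 4, 0, 4, 0, 4, 2, 0, 4, 2, 4, 0, 4, 0, 4, 0, 4, 0, 4, 0, 4, 2], [3, 5, 1, 5, 1, 5, 1, 5, 1, 5, 1, 5, 3, 5, 1, 3, 5, 1, 5, 1, 5, 1, 5, 1, 5, 3, 1, 5, 1, 5, 0, 4, 0, 2, 4, 0, 4, 0, 4, 0, 4, 0, 4, 2, 0, 4, 2, 4, 0, 4, 0, 4, 0, 4, 0, 4, 0, 4, 2, 4])) (BT.leaf (60, [7, 3, 5, 1, 5, 1, 5, 1, 5, 1, 5, 1, 5, 3, 5, 1, 3, 5, 1, 5, 1, 5, 1, 5, 1, 5, 3, 1, 5, 1, 6, 0, 4, 0, 2, 4, 0, 4, 0, 4, 0, 4, 0, 4, 2, 0, 4, 2, 4, 0, 4, 0, 4, 0, 4, 0, 4, 0, 4, 2], [3, 5, 1, 5, 1, 5, 1, 5, 1, 5, 1, 5, 3, 5, 1, 3, 5, 1, 5, 1, 5, 1, 5, 1, 5, 3, 1, 5, 1, 7, 0, 4, 0, 2, 4, 0, 4, 0, 4, 0, 4, 0, 4, 2, 0, 4, 2,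 4, 0, 4, 0, 4, 0, 4, 0, 4, 0, 4, 2, 6]))) (BT.node 89 (BT.leaf (60, [9, 3, 5, 1, 5, 1, 5, 1, 5, 1, 5, 1, 5, 3, 5, 1, 3, 5, 1, 5, 1, 5, 1, 5, 1, 5, 3, 1, 5, 1, 8, 0, 4, 0, 2, 4, 0, 4, 0, 4, 0, 4, 0, 4, 2, 0, 4, 2, 4, 0, 4, 0, 4, 0, 4, 0, 4, 0, 4, 2], [3, 5, 1, 5, 1, 5, 1, 5, 1, 5, 1, 5, 3, 5, 1, 3, 5, 1, 5, 1, 5, 1, 5, 1, 5, 3, 1, 5, 1, 9, 0, 4, 0, 2, 4, 0, 4, 0, 4, 0, 4, 0, 4, 2, 0, 4, 2, 4, 0, 4, 0, 4, 0, 4, 0, 4, 0, 4, 2, 8])) (BT.leaf (68, [1, 3, 5, 3, 5, 1, 5, 1, 5, 1, 5, 1, 3, 5, 3, 5, 7, 5, 1, 5, 1, 5, 1, 5, 1, 7, 5, 1, 5, 1, 5, 1, 5, 7, 0, 6, 4, 0, 4, 0, 4, 0, 4, 6, 0, 4, 0, 4, 0, 4, 0, 4, 6, 4, 2, 4, 2, 0, 4, 0, 4, 0, 4, 0, 4, 2, 4, 2], [3, 5, 3, 5, 1, 5, 1, 5, 1, 5, 1, 3, 5, 3, 5, 7, 5, 1, 5, 1, 5, 1, 5, 1, 7, 5, 1, 5, 1, 5, 1, 5, 7, 1, 6, 4, 0, 4, 0, 4, 0, 4, 6, 0, 4, 0, 4, 0, 4, 0, 4, 6, 4, 2, 4, 2, 0, 4, 0, 4, 0,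 4, 0, 4, 2, 4, 2, 0])))) (BT.node 92 (BT.node 91 (BT.leaf (68, [3, 3, 5, 3, 5, 1, 5, 1, 5, 1, 5, 1, 3, 5, 3, 5, 7, 5, 1, 5, 1, 5, 1, 5, 1, 7, 5, 1, 5, 1, 5, 1, 5, 7, 2, 6, 4, 0, 4, 0, 4, 0, 4, 6, 0, 4, 0, 4, 0, 4, 0, 4, 6, 4, 2, 4, 2, 0, 4, 0, 4, 0, 4, 0, 4, 2, 4, 2], [3, 5, 3, 5, 1, 5, 1, 5, 1, 5, 1, 3, 5, 3, 5, 7, 5, 1, 5, 1, 5, 1, 5, 1, 7, 5, 1, 5, 1, 5, 1, 5, 7, 3, 6, 4, 0, 4, 0, 4, 0, 4, 6, 0, 4, 0, 4, 0, 4, 0, 4, 6, 4, 2, 4, 2, 0, 4, 0, 4, 0, 4, 0, 4, 2, 4, 2, 2])) (BT.leaf (68, [5, 3, 5, 3, 5, 1, 5, 1, 5, 1, 5, 1, 3, 5, 3, 5, 7, 5, 1, 5, 1, 5, 1, 5, 1, 7, 5, 1, 5, 1, 5, 1, 5, 7, 4, 6, 4, 0, 4, 0, 4, 0, 4, 6, 0, 4, 0, 4, 0, 4, 0, 4, 6, 4, 2, 4, 2, 0, 4, 0, 4, 0, 4, 0, 4, 2, 4, 2], [3, 5, 3, 5, 1, 5, 1, 5, 1, 5, 1, 3, 5, 3, 5, 7, 5, 1, 5, 1, 5, 1, 5, 1, 7, 5, 1, 5, 1, 5, 1, 5, 7, 5, 6, 4, 0, 4, 0, 4, 0, 4, 6, 0, 4, 0,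 4, 0, 4, 0, 4, 6, 4, 2, 4, 2, 0, 4, 0, 4, 0, 4, 0, 4, 2, 4, 2, 4]))) (BT.leaf (68, [7, 3, 5, 3, 5, 1, 5, 1, 5, 1, 5, 1, 3, 5, 3, 5, 7, 5, 1, 5, 1, 5, 1, 5, 1, 7, 5, 1, 5, 1, 5, 1, 5, 7, 6, 6, 4, 0, 4, 0, 4, 0, 4, 6, 0, 4, 0, 4, 0, 4, 0, 4, 6, 4, 2, 4, 2, 0, 4, 0, 4, 0, 4, 0, 4, 2, 4, 2], [3, 5, 3, 5, 1, 5, 1, 5, 1, 5, 1, 3, 5, 3, 5, 7, 5, 1, 5, 1, 5, 1, 5, 1, 7, 5, 1, 5, 1, 5, 1, 5, 7, 7, 6, 4, 0, 4, 0, 4, 0, 4, 6, 0, 4, 0, 4, 0, 4, 0, 4, 6, 4, 2, 4, 2, 0, 4, 0, 4, 0, 4, 0, 4, 2, 4, 2, 6])))))) (BT.node 109 (BT.node 101 (BT.node 97 (BT.node 95 (BT.node 94 (BT.leaf (68, [9, 3, 5, 3, 5, 1, 5, 1, 5, 1, 5, 1, 3, 5, 3, 5, 7, 5, 1, 5, 1, 5, 1, 5, 1, 7, 5, 1, 5, 1, 5, 1, 5, 7, 8, 6, 4, 0, 4, 0, 4, 0, 4, 6, 0, 4, 0, 4, 0, 4, 0, 4, 6, 4, 2, 4, 2, 0, 4, 0, 4, 0, 4, 0, 4, 2, 4, 2], [3, 5, 3, 5, 1, 5, 1, 5, 1, 5, 1, 3, 5, 3, 5, 7, 5, 1,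 5, 1, 5, 1, 5, 1, 7, 5, 1, 5, 1, 5, 1, 5, 7, 9, 6, 4, 0, 4, 0, 4, 0, 4, 6, 0, 4, 0, 4, 0, 4, 0, 4, 6, 4, 2, 4, 2, 0, 4, 0, 4, 0, 4, 0, 4, 2, 4, 2, 8])) (BT.leaf (68, [1, 5, 1, 5, 7, 5, 1, 3, 7, 5, 3, 5, 1, 5, 3, 7, 5, 3, 5, 7, 5, 3, 5, 7, 3, 5, 1, 5, 7, 3, 5, 1, 5, 7, 0, 6, 4, 0, 4, 2, 6, 4, 0, 4, 2, 6, 4, 2, 4, 6, 4, 2, 4, 6, 2, 4, 0, 4, 2, 4, 6, 2, 0, 4, 6, 4, 0, 4], [5, 1, 5, 7, 5, 1, 3, 7, 5, 3, 5, 1, 5, 3, 7, 5, 3, 5, 7, 5, 3, 5, 7, 3, 5, 1, 5, 7, 3, 5, 1, 5, 7, 1, 6, 4, 0, 4, 2, 6, 4, 0, 4, 2, 6, 4, 2, 4, 6, 4, 2, 4, 6, 2, 4, 0, 4, 2, 4, 6, 2, 0, 4, 6, 4, 0, 4, 0]))) (BT.node 96 (BT.leaf (68, [3, 5, 1, 5, 7, 5, 1, 3, 7, 5, 3, 5, 1, 5, 3, 7, 5, 3, 5, 7, 5, 3, 5, 7, 3, 5, 1, 5, 7, 3, 5, 1, 5, 7, 2, 6, 4, 0, 4, 2, 6, 4, 0, 4, 2, 6, 4, 2, 4, 6, 4, 2, 4, 6, 2, 4, 0, 4, 2, 4, 6, 2, 0, 4, 6, 4, 0, 4], [5, 1, 5, 7, 5, 1, 3, 7,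 5, 3, 5, 1, 5, 3, 7, 5, 3, 5, 7, 5, 3, 5, 7, 3, 5, 1, 5, 7, 3, 5, 1, 5, 7, 3, 6, 4, 0, 4, 2, 6, 4, 0, 4, 2, 6, 4, 2, 4, 6, 4, 2, 4, 6, 2, 4, 0, 4, 2, 4, 6, 2, 0, 4, 6, 4, 0, 4, 2])) (BT.leaf (68, [5, 5, 1, 5, 7, 5, 1, 3, 7, 5, 3, 5, 1, 5, 3, 7, 5, 3, 5, 7, 5, 3, 5, 7, 3, 5, 1, 5, 7, 3, 5, 1, 5, 7, 4, 6, 4, 0, 4, 2, 6, 4, 0, 4, 2, 6, 4, 2, 4, 6, 4, 2, 4, 6, 2, 4, 0, 4, 2, 4, 6, 2, 0, 4, 6, 4, 0, 4], [5, 1, 5, 7, 5, 1, 3, 7, 5, 3, 5, 1, 5, 3, 7, 5, 3, 5, 7, 5, 3, 5, 7, 3, 5, 1, 5, 7, 3, 5, 1, 5, 7, 5, 6, 4, 0, 4, 2, 6, 4, 0, 4, 2, 6, 4, 2, 4, 6, 4, 2, 4, 6, 2, 4, 0, 4, 2, 4, 6, 2, 0, 4, 6, 4, 0, 4, 4])))) (BT.node 99 (BT.node 98 (BT.leaf (68, [7, 5, 1, 5, 7, 5, 1, 3, 7, 5, 3, 5, 1, 5, 3, 7, 5, 3, 5, 7, 5, 3, 5, 7, 3, 5, 1, 5, 7, 3, 5, 1, 5, 7, 6, 6, 4, 0, 4, 2, 6, 4, 0, 4, 2, 6, 4, 2, 4, 6, 4, 2, 4, 6, 2, 4, 0, 4, 2, 4, 6, 2,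 0, 4, 6, 4, 0, 4], [5, 1, 5, 7, 5, 1, 3, 7, 5, 3, 5, 1, 5, 3, 7, 5, 3, 5, 7, 5, 3, 5, 7, 3, 5, 1, 5, 7, 3, 5, 1, 5, 7, 7, 6, 4, 0, 4, 2, 6, 4, 0, 4, 2, 6, 4, 2, 4, 6, 4, 2, 4, 6, 2, 4, 0, 4, 2, 4, 6, 2, 0, 4, 6, 4, 0, 4, 6])) (BT.leaf (68, [9, 5, 1, 5, 7, 5, 1, 3, 7, 5, 3, 5, 1, 5, 3, 7, 5, 3, 5, 7, 5, 3, 5, 7, 3, 5, 1, 5, 7, 3, 5, 1, 5, 7, 8, 6, 4, 0, 4, 2, 6, 4, 0, 4, 2, 6, 4, 2, 4, 6, 4, 2, 4, 6, 2, 4, 0, 4, 2, 4, 6, 2, 0, 4, 6, 4, 0, 4], [5, 1, 5, 7, 5, 1, 3, 7, 5, 3, 5, 1, 5, 3, 7, 5, 3, 5, 7, 5, 3, 5, 7, 3, 5, 1, 5, 7, 3, 5, 1, 5, 7, 9, 6, 4, 0, 4, 2, 6, 4, 0, 4, 2, 6, 4, 2, 4, 6, 4, 2, 4, 6, 2, 4, 0, 4, 2, 4, 6, 2, 0, 4, 6, 4, 0, 4, 8]))) (BT.node 100 (BT.leaf (66, [1, 5, 1, 3, 5, 1, 5, 1, 3, 5, 7, 5, 1, 5, 3, 7, 5, 1, 5, 3, 5, 7, 5, 3, 5, 1, 5, 7, 3, 5, 1, 5, 7, 0, 6, 4, 0, 4, 2, 6, 4, 0, 4, 2, 4, 6, 4, 2, 4, 0, 4,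 6, 2, 4, 0, 4, 6, 4, 2, 0, 4, 0, 4, 2, 0, 4], [5, 1, 3, 5, 1, 5, 1, 3, 5, 7, 5, 1, 5, 3, 7, 5, 1, 5, 3, 5, 7, 5, 3, 5, 1, 5, 7, 3, 5, 1, 5, 7, 1, 6, 4, 0, 4, 2, 6, 4, 0, 4, 2, 4, 6, 4, 2, 4, 0, 4, 6, 2, 4, 0, 4, 6, 4, 2, 0, 4, 0, 4, 2, 0, 4, 0])) (BT.leaf (66, [3, 5, 1, 3, 5, 1, 5, 1, 3, 5, 7, 5, 1, 5, 3, 7, 5, 1, 5, 3, 5, 7, 5, 3, 5, 1, 5, 7, 3, 5, 1, 5, 7, 2, 6, 4, 0, 4, 2, 6, 4, 0, 4, 2, 4, 6, 4, 2, 4, 0, 4, 6, 2, 4, 0, 4, 6, 4, 2, 0, 4, 0, 4, 2, 0, 4], [5, 1, 3, 5, 1, 5, 1, 3, 5, 7, 5, 1, 5, 3, 7, 5, 1, 5, 3, 5, 7, 5, 3, 5, 1, 5, 7, 3, 5, 1, 5, 7, 3, 6, 4, 0, 4, 2, 6, 4, 0, 4, 2, 4, 6, 4, 2, 4, 0, 4, 6, 2, 4, 0, 4, 6, 4, 2, 0, 4, 0, 4, 2, 0, 4, 2]))))) (BT.node 105 (BT.node 103 (BT.node 102 (BT.leaf (66, [5, 5, 1, 3, 5, 1, 5, 1, 3, 5, 7, 5, 1, 5, 3, 7, 5, 1, 5, 3, 5, 7, 5, 3, 5, 1, 5, 7, 3, 5, 1, 5, 7, 4, 6, 4, 0, 4, 2,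 6, 4, 0, 4, 2, 4, 6, 4, 2, 4, 0, 4, 6, 2, 4, 0, 4, 6, 4, 2, 0, 4, 0, 4, 2, 0, 4], [5, 1, 3, 5, 1, 5, 1, 3, 5, 7, 5, 1, 5, 3, 7, 5, 1, 5, 3, 5, 7, 5, 3, 5, 1, 5, 7, 3, 5, 1, 5, 7, 5, 6, 4, 0, 4, 2, 6, 4, 0, 4, 2, 4, 6, 4, 2, 4, 0, 4, 6, 2, 4, 0, 4, 6, 4, 2, 0, 4, 0, 4, 2, 0, 4, 4])) (BT.leaf (66, [7, 5, 1, 3, 5, 1, 5, 1, 3, 5, 7, 5, 1, 5, 3, 7, 5, 1, 5, 3, 5, 7, 5, 3, 5, 1, 5, 7, 3, 5, 1, 5, 7, 6, 6, 4, 0, 4, 2, 6, 4, 0, 4, 2, 4, 6, 4, 2, 4, 0, 4, 6, 2, 4, 0, 4, 6, 4, 2, 0, 4, 0, 4, 2, 0, 4], [5, 1, 3, 5, 1, 5, 1, 3, 5, 7, 5, 1, 5, 3, 7, 5, 1, 5, 3, 5, 7, 5, 3, 5, 1, 5, 7, 3, 5, 1, 5, 7, 7, 6, 4, 0, 4, 2, 6, 4, 0, 4, 2, 4, 6, 4, 2, 4, 0, 4, 6, 2, 4, 0, 4, 6, 4, 2, 0, 4, 0, 4, 2, 0, 4, 6]))) (BT.node 104 (BT.leaf (66, [9, 5, 1, 3, 5, 1, 5, 1, 3, 5, 7, 5, 1, 5, 3, 7, 5, 1, 5, 3, 5, 7, 5, 3, 5, 1, 5, 7, 3, 5, 1, 5, 7, 8, 6, 4,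 0, 4, 2, 6, 4, 0, 4, 2, 4, 6, 4, 2, 4, 0, 4, 6, 2, 4, 0, 4, 6, 4, 2, 0, 4, 0, 4, 2, 0, 4], [5, 1, 3, 5, 1, 5, 1, 3, 5, 7, 5, 1, 5, 3, 7, 5, 1, 5, 3, 5, 7, 5, 3, 5, 1, 5, 7, 3, 5, 1, 5, 7, 9, 6, 4, 0, 4, 2, 6, 4, 0, 4, 2, 4, 6, 4, 2, 4, 0, 4, 6, 2, 4, 0, 4, 6, 4, 2, 0, 4, 0, 4, 2, 0, 4, 8])) (BT.leaf (66, [1, 5, 1, 3, 5, 1, 5, 1, 3, 5, 7, 5, 1, 5, 3, 7, 5, 1, 7, 5, 7, 3, 7, 5, 7, 1, 5, 7, 3, 5, 1, 5, 7, 0, 6, 4, 0, 4, 2, 6, 4, 0, 6, 4, 6, 2, 6, 4, 6, 0, 4, 6, 2, 4, 0, 4, 6, 4, 2, 0, 4, 0, 4, 2, 0, 4], [5, 1, 3, 5, 1, 5, 1, 3, 5, 7, 5, 1, 5, 3, 7, 5, 1, 7, 5, 7, 3, 7, 5, 7, 1, 5, 7, 3, 5, 1, 5, 7, 1, 6, 4, 0, 4, 2, 6, 4, 0, 6, 4, 6, 2, 6, 4, 6, 0, 4, 6, 2, 4, 0, 4, 6, 4, 2, 0, 4, 0, 4, 2, 0, 4, 0])))) (BT.node 107 (BT.node 106 (BT.leaf (66, [3, 5, 1, 3, 5, 1, 5, 1, 3, 5, 7, 5, 1, 5, 3, 7, 5, 1, 7, 5, 7, 3, 7, 5, 7, 1, 5, 7, 3,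 5, 1, 5, 7, 2, 6, 4, 0, 4, 2, 6, 4, 0, 6, 4, 6, 2, 6, 4, 6, 0, 4, 6, 2, 4, 0, 4, 6, 4, 2, 0, 4, 0, 4, 2, 0, 4], [5, 1, 3, 5, 1, 5, 1, 3, 5, 7, 5, 1, 5, 3, 7, 5, 1, 7, 5, 7, 3, 7, 5, 7, 1, 5, 7, 3, 5, 1, 5, 7, 3, 6, 4, 0, 4, 2, 6, 4, 0, 6, 4, 6, 2, 6, 4, 6, 0, 4, 6, 2, 4, 0, 4, 6, 4, 2, 0, 4, 0, 4, 2, 0, 4, 2])) (BT.leaf (66, [5, 5, 1, 3, 5, 1, 5, 1, 3, 5, 7, 5, 1, 5, 3, 7, 5, 1, 7, 5, 7, 3, 7, 5, 7, 1, 5, 7, 3, 5, 1, 5, 7, 4, 6, 4, 0, 4, 2, 6, 4, 0, 6, 4, 6, 2, 6, 4, 6, 0, 4, 6, 2, 4, 0, 4, 6, 4, 2, 0, 4, 0, 4, 2, 0, 4], [5, 1, 3, 5, 1, 5, 1, 3, 5, 7, 5, 1, 5, 3, 7, 5, 1, 7, 5, 7, 3, 7, 5, 7, 1, 5, 7, 3, 5, 1, 5, 7, 5, 6, 4, 0, 4, 2, 6, 4, 0, 6, 4, 6, 2, 6, 4, 6, 0, 4, 6, 2, 4, 0, 4, 6, 4, 2, 0, 4, 0, 4, 2, 0, 4, 4]))) (BT.node 108 (BT.leaf (66, [7, 5, 1, 3, 5, 1, 5, 1, 3, 5, 7, 5, 1, 5, 3, 7, 5, 1, 7, 5, 7, 3, 7, 5, 7, 1,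 5, 7, 3, 5, 1, 5, 7, 6, 6, 4, 0, 4, 2, 6, 4, 0, 6, 4, 6, 2, 6, 4, 6, 0, 4, 6, 2, 4, 0, 4, 6, 4, 2, 0, 4, 0, 4, 2, 0, 4], [5, 1, 3, 5, 1, 5, 1, 3, 5, 7, 5, 1, 5, 3, 7, 5, 1, 7, 5, 7, 3, 7, 5, 7, 1, 5, 7, 3, 5, 1, 5, 7, 7, 6, 4, 0, 4, 2, 6, 4, 0, 6, 4, 6, 2, 6, 4, 6, 0, 4, 6, 2, 4, 0, 4, 6, 4, 2, 0, 4, 0, 4, 2, 0, 4, 6])) (BT.leaf (66, [9, 5, 1, 3, 5, 1, 5, 1, 3, 5, 7, 5, 1, 5, 3, 7, 5, 1, 7, 5, 7, 3, 7, 5, 7, 1, 5, 7, 3, 5, 1, 5, 7, 8, 6, 4, 0, 4, 2, 6, 4, 0, 6, 4, 6, 2, 6, 4, 6, 0, 4, 6, 2, 4, 0, 4, 6, 4, 2, 0, 4, 0, 4, 2, 0, 4], [5, 1, 3, 5, 1, 5, 1, 3, 5, 7, 5, 1, 5, 3, 7, 5, 1, 7, 5, 7, 3, 7, 5, 7, 1, 5, 7, 3, 5, 1, 5, 7, 9, 6, 4, 0, 4, 2, 6, 4, 0, 6, 4, 6, 2, 6, 4, 6, 0, 4, 6, 2, 4, 0, 4, 6, 4, 2, 0, 4, 0, 4, 2, 0, 4, 8])))))) (BT.node 117 (BT.node 113 (BT.node 111 (BT.node 110 (BT.leaf (66, [1, 5, 3, 5, 1, 5, 3, 5, 1,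 5, 3, 5, 7, 5, 3, 5, 1, 5, 7, 5, 3, 5, 1, 5, 3, 5, 7, 5, 1, 5, 3, 5, 7, 0, 6, 4, 2, 4, 0, 4, 6, 4, 2, 4, 0, 4, 2, 4, 6, 4, 0, 4, 2, 4, 6, 4, 2, 4, 0, 4, 2, 4, 0, 4, 2, 4], [5, 3, 5, 1, 5, 3, 5, 1, 5, 3, 5, 7, 5, 3, 5, 1, 5, 7, 5, 3, 5, 1, 5, 3, 5, 7, 5, 1, 5, 3, 5, 7, 1, 6, 4, 2, 4, 0, 4, 6, 4, 2, 4, 0, 4, 2, 4, 6, 4, 0, 4, 2, 4, 6, 4, 2, 4, 0, 4, 2, 4, 0, 4, 2, 4, 0])) (BT.leaf (66, [3, 5, 3, 5, 1, 5, 3, 5, 1, 5, 3, 5, 7, 5, 3, 5, 1, 5, 7, 5, 3, 5, 1, 5, 3, 5, 7, 5, 1, 5, 3, 5, 7, 2, 6, 4, 2, 4, 0, 4, 6, 4, 2, 4, 0, 4, 2, 4, 6, 4, 0, 4, 2, 4, 6, 4, 2, 4, 0, 4, 2, 4, 0, 4, 2, 4], [5, 3, 5, 1, 5, 3, 5, 1, 5, 3, 5, 7, 5, 3, 5, 1, 5, 7, 5, 3, 5, 1, 5, 3, 5, 7, 5, 1, 5, 3, 5, 7, 3, 6, 4, 2, 4, 0, 4, 6, 4, 2, 4, 0, 4, 2, 4, 6, 4, 0, 4, 2, 4, 6, 4, 2, 4, 0, 4, 2, 4, 0, 4, 2, 4, 2]))) (BT.node 112 (BT.leaf (66, [5, 5, 3, 5, 1, 5,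 3, 5, 1, 5, 3, 5, 7, 5, 3, 5, 1, 5, 7, 5, 3, 5, 1, 5, 3, 5, 7, 5, 1, 5, 3, 5, 7, 4, 6, 4, 2, 4, 0, 4, 6, 4, 2, 4, 0, 4, 2, 4, 6, 4, 0, 4, 2, 4, 6, 4, 2, 4, 0, 4, 2, 4, 0, 4, 2, 4], [5, 3, 5, 1, 5, 3, 5, 1, 5, 3, 5, 7, 5, 3, 5, 1, 5, 7, 5, 3, 5, 1, 5, 3, 5, 7, 5, 1, 5, 3, 5, 7, 5, 6, 4, 2, 4, 0, 4, 6, 4, 2, 4, 0, 4, 2, 4, 6, 4, 0, 4, 2, 4, 6, 4, 2, 4, 0, 4, 2, 4, 0, 4, 2, 4, 4])) (BT.leaf (66, [7, 5, 3, 5, 1, 5, 3, 5, 1, 5, 3, 5, 7, 5, 3, 5, 1, 5, 7, 5, 3, 5, 1, 5, 3, 5, 7, 5, 1, 5, 3, 5, 7, 6, 6, 4, 2, 4, 0, 4, 6, 4, 2, 4, 0, 4, 2, 4, 6, 4, 0, 4, 2, 4, 6, 4, 2, 4, 0, 4, 2, 4, 0, 4, 2, 4], [5, 3, 5, 1, 5, 3, 5, 1, 5, 3, 5, 7, 5, 3, 5, 1, 5, 7, 5, 3, 5, 1, 5, 3, 5, 7, 5, 1, 5, 3, 5, 7, 7, 6, 4, 2, 4, 0, 4, 6, 4, 2, 4, 0, 4, 2, 4, 6, 4, 0, 4, 2, 4, 6, 4, 2, 4, 0, 4, 2, 4, 0, 4, 2, 4, 6])))) (BT.node 115 (BT.node 114 (BT.leaf (66,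 [9, 5, 3, 5, 1, 5, 3, 5, 1, 5, 3, 5, 7, 5, 3, 5, 1, 5, 7, 5, 3, 5, 1, 5, 3, 5, 7, 5, 1, 5, 3, 5, 7, 8, 6, 4, 2, 4, 0, 4, 6, 4, 2, 4, 0, 4, 2, 4, 6, 4, 0, 4, 2, 4, 6, 4, 2, 4, 0, 4, 2, 4, 0, 4, 2, 4], [5, 3, 5, 1, 5, 3, 5, 1, 5, 3, 5, 7, 5, 3, 5, 1, 5, 7, 5, 3, 5, 1, 5, 3, 5, 7, 5, 1, 5, 3, 5, 7, 9, 6, 4, 2, 4, 0, 4, 6, 4, 2, 4, 0, 4, 2, 4, 6, 4, 0, 4, 2, 4, 6, 4, 2, 4, 0, 4, 2, 4, 0, 4, 2, 4, 8])) (BT.leaf (66, [1, 5, 1, 5, 3, 5, 1, 5, 3, 5, 7, 5, 3, 5, 1, 5, 3, 5, 1, 5, 1, 7, 1, 5, 7, 3, 5, 1, 5, 7, 3, 5, 7, 0, 6, 4, 2, 6, 4, 0, 4, 2, 6, 4, 0, 6, 0, 4, 0, 4, 2, 4, 0, 4, 2, 4, 6, 4, 2, 4, 0, 4, 2, 4, 0, 4], [5, 1, 5, 3, 5, 1, 5, 3, 5, 7, 5, 3, 5, 1, 5, 3, 5, 1, 5, 1, 7, 1, 5, 7, 3, 5, 1, 5, 7, 3, 5, 7, 1, 6, 4, 2, 6, 4, 0, 4, 2, 6, 4, 0, 6, 0, 4, 0, 4, 2, 4, 0, 4, 2, 4, 6, 4, 2, 4, 0, 4, 2, 4, 0, 4, 0]))) (BT.node 116 (BT.leaf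 (66, [3, 5, 1, 5, 3, 5, 1, 5, 3, 5, 7, 5, 3, 5, 1, 5, 3, 5, 1, 5, 1, 7, 1, 5, 7, 3, 5, 1, 5, 7, 3, 5, 7, 2, 6, 4, 2, 6, 4, 0, 4, 2, 6, 4, 0, 6, 0, 4, 0, 4, 2, 4, 0, 4, 2, 4, 6, 4, 2, 4, 0, 4, 2, 4, 0, 4], [5, 1, 5, 3, 5, 1, 5, 3, 5, 7, 5, 3, 5, 1, 5, 3, 5, 1, 5, 1, 7, 1, 5, 7, 3, 5, 1, 5, 7, 3, 5, 7, 3, 6, 4, 2, 6, 4, 0, 4, 2, 6, 4, 0, 6, 0, 4, 0, 4, 2, 4, 0, 4, 2, 4, 6, 4, 2, 4, 0, 4, 2, 4, 0, 4, 2])) (BT.leaf (66, [5, 5, 1, 5, 3, 5, 1, 5, 3, 5, 7, 5, 3, 5, 1, 5, 3, 5, 1, 5, 1, 7, 1, 5, 7, 3, 5, 1, 5, 7, 3, 5, 7, 4, 6, 4, 2, 6, 4, 0, 4, 2, 6, 4, 0, 6, 0, 4, 0, 4, 2, 4, 0, 4, 2, 4, 6, 4, 2, 4, 0, 4, 2, 4, 0, 4], [5, 1, 5, 3, 5, 1, 5, 3, 5, 7, 5, 3, 5, 1, 5, 3, 5, 1, 5, 1, 7, 1, 5, 7, 3, 5, 1, 5, 7, 3, 5, 7, 5, 6, 4, 2, 6, 4, 0, 4, 2, 6, 4, 0, 6, 0, 4, 0, 4, 2, 4, 0, 4, 2, 4, 6, 4, 2, 4, 0, 4, 2, 4, 0, 4, 4]))))) (BT.node 121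 (BT.node 119 (BT.node 118 (BT.leaf (66, [7, 5, 1, 5, 3, 5, 1, 5, 3, 5, 7, 5, 3, 5, 1, 5, 3, 5, 1, 5, 1, 7, 1, 5, 7, 3, 5, 1, 5, 7, 3, 5, 7, 6, 6, 4, 2, 6, 4, 0, 4, 2, 6, 4, 0, 6, 0, 4, 0, 4, 2, 4, 0, 4, 2, 4, 6, 4, 2, 4, 0, 4, 2, 4, 0, 4], [5, 1, 5, 3, 5, 1, 5, 3, 5, 7, 5, 3, 5, 1, 5, 3, 5, 1, 5, 1, 7, 1, 5, 7, 3, 5, 1, 5, 7, 3, 5, 7, 7, 6, 4, 2, 6, 4, 0, 4, 2, 6, 4, 0, 6, 0, 4, 0, 4, 2, 4, 0, 4, 2, 4, 6, 4, 2, 4, 0, 4, 2, 4, 0, 4, 6])) (BT.leaf (66, [9, 5, 1, 5, 3, 5, 1, 5, 3, 5, 7, 5, 3, 5, 1, 5, 3, 5, 1, 5, 1, 7, 1, 5, 7, 3, 5, 1, 5, 7, 3, 5, 7, 8, 6, 4, 2, 6, 4, 0, 4, 2, 6, 4, 0, 6, 0, 4, 0, 4, 2, 4, 0, 4, 2, 4, 6, 4, 2, 4, 0, 4, 2, 4, 0, 4], [5, 1, 5, 3, 5, 1, 5, 3, 5, 7, 5, 3, 5, 1, 5, 3, 5, 1, 5, 1, 7, 1, 5, 7, 3, 5, 1, 5, 7, 3, 5, 7, 9, 6, 4, 2, 6, 4, 0, 4, 2, 6, 4, 0, 6, 0, 4, 0, 4, 2, 4, 0, 4, 2, 4, 6, 4, 2, 4, 0,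 4, 2, 4, 0, 4, 8]))) (BT.node 120 (BT.leaf (101, [7, 7, 7, 7, 7, 7, 7, 7, 5, 5, 5, 5, 5, 5, 5, 5, 5, 5, 5, 5, 3, 3, 3, 3, 3, 9, 3, 9, 3, 9, 3, 9, 3, 9, 9, 3, 9, 9, 3, 9, 9, 3, 9, 9, 8, 8, 8, 8, 2, 8, 8, 8, 8, 2, 8, 8, 8, 8, 2, 2, 2, 2, 2, 1, 1, 1, 1, 1, 1, 6, 4, 0, 4, 2, 6, 4, 0, 6, 4, 6, 2, 6, 4, 6, 0, 4, 6, 2, 4, 0, 4, 6, 4, 2, 0, 4, 0, 4, 2, 0, 4], [5, 1, 3, 5, 1, 5, 1, 3, 5, 7, 5, 1, 5, 3, 7, 5, 1, 7, 5, 7, 3, 7, 5, 7, 1, 5, 7, 3, 5, 1, 5, 7, 0, 0, 0, 0, 0, 0, 3, 3, 3, 3, 3, 9, 9, 9, 9, 3, 9, 9, 9, 9, 3, 9, 9, 9, 9, 8, 8, 2, 8, 8, 2, 8, 8, 2, 8, 8, 2, 8, 2, 8, 2, 8, 2, 8, 2, 2, 2, 2, 2, 4, 4, 4, 4, 4, 4, 4, 4, 4, 4, 4, 4, 6, 6, 6, 6, 6, 6, 6, 6])) (BT.leaf (39, [3, 3, 3, 3, 3, 9, 9, 9, 9, 3, 9, 9, 9, 9, 3, 9, 9, 9, 9, 8, 8, 2, 8, 8, 2, 8, 8, 2, 8, 8, 2, 8, 2, 8, 2, 8, 2, 8, 2], [3, 9, 3, 9, 3, 9, 3, 9, 3, 9, 9, 3, 9, 9,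 3, 9, 9, 3, 9, 9, 8, 8, 8, 8, 2, 8, 8, 8, 8, 2, 8, 8, 8, 8, 2, 2, 2, 2, 2])))) (BT.node 123 (BT.node 122 (BT.leaf (57, [5, 5, 5, 5, 5, 5, 5, 5, 5, 5, 5, 5, 3, 3, 3, 3, 1, 1, 1, 1, 1, 1, 1, 1, 1, 1, 1, 1, 0, 4, 0, 2, 4, 0, 4, 0, 4, 0, 4, 0, 4, 2, 0, 4, 2, 4, 0, 4, 0, 4, 0, 4, 0, 4, 0, 4, 2], [3, 5, 1, 5, 1, 5, 1, 5, 1, 5, 1, 5, 3, 5, 1, 3, 5, 1, 5, 1, 5, 1, 5, 1, 5, 3, 1, 5, 1, 0, 0, 0, 0, 0, 0, 0, 0, 0, 0, 0, 0, 2, 2, 2, 2, 4, 4, 4, 4, 4, 4, 4, 4, 4, 4, 4, 4])) (BT.leaf (69, [7, 7, 4, 4, 5, 3, 5, 1, 5, 3, 5, 1, 5, 3, 5, 7, 5, 3, 5, 1, 5, 7, 5, 3, 5, 1, 5, 3, 5, 7, 5, 1, 5, 3, 5, 7, 6, 4, 0, 4, 2, 6, 4, 0, 4, 2, 6, 4, 2, 4, 6, 4, 2, 4, 6, 2, 4, 0, 4, 2, 4, 6, 2, 0, 4, 6, 4, 0, 4], [5, 1, 5, 7, 5, 1, 3, 7, 5, 3, 5, 1, 5, 3, 7, 5, 3, 5, 7, 5, 3, 5, 7, 3, 5, 1, 5, 7, 3, 5, 1, 5, 7, 6, 4, 2, 4, 0, 4, 6, 4, 2, 4, 0, 4, 2, 4, 6, 4,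 0, 4, 2, 4, 6, 4, 2, 4, 0, 4, 2, 4, 0, 4, 2, 4, 5, 5, 6, 6]))) (BT.leaf (41, [8, 8, 8, 8, 8, 8, 8, 8, 8, 8, 8, 8, 8, 2, 2, 2, 2, 2, 2, 2, 2, 3, 9, 9, 3, 9, 9, 3, 9, 9, 3, 9, 9, 3, 9, 3, 9, 3, 9, 3, 9], [8, 2, 8, 2, 8, 2, 8, 2, 8, 8, 2, 8, 8, 2, 8, 8, 2, 8, 8, 2, 3, 3, 3, 3, 3, 3, 3, 3, 9, 9, 9, 9, 9, 9, 9, 9, 9, 9, 9, 9, 9]))))))))
/-- subgroup generators -/
def subT : BT (ℕ × List ℕ × List ℕ) := (BT.node 0 (BT.leaf (1, [2], [3])) (BT.leaf (1, [8], [9])))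
/-- fact chunks -/
noncomputable def colET : BT ℕ := (BT.node 1776 (BT.node 888 (BT.node 444 (BT.node 222 (BT.node 111 (BT.node 55 (BT.node 27 (BT.node 13 (BT.node 6 (BT.node 3 (BT.node 1 (BT.node 0 (BT.leaf cE0) (BT.leaf cE1)) (BT.node 2 (BT.leaf cE2) (BT.leaf cE3))) (BT.node 5 (BT.node 4 (BT.leaf cE4) (BT.leaf cE5)) (BT.leaf cE6))) (BT.node 10 (BT.node 8 (BT.node 7 (BT.leaf cE7) (BT.leaf cE8)) (BT.node 9 (BT.leaf cE9) (BT.leaf cE10))) (BT.node 12 (BT.node 11 (BT.leaf cE11) (BT.leaf cE12)) (BT.leaf cE13)))) (BT.node 20 (BT.node 17 (BT.node 15 (BT.node 14 (BT.leaf cE14) (BT.leaf cE15)) (BT.node 16 (BT.leaf cE16) (BT.leaf cE17))) (BT.node 19 (BT.node 18 (BT.leaf cE18) (BT.leaf cE19)) (BT.leaf cE20))) (BT.node 24 (BT.node 22 (BT.node 21 (BT.leaf cE21) (BT.leaf cE22)) (BT.node 23 (BT.leaf cE23) (BT.leaf cE24))) (BT.node 26 (BT.node 25 (BT.leaf cE25) (BT.leaf cE26)) (BT.leaf cE27))))) (BT.node 41 (BT.node 34 (BT.node 31 (BT.node 29 (BT.node 28 (BT.leaf cE28) (BT.leaf cE29)) (BT.node 30 (BT.leaf cE30) (BT.leaf cE31))) (BT.node 33 (BT.node 32 (BT.leaf cE32) (BT.leaf cE33)) (BT.leaf cE34))) (BT.node 38 (BT.node 36 (BT.node 35 (BT.leaf cE35) (BT.leaf cE36)) (BT.node 37 (BT.leaf cE37) (BT.leaf cE38))) (BT.node 40 (BT.node 39 (BT.leaf cE39) (BT.leaf cE40)) (BT.leaf cE41)))) (BT.node 48 (BT.node 45 (BT.node 43 (BT.node 42 (BT.leaf cE42) (BT.leaf cE43)) (BT.node 44 (BT.leaf cE44) (BT.leaf cE45))) (BT.node 47 (BT.node 46 (BT.leaf cE46) (BT.leaf cE47)) (BT.leaf cE48))) (BT.node 52 (BT.node 50 (BT.node 49 (BT.leaf cE49) (BT.leaf cE50)) (BT.node 51 (BT.leaf cE51) (BT.leaf cE52))) (BT.node 54 (BT.node 53 (BT.leaf cE53) (BT.leaf cE54)) (BT.leaf cE55)))))) (BT.node 83 (BT.node 69 (BT.node 62 (BT.node 59 (BT.node 57 (BT.node 56 (BT.leaf cE56) (BT.leaf cE57)) (BT.node 58 (BT.leaf cE58) (BT.leaf cE59))) (BT.node 61 (BT.node 60 (BT.leaf cE60) (BT.leaf cE61)) (BT.leaf cE62))) (BT.node 66 (BT.node 64 (BT.node 63 (BT.leaf cE63) (BT.leaf cE64)) (BT.node 65 (BT.leaf cE65) (BT.leaf cE66))) (BT.node 68 (BT.node 67 (BT.leaf cE67) (BT.leaf cE68)) (BT.leaf cE69)))) (BT.node 76 (BT.node 73 (BT.node 71 (BT.node 70 (BT.leaf cE70) (BT.leaf cE71)) (BT.node 72 (BT.leaf cE72) (BT.leaf cE73))) (BT.node 75 (BT.node 74 (BT.leaf cE74) (BT.leaf cE75)) (BT.leaf cE76))) (BT.node 80 (BT.node 78 (BT.node 77 (BT.leaf cE77) (BT.leaf cE78)) (BT.node 79 (BT.leaf cE79) (BT.leaf cE80))) (BT.node 82 (BT.node 81 (BT.leaf cE81) (BT.leaf cE82)) (BT.leaf cE83))))) (BT.node 97 (BT.node 90 (BT.node 87 (BT.node 85 (BT.node 84 (BT.leaf cE84) (BT.leaf cE85)) (BT.node 86 (BT.leaf cE86) (BT.leaf cE87))) (BT.node 89 (BT.node 88 (BT.leaf cE88) (BT.leaf cE89)) (BT.leaf cE90))) (BT.node 94 (BT.node 92 (BT.node 91 (BT.leaf cE91) (BT.leaf cE92)) (BT.node 93 (BT.leaf cE93) (BT.leaf cE94))) (BT.node 96 (BT.node 95 (BT.leaf cE95) (BT.leaf cE96)) (BT.leaf cE97)))) (BT.node 104 (BT.node 101 (BT.node 99 (BT.node 98 (BT.leaf cE98) (BT.leaf cE99)) (BT.node 100 (BT.leaf cE100) (BT.leaf cE101))) (BT.node 103 (BT.node 102 (BT.leaf cE102) (BT.leaf cE103)) (BT.leaf cE104))) (BT.node 108 (BT.node 106 (BT.node 105 (BT.leaf cE105) (BT.leaf cE106)) (BT.node 107 (BT.leaf cE107) (BT.leaf cE108))) (BT.node 110 (BT.node 109 (BT.leaf cE109) (BT.leaf cE110)) (BT.leaf cE111))))))) (BT.node 167 (BT.node 139 (BT.node 125 (BT.node 118 (BT.node 115 (BT.node 113 (BT.node 112 (BT.leaf cE112) (BT.leaf cE113)) (BT.node 114 (BT.leaf cE114) (BT.leaf cE115))) (BT.node 117 (BT.node 116 (BT.leaf cE116) (BT.leaf cE117)) (BT.leaf cE118))) (BT.node 122 (BT.node 120 (BT.node 119 (BT.leaf cE119) (BT.leaf cE120)) (BT.node 121 (BT.leaf cE121) (BT.leaf cE122))) (BT.node 124 (BT.node 123 (BT.leaf cE123) (BT.leaf cE124)) (BT.leaf cE125)))) (BT.node 132 (BT.node 129 (BT.node 127 (BT.node 126 (BT.leaf cE126) (BT.leaf cE127)) (BT.node 128 (BT.leaf cE128) (BT.leaf cE129))) (BT.node 131 (BT.node 130 (BT.leaf cE130) (BT.leaf cE131)) (BT.leaf cE132))) (BT.node 136 (BT.node 134 (BT.node 133 (BT.leaf cE133) (BT.leaf cE134)) (BT.node 135 (BT.leaf cE135) (BT.leaf cE136))) (BT.node 138 (BT.node 137 (BT.leaf cE137) (BT.leaf cE138)) (BT.leaf cE139))))) (BT.node 153 (BT.node 146 (BT.node 143 (BT.node 141 (BT.node 140 (BT.leaf cE140) (BT.leaf cE141)) (BT.node 142 (BT.leaf cE142) (BT.leaf cE143))) (BT.node 145 (BT.node 144 (BT.leaf cE144) (BT.leaf cE145)) (BT.leaf cE146))) (BT.node 150 (BT.node 148 (BT.node 147 (BT.leaf cE147) (BT.leaf cE148)) (BT.node 149 (BT.leaf cE149) (BT.leaf cE150))) (BT.node 152 (BT.node 151 (BT.leaf cE151) (BT.leaf cE152)) (BT.leaf cE153)))) (BT.node 160 (BT.node 157 (BT.node 155 (BT.node 154 (BT.leaf cE154) (BT.leaf cE155)) (BT.node 156 (BT.leaf cE156) (BT.leaf cE157))) (BT.node 159 (BT.node 158 (BT.leaf cE158) (BT.leaf cE159)) (BT.leaf cE160))) (BT.node 164 (BT.node 162 (BT.node 161 (BT.leaf cE161) (BT.leaf cE162)) (BT.node 163 (BT.leaf cE163) (BT.leaf cE164))) (BT.node 166 (BT.node 165 (BT.leaf cE165) (BT.leaf cE166)) (BT.leaf cE167)))))) (BT.node 195 (BT.node 181 (BT.node 174 (BT.node 171 (BT.node 169 (BT.node 168 (BT.leaf cE168) (BT.leaf cE169)) (BT.node 170 (BT.leaf cE170) (BT.leaf cE171))) (BT.node 173 (BT.node 172 (BT.leaf cE172) (BT.leaf cE173)) (BT.leaf cE174))) (BT.node 178 (BT.node 176 (BT.node 175 (BT.leaf cE175) (BT.leaf cE176)) (BT.node 177 (BT.leaf cE177) (BT.leaf cE178))) (BT.node 180 (BT.node 179 (BT.leaf cE179) (BT.leaf cE180)) (BT.leaf cE181)))) (BT.node 188 (BT.node 185 (BT.node 183 (BT.node 182 (BT.leaf cE182) (BT.leaf cE183)) (BT.node 184 (BT.leaf cE184) (BT.leaf cE185))) (BT.node 187 (BT.node 186 (BT.leaf cE186) (BT.leaf cE187)) (BT.leaf cE188))) (BT.node 192 (BT.node 190 (BT.node 189 (BT.leaf cE189) (BT.leaf cE190)) (BT.node 191 (BT.leaf cE191) (BT.leaf cE192))) (BT.node 194 (BT.node 193 (BT.leaf cE193) (BT.leaf cE194)) (BT.leaf cE195))))) (BT.node 209 (BT.node 202 (BT.node 199 (BT.node 197 (BT.node 196 (BT.leaf cE196) (BT.leaf cE197)) (BT.node 198 (BT.leaf cE198) (BT.leaf cE199))) (BT.node 201 (BT.node 200 (BT.leaf cE200) (BT.leaf cE201)) (BT.leaf cE202))) (BT.node 206 (BT.node 204 (BT.node 203 (BT.leaf cE203) (BT.leaf cE204)) (BT.node 205 (BT.leaf cE205) (BT.leaf cE206))) (BT.node 208 (BT.node 207 (BT.leaf cE207) (BT.leaf cE208)) (BT.leaf cE209)))) (BT.node 216 (BT.node 213 (BT.node 211 (BT.node 210 (BT.leaf cE210) (BT.leaf cE211)) (BT.node 212 (BT.leaf cE212) (BT.leaf cE213))) (BT.node 215 (BT.node 214 (BT.leaf cE214) (BT.leaf cE215)) (BT.leaf cE216))) (BT.node 219 (BT.node 218 (BT.node 217 (BT.leaf cE217) (BT.leaf cE218)) (BT.leaf cE219)) (BT.node 221 (BT.node 220 (BT.leaf cE220) (BT.leaf cE221)) (BT.leaf cE222)))))))) (BT.node 333 (BT.node 278 (BT.node 250 (BT.node 236 (BT.node 229 (BT.node 226 (BT.node 224 (BT.node 223 (BT.leaf cE223) (BT.leaf cE224)) (BT.node 225 (BT.leaf cE225) (BT.leaf cE226))) (BT.node 228 (BT.node 227 (BT.leaf cE227) (BT.leaf cE228)) (BT.leaf cE229))) (BT.node 233 (BT.node 231 (BT.node 230 (BT.leaf cE230) (BT.leaf cE231)) (BT.node 232 (BT.leaf cE232) (BT.leaf cE233))) (BT.node 235 (BT.node 234 (BT.leaf cE234) (BT.leaf cE235)) (BT.leaf cE236)))) (BT.node 243 (BT.node 240 (BT.node 238 (BT.node 237 (BT.leaf cE237) (BT.leaf cE238)) (BT.node 239 (BT.leaf cE239) (BT.leaf cE240))) (BT.node 242 (BT.node 241 (BT.leaf cE241) (BT.leaf cE242)) (BT.leaf cE243))) (BT.node 247 (BT.node 245 (BT.node 244 (BT.leaf cE244) (BT.leaf cE245)) (BT.node 246 (BT.leaf cE246) (BT.leaf cE247))) (BT.node 249 (BT.node 248 (BT.leaf cE248) (BT.leaf cE249)) (BT.leaf cE250))))) (BT.node 264 (BT.node 257 (BT.node 254 (BT.node 252 (BT.node 251 (BT.leaf cE251) (BT.leaf cE252)) (BT.node 253 (BT.leaf cE253) (BT.leaf cE254))) (BT.node 256 (BT.node 255 (BT.leaf cE255) (BT.leaf cE256)) (BT.leaf cE257))) (BT.node 261 (BT.node 259 (BT.node 258 (BT.leaf cE258) (BT.leaf cE259)) (BT.node 260 (BT.leaf cE260) (BT.leaf cE261))) (BT.node 263 (BT.node 262 (BT.leaf cE262) (BT.leaf cE263)) (BT.leaf cE264)))) (BT.node 271 (BT.node 268 (BT.node 266 (BT.node 265 (BT.leaf cE265) (BT.leaf cE266)) (BT.node 267 (BT.leaf cE267) (BT.leaf cE268))) (BT.node 270 (BT.node 269 (BT.leaf cE269) (BT.leaf cE270)) (BT.leaf cE271))) (BT.node 275 (BT.node 273 (BT.node 272 (BT.leaf cE272) (BT.leaf cE273)) (BT.node 274 (BT.leaf cE274) (BT.leaf cE275))) (BT.node 277 (BT.node 276 (BT.leaf cE276) (BT.leaf cE277)) (BT.leaf cE278)))))) (BT.node 306 (BT.node 292 (BT.node 285 (BT.node 282 (BT.node 280 (BT.node 279 (BT.leaf cE279) (BT.leaf cE280)) (BT.node 281 (BT.leaf cE281) (BT.leaf cE282))) (BT.node 284 (BT.node 283 (BT.leaf cE283) (BT.leaf cE284)) (BT.leaf cE285))) (BT.node 289 (BT.node 287 (BT.node 286 (BT.leaf cE286) (BT.leaf cE287)) (BT.node 288 (BT.leaf cE288) (BT.leaf cE289))) (BT.node 291 (BT.node 290 (BT.leaf cE290) (BT.leaf cE291)) (BT.leaf cE292)))) (BT.node 299 (BT.node 296 (BT.node 294 (BT.node 293 (BT.leaf cE293) (BT.leaf cE294)) (BT.node 295 (BT.leaf cE295) (BT.leaf cE296))) (BT.node 298 (BT.node 297 (BT.leaf cE297) (BT.leaf cE298)) (BT.leaf cE299))) (BT.node 303 (BT.node 301 (BT.node 300 (BT.leaf cE300) (BT.leaf cE301)) (BT.node 302 (BT.leaf cE302) (BT.leaf cE303))) (BT.node 305 (BT.node 304 (BT.leaf cE304) (BT.leaf cE305)) (BT.leaf cE306))))) (BT.node 320 (BT.node 313 (BT.node 310 (BT.node 308 (BT.node 307 (BT.leaf cE307) (BT.leaf cE308)) (BT.node 309 (BT.leaf cE309) (BT.leaf cE310))) (BT.node 312 (BT.node 311 (BT.leaf cE311) (BT.leaf cE312)) (BT.leaf cE313))) (BT.node 317 (BT.node 315 (BT.node 314 (BT.leaf cE314) (BT.leaf cE315)) (BT.node 316 (BT.leaf cE316) (BT.leaf cE317))) (BT.node 319 (BT.node 318 (BT.leaf cE318) (BT.leaf cE319)) (BT.leaf cE320)))) (BT.node 327 (BT.node 324 (BT.node 322 (BT.node 321 (BT.leaf cE321) (BT.leaf cE322)) (BT.node 323 (BT.leaf cE323) (BT.leaf cE324))) (BT.node 326 (BT.node 325 (BT.leaf cE325) (BT.leaf cE326)) (BT.leaf cE327))) (BT.node 330 (BT.node 329 (BT.node 328 (BT.leaf cE328) (BT.leaf cE329)) (BT.leaf cE330)) (BT.node 332 (BT.node 331 (BT.leaf cE331) (BT.leaf cE332)) (BT.leaf cE333))))))) (BT.node 389 (BT.node 361 (BT.node 347 (BT.node 340 (BT.node 337 (BT.node 335 (BT.node 334 (BT.leaf cE334) (BT.leaf cE335)) (BT.node 336 (BT.leaf cE336) (BT.leaf cE337))) (BT.node 339 (BT.node 338 (BT.leaf cE338) (BT.leaf cE339)) (BT.leaf cE340))) (BT.node 344 (BT.node 342 (BT.node 341 (BT.leaf cE341) (BT.leaf cE342)) (BT.node 343 (BT.leaf cE343) (BT.leaf cE344))) (BT.node 346 (BT.node 345 (BT.leaf cE345) (BT.leaf cE346)) (BT.leaf cE347)))) (BT.node 354 (BT.node 351 (BT.node 349 (BT.node 348 (BT.leaf cE348) (BT.leaf cE349)) (BT.node 350 (BT.leaf cE350) (BT.leaf cE351))) (BT.node 353 (BT.node 352 (BT.leaf cE352) (BT.leaf cE353)) (BT.leaf cE354))) (BT.node 358 (BT.node 356 (BT.node 355 (BT.leaf cE355) (BT.leaf cE356)) (BT.node 357 (BT.leaf cE357) (BT.leaf cE358))) (BT.node 360 (BT.node 359 (BT.leaf cE359) (BT.leaf cE360)) (BT.leaf cE361))))) (BT.node 375 (BT.node 368 (BT.node 365 (BT.node 363 (BT.node 362 (BT.leaf cE362) (BT.leaf cE363)) (BT.node 364 (BT.leaf cE364) (BT.leaf cE365))) (BT.node 367 (BT.node 366 (BT.leaf cE366) (BT.leaf cE367)) (BT.leaf cE368))) (BT.node 372 (BT.node 370 (BT.node 369 (BT.leaf cE369) (BT.leaf cE370)) (BT.node 371 (BT.leaf cE371) (BT.leaf cE372))) (BT.node 374 (BT.node 373 (BT.leaf cE373) (BT.leaf cE374)) (BT.leaf cE375)))) (BT.node 382 (BT.node 379 (BT.node 377 (BT.node 376 (BT.leaf cE376) (BT.leaf cE377)) (BT.node 378 (BT.leaf cE378) (BT.leaf cE379))) (BT.node 381 (BT.node 380 (BT.leaf cE380) (BT.leaf cE381)) (BT.leaf cE382))) (BT.node 386 (BT.node 384 (BT.node 383 (BT.leaf cE383) (BT.leaf cE384)) (BT.node 385 (BT.leaf cE385) (BT.leaf cE386))) (BT.node 388 (BT.node 387 (BT.leaf cE387) (BT.leaf cE388)) (BT.leaf cE389)))))) (BT.node 417 (BT.node 403 (BT.node 396 (BT.node 393 (BT.node 391 (BT.node 390 (BT.leaf cE390) (BT.leaf cE391)) (BT.node 392 (BT.leaf cE392) (BT.leaf cE393))) (BT.node 395 (BT.node 394 (BT.leaf cE394) (BT.leaf cE395)) (BT.leaf cE396))) (BT.node 400 (BT.node 398 (BT.node 397 (BT.leaf cE397) (BT.leaf cE398)) (BT.node 399 (BT.leaf cE399) (BT.leaf cE400))) (BT.node 402 (BT.node 401 (BT.leaf cE401) (BT.leaf cE402)) (BT.leaf cE403)))) (BT.node 410 (BT.node 407 (BT.node 405 (BT.node 404 (BT.leaf cE404) (BT.leaf cE405)) (BT.node 406 (BT.leaf cE406) (BT.leaf cE407))) (BT.node 409 (BT.node 408 (BT.leaf cE408) (BT.leaf cE409)) (BT.leaf cE410))) (BT.node 414 (BT.node 412 (BT.node 411 (BT.leaf cE411) (BT.leaf cE412)) (BT.node 413 (BT.leaf cE413) (BT.leaf cE414))) (BT.node 416 (BT.node 415 (BT.leaf cE415) (BT.leaf cE416)) (BT.leaf cE417))))) (BT.node 431 (BT.node 424 (BT.node 421 (BT.node 419 (BT.node 418 (BT.leaf cE418) (BT.leaf cE419)) (BT.node 420 (BT.leaf cE420) (BT.leaf cE421))) (BT.node 423 (BT.node 422 (BT.leaf cE422) (BT.leaf cE423)) (BT.leaf cE424))) (BT.node 428 (BT.node 426 (BT.node 425 (BT.leaf cE425) (BT.leaf cE426)) (BT.node 427 (BT.leaf cE427) (BT.leaf cE428))) (BT.node 430 (BT.node 429 (BT.leaf cE429) (BT.leaf cE430)) (BT.leaf cE431)))) (BT.node 438 (BT.node 435 (BT.node 433 (BT.node 432 (BT.leaf cE432) (BT.leaf cE433)) (BT.node 434 (BT.leaf cE434) (BT.leaf cE435))) (BT.node 437 (BT.node 436 (BT.leaf cE436) (BT.leaf cE437)) (BT.leaf cE438))) (BT.node 441 (BT.node 440 (BT.node 439 (BT.leaf cE439) (BT.leaf cE440)) (BT.leaf cE441)) (BT.node 443 (BT.node 442 (BT.leaf cE442) (BT.leaf cE443)) (BT.leaf cE444))))))))) (BT.node 666 (BT.node 555 (BT.node 500 (BT.node 472 (BT.node 458 (BT.node 451 (BT.node 448 (BT.node 446 (BT.node 445 (BT.leaf cE445) (BT.leaf cE446)) (BT.node 447 (BT.leaf cE447) (BT.leaf cE448))) (BT.node 450 (BT.node 449 (BT.leaf cE449) (BT.leaf cE450)) (BT.leaf cE451))) (BT.node 455 (BT.node 453 (BT.node 452 (BT.leaf cE452) (BT.leaf cE453)) (BT.node 454 (BT.leaf cE454) (BT.leaf cE455))) (BT.node 457 (BT.node 456 (BT.leaf cE456) (BT.leaf cE457)) (BT.leaf cE458)))) (BT.node 465 (BT.node 462 (BT.node 460 (BT.node 459 (BT.leaf cE459) (BT.leaf cE460)) (BT.node 461 (BT.leaf cE461) (BT.leaf cE462))) (BT.node 464 (BT.node 463 (BT.leaf cE463) (BT.leaf cE464)) (BT.leaf cE465))) (BT.node 469 (BT.node 467 (BT.node 466 (BT.leaf cE466) (BT.leaf cE467)) (BT.node 468 (BT.leaf cE468) (BT.leaf cE469))) (BT.node 471 (BT.node 470 (BT.leaf cE470) (BT.leaf cE471)) (BT.leaf cE472))))) (BT.node 486 (BT.node 479 (BT.node 476 (BT.node 474 (BT.node 473 (BT.leaf cE473) (BT.leaf cE474)) (BT.node 475 (BT.leaf cE475) (BT.leaf cE476))) (BT.node 478 (BT.node 477 (BT.leaf cE477) (BT.leaf cE478)) (BT.leaf cE479))) (BT.node 483 (BT.node 481 (BT.node 480 (BT.leaf cE480) (BT.leaf cE481)) (BT.node 482 (BT.leaf cE482) (BT.leaf cE483))) (BT.node 485 (BT.node 484 (BT.leaf cE484) (BT.leaf cE485)) (BT.leaf cE486)))) (BT.node 493 (BT.node 490 (BT.node 488 (BT.node 487 (BT.leaf cE487) (BT.leaf cE488)) (BT.node 489 (BT.leaf cE489) (BT.leaf cE490))) (BT.node 492 (BT.node 491 (BT.leaf cE491) (BT.leaf cE492)) (BT.leaf cE493))) (BT.node 497 (BT.node 495 (BT.node 494 (BT.leaf cE494) (BT.leaf cE495)) (BT.node 496 (BT.leaf cE496) (BT.leaf cE497))) (BT.node 499 (BT.node 498 (BT.leaf cE498) (BT.leaf cE499)) (BT.leaf cE500)))))) (BT.node 528 (BT.node 514 (BT.node 507 (BT.node 504 (BT.node 502 (BT.node 501 (BT.leaf cE501) (BT.leaf cE502)) (BT.node 503 (BT.leaf cE503) (BT.leaf cE504))) (BT.node 506 (BT.node 505 (BT.leaf cE505) (BT.leaf cE506)) (BT.leaf cE507))) (BT.node 511 (BT.node 509 (BT.node 508 (BT.leaf cE508) (BT.leaf cE509)) (BT.node 510 (BT.leaf cE510) (BT.leaf cE511))) (BT.node 513 (BT.node 512 (BT.leaf cE512) (BT.leaf cE513)) (BT.leaf cE514)))) (BT.node 521 (BT.node 518 (BT.node 516 (BT.node 515 (BT.leaf cE515) (BT.leaf cE516)) (BT.node 517 (BT.leaf cE517) (BT.leaf cE518))) (BT.node 520 (BT.node 519 (BT.leaf cE519) (BT.leaf cE520)) (BT.leaf cE521))) (BT.node 525 (BT.node 523 (BT.node 522 (BT.leaf cE522) (BT.leaf cE523)) (BT.node 524 (BT.leaf cE524) (BT.leaf cE525))) (BT.node 527 (BT.node 526 (BT.leaf cE526) (BT.leaf cE527)) (BT.leaf cE528))))) (BT.node 542 (BT.node 535 (BT.node 532 (BT.node 530 (BT.node 529 (BT.leaf cE529) (BT.leaf cE530)) (BT.node 531 (BT.leaf cE531) (BT.leaf cE532))) (BT.node 534 (BT.node 533 (BT.leaf cE533) (BT.leaf cE534)) (BT.leaf cE535))) (BT.node 539 (BT.node 537 (BT.node 536 (BT.leaf cE536) (BT.leaf cE537)) (BT.node 538 (BT.leaf cE538) (BT.leaf cE539))) (BT.node 541 (BT.node 540 (BT.leaf cE540) (BT.leaf cE541)) (BT.leaf cE542)))) (BT.node 549 (BT.node 546 (BT.node 544 (BT.node 543 (BT.leaf cE543) (BT.leaf cE544)) (BT.node 545 (BT.leaf cE545) (BT.leaf cE546))) (BT.node 548 (BT.node 547 (BT.leaf cE547) (BT.leaf cE548)) (BT.leaf cE549))) (BT.node 552 (BT.node 551 (BT.node 550 (BT.leaf cE550) (BT.leaf cE551)) (BT.leaf cE552)) (BT.node 554 (BT.node 553 (BT.leaf cE553) (BT.leaf cE554)) (BT.leaf cE555))))))) (BT.node 611 (BT.node 583 (BT.node 569 (BT.node 562 (BT.node 559 (BT.node 557 (BT.node 556 (BT.leaf cE556) (BT.leaf cE557)) (BT.node 558 (BT.leaf cE558) (BT.leaf cE559))) (BT.node 561 (BT.node 560 (BT.leaf cE560) (BT.leaf cE561)) (BT.leaf cE562))) (BT.node 566 (BT.node 564 (BT.node 563 (BT.leaf cE563) (BT.leaf cE564)) (BT.node 565 (BT.leaf cE565) (BT.leaf cE566))) (BT.node 568 (BT.node 567 (BT.leaf cE567) (BT.leaf cE568)) (BT.leaf cE569)))) (BT.node 576 (BT.node 573 (BT.node 571 (BT.node 570 (BT.leaf cE570) (BT.leaf cE571)) (BT.node 572 (BT.leaf cE572) (BT.leaf cE573))) (BT.node 575 (BT.node 574 (BT.leaf cE574) (BT.leaf cE575)) (BT.leaf cE576))) (BT.node 580 (BT.node 578 (BT.node 577 (BT.leaf cE577) (BT.leaf cE578)) (BT.node 579 (BT.leaf cE579) (BT.leaf cE580))) (BT.node 582 (BT.node 581 (BT.leaf cE581) (BT.leaf cE582)) (BT.leaf cE583))))) (BT.node 597 (BT.node 590 (BT.node 587 (BT.node 585 (BT.node 584 (BT.leaf cE584) (BT.leaf cE585)) (BT.node 586 (BT.leaf cE586) (BT.leaf cE587))) (BT.node 589 (BT.node 588 (BT.leaf cE588) (BT.leaf cE589)) (BT.leaf cE590))) (BT.node 594 (BT.node 592 (BT.node 591 (BT.leaf cE591) (BT.leaf cE592)) (BT.node 593 (BT.leaf cE593) (BT.leaf cE594))) (BT.node 596 (BT.node 595 (BT.leaf cE595) (BT.leaf cE596)) (BT.leaf cE597)))) (BT.node 604 (BT.node 601 (BT.node 599 (BT.node 598 (BT.leaf cE598) (BT.leaf cE599)) (BT.node 600 (BT.leaf cE600) (BT.leaf cE601))) (BT.node 603 (BT.node 602 (BT.leaf cE602) (BT.leaf cE603)) (BT.leaf cE604))) (BT.node 608 (BT.node 606 (BT.node 605 (BT.leaf cE605) (BT.leaf cE606)) (BT.node 607 (BT.leaf cE607) (BT.leaf cE608))) (BT.node 610 (BT.node 609 (BT.leaf cE609) (BT.leaf cE610)) (BT.leaf cE611)))))) (BT.node 639 (BT.node 625 (BT.node 618 (BT.node 615 (BT.node 613 (BT.node 612 (BT.leaf cE612) (BT.leaf cE613)) (BT.node 614 (BT.leaf cE614) (BT.leaf cE615))) (BT.node 617 (BT.node 616 (BT.leaf cE616) (BT.leaf cE617)) (BT.leaf cE618))) (BT.node 622 (BT.node 620 (BT.node 619 (BT.leaf cE619) (BT.leaf cE620)) (BT.node 621 (BT.leaf cE621) (BT.leaf cE622))) (BT.node 624 (BT.node 623 (BT.leaf cE623) (BT.leaf cE624)) (BT.leaf cE625)))) (BT.node 632 (BT.node 629 (BT.node 627 (BT.node 626 (BT.leaf cE626) (BT.leaf cE627)) (BT.node 628 (BT.leaf cE628) (BT.leaf cE629))) (BT.node 631 (BT.node 630 (BT.leaf cE630) (BT.leaf cE631)) (BT.leaf cE632))) (BT.node 636 (BT.node 634 (BT.node 633 (BT.leaf cE633) (BT.leaf cE634)) (BT.node 635 (BT.leaf cE635) (BT.leaf cE636))) (BT.node 638 (BT.node 637 (BT.leaf cE637) (BT.leaf cE638)) (BT.leaf cE639))))) (BT.node 653 (BT.node 646 (BT.node 643 (BT.node 641 (BT.node 640 (BT.leaf cE640) (BT.leaf cE641)) (BT.node 642 (BT.leaf cE642) (BT.leaf cE643))) (BT.node 645 (BT.node 644 (BT.leaf cE644) (BT.leaf cE645)) (BT.leaf cE646))) (BT.node 650 (BT.node 648 (BT.node 647 (BT.leaf cE647) (BT.leaf cE648)) (BT.node 649 (BT.leaf cE649) (BT.leaf cE650))) (BT.node 652 (BT.node 651 (BT.leaf cE651) (BT.leaf cE652)) (BT.leaf cE653)))) (BT.node 660 (BT.node 657 (BT.node 655 (BT.node 654 (BT.leaf cE654) (BT.leaf cE655)) (BT.node 656 (BT.leaf cE656) (BT.leaf cE657))) (BT.node 659 (BT.node 658 (BT.leaf cE658) (BT.leaf cE659)) (BT.leaf cE660))) (BT.node 663 (BT.node 662 (BT.node 661 (BT.leaf cE661) (BT.leaf cE662)) (BT.leaf cE663)) (BT.node 665 (BT.node 664 (BT.leaf cE664) (BT.leaf cE665)) (BT.leaf cE666)))))))) (BT.node 777 (BT.node 722 (BT.node 694 (BT.node 680 (BT.node 673 (BT.node 670 (BT.node 668 (BT.node 667 (BT.leaf cE667) (BT.leaf cE668)) (BT.node 669 (BT.leaf cE669) (BT.leaf cE670))) (BT.node 672 (BT.node 671 (BT.leaf cE671) (BT.leaf cE672)) (BT.leaf cE673))) (BT.node 677 (BT.node 675 (BT.node 674 (BT.leaf cE674) (BT.leaf cE675)) (BT.node 676 (BT.leaf cE676) (BT.leaf cE677))) (BT.node 679 (BT.node 678 (BT.leaf cE678) (BT.leaf cE679)) (BT.leaf cE680)))) (BT.node 687 (BT.node 684 (BT.node 682 (BT.node 681 (BT.leaf cE681) (BT.leaf cE682)) (BT.node 683 (BT.leaf cE683) (BT.leaf cE684))) (BT.node 686 (BT.node 685 (BT.leaf cE685) (BT.leaf cE686)) (BT.leaf cE687))) (BT.node 691 (BT.node 689 (BT.node 688 (BT.leaf cE688) (BT.leaf cE689)) (BT.node 690 (BT.leaf cE690) (BT.leaf cE691))) (BT.node 693 (BT.node 692 (BT.leaf cE692) (BT.leaf cE693)) (BT.leaf cE694))))) (BT.node 708 (BT.node 701 (BT.node 698 (BT.node 696 (BT.node 695 (BT.leaf cE695) (BT.leaf cE696)) (BT.node 697 (BT.leaf cE697) (BT.leaf cE698))) (BT.node 700 (BT.node 699 (BT.leaf cE699) (BT.leaf cE700)) (BT.leaf cE701))) (BT.node 705 (BT.node 703 (BT.node 702 (BT.leaf cE702) (BT.leaf cE703)) (BT.node 704 (BT.leaf cE704) (BT.leaf cE705))) (BT.node 707 (BT.node 706 (BT.leaf cE706) (BT.leaf cE707)) (BT.leaf cE708)))) (BT.node 715 (BT.node 712 (BT.node 710 (BT.node 709 (BT.leaf cE709) (BT.leaf cE710)) (BT.node 711 (BT.leaf cE711) (BT.leaf cE712))) (BT.node 714 (BT.node 713 (BT.leaf cE713) (BT.leaf cE714)) (BT.leaf cE715))) (BT.node 719 (BT.node 717 (BT.node 716 (BT.leaf cE716) (BT.leaf cE717)) (BT.node 718 (BT.leaf cE718) (BT.leaf cE719))) (BT.node 721 (BT.node 720 (BT.leaf cE720) (BT.leaf cE721)) (BT.leaf cE722)))))) (BT.node 750 (BT.node 736 (BT.node 729 (BT.node 726 (BT.node 724 (BT.node 723 (BT.leaf cE723) (BT.leaf cE724)) (BT.node 725 (BT.leaf cE725) (BT.leaf cE726))) (BT.node 728 (BT.node 727 (BT.leaf cE727) (BT.leaf cE728)) (BT.leaf cE729))) (BT.node 733 (BT.node 731 (BT.node 730 (BT.leaf cE730) (BT.leaf cE731)) (BT.node 732 (BT.leaf cE732) (BT.leaf cE733))) (BT.node 735 (BT.node 734 (BT.leaf cE734) (BT.leaf cE735)) (BT.leaf cE736)))) (BT.node 743 (BT.node 740 (BT.node 738 (BT.node 737 (BT.leaf cE737) (BT.leaf cE738)) (BT.node 739 (BT.leaf cE739) (BT.leaf cE740))) (BT.node 742 (BT.node 741 (BT.leaf cE741) (BT.leaf cE742)) (BT.leaf cE743))) (BT.node 747 (BT.node 745 (BT.node 744 (BT.leaf cE744) (BT.leaf cE745)) (BT.node 746 (BT.leaf cE746) (BT.leaf cE747))) (BT.node 749 (BT.node 748 (BT.leaf cE748) (BT.leaf cE749)) (BT.leaf cE750))))) (BT.node 764 (BT.node 757 (BT.node 754 (BT.node 752 (BT.node 751 (BT.leaf cE751) (BT.leaf cE752)) (BT.node 753 (BT.leaf cE753) (BT.leaf cE754))) (BT.node 756 (BT.node 755 (BT.leaf cE755) (BT.leaf cE756)) (BT.leaf cE757))) (BT.node 761 (BT.node 759 (BT.node 758 (BT.leaf cE758) (BT.leaf cE759)) (BT.node 760 (BT.leaf cE760) (BT.leaf cE761))) (BT.node 763 (BT.node 762 (BT.leaf cE762) (BT.leaf cE763)) (BT.leaf cE764)))) (BT.node 771 (BT.node 768 (BT.node 766 (BT.node 765 (BT.leaf cE765) (BT.leaf cE766)) (BT.node 767 (BT.leaf cE767) (BT.leaf cE768))) (BT.node 770 (BT.node 769 (BT.leaf cE769) (BT.leaf cE770)) (BT.leaf cE771))) (BT.node 774 (BT.node 773 (BT.node 772 (BT.leaf cE772) (BT.leaf cE773)) (BT.leaf cE774)) (BT.node 776 (BT.node 775 (BT.leaf cE775) (BT.leaf cE776)) (BT.leaf cE777))))))) (BT.node 833 (BT.node 805 (BT.node 791 (BT.node 784 (BT.node 781 (BT.node 779 (BT.node 778 (BT.leaf cE778) (BT.leaf cE779)) (BT.node 780 (BT.leaf cE780) (BT.leaf cE781))) (BT.node 783 (BT.node 782 (BT.leaf cE782) (BT.leaf cE783)) (BT.leaf cE784))) (BT.node 788 (BT.node 786 (BT.node 785 (BT.leaf cE785) (BT.leaf cE786)) (BT.node 787 (BT.leaf cE787) (BT.leaf cE788))) (BT.node 790 (BT.node 789 (BT.leaf cE789) (BT.leaf cE790)) (BT.leaf cE791)))) (BT.node 798 (BT.node 795 (BT.node 793 (BT.node 792 (BT.leaf cE792) (BT.leaf cE793)) (BT.node 794 (BT.leaf cE794) (BT.leaf cE795))) (BT.node 797 (BT.node 796 (BT.leaf cE796) (BT.leaf cE797)) (BT.leaf cE798))) (BT.node 802 (BT.node 800 (BT.node 799 (BT.leaf cE799) (BT.leaf cE800)) (BT.node 801 (BT.leaf cE801) (BT.leaf cE802))) (BT.node 804 (BT.node 803 (BT.leaf cE803) (BT.leaf cE804)) (BT.leaf cE805))))) (BT.node 819 (BT.node 812 (BT.node 809 (BT.node 807 (BT.node 806 (BT.leaf cE806) (BT.leaf cE807)) (BT.node 808 (BT.leaf cE808) (BT.leaf cE809))) (BT.node 811 (BT.node 810 (BT.leaf cE810) (BT.leaf cE811)) (BT.leaf cE812))) (BT.node 816 (BT.node 814 (BT.node 813 (BT.leaf cE813) (BT.leaf cE814)) (BT.node 815 (BT.leaf cE815) (BT.leaf cE816))) (BT.node 818 (BT.node 817 (BT.leaf cE817) (BT.leaf cE818)) (BT.leaf cE819)))) (BT.node 826 (BT.node 823 (BT.node 821 (BT.node 820 (BT.leaf cE820) (BT.leaf cE821)) (BT.node 822 (BT.leaf cE822) (BT.leaf cE823))) (BT.node 825 (BT.node 824 (BT.leaf cE824) (BT.leaf cE825)) (BT.leaf cE826))) (BT.node 830 (BT.node 828 (BT.node 827 (BT.leaf cE827) (BT.leaf cE828)) (BT.node 829 (BT.leaf cE829) (BT.leaf cE830))) (BT.node 832 (BT.node 831 (BT.leaf cE831) (BT.leaf cE832)) (BT.leaf cE833)))))) (BT.node 861 (BT.node 847 (BT.node 840 (BT.node 837 (BT.node 835 (BT.node 834 (BT.leaf cE834) (BT.leaf cE835)) (BT.node 836 (BT.leaf cE836) (BT.leaf cE837))) (BT.node 839 (BT.node 838 (BT.leaf cE838) (BT.leaf cE839)) (BT.leaf cE840))) (BT.node 844 (BT.node 842 (BT.node 841 (BT.leaf cE841) (BT.leaf cE842)) (BT.node 843 (BT.leaf cE843) (BT.leaf cE844))) (BT.node 846 (BT.node 845 (BT.leaf cE845) (BT.leaf cE846)) (BT.leaf cE847)))) (BT.node 854 (BT.node 851 (BT.node 849 (BT.node 848 (BT.leaf cE848) (BT.leaf cE849)) (BT.node 850 (BT.leaf cE850) (BT.leaf cE851))) (BT.node 853 (BT.node 852 (BT.leaf cE852) (BT.leaf cE853)) (BT.leaf cE854))) (BT.node 858 (BT.node 856 (BT.node 855 (BT.leaf cE855) (BT.leaf cE856)) (BT.node 857 (BT.leaf cE857) (BT.leaf cE858))) (BT.node 860 (BT.node 859 (BT.leaf cE859) (BT.leaf cE860)) (BT.leaf cE861))))) (BT.node 875 (BT.node 868 (BT.node 865 (BT.node 863 (BT.node 862 (BT.leaf cE862) (BT.leaf cE863)) (BT.node 864 (BT.leaf cE864) (BT.leaf cE865))) (BT.node 867 (BT.node 866 (BT.leaf cE866) (BT.leaf cE867)) (BT.leaf cE868))) (BT.node 872 (BT.node 870 (BT.node 869 (BT.leaf cE869) (BT.leaf cE870)) (BT.node 871 (BT.leaf cE871) (BT.leaf cE872))) (BT.node 874 (BT.node 873 (BT.leaf cE873) (BT.leaf cE874)) (BT.leaf cE875)))) (BT.node 882 (BT.node 879 (BT.node 877 (BT.node 876 (BT.leaf cE876) (BT.leaf cE877)) (BT.node 878 (BT.leaf cE878) (BT.leaf cE879))) (BT.node 881 (BT.node 880 (BT.leaf cE880) (BT.leaf cE881)) (BT.leaf cE882))) (BT.node 885 (BT.node 884 (BT.node 883 (BT.leaf cE883) (BT.leaf cE884)) (BT.leaf cE885)) (BT.node 887 (BT.node 886 (BT.leaf cE886) (BT.leaf cE887)) (BT.leaf cE888)))))))))) (BT.node 1332 (BT.node 1110 (BT.node 999 (BT.node 944 (BT.node 916 (BT.node 902 (BT.node 895 (BT.node 892 (BT.node 890 (BT.node 889 (BT.leaf cE889) (BT.leaf cE890)) (BT.node 891 (BT.leaf cE891) (BT.leaf cE892))) (BT.node 894 (BT.node 893 (BT.leaf cE893) (BT.leaf cE894)) (BT.leaf cE895))) (BT.node 899 (BT.node 897 (BT.node 896 (BT.leaf cE896) (BT.leaf cE897)) (BT.node 898 (BT.leaf cE898) (BT.leaf cE899))) (BT.node 901 (BT.node 900 (BT.leaf cE900) (BT.leaf cE901)) (BT.leaf cE902)))) (BT.node 909 (BT.node 906 (BT.node 904 (BT.node 903 (BT.leaf cE903) (BT.leaf cE904)) (BT.node 905 (BT.leaf cE905) (BT.leaf cE906))) (BT.node 908 (BT.node 907 (BT.leaf cE907) (BT.leaf cE908)) (BT.leaf cE909))) (BT.node 913 (BT.node 911 (BT.node 910 (BT.leaf cE910) (BT.leaf cE911)) (BT.node 912 (BT.leaf cE912) (BT.leaf cE913))) (BT.node 915 (BT.node 914 (BT.leaf cE914) (BT.leaf cE915)) (BT.leaf cE916))))) (BT.node 930 (BT.node 923 (BT.node 920 (BT.node 918 (BT.node 917 (BT.leaf cE917) (BT.leaf cE918)) (BT.node 919 (BT.leaf cE919) (BT.leaf cE920))) (BT.node 922 (BT.node 921 (BT.leaf cE921) (BT.leaf cE922)) (BT.leaf cE923))) (BT.node 927 (BT.node 925 (BT.node 924 (BT.leaf cE924) (BT.leaf cE925)) (BT.node 926 (BT.leaf cE926) (BT.leaf cE927))) (BT.node 929 (BT.node 928 (BT.leaf cE928) (BT.leaf cE929)) (BT.leaf cE930)))) (BT.node 937 (BT.node 934 (BT.node 932 (BT.node 931 (BT.leaf cE931) (BT.leaf cE932)) (BT.node 933 (BT.leaf cE933) (BT.leaf cE934))) (BT.node 936 (BT.node 935 (BT.leaf cE935) (BT.leaf cE936)) (BT.leaf cE937))) (BT.node 941 (BT.node 939 (BT.node 938 (BT.leaf cE938) (BT.leaf cE939)) (BT.node 940 (BT.leaf cE940) (BT.leaf cE941))) (BT.node 943 (BT.node 942 (BT.leaf cE942) (BT.leaf cE943)) (BT.leaf cE944)))))) (BT.node 972 (BT.node 958 (BT.node 951 (BT.node 948 (BT.node 946 (BT.node 945 (BT.leaf cE945) (BT.leaf cE946)) (BT.node 947 (BT.leaf cE947) (BT.leaf cE948))) (BT.node 950 (BT.node 949 (BT.leaf cE949) (BT.leaf cE950)) (BT.leaf cE951))) (BT.node 955 (BT.node 953 (BT.node 952 (BT.leaf cE952) (BT.leaf cE953)) (BT.node 954 (BT.leaf cE954) (BT.leaf cE955))) (BT.node 957 (BT.node 956 (BT.leaf cE956) (BT.leaf cE957)) (BT.leaf cE958)))) (BT.node 965 (BT.node 962 (BT.node 960 (BT.node 959 (BT.leaf cE959) (BT.leaf cE960)) (BT.node 961 (BT.leaf cE961) (BT.leaf cE962))) (BT.node 964 (BT.node 963 (BT.leaf cE963) (BT.leaf cE964)) (BT.leaf cE965))) (BT.node 969 (BT.node 967 (BT.node 966 (BT.leaf cE966) (BT.leaf cE967)) (BT.node 968 (BT.leaf cE968) (BT.leaf cE969))) (BT.node 971 (BT.node 970 (BT.leaf cE970) (BT.leaf cE971)) (BT.leaf cE972))))) (BT.node 986 (BT.node 979 (BT.node 976 (BT.node 974 (BT.node 973 (BT.leaf cE973) (BT.leaf cE974)) (BT.node 975 (BT.leaf cE975) (BT.leaf cE976))) (BT.node 978 (BT.node 977 (BT.leaf cE977) (BT.leaf cE978)) (BT.leaf cE979))) (BT.node 983 (BT.node 981 (BT.node 980 (BT.leaf cE980) (BT.leaf cE981)) (BT.node 982 (BT.leaf cE982) (BT.leaf cE983))) (BT.node 985 (BT.node 984 (BT.leaf cE984) (BT.leaf cE985)) (BT.leaf cE986)))) (BT.node 993 (BT.node 990 (BT.node 988 (BT.node 987 (BT.leaf cE987) (BT.leaf cE988)) (BT.node 989 (BT.leaf cE989) (BT.leaf cE990))) (BT.node 992 (BT.node 991 (BT.leaf cE991) (BT.leaf cE992)) (BT.leaf cE993))) (BT.node 996 (BT.node 995 (BT.node 994 (BT.leaf cE994) (BT.leaf cE995)) (BT.leaf cE996)) (BT.node 998 (BT.node 997 (BT.leaf cE997) (BT.leaf cE998)) (BT.leaf cE999))))))) (BT.node 1055 (BT.node 1027 (BT.node 1013 (BT.node 1006 (BT.node 1003 (BT.node 1001 (BT.node 1000 (BT.leaf cE1000) (BT.leaf cE1001)) (BT.node 1002 (BT.leaf cE1002) (BT.leaf cE1003))) (BT.node 1005 (BT.node 1004 (BT.leaf cE1004) (BT.leaf cE1005)) (BT.leaf cE1006))) (BT.node 1010 (BT.node 1008 (BT.node 1007 (BT.leaf cE1007) (BT.leaf cE1008)) (BT.node 1009 (BT.leaf cE1009) (BT.leaf cE1010))) (BT.node 1012 (BT.node 1011 (BT.leaf cE1011) (BT.leaf cE1012)) (BT.leaf cE1013)))) (BT.node 1020 (BT.node 1017 (BT.node 1015 (BT.node 1014 (BT.leaf cE1014) (BT.leaf cE1015)) (BT.node 1016 (BT.leaf cE1016) (BT.leaf cE1017))) (BT.node 1019 (BT.node 1018 (BT.leaf cE1018) (BT.leaf cE1019)) (BT.leaf cE1020))) (BT.node 1024 (BT.node 1022 (BT.node 1021 (BT.leaf cE1021) (BT.leaf cE1022)) (BT.node 1023 (BT.leaf cE1023) (BT.leaf cE1024))) (BT.node 1026 (BT.node 1025 (BT.leaf cE1025) (BT.leaf cE1026)) (BT.leaf cE1027))))) (BT.node 1041 (BT.node 1034 (BT.node 1031 (BT.node 1029 (BT.node 1028 (BT.leaf cE1028) (BT.leaf cE1029)) (BT.node 1030 (BT.leaf cE1030) (BT.leaf cE1031))) (BT.node 1033 (BT.node 1032 (BT.leaf cE1032) (BT.leaf cE1033)) (BT.leaf cE1034))) (BT.node 1038 (BT.node 1036 (BT.node 1035 (BT.leaf cE1035) (BT.leaf cE1036)) (BT.node 1037 (BT.leaf cE1037) (BT.leaf cE1038))) (BT.node 1040 (BT.node 1039 (BT.leaf cE1039) (BT.leaf cE1040)) (BT.leaf cE1041)))) (BT.node 1048 (BT.node 1045 (BT.node 1043 (BT.node 1042 (BT.leaf cE1042) (BT.leaf cE1043)) (BT.node 1044 (BT.leaf cE1044) (BT.leaf cE1045))) (BT.node 1047 (BT.node 1046 (BT.leaf cE1046) (BT.leaf cE1047)) (BT.leaf cE1048))) (BT.node 1052 (BT.node 1050 (BT.node 1049 (BT.leaf cE1049) (BT.leaf cE1050)) (BT.node 1051 (BT.leaf cE1051) (BT.leaf cE1052))) (BT.node 1054 (BT.node 1053 (BT.leaf cE1053) (BT.leaf cE1054)) (BT.leaf cE1055)))))) (BT.node 1083 (BT.node 1069 (BT.node 1062 (BT.node 1059 (BT.node 1057 (BT.node 1056 (BT.leaf cE1056) (BT.leaf cE1057)) (BT.node 1058 (BT.leaf cE1058) (BT.leaf cE1059))) (BT.node 1061 (BT.node 1060 (BT.leaf cE1060) (BT.leaf cE1061)) (BT.leaf cE1062))) (BT.node 1066 (BT.node 1064 (BT.node 1063 (BT.leaf cE1063) (BT.leaf cE1064)) (BT.node 1065 (BT.leaf cE1065) (BT.leaf cE1066))) (BT.node 1068 (BT.node 1067 (BT.leaf cE1067) (BT.leaf cE1068)) (BT.leaf cE1069)))) (BT.node 1076 (BT.node 1073 (BT.node 1071 (BT.node 1070 (BT.leaf cE1070) (BT.leaf cE1071)) (BT.node 1072 (BT.leaf cE1072) (BT.leaf cE1073))) (BT.node 1075 (BT.node 1074 (BT.leaf cE1074) (BT.leaf cE1075)) (BT.leaf cE1076))) (BT.node 1080 (BT.node 1078 (BT.node 1077 (BT.leaf cE1077) (BT.leaf cE1078)) (BT.node 1079 (BT.leaf cE1079) (BT.leaf cE1080))) (BT.node 1082 (BT.node 1081 (BT.leaf cE1081) (BT.leaf cE1082)) (BT.leaf cE1083))))) (BT.node 1097 (BT.node 1090 (BT.node 1087 (BT.node 1085 (BT.node 1084 (BT.leaf cE1084) (BT.leaf cE1085)) (BT.node 1086 (BT.leaf cE1086) (BT.leaf cE1087))) (BT.node 1089 (BT.node 1088 (BT.leaf cE1088) (BT.leaf cE1089)) (BT.leaf cE1090))) (BT.node 1094 (BT.node 1092 (BT.node 1091 (BT.leaf cE1091) (BT.leaf cE1092)) (BT.node 1093 (BT.leaf cE1093) (BT.leaf cE1094))) (BT.node 1096 (BT.node 1095 (BT.leaf cE1095) (BT.leaf cE1096)) (BT.leaf cE1097)))) (BT.node 1104 (BT.node 1101 (BT.node 1099 (BT.node 1098 (BT.leaf cE1098) (BT.leaf cE1099)) (BT.node 1100 (BT.leaf cE1100) (BT.leaf cE1101))) (BT.node 1103 (BT.node 1102 (BT.leaf cE1102) (BT.leaf cE1103)) (BT.leaf cE1104))) (BT.node 1107 (BT.node 1106 (BT.node 1105 (BT.leaf cE1105) (BT.leaf cE1106)) (BT.leaf cE1107)) (BT.node 1109 (BT.node 1108 (BT.leaf cE1108) (BT.leaf cE1109)) (BT.leaf cE1110)))))))) (BT.node 1221 (BT.node 1166 (BT.node 1138 (BT.node 1124 (BT.node 1117 (BT.node 1114 (BT.node 1112 (BT.node 1111 (BT.leaf cE1111) (BT.leaf cE1112)) (BT.node 1113 (BT.leaf cE1113) (BT.leaf cE1114))) (BT.node 1116 (BT.node 1115 (BT.leaf cE1115) (BT.leaf cE1116)) (BT.leaf cE1117))) (BT.node 1121 (BT.node 1119 (BT.node 1118 (BT.leaf cE1118) (BT.leaf cE1119)) (BT.node 1120 (BT.leaf cE1120) (BT.leaf cE1121))) (BT.node 1123 (BT.node 1122 (BT.leaf cE1122) (BT.leaf cE1123)) (BT.leaf cE1124)))) (BT.node 1131 (BT.node 1128 (BT.node 1126 (BT.node 1125 (BT.leaf cE1125) (BT.leaf cE1126)) (BT.node 1127 (BT.leaf cE1127) (BT.leaf cE1128))) (BT.node 1130 (BT.node 1129 (BT.leaf cE1129) (BT.leaf cE1130)) (BT.leaf cE1131))) (BT.node 1135 (BT.node 1133 (BT.node 1132 (BT.leaf cE1132) (BT.leaf cE1133)) (BT.node 1134 (BT.leaf cE1134) (BT.leaf cE1135))) (BT.node 1137 (BT.node 1136 (BT.leaf cE1136) (BT.leaf cE1137)) (BT.leaf cE1138))))) (BT.node 1152 (BT.node 1145 (BT.node 1142 (BT.node 1140 (BT.node 1139 (BT.leaf cE1139) (BT.leaf cE1140)) (BT.node 1141 (BT.leaf cE1141) (BT.leaf cE1142))) (BT.node 1144 (BT.node 1143 (BT.leaf cE1143) (BT.leaf cE1144)) (BT.leaf cE1145))) (BT.node 1149 (BT.node 1147 (BT.node 1146 (BT.leaf cE1146) (BT.leaf cE1147)) (BT.node 1148 (BT.leaf cE1148) (BT.leaf cE1149))) (BT.node 1151 (BT.node 1150 (BT.leaf cE1150) (BT.leaf cE1151)) (BT.leaf cE1152)))) (BT.node 1159 (BT.node 1156 (BT.node 1154 (BT.node 1153 (BT.leaf cE1153) (BT.leaf cE1154)) (BT.node 1155 (BT.leaf cE1155) (BT.leaf cE1156))) (BT.node 1158 (BT.node 1157 (BT.leaf cE1157) (BT.leaf cE1158)) (BT.leaf cE1159))) (BT.node 1163 (BT.node 1161 (BT.node 1160 (BT.leaf cE1160) (BT.leaf cE1161)) (BT.node 1162 (BT.leaf cE1162) (BT.leaf cE1163))) (BT.node 1165 (BT.node 1164 (BT.leaf cE1164) (BT.leaf cE1165)) (BT.leaf cE1166)))))) (BT.node 1194 (BT.node 1180 (BT.node 1173 (BT.node 1170 (BT.node 1168 (BT.node 1167 (BT.leaf cE1167) (BT.leaf cE1168)) (BT.node 1169 (BT.leaf cE1169) (BT.leaf cE1170))) (BT.node 1172 (BT.node 1171 (BT.leaf cE1171) (BT.leaf cE1172)) (BT.leaf cE1173))) (BT.node 1177 (BT.node 1175 (BT.node 1174 (BT.leaf cE1174) (BT.leaf cE1175)) (BT.node 1176 (BT.leaf cE1176) (BT.leaf cE1177))) (BT.node 1179 (BT.node 1178 (BT.leaf cE1178) (BT.leaf cE1179)) (BT.leaf cE1180)))) (BT.node 1187 (BT.node 1184 (BT.node 1182 (BT.node 1181 (BT.leaf cE1181) (BT.leaf cE1182)) (BT.node 1183 (BT.leaf cE1183) (BT.leaf cE1184))) (BT.node 1186 (BT.node 1185 (BT.leaf cE1185) (BT.leaf cE1186)) (BT.leaf cE1187))) (BT.node 1191 (BT.node 1189 (BT.node 1188 (BT.leaf cE1188) (BT.leaf cE1189)) (BT.node 1190 (BT.leaf cE1190) (BT.leaf cE1191))) (BT.node 1193 (BT.node 1192 (BT.leaf cE1192) (BT.leaf cE1193)) (BT.leaf cE1194))))) (BT.node 1208 (BT.node 1201 (BT.node 1198 (BT.node 1196 (BT.node 1195 (BT.leaf cE1195) (BT.leaf cE1196)) (BT.node 1197 (BT.leaf cE1197) (BT.leaf cE1198))) (BT.node 1200 (BT.node 1199 (BT.leaf cE1199) (BT.leaf cE1200)) (BT.leaf cE1201))) (BT.node 1205 (BT.node 1203 (BT.node 1202 (BT.leaf cE1202) (BT.leaf cE1203)) (BT.node 1204 (BT.leaf cE1204) (BT.leaf cE1205))) (BT.node 1207 (BT.node 1206 (BT.leaf cE1206) (BT.leaf cE1207)) (BT.leaf cE1208)))) (BT.node 1215 (BT.node 1212 (BT.node 1210 (BT.node 1209 (BT.leaf cE1209) (BT.leaf cE1210)) (BT.node 1211 (BT.leaf cE1211) (BT.leaf cE1212))) (BT.node 1214 (BT.node 1213 (BT.leaf cE1213) (BT.leaf cE1214)) (BT.leaf cE1215))) (BT.node 1218 (BT.node 1217 (BT.node 1216 (BT.leaf cE1216) (BT.leaf cE1217)) (BT.leaf cE1218)) (BT.node 1220 (BT.node 1219 (BT.leaf cE1219) (BT.leaf cE1220)) (BT.leaf cE1221))))))) (BT.node 1277 (BT.node 1249 (BT.node 1235 (BT.node 1228 (BT.node 1225 (BT.node 1223 (BT.node 1222 (BT.leaf cE1222) (BT.leaf cE1223)) (BT.node 1224 (BT.leaf cE1224) (BT.leaf cE1225))) (BT.node 1227 (BT.node 1226 (BT.leaf cE1226) (BT.leaf cE1227)) (BT.leaf cE1228))) (BT.node 1232 (BT.node 1230 (BT.node 1229 (BT.leaf cE1229) (BT.leaf cE1230)) (BT.node 1231 (BT.leaf cE1231) (BT.leaf cE1232))) (BT.node 1234 (BT.node 1233 (BT.leaf cE1233) (BT.leaf cE1234)) (BT.leaf cE1235)))) (BT.node 1242 (BT.node 1239 (BT.node 1237 (BT.node 1236 (BT.leaf cE1236) (BT.leaf cE1237)) (BT.node 1238 (BT.leaf cE1238) (BT.leaf cE1239))) (BT.node 1241 (BT.node 1240 (BT.leaf cE1240) (BT.leaf cE1241)) (BT.leaf cE1242))) (BT.node 1246 (BT.node 1244 (BT.node 1243 (BT.leaf cE1243) (BT.leaf cE1244)) (BT.node 1245 (BT.leaf cE1245) (BT.leaf cE1246))) (BT.node 1248 (BT.node 1247 (BT.leaf cE1247) (BT.leaf cE1248)) (BT.leaf cE1249))))) (BT.node 1263 (BT.node 1256 (BT.node 1253 (BT.node 1251 (BT.node 1250 (BT.leaf cE1250) (BT.leaf cE1251)) (BT.node 1252 (BT.leaf cE1252) (BT.leaf cE1253))) (BT.node 1255 (BT.node 1254 (BT.leaf cE1254) (BT.leaf cE1255)) (BT.leaf cE1256))) (BT.node 1260 (BT.node 1258 (BT.node 1257 (BT.leaf cE1257) (BT.leaf cE1258)) (BT.node 1259 (BT.leaf cE1259) (BT.leaf cE1260))) (BT.node 1262 (BT.node 1261 (BT.leaf cE1261) (BT.leaf cE1262)) (BT.leaf cE1263)))) (BT.node 1270 (BT.node 1267 (BT.node 1265 (BT.node 1264 (BT.leaf cE1264) (BT.leaf cE1265)) (BT.node 1266 (BT.leaf cE1266) (BT.leaf cE1267))) (BT.node 1269 (BT.node 1268 (BT.leaf cE1268) (BT.leaf cE1269)) (BT.leaf cE1270))) (BT.node 1274 (BT.node 1272 (BT.node 1271 (BT.leaf cE1271) (BT.leaf cE1272)) (BT.node 1273 (BT.leaf cE1273) (BT.leaf cE1274))) (BT.node 1276 (BT.node 1275 (BT.leaf cE1275) (BT.leaf cE1276)) (BT.leaf cE1277)))))) (BT.node 1305 (BT.node 1291 (BT.node 1284 (BT.node 1281 (BT.node 1279 (BT.node 1278 (BT.leaf cE1278) (BT.leaf cE1279)) (BT.node 1280 (BT.leaf cE1280) (BT.leaf cE1281))) (BT.node 1283 (BT.node 1282 (BT.leaf cE1282) (BT.leaf cE1283)) (BT.leaf cE1284))) (BT.node 1288 (BT.node 1286 (BT.node 1285 (BT.leaf cE1285) (BT.leaf cE1286)) (BT.node 1287 (BT.leaf cE1287) (BT.leaf cE1288))) (BT.node 1290 (BT.node 1289 (BT.leaf cE1289) (BT.leaf cE1290)) (BT.leaf cE1291)))) (BT.node 1298 (BT.node 1295 (BT.node 1293 (BT.node 1292 (BT.leaf cE1292) (BT.leaf cE1293)) (BT.node 1294 (BT.leaf cE1294) (BT.leaf cE1295))) (BT.node 1297 (BT.node 1296 (BT.leaf cE1296) (BT.leaf cE1297)) (BT.leaf cE1298))) (BT.node 1302 (BT.node 1300 (BT.node 1299 (BT.leaf cE1299) (BT.leaf cE1300)) (BT.node 1301 (BT.leaf cE1301) (BT.leaf cE1302))) (BT.node 1304 (BT.node 1303 (BT.leaf cE1303) (BT.leaf cE1304)) (BT.leaf cE1305))))) (BT.node 1319 (BT.node 1312 (BT.node 1309 (BT.node 1307 (BT.node 1306 (BT.leaf cE1306) (BT.leaf cE1307)) (BT.node 1308 (BT.leaf cE1308) (BT.leaf cE1309))) (BT.node 1311 (BT.node 1310 (BT.leaf cE1310) (BT.leaf cE1311)) (BT.leaf cE1312))) (BT.node 1316 (BT.node 1314 (BT.node 1313 (BT.leaf cE1313) (BT.leaf cE1314)) (BT.node 1315 (BT.leaf cE1315) (BT.leaf cE1316))) (BT.node 1318 (BT.node 1317 (BT.leaf cE1317) (BT.leaf cE1318)) (BT.leaf cE1319)))) (BT.node 1326 (BT.node 1323 (BT.node 1321 (BT.node 1320 (BT.leaf cE1320) (BT.leaf cE1321)) (BT.node 1322 (BT.leaf cE1322) (BT.leaf cE1323))) (BT.node 1325 (BT.node 1324 (BT.leaf cE1324) (BT.leaf cE1325)) (BT.leaf cE1326))) (BT.node 1329 (BT.node 1328 (BT.node 1327 (BT.leaf cE1327) (BT.leaf cE1328)) (BT.leaf cE1329)) (BT.node 1331 (BT.node 1330 (BT.leaf cE1330) (BT.leaf cE1331)) (BT.leaf cE1332))))))))) (BT.node 1554 (BT.node 1443 (BT.node 1388 (BT.node 1360 (BT.node 1346 (BT.node 1339 (BT.node 1336 (BT.node 1334 (BT.node 1333 (BT.leaf cE1333) (BT.leaf cE1334)) (BT.node 1335 (BT.leaf cE1335) (BT.leaf cE1336))) (BT.node 1338 (BT.node 1337 (BT.leaf cE1337) (BT.leaf cE1338)) (BT.leaf cE1339))) (BT.node 1343 (BT.node 1341 (BT.node 1340 (BT.leaf cE1340) (BT.leaf cE1341)) (BT.node 1342 (BT.leaf cE1342) (BT.leaf cE1343))) (BT.node 1345 (BT.node 1344 (BT.leaf cE1344) (BT.leaf cE1345)) (BT.leaf cE1346)))) (BT.node 1353 (BT.node 1350 (BT.node 1348 (BT.node 1347 (BT.leaf cE1347) (BT.leaf cE1348)) (BT.node 1349 (BT.leaf cE1349) (BT.leaf cE1350))) (BT.node 1352 (BT.node 1351 (BT.leaf cE1351) (BT.leaf cE1352)) (BT.leaf cE1353))) (BT.node 1357 (BT.node 1355 (BT.node 1354 (BT.leaf cE1354) (BT.leaf cE1355)) (BT.node 1356 (BT.leaf cE1356) (BT.leaf cE1357))) (BT.node 1359 (BT.node 1358 (BT.leaf cE1358) (BT.leaf cE1359)) (BT.leaf cE1360))))) (BT.node 1374 (BT.node 1367 (BT.node 1364 (BT.node 1362 (BT.node 1361 (BT.leaf cE1361) (BT.leaf cE1362)) (BT.node 1363 (BT.leaf cE1363) (BT.leaf cE1364))) (BT.node 1366 (BT.node 1365 (BT.leaf cE1365) (BT.leaf cE1366)) (BT.leaf cE1367))) (BT.node 1371 (BT.node 1369 (BT.node 1368 (BT.leaf cE1368) (BT.leaf cE1369)) (BT.node 1370 (BT.leaf cE1370) (BT.leaf cE1371))) (BT.node 1373 (BT.node 1372 (BT.leaf cE1372) (BT.leaf cE1373)) (BT.leaf cE1374)))) (BT.node 1381 (BT.node 1378 (BT.node 1376 (BT.node 1375 (BT.leaf cE1375) (BT.leaf cE1376)) (BT.node 1377 (BT.leaf cE1377) (BT.leaf cE1378))) (BT.node 1380 (BT.node 1379 (BT.leaf cE1379) (BT.leaf cE1380)) (BT.leaf cE1381))) (BT.node 1385 (BT.node 1383 (BT.node 1382 (BT.leaf cE1382) (BT.leaf cE1383)) (BT.node 1384 (BT.leaf cE1384) (BT.leaf cE1385))) (BT.node 1387 (BT.node 1386 (BT.leaf cE1386) (BT.leaf cE1387)) (BT.leaf cE1388)))))) (BT.node 1416 (BT.node 1402 (BT.node 1395 (BT.node 1392 (BT.node 1390 (BT.node 1389 (BT.leaf cE1389) (BT.leaf cE1390)) (BT.node 1391 (BT.leaf cE1391) (BT.leaf cE1392))) (BT.node 1394 (BT.node 1393 (BT.leaf cE1393) (BT.leaf cE1394)) (BT.leaf cE1395))) (BT.node 1399 (BT.node 1397 (BT.node 1396 (BT.leaf cE1396) (BT.leaf cE1397)) (BT.node 1398 (BT.leaf cE1398) (BT.leaf cE1399))) (BT.node 1401 (BT.node 1400 (BT.leaf cE1400) (BT.leaf cE1401)) (BT.leaf cE1402)))) (BT.node 1409 (BT.node 1406 (BT.node 1404 (BT.node 1403 (BT.leaf cE1403) (BT.leaf cE1404)) (BT.node 1405 (BT.leaf cE1405) (BT.leaf cE1406))) (BT.node 1408 (BT.node 1407 (BT.leaf cE1407) (BT.leaf cE1408)) (BT.leaf cE1409))) (BT.node 1413 (BT.node 1411 (BT.node 1410 (BT.leaf cE1410) (BT.leaf cE1411)) (BT.node 1412 (BT.leaf cE1412) (BT.leaf cE1413))) (BT.node 1415 (BT.node 1414 (BT.leaf cE1414) (BT.leaf cE1415)) (BT.leaf cE1416))))) (BT.node 1430 (BT.node 1423 (BT.node 1420 (BT.node 1418 (BT.node 1417 (BT.leaf cE1417) (BT.leaf cE1418)) (BT.node 1419 (BT.leaf cE1419) (BT.leaf cE1420))) (BT.node 1422 (BT.node 1421 (BT.leaf cE1421) (BT.leaf cE1422)) (BT.leaf cE1423))) (BT.node 1427 (BT.node 1425 (BT.node 1424 (BT.leaf cE1424) (BT.leaf cE1425)) (BT.node 1426 (BT.leaf cE1426) (BT.leaf cE1427))) (BT.node 1429 (BT.node 1428 (BT.leaf cE1428) (BT.leaf cE1429)) (BT.leaf cE1430)))) (BT.node 1437 (BT.node 1434 (BT.node 1432 (BT.node 1431 (BT.leaf cE1431) (BT.leaf cE1432)) (BT.node 1433 (BT.leaf cE1433) (BT.leaf cE1434))) (BT.node 1436 (BT.node 1435 (BT.leaf cE1435) (BT.leaf cE1436)) (BT.leaf cE1437))) (BT.node 1440 (BT.node 1439 (BT.node 1438 (BT.leaf cE1438) (BT.leaf cE1439)) (BT.leaf cE1440)) (BT.node 1442 (BT.node 1441 (BT.leaf cE1441) (BT.leaf cE1442)) (BT.leaf cE1443))))))) (BT.node 1499 (BT.node 1471 (BT.node 1457 (BT.node 1450 (BT.node 1447 (BT.node 1445 (BT.node 1444 (BT.leaf cE1444) (BT.leaf cE1445)) (BT.node 1446 (BT.leaf cE1446) (BT.leaf cE1447))) (BT.node 1449 (BT.node 1448 (BT.leaf cE1448) (BT.leaf cE1449)) (BT.leaf cE1450))) (BT.node 1454 (BT.node 1452 (BT.node 1451 (BT.leaf cE1451) (BT.leaf cE1452)) (BT.node 1453 (BT.leaf cE1453) (BT.leaf cE1454))) (BT.node 1456 (BT.node 1455 (BT.leaf cE1455) (BT.leaf cE1456)) (BT.leaf cE1457)))) (BT.node 1464 (BT.node 1461 (BT.node 1459 (BT.node 1458 (BT.leaf cE1458) (BT.leaf cE1459)) (BT.node 1460 (BT.leaf cE1460) (BT.leaf cE1461))) (BT.node 1463 (BT.node 1462 (BT.leaf cE1462) (BT.leaf cE1463)) (BT.leaf cE1464))) (BT.node 1468 (BT.node 1466 (BT.node 1465 (BT.leaf cE1465) (BT.leaf cE1466)) (BT.node 1467 (BT.leaf cE1467) (BT.leaf cE1468))) (BT.node 1470 (BT.node 1469 (BT.leaf cE1469) (BT.leaf cE1470)) (BT.leaf cE1471))))) (BT.node 1485 (BT.node 1478 (BT.node 1475 (BT.node 1473 (BT.node 1472 (BT.leaf cE1472) (BT.leaf cE1473)) (BT.node 1474 (BT.leaf cE1474) (BT.leaf cE1475))) (BT.node 1477 (BT.node 1476 (BT.leaf cE1476) (BT.leaf cE1477)) (BT.leaf cE1478))) (BT.node 1482 (BT.node 1480 (BT.node 1479 (BT.leaf cE1479) (BT.leaf cE1480)) (BT.node 1481 (BT.leaf cE1481) (BT.leaf cE1482))) (BT.node 1484 (BT.node 1483 (BT.leaf cE1483) (BT.leaf cE1484)) (BT.leaf cE1485)))) (BT.node 1492 (BT.node 1489 (BT.node 1487 (BT.node 1486 (BT.leaf cE1486) (BT.leaf cE1487)) (BT.node 1488 (BT.leaf cE1488) (BT.leaf cE1489))) (BT.node 1491 (BT.node 1490 (BT.leaf cE1490) (BT.leaf cE1491)) (BT.leaf cE1492))) (BT.node 1496 (BT.node 1494 (BT.node 1493 (BT.leaf cE1493) (BT.leaf cE1494)) (BT.node 1495 (BT.leaf cE1495) (BT.leaf cE1496))) (BT.node 1498 (BT.node 1497 (BT.leaf cE1497) (BT.leaf cE1498)) (BT.leaf cE1499)))))) (BT.node 1527 (BT.node 1513 (BT.node 1506 (BT.node 1503 (BT.node 1501 (BT.node 1500 (BT.leaf cE1500) (BT.leaf cE1501)) (BT.node 1502 (BT.leaf cE1502) (BT.leaf cE1503))) (BT.node 1505 (BT.node 1504 (BT.leaf cE1504) (BT.leaf cE1505)) (BT.leaf cE1506))) (BT.node 1510 (BT.node 1508 (BT.node 1507 (BT.leaf cE1507) (BT.leaf cE1508)) (BT.node 1509 (BT.leaf cE1509) (BT.leaf cE1510))) (BT.node 1512 (BT.node 1511 (BT.leaf cE1511) (BT.leaf cE1512)) (BT.leaf cE1513)))) (BT.node 1520 (BT.node 1517 (BT.node 1515 (BT.node 1514 (BT.leaf cE1514) (BT.leaf cE1515)) (BT.node 1516 (BT.leaf cE1516) (BT.leaf cE1517))) (BT.node 1519 (BT.node 1518 (BT.leaf cE1518) (BT.leaf cE1519)) (BT.leaf cE1520))) (BT.node 1524 (BT.node 1522 (BT.node 1521 (BT.leaf cE1521) (BT.leaf cE1522)) (BT.node 1523 (BT.leaf cE1523) (BT.leaf cE1524))) (BT.node 1526 (BT.node 1525 (BT.leaf cE1525) (BT.leaf cE1526)) (BT.leaf cE1527))))) (BT.node 1541 (BT.node 1534 (BT.node 1531 (BT.node 1529 (BT.node 1528 (BT.leaf cE1528) (BT.leaf cE1529)) (BT.node 1530 (BT.leaf cE1530) (BT.leaf cE1531))) (BT.node 1533 (BT.node 1532 (BT.leaf cE1532) (BT.leaf cE1533)) (BT.leaf cE1534))) (BT.node 1538 (BT.node 1536 (BT.node 1535 (BT.leaf cE1535) (BT.leaf cE1536)) (BT.node 1537 (BT.leaf cE1537) (BT.leaf cE1538))) (BT.node 1540 (BT.node 1539 (BT.leaf cE1539) (BT.leaf cE1540)) (BT.leaf cE1541)))) (BT.node 1548 (BT.node 1545 (BT.node 1543 (BT.node 1542 (BT.leaf cE1542) (BT.leaf cE1543)) (BT.node 1544 (BT.leaf cE1544) (BT.leaf cE1545))) (BT.node 1547 (BT.node 1546 (BT.leaf cE1546) (BT.leaf cE1547)) (BT.leaf cE1548))) (BT.node 1551 (BT.node 1550 (BT.node 1549 (BT.leaf cE1549) (BT.leaf cE1550)) (BT.leaf cE1551)) (BT.node 1553 (BT.node 1552 (BT.leaf cE1552) (BT.leaf cE1553)) (BT.leaf cE1554)))))))) (BT.node 1665 (BT.node 1610 (BT.node 1582 (BT.node 1568 (BT.node 1561 (BT.node 1558 (BT.node 1556 (BT.node 1555 (BT.leaf cE1555) (BT.leaf cE1556)) (BT.node 1557 (BT.leaf cE1557) (BT.leaf cE1558))) (BT.node 1560 (BT.node 1559 (BT.leaf cE1559) (BT.leaf cE1560)) (BT.leaf cE1561))) (BT.node 1565 (BT.node 1563 (BT.node 1562 (BT.leaf cE1562) (BT.leaf cE1563)) (BT.node 1564 (BT.leaf cE1564) (BT.leaf cE1565))) (BT.node 1567 (BT.node 1566 (BT.leaf cE1566) (BT.leaf cE1567)) (BT.leaf cE1568)))) (BT.node 1575 (BT.node 1572 (BT.node 1570 (BT.node 1569 (BT.leaf cE1569) (BT.leaf cE1570)) (BT.node 1571 (BT.leaf cE1571) (BT.leaf cE1572))) (BT.node 1574 (BT.node 1573 (BT.leaf cE1573) (BT.leaf cE1574)) (BT.leaf cE1575))) (BT.node 1579 (BT.node 1577 (BT.node 1576 (BT.leaf cE1576) (BT.leaf cE1577)) (BT.node 1578 (BT.leaf cE1578) (BT.leaf cE1579))) (BT.node 1581 (BT.node 1580 (BT.leaf cE1580) (BT.leaf cE1581)) (BT.leaf cE1582))))) (BT.node 1596 (BT.node 1589 (BT.node 1586 (BT.node 1584 (BT.node 1583 (BT.leaf cE1583) (BT.leaf cE1584)) (BT.node 1585 (BT.leaf cE1585) (BT.leaf cE1586))) (BT.node 1588 (BT.node 1587 (BT.leaf cE1587) (BT.leaf cE1588)) (BT.leaf cE1589))) (BT.node 1593 (BT.node 1591 (BT.node 1590 (BT.leaf cE1590) (BT.leaf cE1591)) (BT.node 1592 (BT.leaf cE1592) (BT.leaf cE1593))) (BT.node 1595 (BT.node 1594 (BT.leaf cE1594) (BT.leaf cE1595)) (BT.leaf cE1596)))) (BT.node 1603 (BT.node 1600 (BT.node 1598 (BT.node 1597 (BT.leaf cE1597) (BT.leaf cE1598)) (BT.node 1599 (BT.leaf cE1599) (BT.leaf cE1600))) (BT.node 1602 (BT.node 1601 (BT.leaf cE1601) (BT.leaf cE1602)) (BT.leaf cE1603))) (BT.node 1607 (BT.node 1605 (BT.node 1604 (BT.leaf cE1604) (BT.leaf cE1605)) (BT.node 1606 (BT.leaf cE1606) (BT.leaf cE1607))) (BT.node 1609 (BT.node 1608 (BT.leaf cE1608) (BT.leaf cE1609)) (BT.leaf cE1610)))))) (BT.node 1638 (BT.node 1624 (BT.node 1617 (BT.node 1614 (BT.node 1612 (BT.node 1611 (BT.leaf cE1611) (BT.leaf cE1612)) (BT.node 1613 (BT.leaf cE1613) (BT.leaf cE1614))) (BT.node 1616 (BT.node 1615 (BT.leaf cE1615) (BT.leaf cE1616)) (BT.leaf cE1617))) (BT.node 1621 (BT.node 1619 (BT.node 1618 (BT.leaf cE1618) (BT.leaf cE1619)) (BT.node 1620 (BT.leaf cE1620) (BT.leaf cE1621))) (BT.node 1623 (BT.node 1622 (BT.leaf cE1622) (BT.leaf cE1623)) (BT.leaf cE1624)))) (BT.node 1631 (BT.node 1628 (BT.node 1626 (BT.node 1625 (BT.leaf cE1625) (BT.leaf cE1626)) (BT.node 1627 (BT.leaf cE1627) (BT.leaf cE1628))) (BT.node 1630 (BT.node 1629 (BT.leaf cE1629) (BT.leaf cE1630)) (BT.leaf cE1631))) (BT.node 1635 (BT.node 1633 (BT.node 1632 (BT.leaf cE1632) (BT.leaf cE1633)) (BT.node 1634 (BT.leaf cE1634) (BT.leaf cE1635))) (BT.node 1637 (BT.node 1636 (BT.leaf cE1636) (BT.leaf cE1637)) (BT.leaf cE1638))))) (BT.node 1652 (BT.node 1645 (BT.node 1642 (BT.node 1640 (BT.node 1639 (BT.leaf cE1639) (BT.leaf cE1640)) (BT.node 1641 (BT.leaf cE1641) (BT.leaf cE1642))) (BT.node 1644 (BT.node 1643 (BT.leaf cE1643) (BT.leaf cE1644)) (BT.leaf cE1645))) (BT.node 1649 (BT.node 1647 (BT.node 1646 (BT.leaf cE1646) (BT.leaf cE1647)) (BT.node 1648 (BT.leaf cE1648) (BT.leaf cE1649))) (BT.node 1651 (BT.node 1650 (BT.leaf cE1650) (BT.leaf cE1651)) (BT.leaf cE1652)))) (BT.node 1659 (BT.node 1656 (BT.node 1654 (BT.node 1653 (BT.leaf cE1653) (BT.leaf cE1654)) (BT.node 1655 (BT.leaf cE1655) (BT.leaf cE1656))) (BT.node 1658 (BT.node 1657 (BT.leaf cE1657) (BT.leaf cE1658)) (BT.leaf cE1659))) (BT.node 1662 (BT.node 1661 (BT.node 1660 (BT.leaf cE1660) (BT.leaf cE1661)) (BT.leaf cE1662)) (BT.node 1664 (BT.node 1663 (BT.leaf cE1663) (BT.leaf cE1664)) (BT.leaf cE1665))))))) (BT.node 1721 (BT.node 1693 (BT.node 1679 (BT.node 1672 (BT.node 1669 (BT.node 1667 (BT.node 1666 (BT.leaf cE1666) (BT.leaf cE1667)) (BT.node 1668 (BT.leaf cE1668) (BT.leaf cE1669))) (BT.node 1671 (BT.node 1670 (BT.leaf cE1670) (BT.leaf cE1671)) (BT.leaf cE1672))) (BT.node 1676 (BT.node 1674 (BT.node 1673 (BT.leaf cE1673) (BT.leaf cE1674)) (BT.node 1675 (BT.leaf cE1675) (BT.leaf cE1676))) (BT.node 1678 (BT.node 1677 (BT.leaf cE1677) (BT.leaf cE1678)) (BT.leaf cE1679)))) (BT.node 1686 (BT.node 1683 (BT.node 1681 (BT.node 1680 (BT.leaf cE1680) (BT.leaf cE1681)) (BT.node 1682 (BT.leaf cE1682) (BT.leaf cE1683))) (BT.node 1685 (BT.node 1684 (BT.leaf cE1684) (BT.leaf cE1685)) (BT.leaf cE1686))) (BT.node 1690 (BT.node 1688 (BT.node 1687 (BT.leaf cE1687) (BT.leaf cE1688)) (BT.node 1689 (BT.leaf cE1689) (BT.leaf cE1690))) (BT.node 1692 (BT.node 1691 (BT.leaf cE1691) (BT.leaf cE1692)) (BT.leaf cE1693))))) (BT.node 1707 (BT.node 1700 (BT.node 1697 (BT.node 1695 (BT.node 1694 (BT.leaf cE1694) (BT.leaf cE1695)) (BT.node 1696 (BT.leaf cE1696) (BT.leaf cE1697))) (BT.node 1699 (BT.node 1698 (BT.leaf cE1698) (BT.leaf cE1699)) (BT.leaf cE1700))) (BT.node 1704 (BT.node 1702 (BT.node 1701 (BT.leaf cE1701) (BT.leaf cE1702)) (BT.node 1703 (BT.leaf cE1703) (BT.leaf cE1704))) (BT.node 1706 (BT.node 1705 (BT.leaf cE1705) (BT.leaf cE1706)) (BT.leaf cE1707)))) (BT.node 1714 (BT.node 1711 (BT.node 1709 (BT.node 1708 (BT.leaf cE1708) (BT.leaf cE1709)) (BT.node 1710 (BT.leaf cE1710) (BT.leaf cE1711))) (BT.node 1713 (BT.node 1712 (BT.leaf cE1712) (BT.leaf cE1713)) (BT.leaf cE1714))) (BT.node 1718 (BT.node 1716 (BT.node 1715 (BT.leaf cE1715) (BT.leaf cE1716)) (BT.node 1717 (BT.leaf cE1717) (BT.leaf cE1718))) (BT.node 1720 (BT.node 1719 (BT.leaf cE1719) (BT.leaf cE1720)) (BT.leaf cE1721)))))) (BT.node 1749 (BT.node 1735 (BT.node 1728 (BT.node 1725 (BT.node 1723 (BT.node 1722 (BT.leaf cE1722) (BT.leaf cE1723)) (BT.node 1724 (BT.leaf cE1724) (BT.leaf cE1725))) (BT.node 1727 (BT.node 1726 (BT.leaf cE1726) (BT.leaf cE1727)) (BT.leaf cE1728))) (BT.node 1732 (BT.node 1730 (BT.node 1729 (BT.leaf cE1729) (BT.leaf cE1730)) (BT.node 1731 (BT.leaf cE1731) (BT.leaf cE1732))) (BT.node 1734 (BT.node 1733 (BT.leaf cE1733) (BT.leaf cE1734)) (BT.leaf cE1735)))) (BT.node 1742 (BT.node 1739 (BT.node 1737 (BT.node 1736 (BT.leaf cE1736) (BT.leaf cE1737)) (BT.node 1738 (BT.leaf cE1738) (BT.leaf cE1739))) (BT.node 1741 (BT.node 1740 (BT.leaf cE1740) (BT.leaf cE1741)) (BT.leaf cE1742))) (BT.node 1746 (BT.node 1744 (BT.node 1743 (BT.leaf cE1743) (BT.leaf cE1744)) (BT.node 1745 (BT.leaf cE1745) (BT.leaf cE1746))) (BT.node 1748 (BT.node 1747 (BT.leaf cE1747) (BT.leaf cE1748)) (BT.leaf cE1749))))) (BT.node 1763 (BT.node 1756 (BT.node 1753 (BT.node 1751 (BT.node 1750 (BT.leaf cE1750) (BT.leaf cE1751)) (BT.node 1752 (BT.leaf cE1752) (BT.leaf cE1753))) (BT.node 1755 (BT.node 1754 (BT.leaf cE1754) (BT.leaf cE1755)) (BT.leaf cE1756))) (BT.node 1760 (BT.node 1758 (BT.node 1757 (BT.leaf cE1757) (BT.leaf cE1758)) (BT.node 1759 (BT.leaf cE1759) (BT.leaf cE1760))) (BT.node 1762 (BT.node 1761 (BT.leaf cE1761) (BT.leaf cE1762)) (BT.leaf cE1763)))) (BT.node 1770 (BT.node 1767 (BT.node 1765 (BT.node 1764 (BT.leaf cE1764) (BT.leaf cE1765)) (BT.node 1766 (BT.leaf cE1766) (BT.leaf cE1767))) (BT.node 1769 (BT.node 1768 (BT.leaf cE1768) (BT.leaf cE1769)) (BT.leaf cE1770))) (BT.node 1773 (BT.node 1772 (BT.node 1771 (BT.leaf cE1771) (BT.leaf cE1772)) (BT.leaf cE1773)) (BT.node 1775 (BT.node 1774 (BT.leaf cE1774) (BT.leaf cE1775)) (BT.leaf cE1776))))))))))) (BT.node 2664 (BT.node 2220 (BT.node 1998 (BT.node 1887 (BT.node 1832 (BT.node 1804 (BT.node 1790 (BT.node 1783 (BT.node 1780 (BT.node 1778 (BT.node 1777 (BT.leaf cE1777) (BT.leaf cE1778)) (BT.node 1779 (BT.leaf cE1779) (BT.leaf cE1780))) (BT.node 1782 (BT.node 1781 (BT.leaf cE1781) (BT.leaf cE1782)) (BT.leaf cE1783))) (BT.node 1787 (BT.node 1785 (BT.node 1784 (BT.leaf cE1784) (BT.leaf cE1785)) (BT.node 1786 (BT.leaf cE1786) (BT.leaf cE1787))) (BT.node 1789 (BT.node 1788 (BT.leaf cE1788) (BT.leaf cE1789)) (BT.leaf cE1790)))) (BT.node 1797 (BT.node 1794 (BT.node 1792 (BT.node 1791 (BT.leaf cE1791) (BT.leaf cE1792)) (BT.node 1793 (BT.leaf cE1793) (BT.leaf cE1794))) (BT.node 1796 (BT.node 1795 (BT.leaf cE1795) (BT.leaf cE1796)) (BT.leaf cE1797))) (BT.node 1801 (BT.node 1799 (BT.node 1798 (BT.leaf cE1798) (BT.leaf cE1799)) (BT.node 1800 (BT.leaf cE1800) (BT.leaf cE1801))) (BT.node 1803 (BT.node 1802 (BT.leaf cE1802) (BT.leaf cE1803)) (BT.leaf cE1804))))) (BT.node 1818 (BT.node 1811 (BT.node 1808 (BT.node 1806 (BT.node 1805 (BT.leaf cE1805) (BT.leaf cE1806)) (BT.node 1807 (BT.leaf cE1807) (BT.leaf cE1808))) (BT.node 1810 (BT.node 1809 (BT.leaf cE1809) (BT.leaf cE1810)) (BT.leaf cE1811))) (BT.node 1815 (BT.node 1813 (BT.node 1812 (BT.leaf cE1812) (BT.leaf cE1813)) (BT.node 1814 (BT.leaf cE1814) (BT.leaf cE1815))) (BT.node 1817 (BT.node 1816 (BT.leaf cE1816) (BT.leaf cE1817)) (BT.leaf cE1818)))) (BT.node 1825 (BT.node 1822 (BT.node 1820 (BT.node 1819 (BT.leaf cE1819) (BT.leaf cE1820)) (BT.node 1821 (BT.leaf cE1821) (BT.leaf cE1822))) (BT.node 1824 (BT.node 1823 (BT.leaf cE1823) (BT.leaf cE1824)) (BT.leaf cE1825))) (BT.node 1829 (BT.node 1827 (BT.node 1826 (BT.leaf cE1826) (BT.leaf cE1827)) (BT.node 1828 (BT.leaf cE1828) (BT.leaf cE1829))) (BT.node 1831 (BT.node 1830 (BT.leaf cE1830) (BT.leaf cE1831)) (BT.leaf cE1832)))))) (BT.node 1860 (BT.node 1846 (BT.node 1839 (BT.node 1836 (BT.node 1834 (BT.node 1833 (BT.leaf cE1833) (BT.leaf cE1834)) (BT.node 1835 (BT.leaf cE1835) (BT.leaf cE1836))) (BT.node 1838 (BT.node 1837 (BT.leaf cE1837) (BT.leaf cE1838)) (BT.leaf cE1839))) (BT.node 1843 (BT.node 1841 (BT.node 1840 (BT.leaf cE1840) (BT.leaf cE1841)) (BT.node 1842 (BT.leaf cE1842) (BT.leaf cE1843))) (BT.node 1845 (BT.node 1844 (BT.leaf cE1844) (BT.leaf cE1845)) (BT.leaf cE1846)))) (BT.node 1853 (BT.node 1850 (BT.node 1848 (BT.node 1847 (BT.leaf cE1847) (BT.leaf cE1848)) (BT.node 1849 (BT.leaf cE1849) (BT.leaf cE1850))) (BT.node 1852 (BT.node 1851 (BT.leaf cE1851) (BT.leaf cE1852)) (BT.leaf cE1853))) (BT.node 1857 (BT.node 1855 (BT.node 1854 (BT.leaf cE1854) (BT.leaf cE1855)) (BT.node 1856 (BT.leaf cE1856) (BT.leaf cE1857))) (BT.node 1859 (BT.node 1858 (BT.leaf cE1858) (BT.leaf cE1859)) (BT.leaf cE1860))))) (BT.node 1874 (BT.node 1867 (BT.node 1864 (BT.node 1862 (BT.node 1861 (BT.leaf cE1861) (BT.leaf cE1862)) (BT.node 1863 (BT.leaf cE1863) (BT.leaf cE1864))) (BT.node 1866 (BT.node 1865 (BT.leaf cE1865) (BT.leaf cE1866)) (BT.leaf cE1867))) (BT.node 1871 (BT.node 1869 (BT.node 1868 (BT.leaf cE1868) (BT.leaf cE1869)) (BT.node 1870 (BT.leaf cE1870) (BT.leaf cE1871))) (BT.node 1873 (BT.node 1872 (BT.leaf cE1872) (BT.leaf cE1873)) (BT.leaf cE1874)))) (BT.node 1881 (BT.node 1878 (BT.node 1876 (BT.node 1875 (BT.leaf cE1875) (BT.leaf cE1876)) (BT.node 1877 (BT.leaf cE1877) (BT.leaf cE1878))) (BT.node 1880 (BT.node 1879 (BT.leaf cE1879) (BT.leaf cE1880)) (BT.leaf cE1881))) (BT.node 1884 (BT.node 1883 (BT.node 1882 (BT.leaf cE1882) (BT.leaf cE1883)) (BT.leaf cE1884)) (BT.node 1886 (BT.node 1885 (BT.leaf cE1885) (BT.leaf cE1886)) (BT.leaf cE1887))))))) (BT.node 1943 (BT.node 1915 (BT.node 1901 (BT.node 1894 (BT.node 1891 (BT.node 1889 (BT.node 1888 (BT.leaf cE1888) (BT.leaf cE1889)) (BT.node 1890 (BT.leaf cE1890) (BT.leaf cE1891))) (BT.node 1893 (BT.node 1892 (BT.leaf cE1892) (BT.leaf cE1893)) (BT.leaf cE1894))) (BT.node 1898 (BT.node 1896 (BT.node 1895 (BT.leaf cE1895) (BT.leaf cE1896)) (BT.node 1897 (BT.leaf cE1897) (BT.leaf cE1898))) (BT.node 1900 (BT.node 1899 (BT.leaf cE1899) (BT.leaf cE1900)) (BT.leaf cE1901)))) (BT.node 1908 (BT.node 1905 (BT.node 1903 (BT.node 1902 (BT.leaf cE1902) (BT.leaf cE1903)) (BT.node 1904 (BT.leaf cE1904) (BT.leaf cE1905))) (BT.node 1907 (BT.node 1906 (BT.leaf cE1906) (BT.leaf cE1907)) (BT.leaf cE1908))) (BT.node 1912 (BT.node 1910 (BT.node 1909 (BT.leaf cE1909) (BT.leaf cE1910)) (BT.node 1911 (BT.leaf cE1911) (BT.leaf cE1912))) (BT.node 1914 (BT.node 1913 (BT.leaf cE1913) (BT.leaf cE1914)) (BT.leaf cE1915))))) (BT.node 1929 (BT.node 1922 (BT.node 1919 (BT.node 1917 (BT.node 1916 (BT.leaf cE1916) (BT.leaf cE1917)) (BT.node 1918 (BT.leaf cE1918) (BT.leaf cE1919))) (BT.node 1921 (BT.node 1920 (BT.leaf cE1920) (BT.leaf cE1921)) (BT.leaf cE1922))) (BT.node 1926 (BT.node 1924 (BT.node 1923 (BT.leaf cE1923) (BT.leaf cE1924)) (BT.node 1925 (BT.leaf cE1925) (BT.leaf cE1926))) (BT.node 1928 (BT.node 1927 (BT.leaf cE1927) (BT.leaf cE1928)) (BT.leaf cE1929)))) (BT.node 1936 (BT.node 1933 (BT.node 1931 (BT.node 1930 (BT.leaf cE1930) (BT.leaf cE1931)) (BT.node 1932 (BT.leaf cE1932) (BT.leaf cE1933))) (BT.node 1935 (BT.node 1934 (BT.leaf cE1934) (BT.leaf cE1935)) (BT.leaf cE1936))) (BT.node 1940 (BT.node 1938 (BT.node 1937 (BT.leaf cE1937) (BT.leaf cE1938)) (BT.node 1939 (BT.leaf cE1939) (BT.leaf cE1940))) (BT.node 1942 (BT.node 1941 (BT.leaf cE1941) (BT.leaf cE1942)) (BT.leaf cE1943)))))) (BT.node 1971 (BT.node 1957 (BT.node 1950 (BT.node 1947 (BT.node 1945 (BT.node 1944 (BT.leaf cE1944) (BT.leaf cE1945)) (BT.node 1946 (BT.leaf cE1946) (BT.leaf cE1947))) (BT.node 1949 (BT.node 1948 (BT.leaf cE1948) (BT.leaf cE1949)) (BT.leaf cE1950))) (BT.node 1954 (BT.node 1952 (BT.node 1951 (BT.leaf cE1951) (BT.leaf cE1952)) (BT.node 1953 (BT.leaf cE1953) (BT.leaf cE1954))) (BT.node 1956 (BT.node 1955 (BT.leaf cE1955) (BT.leaf cE1956)) (BT.leaf cE1957)))) (BT.node 1964 (BT.node 1961 (BT.node 1959 (BT.node 1958 (BT.leaf cE1958) (BT.leaf cE1959)) (BT.node 1960 (BT.leaf cE1960) (BT.leaf cE1961))) (BT.node 1963 (BT.node 1962 (BT.leaf cE1962) (BT.leaf cE1963)) (BT.leaf cE1964))) (BT.node 1968 (BT.node 1966 (BT.node 1965 (BT.leaf cE1965) (BT.leaf cE1966)) (BT.node 1967 (BT.leaf cE1967) (BT.leaf cE1968))) (BT.node 1970 (BT.node 1969 (BT.leaf cE1969) (BT.leaf cE1970)) (BT.leaf cE1971))))) (BT.node 1985 (BT.node 1978 (BT.node 1975 (BT.node 1973 (BT.node 1972 (BT.leaf cE1972) (BT.leaf cE1973)) (BT.node 1974 (BT.leaf cE1974) (BT.leaf cE1975))) (BT.node 1977 (BT.node 1976 (BT.leaf cE1976) (BT.leaf cE1977)) (BT.leaf cE1978))) (BT.node 1982 (BT.node 1980 (BT.node 1979 (BT.leaf cE1979) (BT.leaf cE1980)) (BT.node 1981 (BT.leaf cE1981) (BT.leaf cE1982))) (BT.node 1984 (BT.node 1983 (BT.leaf cE1983) (BT.leaf cE1984)) (BT.leaf cE1985)))) (BT.node 1992 (BT.node 1989 (BT.node 1987 (BT.node 1986 (BT.leaf cE1986) (BT.leaf cE1987)) (BT.node 1988 (BT.leaf cE1988) (BT.leaf cE1989))) (BT.node 1991 (BT.node 1990 (BT.leaf cE1990) (BT.leaf cE1991)) (BT.leaf cE1992))) (BT.node 1995 (BT.node 1994 (BT.node 1993 (BT.leaf cE1993) (BT.leaf cE1994)) (BT.leaf cE1995)) (BT.node 1997 (BT.node 1996 (BT.leaf cE1996) (BT.leaf cE1997)) (BT.leaf cE1998)))))))) (BT.node 2109 (BT.node 2054 (BT.node 2026 (BT.node 2012 (BT.node 2005 (BT.node 2002 (BT.node 2000 (BT.node 1999 (BT.leaf cE1999) (BT.leaf cE2000)) (BT.node 2001 (BT.leaf cE2001) (BT.leaf cE2002))) (BT.node 2004 (BT.node 2003 (BT.leaf cE2003) (BT.leaf cE2004)) (BT.leaf cE2005))) (BT.node 2009 (BT.node 2007 (BT.node 2006 (BT.leaf cE2006) (BT.leaf cE2007)) (BT.node 2008 (BT.leaf cE2008) (BT.leaf cE2009))) (BT.node 2011 (BT.node 2010 (BT.leaf cE2010) (BT.leaf cE2011)) (BT.leaf cE2012)))) (BT.node 2019 (BT.node 2016 (BT.node 2014 (BT.node 2013 (BT.leaf cE2013) (BT.leaf cE2014)) (BT.node 2015 (BT.leaf cE2015) (BT.leaf cE2016))) (BT.node 2018 (BT.node 2017 (BT.leaf cE2017) (BT.leaf cE2018)) (BT.leaf cE2019))) (BT.node 2023 (BT.node 2021 (BT.node 2020 (BT.leaf cE2020) (BT.leaf cE2021)) (BT.node 2022 (BT.leaf cE2022) (BT.leaf cE2023))) (BT.node 2025 (BT.node 2024 (BT.leaf cE2024) (BT.leaf cE2025)) (BT.leaf cE2026))))) (BT.node 2040 (BT.node 2033 (BT.node 2030 (BT.node 2028 (BT.node 2027 (BT.leaf cE2027) (BT.leaf cE2028)) (BT.node 2029 (BT.leaf cE2029) (BT.leaf cE2030))) (BT.node 2032 (BT.node 2031 (BT.leaf cE2031) (BT.leaf cE2032)) (BT.leaf cE2033))) (BT.node 2037 (BT.node 2035 (BT.node 2034 (BT.leaf cE2034) (BT.leaf cE2035)) (BT.node 2036 (BT.leaf cE2036) (BT.leaf cE2037))) (BT.node 2039 (BT.node 2038 (BT.leaf cE2038) (BT.leaf cE2039)) (BT.leaf cE2040)))) (BT.node 2047 (BT.node 2044 (BT.node 2042 (BT.node 2041 (BT.leaf cE2041) (BT.leaf cE2042)) (BT.node 2043 (BT.leaf cE2043) (BT.leaf cE2044))) (BT.node 2046 (BT.node 2045 (BT.leaf cE2045) (BT.leaf cE2046)) (BT.leaf cE2047))) (BT.node 2051 (BT.node 2049 (BT.node 2048 (BT.leaf cE2048) (BT.leaf cE2049)) (BT.node 2050 (BT.leaf cE2050) (BT.leaf cE2051))) (BT.node 2053 (BT.node 2052 (BT.leaf cE2052) (BT.leaf cE2053)) (BT.leaf cE2054)))))) (BT.node 2082 (BT.node 2068 (BT.node 2061 (BT.node 2058 (BT.node 2056 (BT.node 2055 (BT.leaf cE2055) (BT.leaf cE2056)) (BT.node 2057 (BT.leaf cE2057) (BT.leaf cE2058))) (BT.node 2060 (BT.node 2059 (BT.leaf cE2059) (BT.leaf cE2060)) (BT.leaf cE2061))) (BT.node 2065 (BT.node 2063 (BT.node 2062 (BT.leaf cE2062) (BT.leaf cE2063)) (BT.node 2064 (BT.leaf cE2064) (BT.leaf cE2065))) (BT.node 2067 (BT.node 2066 (BT.leaf cE2066) (BT.leaf cE2067)) (BT.leaf cE2068)))) (BT.node 2075 (BT.node 2072 (BT.node 2070 (BT.node 2069 (BT.leaf cE2069) (BT.leaf cE2070)) (BT.node 2071 (BT.leaf cE2071) (BT.leaf cE2072))) (BT.node 2074 (BT.node 2073 (BT.leaf cE2073) (BT.leaf cE2074)) (BT.leaf cE2075))) (BT.node 2079 (BT.node 2077 (BT.node 2076 (BT.leaf cE2076) (BT.leaf cE2077)) (BT.node 2078 (BT.leaf cE2078) (BT.leaf cE2079))) (BT.node 2081 (BT.node 2080 (BT.leaf cE2080) (BT.leaf cE2081)) (BT.leaf cE2082))))) (BT.node 2096 (BT.node 2089 (BT.node 2086 (BT.node 2084 (BT.node 2083 (BT.leaf cE2083) (BT.leaf cE2084)) (BT.node 2085 (BT.leaf cE2085) (BT.leaf cE2086))) (BT.node 2088 (BT.node 2087 (BT.leaf cE2087) (BT.leaf cE2088)) (BT.leaf cE2089))) (BT.node 2093 (BT.node 2091 (BT.node 2090 (BT.leaf cE2090) (BT.leaf cE2091)) (BT.node 2092 (BT.leaf cE2092) (BT.leaf cE2093))) (BT.node 2095 (BT.node 2094 (BT.leaf cE2094) (BT.leaf cE2095)) (BT.leaf cE2096)))) (BT.node 2103 (BT.node 2100 (BT.node 2098 (BT.node 2097 (BT.leaf cE2097) (BT.leaf cE2098)) (BT.node 2099 (BT.leaf cE2099) (BT.leaf cE2100))) (BT.node 2102 (BT.node 2101 (BT.leaf cE2101) (BT.leaf cE2102)) (BT.leaf cE2103))) (BT.node 2106 (BT.node 2105 (BT.node 2104 (BT.leaf cE2104) (BT.leaf cE2105)) (BT.leaf cE2106)) (BT.node 2108 (BT.node 2107 (BT.leaf cE2107) (BT.leaf cE2108)) (BT.leaf cE2109))))))) (BT.node 2165 (BT.node 2137 (BT.node 2123 (BT.node 2116 (BT.node 2113 (BT.node 2111 (BT.node 2110 (BT.leaf cE2110) (BT.leaf cE2111)) (BT.node 2112 (BT.leaf cE2112) (BT.leaf cE2113))) (BT.node 2115 (BT.node 2114 (BT.leaf cE2114) (BT.leaf cE2115)) (BT.leaf cE2116))) (BT.node 2120 (BT.node 2118 (BT.node 2117 (BT.leaf cE2117) (BT.leaf cE2118)) (BT.node 2119 (BT.leaf cE2119) (BT.leaf cE2120))) (BT.node 2122 (BT.node 2121 (BT.leaf cE2121) (BT.leaf cE2122)) (BT.leaf cE2123)))) (BT.node 2130 (BT.node 2127 (BT.node 2125 (BT.node 2124 (BT.leaf cE2124) (BT.leaf cE2125)) (BT.node 2126 (BT.leaf cE2126) (BT.leaf cE2127))) (BT.node 2129 (BT.node 2128 (BT.leaf cE2128) (BT.leaf cE2129)) (BT.leaf cE2130))) (BT.node 2134 (BT.node 2132 (BT.node 2131 (BT.leaf cE2131) (BT.leaf cE2132)) (BT.node 2133 (BT.leaf cE2133) (BT.leaf cE2134))) (BT.node 2136 (BT.node 2135 (BT.leaf cE2135) (BT.leaf cE2136)) (BT.leaf cE2137))))) (BT.node 2151 (BT.node 2144 (BT.node 2141 (BT.node 2139 (BT.node 2138 (BT.leaf cE2138) (BT.leaf cE2139)) (BT.node 2140 (BT.leaf cE2140) (BT.leaf cE2141))) (BT.node 2143 (BT.node 2142 (BT.leaf cE2142) (BT.leaf cE2143)) (BT.leaf cE2144))) (BT.node 2148 (BT.node 2146 (BT.node 2145 (BT.leaf cE2145) (BT.leaf cE2146)) (BT.node 2147 (BT.leaf cE2147) (BT.leaf cE2148))) (BT.node 2150 (BT.node 2149 (BT.leaf cE2149) (BT.leaf cE2150)) (BT.leaf cE2151)))) (BT.node 2158 (BT.node 2155 (BT.node 2153 (BT.node 2152 (BT.leaf cE2152) (BT.leaf cE2153)) (BT.node 2154 (BT.leaf cE2154) (BT.leaf cE2155))) (BT.node 2157 (BT.node 2156 (BT.leaf cE2156) (BT.leaf cE2157)) (BT.leaf cE2158))) (BT.node 2162 (BT.node 2160 (BT.node 2159 (BT.leaf cE2159) (BT.leaf cE2160)) (BT.node 2161 (BT.leaf cE2161) (BT.leaf cE2162))) (BT.node 2164 (BT.node 2163 (BT.leaf cE2163) (BT.leaf cE2164)) (BT.leaf cE2165)))))) (BT.node 2193 (BT.node 2179 (BT.node 2172 (BT.node 2169 (BT.node 2167 (BT.node 2166 (BT.leaf cE2166) (BT.leaf cE2167)) (BT.node 2168 (BT.leaf cE2168) (BT.leaf cE2169))) (BT.node 2171 (BT.node 2170 (BT.leaf cE2170) (BT.leaf cE2171)) (BT.leaf cE2172))) (BT.node 2176 (BT.node 2174 (BT.node 2173 (BT.leaf cE2173) (BT.leaf cE2174)) (BT.node 2175 (BT.leaf cE2175) (BT.leaf cE2176))) (BT.node 2178 (BT.node 2177 (BT.leaf cE2177) (BT.leaf cE2178)) (BT.leaf cE2179)))) (BT.node 2186 (BT.node 2183 (BT.node 2181 (BT.node 2180 (BT.leaf cE2180) (BT.leaf cE2181)) (BT.node 2182 (BT.leaf cE2182) (BT.leaf cE2183))) (BT.node 2185 (BT.node 2184 (BT.leaf cE2184) (BT.leaf cE2185)) (BT.leaf cE2186))) (BT.node 2190 (BT.node 2188 (BT.node 2187 (BT.leaf cE2187) (BT.leaf cE2188)) (BT.node 2189 (BT.leaf cE2189) (BT.leaf cE2190))) (BT.node 2192 (BT.node 2191 (BT.leaf cE2191) (BT.leaf cE2192)) (BT.leaf cE2193))))) (BT.node 2207 (BT.node 2200 (BT.node 2197 (BT.node 2195 (BT.node 2194 (BT.leaf cE2194) (BT.leaf cE2195)) (BT.node 2196 (BT.leaf cE2196) (BT.leaf cE2197))) (BT.node 2199 (BT.node 2198 (BT.leaf cE2198) (BT.leaf cE2199)) (BT.leaf cE2200))) (BT.node 2204 (BT.node 2202 (BT.node 2201 (BT.leaf cE2201) (BT.leaf cE2202)) (BT.node 2203 (BT.leaf cE2203) (BT.leaf cE2204))) (BT.node 2206 (BT.node 2205 (BT.leaf cE2205) (BT.leaf cE2206)) (BT.leaf cE2207)))) (BT.node 2214 (BT.node 2211 (BT.node 2209 (BT.node 2208 (BT.leaf cE2208) (BT.leaf cE2209)) (BT.node 2210 (BT.leaf cE2210) (BT.leaf cE2211))) (BT.node 2213 (BT.node 2212 (BT.leaf cE2212) (BT.leaf cE2213)) (BT.leaf cE2214))) (BT.node 2217 (BT.node 2216 (BT.node 2215 (BT.leaf cE2215) (BT.leaf cE2216)) (BT.leaf cE2217)) (BT.node 2219 (BT.node 2218 (BT.leaf cE2218) (BT.leaf cE2219)) (BT.leaf cE2220))))))))) (BT.node 2442 (BT.node 2331 (BT.node 2276 (BT.node 2248 (BT.node 2234 (BT.node 2227 (BT.node 2224 (BT.node 2222 (BT.node 2221 (BT.leaf cE2221) (BT.leaf cE2222)) (BT.node 2223 (BT.leaf cE2223) (BT.leaf cE2224))) (BT.node 2226 (BT.node 2225 (BT.leaf cE2225) (BT.leaf cE2226)) (BT.leaf cE2227))) (BT.node 2231 (BT.node 2229 (BT.node 2228 (BT.leaf cE2228) (BT.leaf cE2229)) (BT.node 2230 (BT.leaf cE2230) (BT.leaf cE2231))) (BT.node 2233 (BT.node 2232 (BT.leaf cE2232) (BT.leaf cE2233)) (BT.leaf cE2234)))) (BT.node 2241 (BT.node 2238 (BT.node 2236 (BT.node 2235 (BT.leaf cE2235) (BT.leaf cE2236)) (BT.node 2237 (BT.leaf cE2237) (BT.leaf cE2238))) (BT.node 2240 (BT.node 2239 (BT.leaf cE2239) (BT.leaf cE2240)) (BT.leaf cE2241))) (BT.node 2245 (BT.node 2243 (BT.node 2242 (BT.leaf cE2242) (BT.leaf cE2243)) (BT.node 2244 (BT.leaf cE2244) (BT.leaf cE2245))) (BT.node 2247 (BT.node 2246 (BT.leaf cE2246) (BT.leaf cE2247)) (BT.leaf cE2248))))) (BT.node 2262 (BT.node 2255 (BT.node 2252 (BT.node 2250 (BT.node 2249 (BT.leaf cE2249) (BT.leaf cE2250)) (BT.node 2251 (BT.leaf cE2251) (BT.leaf cE2252))) (BT.node 2254 (BT.node 2253 (BT.leaf cE2253) (BT.leaf cE2254)) (BT.leaf cE2255))) (BT.node 2259 (BT.node 2257 (BT.node 2256 (BT.leaf cE2256) (BT.leaf cE2257)) (BT.node 2258 (BT.leaf cE2258) (BT.leaf cE2259))) (BT.node 2261 (BT.node 2260 (BT.leaf cE2260) (BT.leaf cE2261)) (BT.leaf cE2262)))) (BT.node 2269 (BT.node 2266 (BT.node 2264 (BT.node 2263 (BT.leaf cE2263) (BT.leaf cE2264)) (BT.node 2265 (BT.leaf cE2265) (BT.leaf cE2266))) (BT.node 2268 (BT.node 2267 (BT.leaf cE2267) (BT.leaf cE2268)) (BT.leaf cE2269))) (BT.node 2273 (BT.node 2271 (BT.node 2270 (BT.leaf cE2270) (BT.leaf cE2271)) (BT.node 2272 (BT.leaf cE2272) (BT.leaf cE2273))) (BT.node 2275 (BT.node 2274 (BT.leaf cE2274) (BT.leaf cE2275)) (BT.leaf cE2276)))))) (BT.node 2304 (BT.node 2290 (BT.node 2283 (BT.node 2280 (BT.node 2278 (BT.node 2277 (BT.leaf cE2277) (BT.leaf cE2278)) (BT.node 2279 (BT.leaf cE2279) (BT.leaf cE2280))) (BT.node 2282 (BT.node 2281 (BT.leaf cE2281) (BT.leaf cE2282)) (BT.leaf cE2283))) (BT.node 2287 (BT.node 2285 (BT.node 2284 (BT.leaf cE2284) (BT.leaf cE2285)) (BT.node 2286 (BT.leaf cE2286) (BT.leaf cE2287))) (BT.node 2289 (BT.node 2288 (BT.leaf cE2288) (BT.leaf cE2289)) (BT.leaf cE2290)))) (BT.node 2297 (BT.node 2294 (BT.node 2292 (BT.node 2291 (BT.leaf cE2291) (BT.leaf cE2292)) (BT.node 2293 (BT.leaf cE2293) (BT.leaf cE2294))) (BT.node 2296 (BT.node 2295 (BT.leaf cE2295) (BT.leaf cE2296)) (BT.leaf cE2297))) (BT.node 2301 (BT.node 2299 (BT.node 2298 (BT.leaf cE2298) (BT.leaf cE2299)) (BT.node 2300 (BT.leaf cE2300) (BT.leaf cE2301))) (BT.node 2303 (BT.node 2302 (BT.leaf cE2302) (BT.leaf cE2303)) (BT.leaf cE2304))))) (BT.node 2318 (BT.node 2311 (BT.node 2308 (BT.node 2306 (BT.node 2305 (BT.leaf cE2305) (BT.leaf cE2306)) (BT.node 2307 (BT.leaf cE2307) (BT.leaf cE2308))) (BT.node 2310 (BT.node 2309 (BT.leaf cE2309) (BT.leaf cE2310)) (BT.leaf cE2311))) (BT.node 2315 (BT.node 2313 (BT.node 2312 (BT.leaf cE2312) (BT.leaf cE2313)) (BT.node 2314 (BT.leaf cE2314) (BT.leaf cE2315))) (BT.node 2317 (BT.node 2316 (BT.leaf cE2316) (BT.leaf cE2317)) (BT.leaf cE2318)))) (BT.node 2325 (BT.node 2322 (BT.node 2320 (BT.node 2319 (BT.leaf cE2319) (BT.leaf cE2320)) (BT.node 2321 (BT.leaf cE2321) (BT.leaf cE2322))) (BT.node 2324 (BT.node 2323 (BT.leaf cE2323) (BT.leaf cE2324)) (BT.leaf cE2325))) (BT.node 2328 (BT.node 2327 (BT.node 2326 (BT.leaf cE2326) (BT.leaf cE2327)) (BT.leaf cE2328)) (BT.node 2330 (BT.node 2329 (BT.leaf cE2329) (BT.leaf cE2330)) (BT.leaf cE2331))))))) (BT.node 2387 (BT.node 2359 (BT.node 2345 (BT.node 2338 (BT.node 2335 (BT.node 2333 (BT.node 2332 (BT.leaf cE2332) (BT.leaf cE2333)) (BT.node 2334 (BT.leaf cE2334) (BT.leaf cE2335))) (BT.node 2337 (BT.node 2336 (BT.leaf cE2336) (BT.leaf cE2337)) (BT.leaf cE2338))) (BT.node 2342 (BT.node 2340 (BT.node 2339 (BT.leaf cE2339) (BT.leaf cE2340)) (BT.node 2341 (BT.leaf cE2341) (BT.leaf cE2342))) (BT.node 2344 (BT.node 2343 (BT.leaf cE2343) (BT.leaf cE2344)) (BT.leaf cE2345)))) (BT.node 2352 (BT.node 2349 (BT.node 2347 (BT.node 2346 (BT.leaf cE2346) (BT.leaf cE2347)) (BT.node 2348 (BT.leaf cE2348) (BT.leaf cE2349))) (BT.node 2351 (BT.node 2350 (BT.leaf cE2350) (BT.leaf cE2351)) (BT.leaf cE2352))) (BT.node 2356 (BT.node 2354 (BT.node 2353 (BT.leaf cE2353) (BT.leaf cE2354)) (BT.node 2355 (BT.leaf cE2355) (BT.leaf cE2356))) (BT.node 2358 (BT.node 2357 (BT.leaf cE2357) (BT.leaf cE2358)) (BT.leaf cE2359))))) (BT.node 2373 (BT.node 2366 (BT.node 2363 (BT.node 2361 (BT.node 2360 (BT.leaf cE2360) (BT.leaf cE2361)) (BT.node 2362 (BT.leaf cE2362) (BT.leaf cE2363))) (BT.node 2365 (BT.node 2364 (BT.leaf cE2364) (BT.leaf cE2365)) (BT.leaf cE2366))) (BT.node 2370 (BT.node 2368 (BT.node 2367 (BT.leaf cE2367) (BT.leaf cE2368)) (BT.node 2369 (BT.leaf cE2369) (BT.leaf cE2370))) (BT.node 2372 (BT.node 2371 (BT.leaf cE2371) (BT.leaf cE2372)) (BT.leaf cE2373)))) (BT.node 2380 (BT.node 2377 (BT.node 2375 (BT.node 2374 (BT.leaf cE2374) (BT.leaf cE2375)) (BT.node 2376 (BT.leaf cE2376) (BT.leaf cE2377))) (BT.node 2379 (BT.node 2378 (BT.leaf cE2378) (BT.leaf cE2379)) (BT.leaf cE2380))) (BT.node 2384 (BT.node 2382 (BT.node 2381 (BT.leaf cE2381) (BT.leaf cE2382)) (BT.node 2383 (BT.leaf cE2383) (BT.leaf cE2384))) (BT.node 2386 (BT.node 2385 (BT.leaf cE2385) (BT.leaf cE2386)) (BT.leaf cE2387)))))) (BT.node 2415 (BT.node 2401 (BT.node 2394 (BT.node 2391 (BT.node 2389 (BT.node 2388 (BT.leaf cE2388) (BT.leaf cE2389)) (BT.node 2390 (BT.leaf cE2390) (BT.leaf cE2391))) (BT.node 2393 (BT.node 2392 (BT.leaf cE2392) (BT.leaf cE2393)) (BT.leaf cE2394))) (BT.node 2398 (BT.node 2396 (BT.node 2395 (BT.leaf cE2395) (BT.leaf cE2396)) (BT.node 2397 (BT.leaf cE2397) (BT.leaf cE2398))) (BT.node 2400 (BT.node 2399 (BT.leaf cE2399) (BT.leaf cE2400)) (BT.leaf cE2401)))) (BT.node 2408 (BT.node 2405 (BT.node 2403 (BT.node 2402 (BT.leaf cE2402) (BT.leaf cE2403)) (BT.node 2404 (BT.leaf cE2404) (BT.leaf cE2405))) (BT.node 2407 (BT.node 2406 (BT.leaf cE2406) (BT.leaf cE2407)) (BT.leaf cE2408))) (BT.node 2412 (BT.node 2410 (BT.node 2409 (BT.leaf cE2409) (BT.leaf cE2410)) (BT.node 2411 (BT.leaf cE2411) (BT.leaf cE2412))) (BT.node 2414 (BT.node 2413 (BT.leaf cE2413) (BT.leaf cE2414)) (BT.leaf cE2415))))) (BT.node 2429 (BT.node 2422 (BT.node 2419 (BT.node 2417 (BT.node 2416 (BT.leaf cE2416) (BT.leaf cE2417)) (BT.node 2418 (BT.leaf cE2418) (BT.leaf cE2419))) (BT.node 2421 (BT.node 2420 (BT.leaf cE2420) (BT.leaf cE2421)) (BT.leaf cE2422))) (BT.node 2426 (BT.node 2424 (BT.node 2423 (BT.leaf cE2423) (BT.leaf cE2424)) (BT.node 2425 (BT.leaf cE2425) (BT.leaf cE2426))) (BT.node 2428 (BT.node 2427 (BT.leaf cE2427) (BT.leaf cE2428)) (BT.leaf cE2429)))) (BT.node 2436 (BT.node 2433 (BT.node 2431 (BT.node 2430 (BT.leaf cE2430) (BT.leaf cE2431)) (BT.node 2432 (BT.leaf cE2432) (BT.leaf cE2433))) (BT.node 2435 (BT.node 2434 (BT.leaf cE2434) (BT.leaf cE2435)) (BT.leaf cE2436))) (BT.node 2439 (BT.node 2438 (BT.node 2437 (BT.leaf cE2437) (BT.leaf cE2438)) (BT.leaf cE2439)) (BT.node 2441 (BT.node 2440 (BT.leaf cE2440) (BT.leaf cE2441)) (BT.leaf cE2442)))))))) (BT.node 2553 (BT.node 2498 (BT.node 2470 (BT.node 2456 (BT.node 2449 (BT.node 2446 (BT.node 2444 (BT.node 2443 (BT.leaf cE2443) (BT.leaf cE2444)) (BT.node 2445 (BT.leaf cE2445) (BT.leaf cE2446))) (BT.node 2448 (BT.node 2447 (BT.leaf cE2447) (BT.leaf cE2448)) (BT.leaf cE2449))) (BT.node 2453 (BT.node 2451 (BT.node 2450 (BT.leaf cE2450) (BT.leaf cE2451)) (BT.node 2452 (BT.leaf cE2452) (BT.leaf cE2453))) (BT.node 2455 (BT.node 2454 (BT.leaf cE2454) (BT.leaf cE2455)) (BT.leaf cE2456)))) (BT.node 2463 (BT.node 2460 (BT.node 2458 (BT.node 2457 (BT.leaf cE2457) (BT.leaf cE2458)) (BT.node 2459 (BT.leaf cE2459) (BT.leaf cE2460))) (BT.node 2462 (BT.node 2461 (BT.leaf cE2461) (BT.leaf cE2462)) (BT.leaf cE2463))) (BT.node 2467 (BT.node 2465 (BT.node 2464 (BT.leaf cE2464) (BT.leaf cE2465)) (BT.node 2466 (BT.leaf cE2466) (BT.leaf cE2467))) (BT.node 2469 (BT.node 2468 (BT.leaf cE2468) (BT.leaf cE2469)) (BT.leaf cE2470))))) (BT.node 2484 (BT.node 2477 (BT.node 2474 (BT.node 2472 (BT.node 2471 (BT.leaf cE2471) (BT.leaf cE2472)) (BT.node 2473 (BT.leaf cE2473) (BT.leaf cE2474))) (BT.node 2476 (BT.node 2475 (BT.leaf cE2475) (BT.leaf cE2476)) (BT.leaf cE2477))) (BT.node 2481 (BT.node 2479 (BT.node 2478 (BT.leaf cE2478) (BT.leaf cE2479)) (BT.node 2480 (BT.leaf cE2480) (BT.leaf cE2481))) (BT.node 2483 (BT.node 2482 (BT.leaf cE2482) (BT.leaf cE2483)) (BT.leaf cE2484)))) (BT.node 2491 (BT.node 2488 (BT.node 2486 (BT.node 2485 (BT.leaf cE2485) (BT.leaf cE2486)) (BT.node 2487 (BT.leaf cE2487) (BT.leaf cE2488))) (BT.node 2490 (BT.node 2489 (BT.leaf cE2489) (BT.leaf cE2490)) (BT.leaf cE2491))) (BT.node 2495 (BT.node 2493 (BT.node 2492 (BT.leaf cE2492) (BT.leaf cE2493)) (BT.node 2494 (BT.leaf cE2494) (BT.leaf cE2495))) (BT.node 2497 (BT.node 2496 (BT.leaf cE2496) (BT.leaf cE2497)) (BT.leaf cE2498)))))) (BT.node 2526 (BT.node 2512 (BT.node 2505 (BT.node 2502 (BT.node 2500 (BT.node 2499 (BT.leaf cE2499) (BT.leaf cE2500)) (BT.node 2501 (BT.leaf cE2501) (BT.leaf cE2502))) (BT.node 2504 (BT.node 2503 (BT.leaf cE2503) (BT.leaf cE2504)) (BT.leaf cE2505))) (BT.node 2509 (BT.node 2507 (BT.node 2506 (BT.leaf cE2506) (BT.leaf cE2507)) (BT.node 2508 (BT.leaf cE2508) (BT.leaf cE2509))) (BT.node 2511 (BT.node 2510 (BT.leaf cE2510) (BT.leaf cE2511)) (BT.leaf cE2512)))) (BT.node 2519 (BT.node 2516 (BT.node 2514 (BT.node 2513 (BT.leaf cE2513) (BT.leaf cE2514)) (BT.node 2515 (BT.leaf cE2515) (BT.leaf cE2516))) (BT.node 2518 (BT.node 2517 (BT.leaf cE2517) (BT.leaf cE2518)) (BT.leaf cE2519))) (BT.node 2523 (BT.node 2521 (BT.node 2520 (BT.leaf cE2520) (BT.leaf cE2521)) (BT.node 2522 (BT.leaf cE2522) (BT.leaf cE2523))) (BT.node 2525 (BT.node 2524 (BT.leaf cE2524) (BT.leaf cE2525)) (BT.leaf cE2526))))) (BT.node 2540 (BT.node 2533 (BT.node 2530 (BT.node 2528 (BT.node 2527 (BT.leaf cE2527) (BT.leaf cE2528)) (BT.node 2529 (BT.leaf cE2529) (BT.leaf cE2530))) (BT.node 2532 (BT.node 2531 (BT.leaf cE2531) (BT.leaf cE2532)) (BT.leaf cE2533))) (BT.node 2537 (BT.node 2535 (BT.node 2534 (BT.leaf cE2534) (BT.leaf cE2535)) (BT.node 2536 (BT.leaf cE2536) (BT.leaf cE2537))) (BT.node 2539 (BT.node 2538 (BT.leaf cE2538) (BT.leaf cE2539)) (BT.leaf cE2540)))) (BT.node 2547 (BT.node 2544 (BT.node 2542 (BT.node 2541 (BT.leaf cE2541) (BT.leaf cE2542)) (BT.node 2543 (BT.leaf cE2543) (BT.leaf cE2544))) (BT.node 2546 (BT.node 2545 (BT.leaf cE2545) (BT.leaf cE2546)) (BT.leaf cE2547))) (BT.node 2550 (BT.node 2549 (BT.node 2548 (BT.leaf cE2548) (BT.leaf cE2549)) (BT.leaf cE2550)) (BT.node 2552 (BT.node 2551 (BT.leaf cE2551) (BT.leaf cE2552)) (BT.leaf cE2553))))))) (BT.node 2609 (BT.node 2581 (BT.node 2567 (BT.node 2560 (BT.node 2557 (BT.node 2555 (BT.node 2554 (BT.leaf cE2554) (BT.leaf cE2555)) (BT.node 2556 (BT.leaf cE2556) (BT.leaf cE2557))) (BT.node 2559 (BT.node 2558 (BT.leaf cE2558) (BT.leaf cE2559)) (BT.leaf cE2560))) (BT.node 2564 (BT.node 2562 (BT.node 2561 (BT.leaf cE2561) (BT.leaf cE2562)) (BT.node 2563 (BT.leaf cE2563) (BT.leaf cE2564))) (BT.node 2566 (BT.node 2565 (BT.leaf cE2565) (BT.leaf cE2566)) (BT.leaf cE2567)))) (BT.node 2574 (BT.node 2571 (BT.node 2569 (BT.node 2568 (BT.leaf cE2568) (BT.leaf cE2569)) (BT.node 2570 (BT.leaf cE2570) (BT.leaf cE2571))) (BT.node 2573 (BT.node 2572 (BT.leaf cE2572) (BT.leaf cE2573)) (BT.leaf cE2574))) (BT.node 2578 (BT.node 2576 (BT.node 2575 (BT.leaf cE2575) (BT.leaf cE2576)) (BT.node 2577 (BT.leaf cE2577) (BT.leaf cE2578))) (BT.node 2580 (BT.node 2579 (BT.leaf cE2579) (BT.leaf cE2580)) (BT.leaf cE2581))))) (BT.node 2595 (BT.node 2588 (BT.node 2585 (BT.node 2583 (BT.node 2582 (BT.leaf cE2582) (BT.leaf cE2583)) (BT.node 2584 (BT.leaf cE2584) (BT.leaf cE2585))) (BT.node 2587 (BT.node 2586 (BT.leaf cE2586) (BT.leaf cE2587)) (BT.leaf cE2588))) (BT.node 2592 (BT.node 2590 (BT.node 2589 (BT.leaf cE2589) (BT.leaf cE2590)) (BT.node 2591 (BT.leaf cE2591) (BT.leaf cE2592))) (BT.node 2594 (BT.node 2593 (BT.leaf cE2593) (BT.leaf cE2594)) (BT.leaf cE2595)))) (BT.node 2602 (BT.node 2599 (BT.node 2597 (BT.node 2596 (BT.leaf cE2596) (BT.leaf cE2597)) (BT.node 2598 (BT.leaf cE2598) (BT.leaf cE2599))) (BT.node 2601 (BT.node 2600 (BT.leaf cE2600) (BT.leaf cE2601)) (BT.leaf cE2602))) (BT.node 2606 (BT.node 2604 (BT.node 2603 (BT.leaf cE2603) (BT.leaf cE2604)) (BT.node 2605 (BT.leaf cE2605) (BT.leaf cE2606))) (BT.node 2608 (BT.node 2607 (BT.leaf cE2607) (BT.leaf cE2608)) (BT.leaf cE2609)))))) (BT.node 2637 (BT.node 2623 (BT.node 2616 (BT.node 2613 (BT.node 2611 (BT.node 2610 (BT.leaf cE2610) (BT.leaf cE2611)) (BT.node 2612 (BT.leaf cE2612) (BT.leaf cE2613))) (BT.node 2615 (BT.node 2614 (BT.leaf cE2614) (BT.leaf cE2615)) (BT.leaf cE2616))) (BT.node 2620 (BT.node 2618 (BT.node 2617 (BT.leaf cE2617) (BT.leaf cE2618)) (BT.node 2619 (BT.leaf cE2619) (BT.leaf cE2620))) (BT.node 2622 (BT.node 2621 (BT.leaf cE2621) (BT.leaf cE2622)) (BT.leaf cE2623)))) (BT.node 2630 (BT.node 2627 (BT.node 2625 (BT.node 2624 (BT.leaf cE2624) (BT.leaf cE2625)) (BT.node 2626 (BT.leaf cE2626) (BT.leaf cE2627))) (BT.node 2629 (BT.node 2628 (BT.leaf cE2628) (BT.leaf cE2629)) (BT.leaf cE2630))) (BT.node 2634 (BT.node 2632 (BT.node 2631 (BT.leaf cE2631) (BT.leaf cE2632)) (BT.node 2633 (BT.leaf cE2633) (BT.leaf cE2634))) (BT.node 2636 (BT.node 2635 (BT.leaf cE2635) (BT.leaf cE2636)) (BT.leaf cE2637))))) (BT.node 2651 (BT.node 2644 (BT.node 2641 (BT.node 2639 (BT.node 2638 (BT.leaf cE2638) (BT.leaf cE2639)) (BT.node 2640 (BT.leaf cE2640) (BT.leaf cE2641))) (BT.node 2643 (BT.node 2642 (BT.leaf cE2642) (BT.leaf cE2643)) (BT.leaf cE2644))) (BT.node 2648 (BT.node 2646 (BT.node 2645 (BT.leaf cE2645) (BT.leaf cE2646)) (BT.node 2647 (BT.leaf cE2647) (BT.leaf cE2648))) (BT.node 2650 (BT.node 2649 (BT.leaf cE2649) (BT.leaf cE2650)) (BT.leaf cE2651)))) (BT.node 2658 (BT.node 2655 (BT.node 2653 (BT.node 2652 (BT.leaf cE2652) (BT.leaf cE2653)) (BT.node 2654 (BT.leaf cE2654) (BT.leaf cE2655))) (BT.node 2657 (BT.node 2656 (BT.leaf cE2656) (BT.leaf cE2657)) (BT.leaf cE2658))) (BT.node 2661 (BT.node 2660 (BT.node 2659 (BT.leaf cE2659) (BT.leaf cE2660)) (BT.leaf cE2661)) (BT.node 2663 (BT.node 2662 (BT.leaf cE2662) (BT.leaf cE2663)) (BT.leaf cE2664)))))))))) (BT.node 3108 (BT.node 2886 (BT.node 2775 (BT.node 2720 (BT.node 2692 (BT.node 2678 (BT.node 2671 (BT.node 2668 (BT.node 2666 (BT.node 2665 (BT.leaf cE2665) (BT.leaf cE2666)) (BT.node 2667 (BT.leaf cE2667) (BT.leaf cE2668))) (BT.node 2670 (BT.node 2669 (BT.leaf cE2669) (BT.leaf cE2670)) (BT.leaf cE2671))) (BT.node 2675 (BT.node 2673 (BT.node 2672 (BT.leaf cE2672) (BT.leaf cE2673)) (BT.node 2674 (BT.leaf cE2674) (BT.leaf cE2675))) (BT.node 2677 (BT.node 2676 (BT.leaf cE2676) (BT.leaf cE2677)) (BT.leaf cE2678)))) (BT.node 2685 (BT.node 2682 (BT.node 2680 (BT.node 2679 (BT.leaf cE2679) (BT.leaf cE2680)) (BT.node 2681 (BT.leaf cE2681) (BT.leaf cE2682))) (BT.node 2684 (BT.node 2683 (BT.leaf cE2683) (BT.leaf cE2684)) (BT.leaf cE2685))) (BT.node 2689 (BT.node 2687 (BT.node 2686 (BT.leaf cE2686) (BT.leaf cE2687)) (BT.node 2688 (BT.leaf cE2688) (BT.leaf cE2689))) (BT.node 2691 (BT.node 2690 (BT.leaf cE2690) (BT.leaf cE2691)) (BT.leaf cE2692))))) (BT.node 2706 (BT.node 2699 (BT.node 2696 (BT.node 2694 (BT.node 2693 (BT.leaf cE2693) (BT.leaf cE2694)) (BT.node 2695 (BT.leaf cE2695) (BT.leaf cE2696))) (BT.node 2698 (BT.node 2697 (BT.leaf cE2697) (BT.leaf cE2698)) (BT.leaf cE2699))) (BT.node 2703 (BT.node 2701 (BT.node 2700 (BT.leaf cE2700) (BT.leaf cE2701)) (BT.node 2702 (BT.leaf cE2702) (BT.leaf cE2703))) (BT.node 2705 (BT.node 2704 (BT.leaf cE2704) (BT.leaf cE2705)) (BT.leaf cE2706)))) (BT.node 2713 (BT.node 2710 (BT.node 2708 (BT.node 2707 (BT.leaf cE2707) (BT.leaf cE2708)) (BT.node 2709 (BT.leaf cE2709) (BT.leaf cE2710))) (BT.node 2712 (BT.node 2711 (BT.leaf cE2711) (BT.leaf cE2712)) (BT.leaf cE2713))) (BT.node 2717 (BT.node 2715 (BT.node 2714 (BT.leaf cE2714) (BT.leaf cE2715)) (BT.node 2716 (BT.leaf cE2716) (BT.leaf cE2717))) (BT.node 2719 (BT.node 2718 (BT.leaf cE2718) (BT.leaf cE2719)) (BT.leaf cE2720)))))) (BT.node 2748 (BT.node 2734 (BT.node 2727 (BT.node 2724 (BT.node 2722 (BT.node 2721 (BT.leaf cE2721) (BT.leaf cE2722)) (BT.node 2723 (BT.leaf cE2723) (BT.leaf cE2724))) (BT.node 2726 (BT.node 2725 (BT.leaf cE2725) (BT.leaf cE2726)) (BT.leaf cE2727))) (BT.node 2731 (BT.node 2729 (BT.node 2728 (BT.leaf cE2728) (BT.leaf cE2729)) (BT.node 2730 (BT.leaf cE2730) (BT.leaf cE2731))) (BT.node 2733 (BT.node 2732 (BT.leaf cE2732) (BT.leaf cE2733)) (BT.leaf cE2734)))) (BT.node 2741 (BT.node 2738 (BT.node 2736 (BT.node 2735 (BT.leaf cE2735) (BT.leaf cE2736)) (BT.node 2737 (BT.leaf cE2737) (BT.leaf cE2738))) (BT.node 2740 (BT.node 2739 (BT.leaf cE2739) (BT.leaf cE2740)) (BT.leaf cE2741))) (BT.node 2745 (BT.node 2743 (BT.node 2742 (BT.leaf cE2742) (BT.leaf cE2743)) (BT.node 2744 (BT.leaf cE2744) (BT.leaf cE2745))) (BT.node 2747 (BT.node 2746 (BT.leaf cE2746) (BT.leaf cE2747)) (BT.leaf cE2748))))) (BT.node 2762 (BT.node 2755 (BT.node 2752 (BT.node 2750 (BT.node 2749 (BT.leaf cE2749) (BT.leaf cE2750)) (BT.node 2751 (BT.leaf cE2751) (BT.leaf cE2752))) (BT.node 2754 (BT.node 2753 (BT.leaf cE2753) (BT.leaf cE2754)) (BT.leaf cE2755))) (BT.node 2759 (BT.node 2757 (BT.node 2756 (BT.leaf cE2756) (BT.leaf cE2757)) (BT.node 2758 (BT.leaf cE2758) (BT.leaf cE2759))) (BT.node 2761 (BT.node 2760 (BT.leaf cE2760) (BT.leaf cE2761)) (BT.leaf cE2762)))) (BT.node 2769 (BT.node 2766 (BT.node 2764 (BT.node 2763 (BT.leaf cE2763) (BT.leaf cE2764)) (BT.node 2765 (BT.leaf cE2765) (BT.leaf cE2766))) (BT.node 2768 (BT.node 2767 (BT.leaf cE2767) (BT.leaf cE2768)) (BT.leaf cE2769))) (BT.node 2772 (BT.node 2771 (BT.node 2770 (BT.leaf cE2770) (BT.leaf cE2771)) (BT.leaf cE2772)) (BT.node 2774 (BT.node 2773 (BT.leaf cE2773) (BT.leaf cE2774)) (BT.leaf cE2775))))))) (BT.node 2831 (BT.node 2803 (BT.node 2789 (BT.node 2782 (BT.node 2779 (BT.node 2777 (BT.node 2776 (BT.leaf cE2776) (BT.leaf cE2777)) (BT.node 2778 (BT.leaf cE2778) (BT.leaf cE2779))) (BT.node 2781 (BT.node 2780 (BT.leaf cE2780) (BT.leaf cE2781)) (BT.leaf cE2782))) (BT.node 2786 (BT.node 2784 (BT.node 2783 (BT.leaf cE2783) (BT.leaf cE2784)) (BT.node 2785 (BT.leaf cE2785) (BT.leaf cE2786))) (BT.node 2788 (BT.node 2787 (BT.leaf cE2787) (BT.leaf cE2788)) (BT.leaf cE2789)))) (BT.node 2796 (BT.node 2793 (BT.node 2791 (BT.node 2790 (BT.leaf cE2790) (BT.leaf cE2791)) (BT.node 2792 (BT.leaf cE2792) (BT.leaf cE2793))) (BT.node 2795 (BT.node 2794 (BT.leaf cE2794) (BT.leaf cE2795)) (BT.leaf cE2796))) (BT.node 2800 (BT.node 2798 (BT.node 2797 (BT.leaf cE2797) (BT.leaf cE2798)) (BT.node 2799 (BT.leaf cE2799) (BT.leaf cE2800))) (BT.node 2802 (BT.node 2801 (BT.leaf cE2801) (BT.leaf cE2802)) (BT.leaf cE2803))))) (BT.node 2817 (BT.node 2810 (BT.node 2807 (BT.node 2805 (BT.node 2804 (BT.leaf cE2804) (BT.leaf cE2805)) (BT.node 2806 (BT.leaf cE2806) (BT.leaf cE2807))) (BT.node 2809 (BT.node 2808 (BT.leaf cE2808) (BT.leaf cE2809)) (BT.leaf cE2810))) (BT.node 2814 (BT.node 2812 (BT.node 2811 (BT.leaf cE2811) (BT.leaf cE2812)) (BT.node 2813 (BT.leaf cE2813) (BT.leaf cE2814))) (BT.node 2816 (BT.node 2815 (BT.leaf cE2815) (BT.leaf cE2816)) (BT.leaf cE2817)))) (BT.node 2824 (BT.node 2821 (BT.node 2819 (BT.node 2818 (BT.leaf cE2818) (BT.leaf cE2819)) (BT.node 2820 (BT.leaf cE2820) (BT.leaf cE2821))) (BT.node 2823 (BT.node 2822 (BT.leaf cE2822) (BT.leaf cE2823)) (BT.leaf cE2824))) (BT.node 2828 (BT.node 2826 (BT.node 2825 (BT.leaf cE2825) (BT.leaf cE2826)) (BT.node 2827 (BT.leaf cE2827) (BT.leaf cE2828))) (BT.node 2830 (BT.node 2829 (BT.leaf cE2829) (BT.leaf cE2830)) (BT.leaf cE2831)))))) (BT.node 2859 (BT.node 2845 (BT.node 2838 (BT.node 2835 (BT.node 2833 (BT.node 2832 (BT.leaf cE2832) (BT.leaf cE2833)) (BT.node 2834 (BT.leaf cE2834) (BT.leaf cE2835))) (BT.node 2837 (BT.node 2836 (BT.leaf cE2836) (BT.leaf cE2837)) (BT.leaf cE2838))) (BT.node 2842 (BT.node 2840 (BT.node 2839 (BT.leaf cE2839) (BT.leaf cE2840)) (BT.node 2841 (BT.leaf cE2841) (BT.leaf cE2842))) (BT.node 2844 (BT.node 2843 (BT.leaf cE2843) (BT.leaf cE2844)) (BT.leaf cE2845)))) (BT.node 2852 (BT.node 2849 (BT.node 2847 (BT.node 2846 (BT.leaf cE2846) (BT.leaf cE2847)) (BT.node 2848 (BT.leaf cE2848) (BT.leaf cE2849))) (BT.node 2851 (BT.node 2850 (BT.leaf cE2850) (BT.leaf cE2851)) (BT.leaf cE2852))) (BT.node 2856 (BT.node 2854 (BT.node 2853 (BT.leaf cE2853) (BT.leaf cE2854)) (BT.node 2855 (BT.leaf cE2855) (BT.leaf cE2856))) (BT.node 2858 (BT.node 2857 (BT.leaf cE2857) (BT.leaf cE2858)) (BT.leaf cE2859))))) (BT.node 2873 (BT.node 2866 (BT.node 2863 (BT.node 2861 (BT.node 2860 (BT.leaf cE2860) (BT.leaf cE2861)) (BT.node 2862 (BT.leaf cE2862) (BT.leaf cE2863))) (BT.node 2865 (BT.node 2864 (BT.leaf cE2864) (BT.leaf cE2865)) (BT.leaf cE2866))) (BT.node 2870 (BT.node 2868 (BT.node 2867 (BT.leaf cE2867) (BT.leaf cE2868)) (BT.node 2869 (BT.leaf cE2869) (BT.leaf cE2870))) (BT.node 2872 (BT.node 2871 (BT.leaf cE2871) (BT.leaf cE2872)) (BT.leaf cE2873)))) (BT.node 2880 (BT.node 2877 (BT.node 2875 (BT.node 2874 (BT.leaf cE2874) (BT.leaf cE2875)) (BT.node 2876 (BT.leaf cE2876) (BT.leaf cE2877))) (BT.node 2879 (BT.node 2878 (BT.leaf cE2878) (BT.leaf cE2879)) (BT.leaf cE2880))) (BT.node 2883 (BT.node 2882 (BT.node 2881 (BT.leaf cE2881) (BT.leaf cE2882)) (BT.leaf cE2883)) (BT.node 2885 (BT.node 2884 (BT.leaf cE2884) (BT.leaf cE2885)) (BT.leaf cE2886)))))))) (BT.node 2997 (BT.node 2942 (BT.node 2914 (BT.node 2900 (BT.node 2893 (BT.node 2890 (BT.node 2888 (BT.node 2887 (BT.leaf cE2887) (BT.leaf cE2888)) (BT.node 2889 (BT.leaf cE2889) (BT.leaf cE2890))) (BT.node 2892 (BT.node 2891 (BT.leaf cE2891) (BT.leaf cE2892)) (BT.leaf cE2893))) (BT.node 2897 (BT.node 2895 (BT.node 2894 (BT.leaf cE2894) (BT.leaf cE2895)) (BT.node 2896 (BT.leaf cE2896) (BT.leaf cE2897))) (BT.node 2899 (BT.node 2898 (BT.leaf cE2898) (BT.leaf cE2899)) (BT.leaf cE2900)))) (BT.node 2907 (BT.node 2904 (BT.node 2902 (BT.node 2901 (BT.leaf cE2901) (BT.leaf cE2902)) (BT.node 2903 (BT.leaf cE2903) (BT.leaf cE2904))) (BT.node 2906 (BT.node 2905 (BT.leaf cE2905) (BT.leaf cE2906)) (BT.leaf cE2907))) (BT.node 2911 (BT.node 2909 (BT.node 2908 (BT.leaf cE2908) (BT.leaf cE2909)) (BT.node 2910 (BT.leaf cE2910) (BT.leaf cE2911))) (BT.node 2913 (BT.node 2912 (BT.leaf cE2912) (BT.leaf cE2913)) (BT.leaf cE2914))))) (BT.node 2928 (BT.node 2921 (BT.node 2918 (BT.node 2916 (BT.node 2915 (BT.leaf cE2915) (BT.leaf cE2916)) (BT.node 2917 (BT.leaf cE2917) (BT.leaf cE2918))) (BT.node 2920 (BT.node 2919 (BT.leaf cE2919) (BT.leaf cE2920)) (BT.leaf cE2921))) (BT.node 2925 (BT.node 2923 (BT.node 2922 (BT.leaf cE2922) (BT.leaf cE2923)) (BT.node 2924 (BT.leaf cE2924) (BT.leaf cE2925))) (BT.node 2927 (BT.node 2926 (BT.leaf cE2926) (BT.leaf cE2927)) (BT.leaf cE2928)))) (BT.node 2935 (BT.node 2932 (BT.node 2930 (BT.node 2929 (BT.leaf cE2929) (BT.leaf cE2930)) (BT.node 2931 (BT.leaf cE2931) (BT.leaf cE2932))) (BT.node 2934 (BT.node 2933 (BT.leaf cE2933) (BT.leaf cE2934)) (BT.leaf cE2935))) (BT.node 2939 (BT.node 2937 (BT.node 2936 (BT.leaf cE2936) (BT.leaf cE2937)) (BT.node 2938 (BT.leaf cE2938) (BT.leaf cE2939))) (BT.node 2941 (BT.node 2940 (BT.leaf cE2940) (BT.leaf cE2941)) (BT.leaf cE2942)))))) (BT.node 2970 (BT.node 2956 (BT.node 2949 (BT.node 2946 (BT.node 2944 (BT.node 2943 (BT.leaf cE2943) (BT.leaf cE2944)) (BT.node 2945 (BT.leaf cE2945) (BT.leaf cE2946))) (BT.node 2948 (BT.node 2947 (BT.leaf cE2947) (BT.leaf cE2948)) (BT.leaf cE2949))) (BT.node 2953 (BT.node 2951 (BT.node 2950 (BT.leaf cE2950) (BT.leaf cE2951)) (BT.node 2952 (BT.leaf cE2952) (BT.leaf cE2953))) (BT.node 2955 (BT.node 2954 (BT.leaf cE2954) (BT.leaf cE2955)) (BT.leaf cE2956)))) (BT.node 2963 (BT.node 2960 (BT.node 2958 (BT.node 2957 (BT.leaf cE2957) (BT.leaf cE2958)) (BT.node 2959 (BT.leaf cE2959) (BT.leaf cE2960))) (BT.node 2962 (BT.node 2961 (BT.leaf cE2961) (BT.leaf cE2962)) (BT.leaf cE2963))) (BT.node 2967 (BT.node 2965 (BT.node 2964 (BT.leaf cE2964) (BT.leaf cE2965)) (BT.node 2966 (BT.leaf cE2966) (BT.leaf cE2967))) (BT.node 2969 (BT.node 2968 (BT.leaf cE2968) (BT.leaf cE2969)) (BT.leaf cE2970))))) (BT.node 2984 (BT.node 2977 (BT.node 2974 (BT.node 2972 (BT.node 2971 (BT.leaf cE2971) (BT.leaf cE2972)) (BT.node 2973 (BT.leaf cE2973) (BT.leaf cE2974))) (BT.node 2976 (BT.node 2975 (BT.leaf cE2975) (BT.leaf cE2976)) (BT.leaf cE2977))) (BT.node 2981 (BT.node 2979 (BT.node 2978 (BT.leaf cE2978) (BT.leaf cE2979)) (BT.node 2980 (BT.leaf cE2980) (BT.leaf cE2981))) (BT.node 2983 (BT.node 2982 (BT.leaf cE2982) (BT.leaf cE2983)) (BT.leaf cE2984)))) (BT.node 2991 (BT.node 2988 (BT.node 2986 (BT.node 2985 (BT.leaf cE2985) (BT.leaf cE2986)) (BT.node 2987 (BT.leaf cE2987) (BT.leaf cE2988))) (BT.node 2990 (BT.node 2989 (BT.leaf cE2989) (BT.leaf cE2990)) (BT.leaf cE2991))) (BT.node 2994 (BT.node 2993 (BT.node 2992 (BT.leaf cE2992) (BT.leaf cE2993)) (BT.leaf cE2994)) (BT.node 2996 (BT.node 2995 (BT.leaf cE2995) (BT.leaf cE2996)) (BT.leaf cE2997))))))) (BT.node 3053 (BT.node 3025 (BT.node 3011 (BT.node 3004 (BT.node 3001 (BT.node 2999 (BT.node 2998 (BT.leaf cE2998) (BT.leaf cE2999)) (BT.node 3000 (BT.leaf cE3000) (BT.leaf cE3001))) (BT.node 3003 (BT.node 3002 (BT.leaf cE3002) (BT.leaf cE3003)) (BT.leaf cE3004))) (BT.node 3008 (BT.node 3006 (BT.node 3005 (BT.leaf cE3005) (BT.leaf cE3006)) (BT.node 3007 (BT.leaf cE3007) (BT.leaf cE3008))) (BT.node 3010 (BT.node 3009 (BT.leaf cE3009) (BT.leaf cE3010)) (BT.leaf cE3011)))) (BT.node 3018 (BT.node 3015 (BT.node 3013 (BT.node 3012 (BT.leaf cE3012) (BT.leaf cE3013)) (BT.node 3014 (BT.leaf cE3014) (BT.leaf cE3015))) (BT.node 3017 (BT.node 3016 (BT.leaf cE3016) (BT.leaf cE3017)) (BT.leaf cE3018))) (BT.node 3022 (BT.node 3020 (BT.node 3019 (BT.leaf cE3019) (BT.leaf cE3020)) (BT.node 3021 (BT.leaf cE3021) (BT.leaf cE3022))) (BT.node 3024 (BT.node 3023 (BT.leaf cE3023) (BT.leaf cE3024)) (BT.leaf cE3025))))) (BT.node 3039 (BT.node 3032 (BT.node 3029 (BT.node 3027 (BT.node 3026 (BT.leaf cE3026) (BT.leaf cE3027)) (BT.node 3028 (BT.leaf cE3028) (BT.leaf cE3029))) (BT.node 3031 (BT.node 3030 (BT.leaf cE3030) (BT.leaf cE3031)) (BT.leaf cE3032))) (BT.node 3036 (BT.node 3034 (BT.node 3033 (BT.leaf cE3033) (BT.leaf cE3034)) (BT.node 3035 (BT.leaf cE3035) (BT.leaf cE3036))) (BT.node 3038 (BT.node 3037 (BT.leaf cE3037) (BT.leaf cE3038)) (BT.leaf cE3039)))) (BT.node 3046 (BT.node 3043 (BT.node 3041 (BT.node 3040 (BT.leaf cE3040) (BT.leaf cE3041)) (BT.node 3042 (BT.leaf cE3042) (BT.leaf cE3043))) (BT.node 3045 (BT.node 3044 (BT.leaf cE3044) (BT.leaf cE3045)) (BT.leaf cE3046))) (BT.node 3050 (BT.node 3048 (BT.node 3047 (BT.leaf cE3047) (BT.leaf cE3048)) (BT.node 3049 (BT.leaf cE3049) (BT.leaf cE3050))) (BT.node 3052 (BT.node 3051 (BT.leaf cE3051) (BT.leaf cE3052)) (BT.leaf cE3053)))))) (BT.node 3081 (BT.node 3067 (BT.node 3060 (BT.node 3057 (BT.node 3055 (BT.node 3054 (BT.leaf cE3054) (BT.leaf cE3055)) (BT.node 3056 (BT.leaf cE3056) (BT.leaf cE3057))) (BT.node 3059 (BT.node 3058 (BT.leaf cE3058) (BT.leaf cE3059)) (BT.leaf cE3060))) (BT.node 3064 (BT.node 3062 (BT.node 3061 (BT.leaf cE3061) (BT.leaf cE3062)) (BT.node 3063 (BT.leaf cE3063) (BT.leaf cE3064))) (BT.node 3066 (BT.node 3065 (BT.leaf cE3065) (BT.leaf cE3066)) (BT.leaf cE3067)))) (BT.node 3074 (BT.node 3071 (BT.node 3069 (BT.node 3068 (BT.leaf cE3068) (BT.leaf cE3069)) (BT.node 3070 (BT.leaf cE3070) (BT.leaf cE3071))) (BT.node 3073 (BT.node 3072 (BT.leaf cE3072) (BT.leaf cE3073)) (BT.leaf cE3074))) (BT.node 3078 (BT.node 3076 (BT.node 3075 (BT.leaf cE3075) (BT.leaf cE3076)) (BT.node 3077 (BT.leaf cE3077) (BT.leaf cE3078))) (BT.node 3080 (BT.node 3079 (BT.leaf cE3079) (BT.leaf cE3080)) (BT.leaf cE3081))))) (BT.node 3095 (BT.node 3088 (BT.node 3085 (BT.node 3083 (BT.node 3082 (BT.leaf cE3082) (BT.leaf cE3083)) (BT.node 3084 (BT.leaf cE3084) (BT.leaf cE3085))) (BT.node 3087 (BT.node 3086 (BT.leaf cE3086) (BT.leaf cE3087)) (BT.leaf cE3088))) (BT.node 3092 (BT.node 3090 (BT.node 3089 (BT.leaf cE3089) (BT.leaf cE3090)) (BT.node 3091 (BT.leaf cE3091) (BT.leaf cE3092))) (BT.node 3094 (BT.node 3093 (BT.leaf cE3093) (BT.leaf cE3094)) (BT.leaf cE3095)))) (BT.node 3102 (BT.node 3099 (BT.node 3097 (BT.node 3096 (BT.leaf cE3096) (BT.leaf cE3097)) (BT.node 3098 (BT.leaf cE3098) (BT.leaf cE3099))) (BT.node 3101 (BT.node 3100 (BT.leaf cE3100) (BT.leaf cE3101)) (BT.leaf cE3102))) (BT.node 3105 (BT.node 3104 (BT.node 3103 (BT.leaf cE3103) (BT.leaf cE3104)) (BT.leaf cE3105)) (BT.node 3107 (BT.node 3106 (BT.leaf cE3106) (BT.leaf cE3107)) (BT.leaf cE3108))))))))) (BT.node 3330 (BT.node 3219 (BT.node 3164 (BT.node 3136 (BT.node 3122 (BT.node 3115 (BT.node 3112 (BT.node 3110 (BT.node 3109 (BT.leaf cE3109) (BT.leaf cE3110)) (BT.node 3111 (BT.leaf cE3111) (BT.leaf cE3112))) (BT.node 3114 (BT.node 3113 (BT.leaf cE3113) (BT.leaf cE3114)) (BT.leaf cE3115))) (BT.node 3119 (BT.node 3117 (BT.node 3116 (BT.leaf cE3116) (BT.leaf cE3117)) (BT.node 3118 (BT.leaf cE3118) (BT.leaf cE3119))) (BT.node 3121 (BT.node 3120 (BT.leaf cE3120) (BT.leaf cE3121)) (BT.leaf cE3122)))) (BT.node 3129 (BT.node 3126 (BT.node 3124 (BT.node 3123 (BT.leaf cE3123) (BT.leaf cE3124)) (BT.node 3125 (BT.leaf cE3125) (BT.leaf cE3126))) (BT.node 3128 (BT.node 3127 (BT.leaf cE3127) (BT.leaf cE3128)) (BT.leaf cE3129))) (BT.node 3133 (BT.node 3131 (BT.node 3130 (BT.leaf cE3130) (BT.leaf cE3131)) (BT.node 3132 (BT.leaf cE3132) (BT.leaf cE3133))) (BT.node 3135 (BT.node 3134 (BT.leaf cE3134) (BT.leaf cE3135)) (BT.leaf cE3136))))) (BT.node 3150 (BT.node 3143 (BT.node 3140 (BT.node 3138 (BT.node 3137 (BT.leaf cE3137) (BT.leaf cE3138)) (BT.node 3139 (BT.leaf cE3139) (BT.leaf cE3140))) (BT.node 3142 (BT.node 3141 (BT.leaf cE3141) (BT.leaf cE3142)) (BT.leaf cE3143))) (BT.node 3147 (BT.node 3145 (BT.node 3144 (BT.leaf cE3144) (BT.leaf cE3145)) (BT.node 3146 (BT.leaf cE3146) (BT.leaf cE3147))) (BT.node 3149 (BT.node 3148 (BT.leaf cE3148) (BT.leaf cE3149)) (BT.leaf cE3150)))) (BT.node 3157 (BT.node 3154 (BT.node 3152 (BT.node 3151 (BT.leaf cE3151) (BT.leaf cE3152)) (BT.node 3153 (BT.leaf cE3153) (BT.leaf cE3154))) (BT.node 3156 (BT.node 3155 (BT.leaf cE3155) (BT.leaf cE3156)) (BT.leaf cE3157))) (BT.node 3161 (BT.node 3159 (BT.node 3158 (BT.leaf cE3158) (BT.leaf cE3159)) (BT.node 3160 (BT.leaf cE3160) (BT.leaf cE3161))) (BT.node 3163 (BT.node 3162 (BT.leaf cE3162) (BT.leaf cE3163)) (BT.leaf cE3164)))))) (BT.node 3192 (BT.node 3178 (BT.node 3171 (BT.node 3168 (BT.node 3166 (BT.node 3165 (BT.leaf cE3165) (BT.leaf cE3166)) (BT.node 3167 (BT.leaf cE3167) (BT.leaf cE3168))) (BT.node 3170 (BT.node 3169 (BT.leaf cE3169) (BT.leaf cE3170)) (BT.leaf cE3171))) (BT.node 3175 (BT.node 3173 (BT.node 3172 (BT.leaf cE3172) (BT.leaf cE3173)) (BT.node 3174 (BT.leaf cE3174) (BT.leaf cE3175))) (BT.node 3177 (BT.node 3176 (BT.leaf cE3176) (BT.leaf cE3177)) (BT.leaf cE3178)))) (BT.node 3185 (BT.node 3182 (BT.node 3180 (BT.node 3179 (BT.leaf cE3179) (BT.leaf cE3180)) (BT.node 3181 (BT.leaf cE3181) (BT.leaf cE3182))) (BT.node 3184 (BT.node 3183 (BT.leaf cE3183) (BT.leaf cE3184)) (BT.leaf cE3185))) (BT.node 3189 (BT.node 3187 (BT.node 3186 (BT.leaf cE3186) (BT.leaf cE3187)) (BT.node 3188 (BT.leaf cE3188) (BT.leaf cE3189))) (BT.node 3191 (BT.node 3190 (BT.leaf cE3190) (BT.leaf cE3191)) (BT.leaf cE3192))))) (BT.node 3206 (BT.node 3199 (BT.node 3196 (BT.node 3194 (BT.node 3193 (BT.leaf cE3193) (BT.leaf cE3194)) (BT.node 3195 (BT.leaf cE3195) (BT.leaf cE3196))) (BT.node 3198 (BT.node 3197 (BT.leaf cE3197) (BT.leaf cE3198)) (BT.leaf cE3199))) (BT.node 3203 (BT.node 3201 (BT.node 3200 (BT.leaf cE3200) (BT.leaf cE3201)) (BT.node 3202 (BT.leaf cE3202) (BT.leaf cE3203))) (BT.node 3205 (BT.node 3204 (BT.leaf cE3204) (BT.leaf cE3205)) (BT.leaf cE3206)))) (BT.node 3213 (BT.node 3210 (BT.node 3208 (BT.node 3207 (BT.leaf cE3207) (BT.leaf cE3208)) (BT.node 3209 (BT.leaf cE3209) (BT.leaf cE3210))) (BT.node 3212 (BT.node 3211 (BT.leaf cE3211) (BT.leaf cE3212)) (BT.leaf cE3213))) (BT.node 3216 (BT.node 3215 (BT.node 3214 (BT.leaf cE3214) (BT.leaf cE3215)) (BT.leaf cE3216)) (BT.node 3218 (BT.node 3217 (BT.leaf cE3217) (BT.leaf cE3218)) (BT.leaf cE3219))))))) (BT.node 3275 (BT.node 3247 (BT.node 3233 (BT.node 3226 (BT.node 3223 (BT.node 3221 (BT.node 3220 (BT.leaf cE3220) (BT.leaf cE3221)) (BT.node 3222 (BT.leaf cE3222) (BT.leaf cE3223))) (BT.node 3225 (BT.node 3224 (BT.leaf cE3224) (BT.leaf cE3225)) (BT.leaf cE3226))) (BT.node 3230 (BT.node 3228 (BT.node 3227 (BT.leaf cE3227) (BT.leaf cE3228)) (BT.node 3229 (BT.leaf cE3229) (BT.leaf cE3230))) (BT.node 3232 (BT.node 3231 (BT.leaf cE3231) (BT.leaf cE3232)) (BT.leaf cE3233)))) (BT.node 3240 (BT.node 3237 (BT.node 3235 (BT.node 3234 (BT.leaf cE3234) (BT.leaf cE3235)) (BT.node 3236 (BT.leaf cE3236) (BT.leaf cE3237))) (BT.node 3239 (BT.node 3238 (BT.leaf cE3238) (BT.leaf cE3239)) (BT.leaf cE3240))) (BT.node 3244 (BT.node 3242 (BT.node 3241 (BT.leaf cE3241) (BT.leaf cE3242)) (BT.node 3243 (BT.leaf cE3243) (BT.leaf cE3244))) (BT.node 3246 (BT.node 3245 (BT.leaf cE3245) (BT.leaf cE3246)) (BT.leaf cE3247))))) (BT.node 3261 (BT.node 3254 (BT.node 3251 (BT.node 3249 (BT.node 3248 (BT.leaf cE3248) (BT.leaf cE3249)) (BT.node 3250 (BT.leaf cE3250) (BT.leaf cE3251))) (BT.node 3253 (BT.node 3252 (BT.leaf cE3252) (BT.leaf cE3253)) (BT.leaf cE3254))) (BT.node 3258 (BT.node 3256 (BT.node 3255 (BT.leaf cE3255) (BT.leaf cE3256)) (BT.node 3257 (BT.leaf cE3257) (BT.leaf cE3258))) (BT.node 3260 (BT.node 3259 (BT.leaf cE3259) (BT.leaf cE3260)) (BT.leaf cE3261)))) (BT.node 3268 (BT.node 3265 (BT.node 3263 (BT.node 3262 (BT.leaf cE3262) (BT.leaf cE3263)) (BT.node 3264 (BT.leaf cE3264) (BT.leaf cE3265))) (BT.node 3267 (BT.node 3266 (BT.leaf cE3266) (BT.leaf cE3267)) (BT.leaf cE3268))) (BT.node 3272 (BT.node 3270 (BT.node 3269 (BT.leaf cE3269) (BT.leaf cE3270)) (BT.node 3271 (BT.leaf cE3271) (BT.leaf cE3272))) (BT.node 3274 (BT.node 3273 (BT.leaf cE3273) (BT.leaf cE3274)) (BT.leaf cE3275)))))) (BT.node 3303 (BT.node 3289 (BT.node 3282 (BT.node 3279 (BT.node 3277 (BT.node 3276 (BT.leaf cE3276) (BT.leaf cE3277)) (BT.node 3278 (BT.leaf cE3278) (BT.leaf cE3279))) (BT.node 3281 (BT.node 3280 (BT.leaf cE3280) (BT.leaf cE3281)) (BT.leaf cE3282))) (BT.node 3286 (BT.node 3284 (BT.node 3283 (BT.leaf cE3283) (BT.leaf cE3284)) (BT.node 3285 (BT.leaf cE3285) (BT.leaf cE3286))) (BT.node 3288 (BT.node 3287 (BT.leaf cE3287) (BT.leaf cE3288)) (BT.leaf cE3289)))) (BT.node 3296 (BT.node 3293 (BT.node 3291 (BT.node 3290 (BT.leaf cE3290) (BT.leaf cE3291)) (BT.node 3292 (BT.leaf cE3292) (BT.leaf cE3293))) (BT.node 3295 (BT.node 3294 (BT.leaf cE3294) (BT.leaf cE3295)) (BT.leaf cE3296))) (BT.node 3300 (BT.node 3298 (BT.node 3297 (BT.leaf cE3297) (BT.leaf cE3298)) (BT.node 3299 (BT.leaf cE3299) (BT.leaf cE3300))) (BT.node 3302 (BT.node 3301 (BT.leaf cE3301) (BT.leaf cE3302)) (BT.leaf cE3303))))) (BT.node 3317 (BT.node 3310 (BT.node 3307 (BT.node 3305 (BT.node 3304 (BT.leaf cE3304) (BT.leaf cE3305)) (BT.node 3306 (BT.leaf cE3306) (BT.leaf cE3307))) (BT.node 3309 (BT.node 3308 (BT.leaf cE3308) (BT.leaf cE3309)) (BT.leaf cE3310))) (BT.node 3314 (BT.node 3312 (BT.node 3311 (BT.leaf cE3311) (BT.leaf cE3312)) (BT.node 3313 (BT.leaf cE3313) (BT.leaf cE3314))) (BT.node 3316 (BT.node 3315 (BT.leaf cE3315) (BT.leaf cE3316)) (BT.leaf cE3317)))) (BT.node 3324 (BT.node 3321 (BT.node 3319 (BT.node 3318 (BT.leaf cE3318) (BT.leaf cE3319)) (BT.node 3320 (BT.leaf cE3320) (BT.leaf cE3321))) (BT.node 3323 (BT.node 3322 (BT.leaf cE3322) (BT.leaf cE3323)) (BT.leaf cE3324))) (BT.node 3327 (BT.node 3326 (BT.node 3325 (BT.leaf cE3325) (BT.leaf cE3326)) (BT.leaf cE3327)) (BT.node 3329 (BT.node 3328 (BT.leaf cE3328) (BT.leaf cE3329)) (BT.leaf cE3330)))))))) (BT.node 3441 (BT.node 3386 (BT.node 3358 (BT.node 3344 (BT.node 3337 (BT.node 3334 (BT.node 3332 (BT.node 3331 (BT.leaf cE3331) (BT.leaf cE3332)) (BT.node 3333 (BT.leaf cE3333) (BT.leaf cE3334))) (BT.node 3336 (BT.node 3335 (BT.leaf cE3335) (BT.leaf cE3336)) (BT.leaf cE3337))) (BT.node 3341 (BT.node 3339 (BT.node 3338 (BT.leaf cE3338) (BT.leaf cE3339)) (BT.node 3340 (BT.leaf cE3340) (BT.leaf cE3341))) (BT.node 3343 (BT.node 3342 (BT.leaf cE3342) (BT.leaf cE3343)) (BT.leaf cE3344)))) (BT.node 3351 (BT.node 3348 (BT.node 3346 (BT.node 3345 (BT.leaf cE3345) (BT.leaf cE3346)) (BT.node 3347 (BT.leaf cE3347) (BT.leaf cE3348))) (BT.node 3350 (BT.node 3349 (BT.leaf cE3349) (BT.leaf cE3350)) (BT.leaf cE3351))) (BT.node 3355 (BT.node 3353 (BT.node 3352 (BT.leaf cE3352) (BT.leaf cE3353)) (BT.node 3354 (BT.leaf cE3354) (BT.leaf cE3355))) (BT.node 3357 (BT.node 3356 (BT.leaf cE3356) (BT.leaf cE3357)) (BT.leaf cE3358))))) (BT.node 3372 (BT.node 3365 (BT.node 3362 (BT.node 3360 (BT.node 3359 (BT.leaf cE3359) (BT.leaf cE3360)) (BT.node 3361 (BT.leaf cE3361) (BT.leaf cE3362))) (BT.node 3364 (BT.node 3363 (BT.leaf cE3363) (BT.leaf cE3364)) (BT.leaf cE3365))) (BT.node 3369 (BT.node 3367 (BT.node 3366 (BT.leaf cE3366) (BT.leaf cE3367)) (BT.node 3368 (BT.leaf cE3368) (BT.leaf cE3369))) (BT.node 3371 (BT.node 3370 (BT.leaf cE3370) (BT.leaf cE3371)) (BT.leaf cE3372)))) (BT.node 3379 (BT.node 3376 (BT.node 3374 (BT.node 3373 (BT.leaf cE3373) (BT.leaf cE3374)) (BT.node 3375 (BT.leaf cE3375) (BT.leaf cE3376))) (BT.node 3378 (BT.node 3377 (BT.leaf cE3377) (BT.leaf cE3378)) (BT.leaf cE3379))) (BT.node 3383 (BT.node 3381 (BT.node 3380 (BT.leaf cE3380) (BT.leaf cE3381)) (BT.node 3382 (BT.leaf cE3382) (BT.leaf cE3383))) (BT.node 3385 (BT.node 3384 (BT.leaf cE3384) (BT.leaf cE3385)) (BT.leaf cE3386)))))) (BT.node 3414 (BT.node 3400 (BT.node 3393 (BT.node 3390 (BT.node 3388 (BT.node 3387 (BT.leaf cE3387) (BT.leaf cE3388)) (BT.node 3389 (BT.leaf cE3389) (BT.leaf cE3390))) (BT.node 3392 (BT.node 3391 (BT.leaf cE3391) (BT.leaf cE3392)) (BT.leaf cE3393))) (BT.node 3397 (BT.node 3395 (BT.node 3394 (BT.leaf cE3394) (BT.leaf cE3395)) (BT.node 3396 (BT.leaf cE3396) (BT.leaf cE3397))) (BT.node 3399 (BT.node 3398 (BT.leaf cE3398) (BT.leaf cE3399)) (BT.leaf cE3400)))) (BT.node 3407 (BT.node 3404 (BT.node 3402 (BT.node 3401 (BT.leaf cE3401) (BT.leaf cE3402)) (BT.node 3403 (BT.leaf cE3403) (BT.leaf cE3404))) (BT.node 3406 (BT.node 3405 (BT.leaf cE3405) (BT.leaf cE3406)) (BT.leaf cE3407))) (BT.node 3411 (BT.node 3409 (BT.node 3408 (BT.leaf cE3408) (BT.leaf cE3409)) (BT.node 3410 (BT.leaf cE3410) (BT.leaf cE3411))) (BT.node 3413 (BT.node 3412 (BT.leaf cE3412) (BT.leaf cE3413)) (BT.leaf cE3414))))) (BT.node 3428 (BT.node 3421 (BT.node 3418 (BT.node 3416 (BT.node 3415 (BT.leaf cE3415) (BT.leaf cE3416)) (BT.node 3417 (BT.leaf cE3417) (BT.leaf cE3418))) (BT.node 3420 (BT.node 3419 (BT.leaf cE3419) (BT.leaf cE3420)) (BT.leaf cE3421))) (BT.node 3425 (BT.node 3423 (BT.node 3422 (BT.leaf cE3422) (BT.leaf cE3423)) (BT.node 3424 (BT.leaf cE3424) (BT.leaf cE3425))) (BT.node 3427 (BT.node 3426 (BT.leaf cE3426) (BT.leaf cE3427)) (BT.leaf cE3428)))) (BT.node 3435 (BT.node 3432 (BT.node 3430 (BT.node 3429 (BT.leaf cE3429) (BT.leaf cE3430)) (BT.node 3431 (BT.leaf cE3431) (BT.leaf cE3432))) (BT.node 3434 (BT.node 3433 (BT.leaf cE3433) (BT.leaf cE3434)) (BT.leaf cE3435))) (BT.node 3438 (BT.node 3437 (BT.node 3436 (BT.leaf cE3436) (BT.leaf cE3437)) (BT.leaf cE3438)) (BT.node 3440 (BT.node 3439 (BT.leaf cE3439) (BT.leaf cE3440)) (BT.leaf cE3441))))))) (BT.node 3497 (BT.node 3469 (BT.node 3455 (BT.node 3448 (BT.node 3445 (BT.node 3443 (BT.node 3442 (BT.leaf cE3442) (BT.leaf cE3443)) (BT.node 3444 (BT.leaf cE3444) (BT.leaf cE3445))) (BT.node 3447 (BT.node 3446 (BT.leaf cE3446) (BT.leaf cE3447)) (BT.leaf cE3448))) (BT.node 3452 (BT.node 3450 (BT.node 3449 (BT.leaf cE3449) (BT.leaf cE3450)) (BT.node 3451 (BT.leaf cE3451) (BT.leaf cE3452))) (BT.node 3454 (BT.node 3453 (BT.leaf cE3453) (BT.leaf cE3454)) (BT.leaf cE3455)))) (BT.node 3462 (BT.node 3459 (BT.node 3457 (BT.node 3456 (BT.leaf cE3456) (BT.leaf cE3457)) (BT.node 3458 (BT.leaf cE3458) (BT.leaf cE3459))) (BT.node 3461 (BT.node 3460 (BT.leaf cE3460) (BT.leaf cE3461)) (BT.leaf cE3462))) (BT.node 3466 (BT.node 3464 (BT.node 3463 (BT.leaf cE3463) (BT.leaf cE3464)) (BT.node 3465 (BT.leaf cE3465) (BT.leaf cE3466))) (BT.node 3468 (BT.node 3467 (BT.leaf cE3467) (BT.leaf cE3468)) (BT.leaf cE3469))))) (BT.node 3483 (BT.node 3476 (BT.node 3473 (BT.node 3471 (BT.node 3470 (BT.leaf cE3470) (BT.leaf cE3471)) (BT.node 3472 (BT.leaf cE3472) (BT.leaf cE3473))) (BT.node 3475 (BT.node 3474 (BT.leaf cE3474) (BT.leaf cE3475)) (BT.leaf cE3476))) (BT.node 3480 (BT.node 3478 (BT.node 3477 (BT.leaf cE3477) (BT.leaf cE3478)) (BT.node 3479 (BT.leaf cE3479) (BT.leaf cE3480))) (BT.node 3482 (BT.node 3481 (BT.leaf cE3481) (BT.leaf cE3482)) (BT.leaf cE3483)))) (BT.node 3490 (BT.node 3487 (BT.node 3485 (BT.node 3484 (BT.leaf cE3484) (BT.leaf cE3485)) (BT.node 3486 (BT.leaf cE3486) (BT.leaf cE3487))) (BT.node 3489 (BT.node 3488 (BT.leaf cE3488) (BT.leaf cE3489)) (BT.leaf cE3490))) (BT.node 3494 (BT.node 3492 (BT.node 3491 (BT.leaf cE3491) (BT.leaf cE3492)) (BT.node 3493 (BT.leaf cE3493) (BT.leaf cE3494))) (BT.node 3496 (BT.node 3495 (BT.leaf cE3495) (BT.leaf cE3496)) (BT.leaf cE3497)))))) (BT.node 3525 (BT.node 3511 (BT.node 3504 (BT.node 3501 (BT.node 3499 (BT.node 3498 (BT.leaf cE3498) (BT.leaf cE3499)) (BT.node 3500 (BT.leaf cE3500) (BT.leaf cE3501))) (BT.node 3503 (BT.node 3502 (BT.leaf cE3502) (BT.leaf cE3503)) (BT.leaf cE3504))) (BT.node 3508 (BT.node 3506 (BT.node 3505 (BT.leaf cE3505) (BT.leaf cE3506)) (BT.node 3507 (BT.leaf cE3507) (BT.leaf cE3508))) (BT.node 3510 (BT.node 3509 (BT.leaf cE3509) (BT.leaf cE3510)) (BT.leaf cE3511)))) (BT.node 3518 (BT.node 3515 (BT.node 3513 (BT.node 3512 (BT.leaf cE3512) (BT.leaf cE3513)) (BT.node 3514 (BT.leaf cE3514) (BT.leaf cE3515))) (BT.node 3517 (BT.node 3516 (BT.leaf cE3516) (BT.leaf cE3517)) (BT.leaf cE3518))) (BT.node 3522 (BT.node 3520 (BT.node 3519 (BT.leaf cE3519) (BT.leaf cE3520)) (BT.node 3521 (BT.leaf cE3521) (BT.leaf cE3522))) (BT.node 3524 (BT.node 3523 (BT.leaf cE3523) (BT.leaf cE3524)) (BT.leaf cE3525))))) (BT.node 3539 (BT.node 3532 (BT.node 3529 (BT.node 3527 (BT.node 3526 (BT.leaf cE3526) (BT.leaf cE3527)) (BT.node 3528 (BT.leaf cE3528) (BT.leaf cE3529))) (BT.node 3531 (BT.node 3530 (BT.leaf cE3530) (BT.leaf cE3531)) (BT.leaf cE3532))) (BT.node 3536 (BT.node 3534 (BT.node 3533 (BT.leaf cE3533) (BT.leaf cE3534)) (BT.node 3535 (BT.leaf cE3535) (BT.leaf cE3536))) (BT.node 3538 (BT.node 3537 (BT.leaf cE3537) (BT.leaf cE3538)) (BT.leaf cE3539)))) (BT.node 3546 (BT.node 3543 (BT.node 3541 (BT.node 3540 (BT.leaf cE3540) (BT.leaf cE3541)) (BT.node 3542 (BT.leaf cE3542) (BT.leaf cE3543))) (BT.node 3545 (BT.node 3544 (BT.leaf cE3544) (BT.leaf cE3545)) (BT.leaf cE3546))) (BT.node 3549 (BT.node 3548 (BT.node 3547 (BT.leaf cE3547) (BT.leaf cE3548)) (BT.leaf cE3549)) (BT.node 3551 (BT.node 3550 (BT.leaf cE3550) (BT.leaf cE3551)) (BT.leaf cE3552))))))))))))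
/-- justification chunks -/
noncomputable def colJT : BT ℕ := (BT.node 1776 (BT.node 888 (BT.node 444 (BT.node 222 (BT.node 111 (BT.node 55 (BT.node 27 (BT.node 13 (BT.node 6 (BT.node 3 (BT.node 1 (BT.node 0 (BT.leaf cJ0) (BT.leaf cJ1)) (BT.node 2 (BT.leaf cJ2) (BT.leaf cJ3))) (BT.node 5 (BT.node 4 (BT.leaf cJ4) (BT.leaf cJ5)) (BT.leaf cJ6))) (BT.node 10 (BT.node 8 (BT.node 7 (BT.leaf cJ7) (BT.leaf cJ8)) (BT.node 9 (BT.leaf cJ9) (BT.leaf cJ10))) (BT.node 12 (BT.node 11 (BT.leaf cJ11) (BT.leaf cJ12)) (BT.leaf cJ13)))) (BT.node 20 (BT.node 17 (BT.node 15 (BT.node 14 (BT.leaf cJ14) (BT.leaf cJ15)) (BT.node 16 (BT.leaf cJ16) (BT.leaf cJ17))) (BT.node 19 (BT.node 18 (BT.leaf cJ18) (BT.leaf cJ19)) (BT.leaf cJ20))) (BT.node 24 (BT.node 22 (BT.node 21 (BT.leaf cJ21) (BT.leaf cJ22)) (BT.node 23 (BT.leaf cJ23) (BT.leaf cJ24))) (BT.node 26 (BT.node 25 (BT.leaf cJ25) (BT.leaf cJ26)) (BT.leaf cJ27))))) (BT.node 41 (BT.node 34 (BT.node 31 (BT.node 29 (BT.node 28 (BT.leaf cJ28) (BT.leaf cJ29)) (BT.node 30 (BT.leaf cJ30) (BT.leaf cJ31))) (BT.node 33 (BT.node 32 (BT.leaf cJ32) (BT.leaf cJ33)) (BT.leaf cJ34))) (BT.node 38 (BT.node 36 (BT.node 35 (BT.leaf cJ35) (BT.leaf cJ36)) (BT.node 37 (BT.leaf cJ37) (BT.leaf cJ38))) (BT.node 40 (BT.node 39 (BT.leaf cJ39) (BT.leaf cJ40)) (BT.leaf cJ41)))) (BT.node 48 (BT.node 45 (BT.node 43 (BT.node 42 (BT.leaf cJ42) (BT.leaf cJ43)) (BT.node 44 (BT.leaf cJ44) (BT.leaf cJ45))) (BT.node 47 (BT.node 46 (BT.leaf cJ46) (BT.leaf cJ47)) (BT.leaf cJ48))) (BT.node 52 (BT.node 50 (BT.node 49 (BT.leaf cJ49) (BT.leaf cJ50)) (BT.node 51 (BT.leaf cJ51) (BT.leaf cJ52))) (BT.node 54 (BT.node 53 (BT.leaf cJ53) (BT.leaf cJ54)) (BT.leaf cJ55)))))) (BT.node 83 (BT.node 69 (BT.node 62 (BT.node 59 (BT.node 57 (BT.node 56 (BT.leaf cJ56) (BT.leaf cJ57)) (BT.node 58 (BT.leaf cJ58) (BT.leaf cJ59))) (BT.node 61 (BT.node 60 (BT.leaf cJ60) (BT.leaf cJ61)) (BT.leaf cJ62))) (BT.node 66 (BT.node 64 (BT.node 63 (BT.leaf cJ63) (BT.leaf cJ64)) (BT.node 65 (BT.leaf cJ65) (BT.leaf cJ66))) (BT.node 68 (BT.node 67 (BT.leaf cJ67) (BT.leaf cJ68)) (BT.leaf cJ69)))) (BT.node 76 (BT.node 73 (BT.node 71 (BT.node 70 (BT.leaf cJ70) (BT.leaf cJ71)) (BT.node 72 (BT.leaf cJ72) (BT.leaf cJ73))) (BT.node 75 (BT.node 74 (BT.leaf cJ74) (BT.leaf cJ75)) (BT.leaf cJ76))) (BT.node 80 (BT.node 78 (BT.node 77 (BT.leaf cJ77) (BT.leaf cJ78)) (BT.node 79 (BT.leaf cJ79) (BT.leaf cJ80))) (BT.node 82 (BT.node 81 (BT.leaf cJ81) (BT.leaf cJ82)) (BT.leaf cJ83))))) (BT.node 97 (BT.node 90 (BT.node 87 (BT.node 85 (BT.node 84 (BT.leaf cJ84) (BT.leaf cJ85)) (BT.node 86 (BT.leaf cJ86) (BT.leaf cJ87))) (BT.node 89 (BT.node 88 (BT.leaf cJ88) (BT.leaf cJ89)) (BT.leaf cJ90))) (BT.node 94 (BT.node 92 (BT.node 91 (BT.leaf cJ91) (BT.leaf cJ92)) (BT.node 93 (BT.leaf cJ93) (BT.leaf cJ94))) (BT.node 96 (BT.node 95 (BT.leaf cJ95) (BT.leaf cJ96)) (BT.leaf cJ97)))) (BT.node 104 (BT.node 101 (BT.node 99 (BT.node 98 (BT.leaf cJ98) (BT.leaf cJ99)) (BT.node 100 (BT.leaf cJ100) (BT.leaf cJ101))) (BT.node 103 (BT.node 102 (BT.leaf cJ102) (BT.leaf cJ103)) (BT.leaf cJ104))) (BT.node 108 (BT.node 106 (BT.node 105 (BT.leaf cJ105) (BT.leaf cJ106)) (BT.node 107 (BT.leaf cJ107) (BT.leaf cJ108))) (BT.node 110 (BT.node 109 (BT.leaf cJ109) (BT.leaf cJ110)) (BT.leaf cJ111))))))) (BT.node 167 (BT.node 139 (BT.node 125 (BT.node 118 (BT.node 115 (BT.node 113 (BT.node 112 (BT.leaf cJ112) (BT.leaf cJ113)) (BT.node 114 (BT.leaf cJ114) (BT.leaf cJ115))) (BT.node 117 (BT.node 116 (BT.leaf cJ116) (BT.leaf cJ117)) (BT.leaf cJ118))) (BT.node 122 (BT.node 120 (BT.node 119 (BT.leaf cJ119) (BT.leaf cJ120)) (BT.node 121 (BT.leaf cJ121) (BT.leaf cJ122))) (BT.node 124 (BT.node 123 (BT.leaf cJ123) (BT.leaf cJ124)) (BT.leaf cJ125)))) (BT.node 132 (BT.node 129 (BT.node 127 (BT.node 126 (BT.leaf cJ126) (BT.leaf cJ127)) (BT.node 128 (BT.leaf cJ128) (BT.leaf cJ129))) (BT.node 131 (BT.node 130 (BT.leaf cJ130) (BT.leaf cJ131)) (BT.leaf cJ132))) (BT.node 136 (BT.node 134 (BT.node 133 (BT.leaf cJ133) (BT.leaf cJ134)) (BT.node 135 (BT.leaf cJ135) (BT.leaf cJ136))) (BT.node 138 (BT.node 137 (BT.leaf cJ137) (BT.leaf cJ138)) (BT.leaf cJ139))))) (BT.node 153 (BT.node 146 (BT.node 143 (BT.node 141 (BT.node 140 (BT.leaf cJ140) (BT.leaf cJ141)) (BT.node 142 (BT.leaf cJ142) (BT.leaf cJ143))) (BT.node 145 (BT.node 144 (BT.leaf cJ144) (BT.leaf cJ145)) (BT.leaf cJ146))) (BT.node 150 (BT.node 148 (BT.node 147 (BT.leaf cJ147) (BT.leaf cJ148)) (BT.node 149 (BT.leaf cJ149) (BT.leaf cJ150))) (BT.node 152 (BT.node 151 (BT.leaf cJ151) (BT.leaf cJ152)) (BT.leaf cJ153)))) (BT.node 160 (BT.node 157 (BT.node 155 (BT.node 154 (BT.leaf cJ154) (BT.leaf cJ155)) (BT.node 156 (BT.leaf cJ156) (BT.leaf cJ157))) (BT.node 159 (BT.node 158 (BT.leaf cJ158) (BT.leaf cJ159)) (BT.leaf cJ160))) (BT.node 164 (BT.node 162 (BT.node 161 (BT.leaf cJ161) (BT.leaf cJ162)) (BT.node 163 (BT.leaf cJ163) (BT.leaf cJ164))) (BT.node 166 (BT.node 165 (BT.leaf cJ165) (BT.leaf cJ166)) (BT.leaf cJ167)))))) (BT.node 195 (BT.node 181 (BT.node 174 (BT.node 171 (BT.node 169 (BT.node 168 (BT.leaf cJ168) (BT.leaf cJ169)) (BT.node 170 (BT.leaf cJ170) (BT.leaf cJ171))) (BT.node 173 (BT.node 172 (BT.leaf cJ172) (BT.leaf cJ173)) (BT.leaf cJ174))) (BT.node 178 (BT.node 176 (BT.node 175 (BT.leaf cJ175) (BT.leaf cJ176)) (BT.node 177 (BT.leaf cJ177) (BT.leaf cJ178))) (BT.node 180 (BT.node 179 (BT.leaf cJ179) (BT.leaf cJ180)) (BT.leaf cJ181)))) (BT.node 188 (BT.node 185 (BT.node 183 (BT.node 182 (BT.leaf cJ182) (BT.leaf cJ183)) (BT.node 184 (BT.leaf cJ184) (BT.leaf cJ185))) (BT.node 187 (BT.node 186 (BT.leaf cJ186) (BT.leaf cJ187)) (BT.leaf cJ188))) (BT.node 192 (BT.node 190 (BT.node 189 (BT.leaf cJ189) (BT.leaf cJ190)) (BT.node 191 (BT.leaf cJ191) (BT.leaf cJ192))) (BT.node 194 (BT.node 193 (BT.leaf cJ193) (BT.leaf cJ194)) (BT.leaf cJ195))))) (BT.node 209 (BT.node 202 (BT.node 199 (BT.node 197 (BT.node 196 (BT.leaf cJ196) (BT.leaf cJ197)) (BT.node 198 (BT.leaf cJ198) (BT.leaf cJ199))) (BT.node 201 (BT.node 200 (BT.leaf cJ200) (BT.leaf cJ201)) (BT.leaf cJ202))) (BT.node 206 (BT.node 204 (BT.node 203 (BT.leaf cJ203) (BT.leaf cJ204)) (BT.node 205 (BT.leaf cJ205) (BT.leaf cJ206))) (BT.node 208 (BT.node 207 (BT.leaf cJ207) (BT.leaf cJ208)) (BT.leaf cJ209)))) (BT.node 216 (BT.node 213 (BT.node 211 (BT.node 210 (BT.leaf cJ210) (BT.leaf cJ211)) (BT.node 212 (BT.leaf cJ212) (BT.leaf cJ213))) (BT.node 215 (BT.node 214 (BT.leaf cJ214) (BT.leaf cJ215)) (BT.leaf cJ216))) (BT.node 219 (BT.node 218 (BT.node 217 (BT.leaf cJ217) (BT.leaf cJ218)) (BT.leaf cJ219)) (BT.node 221 (BT.node 220 (BT.leaf cJ220) (BT.leaf cJ221)) (BT.leaf cJ222)))))))) (BT.node 333 (BT.node 278 (BT.node 250 (BT.node 236 (BT.node 229 (BT.node 226 (BT.node 224 (BT.node 223 (BT.leaf cJ223) (BT.leaf cJ224)) (BT.node 225 (BT.leaf cJ225) (BT.leaf cJ226))) (BT.node 228 (BT.node 227 (BT.leaf cJ227) (BT.leaf cJ228)) (BT.leaf cJ229))) (BT.node 233 (BT.node 231 (BT.node 230 (BT.leaf cJ230) (BT.leaf cJ231)) (BT.node 232 (BT.leaf cJ232) (BT.leaf cJ233))) (BT.node 235 (BT.node 234 (BT.leaf cJ234) (BT.leaf cJ235)) (BT.leaf cJ236)))) (BT.node 243 (BT.node 240 (BT.node 238 (BT.node 237 (BT.leaf cJ237) (BT.leaf cJ238)) (BT.node 239 (BT.leaf cJ239) (BT.leaf cJ240))) (BT.node 242 (BT.node 241 (BT.leaf cJ241) (BT.leaf cJ242)) (BT.leaf cJ243))) (BT.node 247 (BT.node 245 (BT.node 244 (BT.leaf cJ244) (BT.leaf cJ245)) (BT.node 246 (BT.leaf cJ246) (BT.leaf cJ247))) (BT.node 249 (BT.node 248 (BT.leaf cJ248) (BT.leaf cJ249)) (BT.leaf cJ250))))) (BT.node 264 (BT.node 257 (BT.node 254 (BT.node 252 (BT.node 251 (BT.leaf cJ251) (BT.leaf cJ252)) (BT.node 253 (BT.leaf cJ253) (BT.leaf cJ254))) (BT.node 256 (BT.node 255 (BT.leaf cJ255) (BT.leaf cJ256)) (BT.leaf cJ257))) (BT.node 261 (BT.node 259 (BT.node 258 (BT.leaf cJ258) (BT.leaf cJ259)) (BT.node 260 (BT.leaf cJ260) (BT.leaf cJ261))) (BT.node 263 (BT.node 262 (BT.leaf cJ262) (BT.leaf cJ263)) (BT.leaf cJ264)))) (BT.node 271 (BT.node 268 (BT.node 266 (BT.node 265 (BT.leaf cJ265) (BT.leaf cJ266)) (BT.node 267 (BT.leaf cJ267) (BT.leaf cJ268))) (BT.node 270 (BT.node 269 (BT.leaf cJ269) (BT.leaf cJ270)) (BT.leaf cJ271))) (BT.node 275 (BT.node 273 (BT.node 272 (BT.leaf cJ272) (BT.leaf cJ273)) (BT.node 274 (BT.leaf cJ274) (BT.leaf cJ275))) (BT.node 277 (BT.node 276 (BT.leaf cJ276) (BT.leaf cJ277)) (BT.leaf cJ278)))))) (BT.node 306 (BT.node 292 (BT.node 285 (BT.node 282 (BT.node 280 (BT.node 279 (BT.leaf cJ279) (BT.leaf cJ280)) (BT.node 281 (BT.leaf cJ281) (BT.leaf cJ282))) (BT.node 284 (BT.node 283 (BT.leaf cJ283) (BT.leaf cJ284)) (BT.leaf cJ285))) (BT.node 289 (BT.node 287 (BT.node 286 (BT.leaf cJ286) (BT.leaf cJ287)) (BT.node 288 (BT.leaf cJ288) (BT.leaf cJ289))) (BT.node 291 (BT.node 290 (BT.leaf cJ290) (BT.leaf cJ291)) (BT.leaf cJ292)))) (BT.node 299 (BT.node 296 (BT.node 294 (BT.node 293 (BT.leaf cJ293) (BT.leaf cJ294)) (BT.node 295 (BT.leaf cJ295) (BT.leaf cJ296))) (BT.node 298 (BT.node 297 (BT.leaf cJ297) (BT.leaf cJ298)) (BT.leaf cJ299))) (BT.node 303 (BT.node 301 (BT.node 300 (BT.leaf cJ300) (BT.leaf cJ301)) (BT.node 302 (BT.leaf cJ302) (BT.leaf cJ303))) (BT.node 305 (BT.node 304 (BT.leaf cJ304) (BT.leaf cJ305)) (BT.leaf cJ306))))) (BT.node 320 (BT.node 313 (BT.node 310 (BT.node 308 (BT.node 307 (BT.leaf cJ307) (BT.leaf cJ308)) (BT.node 309 (BT.leaf cJ309) (BT.leaf cJ310))) (BT.node 312 (BT.node 311 (BT.leaf cJ311) (BT.leaf cJ312)) (BT.leaf cJ313))) (BT.node 317 (BT.node 315 (BT.node 314 (BT.leaf cJ314) (BT.leaf cJ315)) (BT.node 316 (BT.leaf cJ316) (BT.leaf cJ317))) (BT.node 319 (BT.node 318 (BT.leaf cJ318) (BT.leaf cJ319)) (BT.leaf cJ320)))) (BT.node 327 (BT.node 324 (BT.node 322 (BT.node 321 (BT.leaf cJ321) (BT.leaf cJ322)) (BT.node 323 (BT.leaf cJ323) (BT.leaf cJ324))) (BT.node 326 (BT.node 325 (BT.leaf cJ325) (BT.leaf cJ326)) (BT.leaf cJ327))) (BT.node 330 (BT.node 329 (BT.node 328 (BT.leaf cJ328) (BT.leaf cJ329)) (BT.leaf cJ330)) (BT.node 332 (BT.node 331 (BT.leaf cJ331) (BT.leaf cJ332)) (BT.leaf cJ333))))))) (BT.node 389 (BT.node 361 (BT.node 347 (BT.node 340 (BT.node 337 (BT.node 335 (BT.node 334 (BT.leaf cJ334) (BT.leaf cJ335)) (BT.node 336 (BT.leaf cJ336) (BT.leaf cJ337))) (BT.node 339 (BT.node 338 (BT.leaf cJ338) (BT.leaf cJ339)) (BT.leaf cJ340))) (BT.node 344 (BT.node 342 (BT.node 341 (BT.leaf cJ341) (BT.leaf cJ342)) (BT.node 343 (BT.leaf cJ343) (BT.leaf cJ344))) (BT.node 346 (BT.node 345 (BT.leaf cJ345) (BT.leaf cJ346)) (BT.leaf cJ347)))) (BT.node 354 (BT.node 351 (BT.node 349 (BT.node 348 (BT.leaf cJ348) (BT.leaf cJ349)) (BT.node 350 (BT.leaf cJ350) (BT.leaf cJ351))) (BT.node 353 (BT.node 352 (BT.leaf cJ352) (BT.leaf cJ353)) (BT.leaf cJ354))) (BT.node 358 (BT.node 356 (BT.node 355 (BT.leaf cJ355) (BT.leaf cJ356)) (BT.node 357 (BT.leaf cJ357) (BT.leaf cJ358))) (BT.node 360 (BT.node 359 (BT.leaf cJ359) (BT.leaf cJ360)) (BT.leaf cJ361))))) (BT.node 375 (BT.node 368 (BT.node 365 (BT.node 363 (BT.node 362 (BT.leaf cJ362) (BT.leaf cJ363)) (BT.node 364 (BT.leaf cJ364) (BT.leaf cJ365))) (BT.node 367 (BT.node 366 (BT.leaf cJ366) (BT.leaf cJ367)) (BT.leaf cJ368))) (BT.node 372 (BT.node 370 (BT.node 369 (BT.leaf cJ369) (BT.leaf cJ370)) (BT.node 371 (BT.leaf cJ371) (BT.leaf cJ372))) (BT.node 374 (BT.node 373 (BT.leaf cJ373) (BT.leaf cJ374)) (BT.leaf cJ375)))) (BT.node 382 (BT.node 379 (BT.node 377 (BT.node 376 (BT.leaf cJ376) (BT.leaf cJ377)) (BT.node 378 (BT.leaf cJ378) (BT.leaf cJ379))) (BT.node 381 (BT.node 380 (BT.leaf cJ380) (BT.leaf cJ381)) (BT.leaf cJ382))) (BT.node 386 (BT.node 384 (BT.node 383 (BT.leaf cJ383) (BT.leaf cJ384)) (BT.node 385 (BT.leaf cJ385) (BT.leaf cJ386))) (BT.node 388 (BT.node 387 (BT.leaf cJ387) (BT.leaf cJ388)) (BT.leaf cJ389)))))) (BT.node 417 (BT.node 403 (BT.node 396 (BT.node 393 (BT.node 391 (BT.node 390 (BT.leaf cJ390) (BT.leaf cJ391)) (BT.node 392 (BT.leaf cJ392) (BT.leaf cJ393))) (BT.node 395 (BT.node 394 (BT.leaf cJ394) (BT.leaf cJ395)) (BT.leaf cJ396))) (BT.node 400 (BT.node 398 (BT.node 397 (BT.leaf cJ397) (BT.leaf cJ398)) (BT.node 399 (BT.leaf cJ399) (BT.leaf cJ400))) (BT.node 402 (BT.node 401 (BT.leaf cJ401) (BT.leaf cJ402)) (BT.leaf cJ403)))) (BT.node 410 (BT.node 407 (BT.node 405 (BT.node 404 (BT.leaf cJ404) (BT.leaf cJ405)) (BT.node 406 (BT.leaf cJ406) (BT.leaf cJ407))) (BT.node 409 (BT.node 408 (BT.leaf cJ408) (BT.leaf cJ409)) (BT.leaf cJ410))) (BT.node 414 (BT.node 412 (BT.node 411 (BT.leaf cJ411) (BT.leaf cJ412)) (BT.node 413 (BT.leaf cJ413) (BT.leaf cJ414))) (BT.node 416 (BT.node 415 (BT.leaf cJ415) (BT.leaf cJ416)) (BT.leaf cJ417))))) (BT.node 431 (BT.node 424 (BT.node 421 (BT.node 419 (BT.node 418 (BT.leaf cJ418) (BT.leaf cJ419)) (BT.node 420 (BT.leaf cJ420) (BT.leaf cJ421))) (BT.node 423 (BT.node 422 (BT.leaf cJ422) (BT.leaf cJ423)) (BT.leaf cJ424))) (BT.node 428 (BT.node 426 (BT.node 425 (BT.leaf cJ425) (BT.leaf cJ426)) (BT.node 427 (BT.leaf cJ427) (BT.leaf cJ428))) (BT.node 430 (BT.node 429 (BT.leaf cJ429) (BT.leaf cJ430)) (BT.leaf cJ431)))) (BT.node 438 (BT.node 435 (BT.node 433 (BT.node 432 (BT.leaf cJ432) (BT.leaf cJ433)) (BT.node 434 (BT.leaf cJ434) (BT.leaf cJ435))) (BT.node 437 (BT.node 436 (BT.leaf cJ436) (BT.leaf cJ437)) (BT.leaf cJ438))) (BT.node 441 (BT.node 440 (BT.node 439 (BT.leaf cJ439) (BT.leaf cJ440)) (BT.leaf cJ441)) (BT.node 443 (BT.node 442 (BT.leaf cJ442) (BT.leaf cJ443)) (BT.leaf cJ444))))))))) (BT.node 666 (BT.node 555 (BT.node 500 (BT.node 472 (BT.node 458 (BT.node 451 (BT.node 448 (BT.node 446 (BT.node 445 (BT.leaf cJ445) (BT.leaf cJ446)) (BT.node 447 (BT.leaf cJ447) (BT.leaf cJ448))) (BT.node 450 (BT.node 449 (BT.leaf cJ449) (BT.leaf cJ450)) (BT.leaf cJ451))) (BT.node 455 (BT.node 453 (BT.node 452 (BT.leaf cJ452) (BT.leaf cJ453)) (BT.node 454 (BT.leaf cJ454) (BT.leaf cJ455))) (BT.node 457 (BT.node 456 (BT.leaf cJ456) (BT.leaf cJ457)) (BT.leaf cJ458)))) (BT.node 465 (BT.node 462 (BT.node 460 (BT.node 459 (BT.leaf cJ459) (BT.leaf cJ460)) (BT.node 461 (BT.leaf cJ461) (BT.leaf cJ462))) (BT.node 464 (BT.node 463 (BT.leaf cJ463) (BT.leaf cJ464)) (BT.leaf cJ465))) (BT.node 469 (BT.node 467 (BT.node 466 (BT.leaf cJ466) (BT.leaf cJ467)) (BT.node 468 (BT.leaf cJ468) (BT.leaf cJ469))) (BT.node 471 (BT.node 470 (BT.leaf cJ470) (BT.leaf cJ471)) (BT.leaf cJ472))))) (BT.node 486 (BT.node 479 (BT.node 476 (BT.node 474 (BT.node 473 (BT.leaf cJ473) (BT.leaf cJ474)) (BT.node 475 (BT.leaf cJ475) (BT.leaf cJ476))) (BT.node 478 (BT.node 477 (BT.leaf cJ477) (BT.leaf cJ478)) (BT.leaf cJ479))) (BT.node 483 (BT.node 481 (BT.node 480 (BT.leaf cJ480) (BT.leaf cJ481)) (BT.node 482 (BT.leaf cJ482) (BT.leaf cJ483))) (BT.node 485 (BT.node 484 (BT.leaf cJ484) (BT.leaf cJ485)) (BT.leaf cJ486)))) (BT.node 493 (BT.node 490 (BT.node 488 (BT.node 487 (BT.leaf cJ487) (BT.leaf cJ488)) (BT.node 489 (BT.leaf cJ489) (BT.leaf cJ490))) (BT.node 492 (BT.node 491 (BT.leaf cJ491) (BT.leaf cJ492)) (BT.leaf cJ493))) (BT.node 497 (BT.node 495 (BT.node 494 (BT.leaf cJ494) (BT.leaf cJ495)) (BT.node 496 (BT.leaf cJ496) (BT.leaf cJ497))) (BT.node 499 (BT.node 498 (BT.leaf cJ498) (BT.leaf cJ499)) (BT.leaf cJ500)))))) (BT.node 528 (BT.node 514 (BT.node 507 (BT.node 504 (BT.node 502 (BT.node 501 (BT.leaf cJ501) (BT.leaf cJ502)) (BT.node 503 (BT.leaf cJ503) (BT.leaf cJ504))) (BT.node 506 (BT.node 505 (BT.leaf cJ505) (BT.leaf cJ506)) (BT.leaf cJ507))) (BT.node 511 (BT.node 509 (BT.node 508 (BT.leaf cJ508) (BT.leaf cJ509)) (BT.node 510 (BT.leaf cJ510) (BT.leaf cJ511))) (BT.node 513 (BT.node 512 (BT.leaf cJ512) (BT.leaf cJ513)) (BT.leaf cJ514)))) (BT.node 521 (BT.node 518 (BT.node 516 (BT.node 515 (BT.leaf cJ515) (BT.leaf cJ516)) (BT.node 517 (BT.leaf cJ517) (BT.leaf cJ518))) (BT.node 520 (BT.node 519 (BT.leaf cJ519) (BT.leaf cJ520)) (BT.leaf cJ521))) (BT.node 525 (BT.node 523 (BT.node 522 (BT.leaf cJ522) (BT.leaf cJ523)) (BT.node 524 (BT.leaf cJ524) (BT.leaf cJ525))) (BT.node 527 (BT.node 526 (BT.leaf cJ526) (BT.leaf cJ527)) (BT.leaf cJ528))))) (BT.node 542 (BT.node 535 (BT.node 532 (BT.node 530 (BT.node 529 (BT.leaf cJ529) (BT.leaf cJ530)) (BT.node 531 (BT.leaf cJ531) (BT.leaf cJ532))) (BT.node 534 (BT.node 533 (BT.leaf cJ533) (BT.leaf cJ534)) (BT.leaf cJ535))) (BT.node 539 (BT.node 537 (BT.node 536 (BT.leaf cJ536) (BT.leaf cJ537)) (BT.node 538 (BT.leaf cJ538) (BT.leaf cJ539))) (BT.node 541 (BT.node 540 (BT.leaf cJ540) (BT.leaf cJ541)) (BT.leaf cJ542)))) (BT.node 549 (BT.node 546 (BT.node 544 (BT.node 543 (BT.leaf cJ543) (BT.leaf cJ544)) (BT.node 545 (BT.leaf cJ545) (BT.leaf cJ546))) (BT.node 548 (BT.node 547 (BT.leaf cJ547) (BT.leaf cJ548)) (BT.leaf cJ549))) (BT.node 552 (BT.node 551 (BT.node 550 (BT.leaf cJ550) (BT.leaf cJ551)) (BT.leaf cJ552)) (BT.node 554 (BT.node 553 (BT.leaf cJ553) (BT.leaf cJ554)) (BT.leaf cJ555))))))) (BT.node 611 (BT.node 583 (BT.node 569 (BT.node 562 (BT.node 559 (BT.node 557 (BT.node 556 (BT.leaf cJ556) (BT.leaf cJ557)) (BT.node 558 (BT.leaf cJ558) (BT.leaf cJ559))) (BT.node 561 (BT.node 560 (BT.leaf cJ560) (BT.leaf cJ561)) (BT.leaf cJ562))) (BT.node 566 (BT.node 564 (BT.node 563 (BT.leaf cJ563) (BT.leaf cJ564)) (BT.node 565 (BT.leaf cJ565) (BT.leaf cJ566))) (BT.node 568 (BT.node 567 (BT.leaf cJ567) (BT.leaf cJ568)) (BT.leaf cJ569)))) (BT.node 576 (BT.node 573 (BT.node 571 (BT.node 570 (BT.leaf cJ570) (BT.leaf cJ571)) (BT.node 572 (BT.leaf cJ572) (BT.leaf cJ573))) (BT.node 575 (BT.node 574 (BT.leaf cJ574) (BT.leaf cJ575)) (BT.leaf cJ576))) (BT.node 580 (BT.node 578 (BT.node 577 (BT.leaf cJ577) (BT.leaf cJ578)) (BT.node 579 (BT.leaf cJ579) (BT.leaf cJ580))) (BT.node 582 (BT.node 581 (BT.leaf cJ581) (BT.leaf cJ582)) (BT.leaf cJ583))))) (BT.node 597 (BT.node 590 (BT.node 587 (BT.node 585 (BT.node 584 (BT.leaf cJ584) (BT.leaf cJ585)) (BT.node 586 (BT.leaf cJ586) (BT.leaf cJ587))) (BT.node 589 (BT.node 588 (BT.leaf cJ588) (BT.leaf cJ589)) (BT.leaf cJ590))) (BT.node 594 (BT.node 592 (BT.node 591 (BT.leaf cJ591) (BT.leaf cJ592)) (BT.node 593 (BT.leaf cJ593) (BT.leaf cJ594))) (BT.node 596 (BT.node 595 (BT.leaf cJ595) (BT.leaf cJ596)) (BT.leaf cJ597)))) (BT.node 604 (BT.node 601 (BT.node 599 (BT.node 598 (BT.leaf cJ598) (BT.leaf cJ599)) (BT.node 600 (BT.leaf cJ600) (BT.leaf cJ601))) (BT.node 603 (BT.node 602 (BT.leaf cJ602) (BT.leaf cJ603)) (BT.leaf cJ604))) (BT.node 608 (BT.node 606 (BT.node 605 (BT.leaf cJ605) (BT.leaf cJ606)) (BT.node 607 (BT.leaf cJ607) (BT.leaf cJ608))) (BT.node 610 (BT.node 609 (BT.leaf cJ609) (BT.leaf cJ610)) (BT.leaf cJ611)))))) (BT.node 639 (BT.node 625 (BT.node 618 (BT.node 615 (BT.node 613 (BT.node 612 (BT.leaf cJ612) (BT.leaf cJ613)) (BT.node 614 (BT.leaf cJ614) (BT.leaf cJ615))) (BT.node 617 (BT.node 616 (BT.leaf cJ616) (BT.leaf cJ617)) (BT.leaf cJ618))) (BT.node 622 (BT.node 620 (BT.node 619 (BT.leaf cJ619) (BT.leaf cJ620)) (BT.node 621 (BT.leaf cJ621) (BT.leaf cJ622))) (BT.node 624 (BT.node 623 (BT.leaf cJ623) (BT.leaf cJ624)) (BT.leaf cJ625)))) (BT.node 632 (BT.node 629 (BT.node 627 (BT.node 626 (BT.leaf cJ626) (BT.leaf cJ627)) (BT.node 628 (BT.leaf cJ628) (BT.leaf cJ629))) (BT.node 631 (BT.node 630 (BT.leaf cJ630) (BT.leaf cJ631)) (BT.leaf cJ632))) (BT.node 636 (BT.node 634 (BT.node 633 (BT.leaf cJ633) (BT.leaf cJ634)) (BT.node 635 (BT.leaf cJ635) (BT.leaf cJ636))) (BT.node 638 (BT.node 637 (BT.leaf cJ637) (BT.leaf cJ638)) (BT.leaf cJ639))))) (BT.node 653 (BT.node 646 (BT.node 643 (BT.node 641 (BT.node 640 (BT.leaf cJ640) (BT.leaf cJ641)) (BT.node 642 (BT.leaf cJ642) (BT.leaf cJ643))) (BT.node 645 (BT.node 644 (BT.leaf cJ644) (BT.leaf cJ645)) (BT.leaf cJ646))) (BT.node 650 (BT.node 648 (BT.node 647 (BT.leaf cJ647) (BT.leaf cJ648)) (BT.node 649 (BT.leaf cJ649) (BT.leaf cJ650))) (BT.node 652 (BT.node 651 (BT.leaf cJ651) (BT.leaf cJ652)) (BT.leaf cJ653)))) (BT.node 660 (BT.node 657 (BT.node 655 (BT.node 654 (BT.leaf cJ654) (BT.leaf cJ655)) (BT.node 656 (BT.leaf cJ656) (BT.leaf cJ657))) (BT.node 659 (BT.node 658 (BT.leaf cJ658) (BT.leaf cJ659)) (BT.leaf cJ660))) (BT.node 663 (BT.node 662 (BT.node 661 (BT.leaf cJ661) (BT.leaf cJ662)) (BT.leaf cJ663)) (BT.node 665 (BT.node 664 (BT.leaf cJ664) (BT.leaf cJ665)) (BT.leaf cJ666)))))))) (BT.node 777 (BT.node 722 (BT.node 694 (BT.node 680 (BT.node 673 (BT.node 670 (BT.node 668 (BT.node 667 (BT.leaf cJ667) (BT.leaf cJ668)) (BT.node 669 (BT.leaf cJ669) (BT.leaf cJ670))) (BT.node 672 (BT.node 671 (BT.leaf cJ671) (BT.leaf cJ672)) (BT.leaf cJ673))) (BT.node 677 (BT.node 675 (BT.node 674 (BT.leaf cJ674) (BT.leaf cJ675)) (BT.node 676 (BT.leaf cJ676) (BT.leaf cJ677))) (BT.node 679 (BT.node 678 (BT.leaf cJ678) (BT.leaf cJ679)) (BT.leaf cJ680)))) (BT.node 687 (BT.node 684 (BT.node 682 (BT.node 681 (BT.leaf cJ681) (BT.leaf cJ682)) (BT.node 683 (BT.leaf cJ683) (BT.leaf cJ684))) (BT.node 686 (BT.node 685 (BT.leaf cJ685) (BT.leaf cJ686)) (BT.leaf cJ687))) (BT.node 691 (BT.node 689 (BT.node 688 (BT.leaf cJ688) (BT.leaf cJ689)) (BT.node 690 (BT.leaf cJ690) (BT.leaf cJ691))) (BT.node 693 (BT.node 692 (BT.leaf cJ692) (BT.leaf cJ693)) (BT.leaf cJ694))))) (BT.node 708 (BT.node 701 (BT.node 698 (BT.node 696 (BT.node 695 (BT.leaf cJ695) (BT.leaf cJ696)) (BT.node 697 (BT.leaf cJ697) (BT.leaf cJ698))) (BT.node 700 (BT.node 699 (BT.leaf cJ699) (BT.leaf cJ700)) (BT.leaf cJ701))) (BT.node 705 (BT.node 703 (BT.node 702 (BT.leaf cJ702) (BT.leaf cJ703)) (BT.node 704 (BT.leaf cJ704) (BT.leaf cJ705))) (BT.node 707 (BT.node 706 (BT.leaf cJ706) (BT.leaf cJ707)) (BT.leaf cJ708)))) (BT.node 715 (BT.node 712 (BT.node 710 (BT.node 709 (BT.leaf cJ709) (BT.leaf cJ710)) (BT.node 711 (BT.leaf cJ711) (BT.leaf cJ712))) (BT.node 714 (BT.node 713 (BT.leaf cJ713) (BT.leaf cJ714)) (BT.leaf cJ715))) (BT.node 719 (BT.node 717 (BT.node 716 (BT.leaf cJ716) (BT.leaf cJ717)) (BT.node 718 (BT.leaf cJ718) (BT.leaf cJ719))) (BT.node 721 (BT.node 720 (BT.leaf cJ720) (BT.leaf cJ721)) (BT.leaf cJ722)))))) (BT.node 750 (BT.node 736 (BT.node 729 (BT.node 726 (BT.node 724 (BT.node 723 (BT.leaf cJ723) (BT.leaf cJ724)) (BT.node 725 (BT.leaf cJ725) (BT.leaf cJ726))) (BT.node 728 (BT.node 727 (BT.leaf cJ727) (BT.leaf cJ728)) (BT.leaf cJ729))) (BT.node 733 (BT.node 731 (BT.node 730 (BT.leaf cJ730) (BT.leaf cJ731)) (BT.node 732 (BT.leaf cJ732) (BT.leaf cJ733))) (BT.node 735 (BT.node 734 (BT.leaf cJ734) (BT.leaf cJ735)) (BT.leaf cJ736)))) (BT.node 743 (BT.node 740 (BT.node 738 (BT.node 737 (BT.leaf cJ737) (BT.leaf cJ738)) (BT.node 739 (BT.leaf cJ739) (BT.leaf cJ740))) (BT.node 742 (BT.node 741 (BT.leaf cJ741) (BT.leaf cJ742)) (BT.leaf cJ743))) (BT.node 747 (BT.node 745 (BT.node 744 (BT.leaf cJ744) (BT.leaf cJ745)) (BT.node 746 (BT.leaf cJ746) (BT.leaf cJ747))) (BT.node 749 (BT.node 748 (BT.leaf cJ748) (BT.leaf cJ749)) (BT.leaf cJ750))))) (BT.node 764 (BT.node 757 (BT.node 754 (BT.node 752 (BT.node 751 (BT.leaf cJ751) (BT.leaf cJ752)) (BT.node 753 (BT.leaf cJ753) (BT.leaf cJ754))) (BT.node 756 (BT.node 755 (BT.leaf cJ755) (BT.leaf cJ756)) (BT.leaf cJ757))) (BT.node 761 (BT.node 759 (BT.node 758 (BT.leaf cJ758) (BT.leaf cJ759)) (BT.node 760 (BT.leaf cJ760) (BT.leaf cJ761))) (BT.node 763 (BT.node 762 (BT.leaf cJ762) (BT.leaf cJ763)) (BT.leaf cJ764)))) (BT.node 771 (BT.node 768 (BT.node 766 (BT.node 765 (BT.leaf cJ765) (BT.leaf cJ766)) (BT.node 767 (BT.leaf cJ767) (BT.leaf cJ768))) (BT.node 770 (BT.node 769 (BT.leaf cJ769) (BT.leaf cJ770)) (BT.leaf cJ771))) (BT.node 774 (BT.node 773 (BT.node 772 (BT.leaf cJ772) (BT.leaf cJ773)) (BT.leaf cJ774)) (BT.node 776 (BT.node 775 (BT.leaf cJ775) (BT.leaf cJ776)) (BT.leaf cJ777))))))) (BT.node 833 (BT.node 805 (BT.node 791 (BT.node 784 (BT.node 781 (BT.node 779 (BT.node 778 (BT.leaf cJ778) (BT.leaf cJ779)) (BT.node 780 (BT.leaf cJ780) (BT.leaf cJ781))) (BT.node 783 (BT.node 782 (BT.leaf cJ782) (BT.leaf cJ783)) (BT.leaf cJ784))) (BT.node 788 (BT.node 786 (BT.node 785 (BT.leaf cJ785) (BT.leaf cJ786)) (BT.node 787 (BT.leaf cJ787) (BT.leaf cJ788))) (BT.node 790 (BT.node 789 (BT.leaf cJ789) (BT.leaf cJ790)) (BT.leaf cJ791)))) (BT.node 798 (BT.node 795 (BT.node 793 (BT.node 792 (BT.leaf cJ792) (BT.leaf cJ793)) (BT.node 794 (BT.leaf cJ794) (BT.leaf cJ795))) (BT.node 797 (BT.node 796 (BT.leaf cJ796) (BT.leaf cJ797)) (BT.leaf cJ798))) (BT.node 802 (BT.node 800 (BT.node 799 (BT.leaf cJ799) (BT.leaf cJ800)) (BT.node 801 (BT.leaf cJ801) (BT.leaf cJ802))) (BT.node 804 (BT.node 803 (BT.leaf cJ803) (BT.leaf cJ804)) (BT.leaf cJ805))))) (BT.node 819 (BT.node 812 (BT.node 809 (BT.node 807 (BT.node 806 (BT.leaf cJ806) (BT.leaf cJ807)) (BT.node 808 (BT.leaf cJ808) (BT.leaf cJ809))) (BT.node 811 (BT.node 810 (BT.leaf cJ810) (BT.leaf cJ811)) (BT.leaf cJ812))) (BT.node 816 (BT.node 814 (BT.node 813 (BT.leaf cJ813) (BT.leaf cJ814)) (BT.node 815 (BT.leaf cJ815) (BT.leaf cJ816))) (BT.node 818 (BT.node 817 (BT.leaf cJ817) (BT.leaf cJ818)) (BT.leaf cJ819)))) (BT.node 826 (BT.node 823 (BT.node 821 (BT.node 820 (BT.leaf cJ820) (BT.leaf cJ821)) (BT.node 822 (BT.leaf cJ822) (BT.leaf cJ823))) (BT.node 825 (BT.node 824 (BT.leaf cJ824) (BT.leaf cJ825)) (BT.leaf cJ826))) (BT.node 830 (BT.node 828 (BT.node 827 (BT.leaf cJ827) (BT.leaf cJ828)) (BT.node 829 (BT.leaf cJ829) (BT.leaf cJ830))) (BT.node 832 (BT.node 831 (BT.leaf cJ831) (BT.leaf cJ832)) (BT.leaf cJ833)))))) (BT.node 861 (BT.node 847 (BT.node 840 (BT.node 837 (BT.node 835 (BT.node 834 (BT.leaf cJ834) (BT.leaf cJ835)) (BT.node 836 (BT.leaf cJ836) (BT.leaf cJ837))) (BT.node 839 (BT.node 838 (BT.leaf cJ838) (BT.leaf cJ839)) (BT.leaf cJ840))) (BT.node 844 (BT.node 842 (BT.node 841 (BT.leaf cJ841) (BT.leaf cJ842)) (BT.node 843 (BT.leaf cJ843) (BT.leaf cJ844))) (BT.node 846 (BT.node 845 (BT.leaf cJ845) (BT.leaf cJ846)) (BT.leaf cJ847)))) (BT.node 854 (BT.node 851 (BT.node 849 (BT.node 848 (BT.leaf cJ848) (BT.leaf cJ849)) (BT.node 850 (BT.leaf cJ850) (BT.leaf cJ851))) (BT.node 853 (BT.node 852 (BT.leaf cJ852) (BT.leaf cJ853)) (BT.leaf cJ854))) (BT.node 858 (BT.node 856 (BT.node 855 (BT.leaf cJ855) (BT.leaf cJ856)) (BT.node 857 (BT.leaf cJ857) (BT.leaf cJ858))) (BT.node 860 (BT.node 859 (BT.leaf cJ859) (BT.leaf cJ860)) (BT.leaf cJ861))))) (BT.node 875 (BT.node 868 (BT.node 865 (BT.node 863 (BT.node 862 (BT.leaf cJ862) (BT.leaf cJ863)) (BT.node 864 (BT.leaf cJ864) (BT.leaf cJ865))) (BT.node 867 (BT.node 866 (BT.leaf cJ866) (BT.leaf cJ867)) (BT.leaf cJ868))) (BT.node 872 (BT.node 870 (BT.node 869 (BT.leaf cJ869) (BT.leaf cJ870)) (BT.node 871 (BT.leaf cJ871) (BT.leaf cJ872))) (BT.node 874 (BT.node 873 (BT.leaf cJ873) (BT.leaf cJ874)) (BT.leaf cJ875)))) (BT.node 882 (BT.node 879 (BT.node 877 (BT.node 876 (BT.leaf cJ876) (BT.leaf cJ877)) (BT.node 878 (BT.leaf cJ878) (BT.leaf cJ879))) (BT.node 881 (BT.node 880 (BT.leaf cJ880) (BT.leaf cJ881)) (BT.leaf cJ882))) (BT.node 885 (BT.node 884 (BT.node 883 (BT.leaf cJ883) (BT.leaf cJ884)) (BT.leaf cJ885)) (BT.node 887 (BT.node 886 (BT.leaf cJ886) (BT.leaf cJ887)) (BT.leaf cJ888)))))))))) (BT.node 1332 (BT.node 1110 (BT.node 999 (BT.node 944 (BT.node 916 (BT.node 902 (BT.node 895 (BT.node 892 (BT.node 890 (BT.node 889 (BT.leaf cJ889) (BT.leaf cJ890)) (BT.node 891 (BT.leaf cJ891) (BT.leaf cJ892))) (BT.node 894 (BT.node 893 (BT.leaf cJ893) (BT.leaf cJ894)) (BT.leaf cJ895))) (BT.node 899 (BT.node 897 (BT.node 896 (BT.leaf cJ896) (BT.leaf cJ897)) (BT.node 898 (BT.leaf cJ898) (BT.leaf cJ899))) (BT.node 901 (BT.node 900 (BT.leaf cJ900) (BT.leaf cJ901)) (BT.leaf cJ902)))) (BT.node 909 (BT.node 906 (BT.node 904 (BT.node 903 (BT.leaf cJ903) (BT.leaf cJ904)) (BT.node 905 (BT.leaf cJ905) (BT.leaf cJ906))) (BT.node 908 (BT.node 907 (BT.leaf cJ907) (BT.leaf cJ908)) (BT.leaf cJ909))) (BT.node 913 (BT.node 911 (BT.node 910 (BT.leaf cJ910) (BT.leaf cJ911)) (BT.node 912 (BT.leaf cJ912) (BT.leaf cJ913))) (BT.node 915 (BT.node 914 (BT.leaf cJ914) (BT.leaf cJ915)) (BT.leaf cJ916))))) (BT.node 930 (BT.node 923 (BT.node 920 (BT.node 918 (BT.node 917 (BT.leaf cJ917) (BT.leaf cJ918)) (BT.node 919 (BT.leaf cJ919) (BT.leaf cJ920))) (BT.node 922 (BT.node 921 (BT.leaf cJ921) (BT.leaf cJ922)) (BT.leaf cJ923))) (BT.node 927 (BT.node 925 (BT.node 924 (BT.leaf cJ924) (BT.leaf cJ925)) (BT.node 926 (BT.leaf cJ926) (BT.leaf cJ927))) (BT.node 929 (BT.node 928 (BT.leaf cJ928) (BT.leaf cJ929)) (BT.leaf cJ930)))) (BT.node 937 (BT.node 934 (BT.node 932 (BT.node 931 (BT.leaf cJ931) (BT.leaf cJ932)) (BT.node 933 (BT.leaf cJ933) (BT.leaf cJ934))) (BT.node 936 (BT.node 935 (BT.leaf cJ935) (BT.leaf cJ936)) (BT.leaf cJ937))) (BT.node 941 (BT.node 939 (BT.node 938 (BT.leaf cJ938) (BT.leaf cJ939)) (BT.node 940 (BT.leaf cJ940) (BT.leaf cJ941))) (BT.node 943 (BT.node 942 (BT.leaf cJ942) (BT.leaf cJ943)) (BT.leaf cJ944)))))) (BT.node 972 (BT.node 958 (BT.node 951 (BT.node 948 (BT.node 946 (BT.node 945 (BT.leaf cJ945) (BT.leaf cJ946)) (BT.node 947 (BT.leaf cJ947) (BT.leaf cJ948))) (BT.node 950 (BT.node 949 (BT.leaf cJ949) (BT.leaf cJ950)) (BT.leaf cJ951))) (BT.node 955 (BT.node 953 (BT.node 952 (BT.leaf cJ952) (BT.leaf cJ953)) (BT.node 954 (BT.leaf cJ954) (BT.leaf cJ955))) (BT.node 957 (BT.node 956 (BT.leaf cJ956) (BT.leaf cJ957)) (BT.leaf cJ958)))) (BT.node 965 (BT.node 962 (BT.node 960 (BT.node 959 (BT.leaf cJ959) (BT.leaf cJ960)) (BT.node 961 (BT.leaf cJ961) (BT.leaf cJ962))) (BT.node 964 (BT.node 963 (BT.leaf cJ963) (BT.leaf cJ964)) (BT.leaf cJ965))) (BT.node 969 (BT.node 967 (BT.node 966 (BT.leaf cJ966) (BT.leaf cJ967)) (BT.node 968 (BT.leaf cJ968) (BT.leaf cJ969))) (BT.node 971 (BT.node 970 (BT.leaf cJ970) (BT.leaf cJ971)) (BT.leaf cJ972))))) (BT.node 986 (BT.node 979 (BT.node 976 (BT.node 974 (BT.node 973 (BT.leaf cJ973) (BT.leaf cJ974)) (BT.node 975 (BT.leaf cJ975) (BT.leaf cJ976))) (BT.node 978 (BT.node 977 (BT.leaf cJ977) (BT.leaf cJ978)) (BT.leaf cJ979))) (BT.node 983 (BT.node 981 (BT.node 980 (BT.leaf cJ980) (BT.leaf cJ981)) (BT.node 982 (BT.leaf cJ982) (BT.leaf cJ983))) (BT.node 985 (BT.node 984 (BT.leaf cJ984) (BT.leaf cJ985)) (BT.leaf cJ986)))) (BT.node 993 (BT.node 990 (BT.node 988 (BT.node 987 (BT.leaf cJ987) (BT.leaf cJ988)) (BT.node 989 (BT.leaf cJ989) (BT.leaf cJ990))) (BT.node 992 (BT.node 991 (BT.leaf cJ991) (BT.leaf cJ992)) (BT.leaf cJ993))) (BT.node 996 (BT.node 995 (BT.node 994 (BT.leaf cJ994) (BT.leaf cJ995)) (BT.leaf cJ996)) (BT.node 998 (BT.node 997 (BT.leaf cJ997) (BT.leaf cJ998)) (BT.leaf cJ999))))))) (BT.node 1055 (BT.node 1027 (BT.node 1013 (BT.node 1006 (BT.node 1003 (BT.node 1001 (BT.node 1000 (BT.leaf cJ1000) (BT.leaf cJ1001)) (BT.node 1002 (BT.leaf cJ1002) (BT.leaf cJ1003))) (BT.node 1005 (BT.node 1004 (BT.leaf cJ1004) (BT.leaf cJ1005)) (BT.leaf cJ1006))) (BT.node 1010 (BT.node 1008 (BT.node 1007 (BT.leaf cJ1007) (BT.leaf cJ1008)) (BT.node 1009 (BT.leaf cJ1009) (BT.leaf cJ1010))) (BT.node 1012 (BT.node 1011 (BT.leaf cJ1011) (BT.leaf cJ1012)) (BT.leaf cJ1013)))) (BT.node 1020 (BT.node 1017 (BT.node 1015 (BT.node 1014 (BT.leaf cJ1014) (BT.leaf cJ1015)) (BT.node 1016 (BT.leaf cJ1016) (BT.leaf cJ1017))) (BT.node 1019 (BT.node 1018 (BT.leaf cJ1018) (BT.leaf cJ1019)) (BT.leaf cJ1020))) (BT.node 1024 (BT.node 1022 (BT.node 1021 (BT.leaf cJ1021) (BT.leaf cJ1022)) (BT.node 1023 (BT.leaf cJ1023) (BT.leaf cJ1024))) (BT.node 1026 (BT.node 1025 (BT.leaf cJ1025) (BT.leaf cJ1026)) (BT.leaf cJ1027))))) (BT.node 1041 (BT.node 1034 (BT.node 1031 (BT.node 1029 (BT.node 1028 (BT.leaf cJ1028) (BT.leaf cJ1029)) (BT.node 1030 (BT.leaf cJ1030) (BT.leaf cJ1031))) (BT.node 1033 (BT.node 1032 (BT.leaf cJ1032) (BT.leaf cJ1033)) (BT.leaf cJ1034))) (BT.node 1038 (BT.node 1036 (BT.node 1035 (BT.leaf cJ1035) (BT.leaf cJ1036)) (BT.node 1037 (BT.leaf cJ1037) (BT.leaf cJ1038))) (BT.node 1040 (BT.node 1039 (BT.leaf cJ1039) (BT.leaf cJ1040)) (BT.leaf cJ1041)))) (BT.node 1048 (BT.node 1045 (BT.node 1043 (BT.node 1042 (BT.leaf cJ1042) (BT.leaf cJ1043)) (BT.node 1044 (BT.leaf cJ1044) (BT.leaf cJ1045))) (BT.node 1047 (BT.node 1046 (BT.leaf cJ1046) (BT.leaf cJ1047)) (BT.leaf cJ1048))) (BT.node 1052 (BT.node 1050 (BT.node 1049 (BT.leaf cJ1049) (BT.leaf cJ1050)) (BT.node 1051 (BT.leaf cJ1051) (BT.leaf cJ1052))) (BT.node 1054 (BT.node 1053 (BT.leaf cJ1053) (BT.leaf cJ1054)) (BT.leaf cJ1055)))))) (BT.node 1083 (BT.node 1069 (BT.node 1062 (BT.node 1059 (BT.node 1057 (BT.node 1056 (BT.leaf cJ1056) (BT.leaf cJ1057)) (BT.node 1058 (BT.leaf cJ1058) (BT.leaf cJ1059))) (BT.node 1061 (BT.node 1060 (BT.leaf cJ1060) (BT.leaf cJ1061)) (BT.leaf cJ1062))) (BT.node 1066 (BT.node 1064 (BT.node 1063 (BT.leaf cJ1063) (BT.leaf cJ1064)) (BT.node 1065 (BT.leaf cJ1065) (BT.leaf cJ1066))) (BT.node 1068 (BT.node 1067 (BT.leaf cJ1067) (BT.leaf cJ1068)) (BT.leaf cJ1069)))) (BT.node 1076 (BT.node 1073 (BT.node 1071 (BT.node 1070 (BT.leaf cJ1070) (BT.leaf cJ1071)) (BT.node 1072 (BT.leaf cJ1072) (BT.leaf cJ1073))) (BT.node 1075 (BT.node 1074 (BT.leaf cJ1074) (BT.leaf cJ1075)) (BT.leaf cJ1076))) (BT.node 1080 (BT.node 1078 (BT.node 1077 (BT.leaf cJ1077) (BT.leaf cJ1078)) (BT.node 1079 (BT.leaf cJ1079) (BT.leaf cJ1080))) (BT.node 1082 (BT.node 1081 (BT.leaf cJ1081) (BT.leaf cJ1082)) (BT.leaf cJ1083))))) (BT.node 1097 (BT.node 1090 (BT.node 1087 (BT.node 1085 (BT.node 1084 (BT.leaf cJ1084) (BT.leaf cJ1085)) (BT.node 1086 (BT.leaf cJ1086) (BT.leaf cJ1087))) (BT.node 1089 (BT.node 1088 (BT.leaf cJ1088) (BT.leaf cJ1089)) (BT.leaf cJ1090))) (BT.node 1094 (BT.node 1092 (BT.node 1091 (BT.leaf cJ1091) (BT.leaf cJ1092)) (BT.node 1093 (BT.leaf cJ1093) (BT.leaf cJ1094))) (BT.node 1096 (BT.node 1095 (BT.leaf cJ1095) (BT.leaf cJ1096)) (BT.leaf cJ1097)))) (BT.node 1104 (BT.node 1101 (BT.node 1099 (BT.node 1098 (BT.leaf cJ1098) (BT.leaf cJ1099)) (BT.node 1100 (BT.leaf cJ1100) (BT.leaf cJ1101))) (BT.node 1103 (BT.node 1102 (BT.leaf cJ1102) (BT.leaf cJ1103)) (BT.leaf cJ1104))) (BT.node 1107 (BT.node 1106 (BT.node 1105 (BT.leaf cJ1105) (BT.leaf cJ1106)) (BT.leaf cJ1107)) (BT.node 1109 (BT.node 1108 (BT.leaf cJ1108) (BT.leaf cJ1109)) (BT.leaf cJ1110)))))))) (BT.node 1221 (BT.node 1166 (BT.node 1138 (BT.node 1124 (BT.node 1117 (BT.node 1114 (BT.node 1112 (BT.node 1111 (BT.leaf cJ1111) (BT.leaf cJ1112)) (BT.node 1113 (BT.leaf cJ1113) (BT.leaf cJ1114))) (BT.node 1116 (BT.node 1115 (BT.leaf cJ1115) (BT.leaf cJ1116)) (BT.leaf cJ1117))) (BT.node 1121 (BT.node 1119 (BT.node 1118 (BT.leaf cJ1118) (BT.leaf cJ1119)) (BT.node 1120 (BT.leaf cJ1120) (BT.leaf cJ1121))) (BT.node 1123 (BT.node 1122 (BT.leaf cJ1122) (BT.leaf cJ1123)) (BT.leaf cJ1124)))) (BT.node 1131 (BT.node 1128 (BT.node 1126 (BT.node 1125 (BT.leaf cJ1125) (BT.leaf cJ1126)) (BT.node 1127 (BT.leaf cJ1127) (BT.leaf cJ1128))) (BT.node 1130 (BT.node 1129 (BT.leaf cJ1129) (BT.leaf cJ1130)) (BT.leaf cJ1131))) (BT.node 1135 (BT.node 1133 (BT.node 1132 (BT.leaf cJ1132) (BT.leaf cJ1133)) (BT.node 1134 (BT.leaf cJ1134) (BT.leaf cJ1135))) (BT.node 1137 (BT.node 1136 (BT.leaf cJ1136) (BT.leaf cJ1137)) (BT.leaf cJ1138))))) (BT.node 1152 (BT.node 1145 (BT.node 1142 (BT.node 1140 (BT.node 1139 (BT.leaf cJ1139) (BT.leaf cJ1140)) (BT.node 1141 (BT.leaf cJ1141) (BT.leaf cJ1142))) (BT.node 1144 (BT.node 1143 (BT.leaf cJ1143) (BT.leaf cJ1144)) (BT.leaf cJ1145))) (BT.node 1149 (BT.node 1147 (BT.node 1146 (BT.leaf cJ1146) (BT.leaf cJ1147)) (BT.node 1148 (BT.leaf cJ1148) (BT.leaf cJ1149))) (BT.node 1151 (BT.node 1150 (BT.leaf cJ1150) (BT.leaf cJ1151)) (BT.leaf cJ1152)))) (BT.node 1159 (BT.node 1156 (BT.node 1154 (BT.node 1153 (BT.leaf cJ1153) (BT.leaf cJ1154)) (BT.node 1155 (BT.leaf cJ1155) (BT.leaf cJ1156))) (BT.node 1158 (BT.node 1157 (BT.leaf cJ1157) (BT.leaf cJ1158)) (BT.leaf cJ1159))) (BT.node 1163 (BT.node 1161 (BT.node 1160 (BT.leaf cJ1160) (BT.leaf cJ1161)) (BT.node 1162 (BT.leaf cJ1162) (BT.leaf cJ1163))) (BT.node 1165 (BT.node 1164 (BT.leaf cJ1164) (BT.leaf cJ1165)) (BT.leaf cJ1166)))))) (BT.node 1194 (BT.node 1180 (BT.node 1173 (BT.node 1170 (BT.node 1168 (BT.node 1167 (BT.leaf cJ1167) (BT.leaf cJ1168)) (BT.node 1169 (BT.leaf cJ1169) (BT.leaf cJ1170))) (BT.node 1172 (BT.node 1171 (BT.leaf cJ1171) (BT.leaf cJ1172)) (BT.leaf cJ1173))) (BT.node 1177 (BT.node 1175 (BT.node 1174 (BT.leaf cJ1174) (BT.leaf cJ1175)) (BT.node 1176 (BT.leaf cJ1176) (BT.leaf cJ1177))) (BT.node 1179 (BT.node 1178 (BT.leaf cJ1178) (BT.leaf cJ1179)) (BT.leaf cJ1180)))) (BT.node 1187 (BT.node 1184 (BT.node 1182 (BT.node 1181 (BT.leaf cJ1181) (BT.leaf cJ1182)) (BT.node 1183 (BT.leaf cJ1183) (BT.leaf cJ1184))) (BT.node 1186 (BT.node 1185 (BT.leaf cJ1185) (BT.leaf cJ1186)) (BT.leaf cJ1187))) (BT.node 1191 (BT.node 1189 (BT.node 1188 (BT.leaf cJ1188) (BT.leaf cJ1189)) (BT.node 1190 (BT.leaf cJ1190) (BT.leaf cJ1191))) (BT.node 1193 (BT.node 1192 (BT.leaf cJ1192) (BT.leaf cJ1193)) (BT.leaf cJ1194))))) (BT.node 1208 (BT.node 1201 (BT.node 1198 (BT.node 1196 (BT.node 1195 (BT.leaf cJ1195) (BT.leaf cJ1196)) (BT.node 1197 (BT.leaf cJ1197) (BT.leaf cJ1198))) (BT.node 1200 (BT.node 1199 (BT.leaf cJ1199) (BT.leaf cJ1200)) (BT.leaf cJ1201))) (BT.node 1205 (BT.node 1203 (BT.node 1202 (BT.leaf cJ1202) (BT.leaf cJ1203)) (BT.node 1204 (BT.leaf cJ1204) (BT.leaf cJ1205))) (BT.node 1207 (BT.node 1206 (BT.leaf cJ1206) (BT.leaf cJ1207)) (BT.leaf cJ1208)))) (BT.node 1215 (BT.node 1212 (BT.node 1210 (BT.node 1209 (BT.leaf cJ1209) (BT.leaf cJ1210)) (BT.node 1211 (BT.leaf cJ1211) (BT.leaf cJ1212))) (BT.node 1214 (BT.node 1213 (BT.leaf cJ1213) (BT.leaf cJ1214)) (BT.leaf cJ1215))) (BT.node 1218 (BT.node 1217 (BT.node 1216 (BT.leaf cJ1216) (BT.leaf cJ1217)) (BT.leaf cJ1218)) (BT.node 1220 (BT.node 1219 (BT.leaf cJ1219) (BT.leaf cJ1220)) (BT.leaf cJ1221))))))) (BT.node 1277 (BT.node 1249 (BT.node 1235 (BT.node 1228 (BT.node 1225 (BT.node 1223 (BT.node 1222 (BT.leaf cJ1222) (BT.leaf cJ1223)) (BT.node 1224 (BT.leaf cJ1224) (BT.leaf cJ1225))) (BT.node 1227 (BT.node 1226 (BT.leaf cJ1226) (BT.leaf cJ1227)) (BT.leaf cJ1228))) (BT.node 1232 (BT.node 1230 (BT.node 1229 (BT.leaf cJ1229) (BT.leaf cJ1230)) (BT.node 1231 (BT.leaf cJ1231) (BT.leaf cJ1232))) (BT.node 1234 (BT.node 1233 (BT.leaf cJ1233) (BT.leaf cJ1234)) (BT.leaf cJ1235)))) (BT.node 1242 (BT.node 1239 (BT.node 1237 (BT.node 1236 (BT.leaf cJ1236) (BT.leaf cJ1237)) (BT.node 1238 (BT.leaf cJ1238) (BT.leaf cJ1239))) (BT.node 1241 (BT.node 1240 (BT.leaf cJ1240) (BT.leaf cJ1241)) (BT.leaf cJ1242))) (BT.node 1246 (BT.node 1244 (BT.node 1243 (BT.leaf cJ1243) (BT.leaf cJ1244)) (BT.node 1245 (BT.leaf cJ1245) (BT.leaf cJ1246))) (BT.node 1248 (BT.node 1247 (BT.leaf cJ1247) (BT.leaf cJ1248)) (BT.leaf cJ1249))))) (BT.node 1263 (BT.node 1256 (BT.node 1253 (BT.node 1251 (BT.node 1250 (BT.leaf cJ1250) (BT.leaf cJ1251)) (BT.node 1252 (BT.leaf cJ1252) (BT.leaf cJ1253))) (BT.node 1255 (BT.node 1254 (BT.leaf cJ1254) (BT.leaf cJ1255)) (BT.leaf cJ1256))) (BT.node 1260 (BT.node 1258 (BT.node 1257 (BT.leaf cJ1257) (BT.leaf cJ1258)) (BT.node 1259 (BT.leaf cJ1259) (BT.leaf cJ1260))) (BT.node 1262 (BT.node 1261 (BT.leaf cJ1261) (BT.leaf cJ1262)) (BT.leaf cJ1263)))) (BT.node 1270 (BT.node 1267 (BT.node 1265 (BT.node 1264 (BT.leaf cJ1264) (BT.leaf cJ1265)) (BT.node 1266 (BT.leaf cJ1266) (BT.leaf cJ1267))) (BT.node 1269 (BT.node 1268 (BT.leaf cJ1268) (BT.leaf cJ1269)) (BT.leaf cJ1270))) (BT.node 1274 (BT.node 1272 (BT.node 1271 (BT.leaf cJ1271) (BT.leaf cJ1272)) (BT.node 1273 (BT.leaf cJ1273) (BT.leaf cJ1274))) (BT.node 1276 (BT.node 1275 (BT.leaf cJ1275) (BT.leaf cJ1276)) (BT.leaf cJ1277)))))) (BT.node 1305 (BT.node 1291 (BT.node 1284 (BT.node 1281 (BT.node 1279 (BT.node 1278 (BT.leaf cJ1278) (BT.leaf cJ1279)) (BT.node 1280 (BT.leaf cJ1280) (BT.leaf cJ1281))) (BT.node 1283 (BT.node 1282 (BT.leaf cJ1282) (BT.leaf cJ1283)) (BT.leaf cJ1284))) (BT.node 1288 (BT.node 1286 (BT.node 1285 (BT.leaf cJ1285) (BT.leaf cJ1286)) (BT.node 1287 (BT.leaf cJ1287) (BT.leaf cJ1288))) (BT.node 1290 (BT.node 1289 (BT.leaf cJ1289) (BT.leaf cJ1290)) (BT.leaf cJ1291)))) (BT.node 1298 (BT.node 1295 (BT.node 1293 (BT.node 1292 (BT.leaf cJ1292) (BT.leaf cJ1293)) (BT.node 1294 (BT.leaf cJ1294) (BT.leaf cJ1295))) (BT.node 1297 (BT.node 1296 (BT.leaf cJ1296) (BT.leaf cJ1297)) (BT.leaf cJ1298))) (BT.node 1302 (BT.node 1300 (BT.node 1299 (BT.leaf cJ1299) (BT.leaf cJ1300)) (BT.node 1301 (BT.leaf cJ1301) (BT.leaf cJ1302))) (BT.node 1304 (BT.node 1303 (BT.leaf cJ1303) (BT.leaf cJ1304)) (BT.leaf cJ1305))))) (BT.node 1319 (BT.node 1312 (BT.node 1309 (BT.node 1307 (BT.node 1306 (BT.leaf cJ1306) (BT.leaf cJ1307)) (BT.node 1308 (BT.leaf cJ1308) (BT.leaf cJ1309))) (BT.node 1311 (BT.node 1310 (BT.leaf cJ1310) (BT.leaf cJ1311)) (BT.leaf cJ1312))) (BT.node 1316 (BT.node 1314 (BT.node 1313 (BT.leaf cJ1313) (BT.leaf cJ1314)) (BT.node 1315 (BT.leaf cJ1315) (BT.leaf cJ1316))) (BT.node 1318 (BT.node 1317 (BT.leaf cJ1317) (BT.leaf cJ1318)) (BT.leaf cJ1319)))) (BT.node 1326 (BT.node 1323 (BT.node 1321 (BT.node 1320 (BT.leaf cJ1320) (BT.leaf cJ1321)) (BT.node 1322 (BT.leaf cJ1322) (BT.leaf cJ1323))) (BT.node 1325 (BT.node 1324 (BT.leaf cJ1324) (BT.leaf cJ1325)) (BT.leaf cJ1326))) (BT.node 1329 (BT.node 1328 (BT.node 1327 (BT.leaf cJ1327) (BT.leaf cJ1328)) (BT.leaf cJ1329)) (BT.node 1331 (BT.node 1330 (BT.leaf cJ1330) (BT.leaf cJ1331)) (BT.leaf cJ1332))))))))) (BT.node 1554 (BT.node 1443 (BT.node 1388 (BT.node 1360 (BT.node 1346 (BT.node 1339 (BT.node 1336 (BT.node 1334 (BT.node 1333 (BT.leaf cJ1333) (BT.leaf cJ1334)) (BT.node 1335 (BT.leaf cJ1335) (BT.leaf cJ1336))) (BT.node 1338 (BT.node 1337 (BT.leaf cJ1337) (BT.leaf cJ1338)) (BT.leaf cJ1339))) (BT.node 1343 (BT.node 1341 (BT.node 1340 (BT.leaf cJ1340) (BT.leaf cJ1341)) (BT.node 1342 (BT.leaf cJ1342) (BT.leaf cJ1343))) (BT.node 1345 (BT.node 1344 (BT.leaf cJ1344) (BT.leaf cJ1345)) (BT.leaf cJ1346)))) (BT.node 1353 (BT.node 1350 (BT.node 1348 (BT.node 1347 (BT.leaf cJ1347) (BT.leaf cJ1348)) (BT.node 1349 (BT.leaf cJ1349) (BT.leaf cJ1350))) (BT.node 1352 (BT.node 1351 (BT.leaf cJ1351) (BT.leaf cJ1352)) (BT.leaf cJ1353))) (BT.node 1357 (BT.node 1355 (BT.node 1354 (BT.leaf cJ1354) (BT.leaf cJ1355)) (BT.node 1356 (BT.leaf cJ1356) (BT.leaf cJ1357))) (BT.node 1359 (BT.node 1358 (BT.leaf cJ1358) (BT.leaf cJ1359)) (BT.leaf cJ1360))))) (BT.node 1374 (BT.node 1367 (BT.node 1364 (BT.node 1362 (BT.node 1361 (BT.leaf cJ1361) (BT.leaf cJ1362)) (BT.node 1363 (BT.leaf cJ1363) (BT.leaf cJ1364))) (BT.node 1366 (BT.node 1365 (BT.leaf cJ1365) (BT.leaf cJ1366)) (BT.leaf cJ1367))) (BT.node 1371 (BT.node 1369 (BT.node 1368 (BT.leaf cJ1368) (BT.leaf cJ1369)) (BT.node 1370 (BT.leaf cJ1370) (BT.leaf cJ1371))) (BT.node 1373 (BT.node 1372 (BT.leaf cJ1372) (BT.leaf cJ1373)) (BT.leaf cJ1374)))) (BT.node 1381 (BT.node 1378 (BT.node 1376 (BT.node 1375 (BT.leaf cJ1375) (BT.leaf cJ1376)) (BT.node 1377 (BT.leaf cJ1377) (BT.leaf cJ1378))) (BT.node 1380 (BT.node 1379 (BT.leaf cJ1379) (BT.leaf cJ1380)) (BT.leaf cJ1381))) (BT.node 1385 (BT.node 1383 (BT.node 1382 (BT.leaf cJ1382) (BT.leaf cJ1383)) (BT.node 1384 (BT.leaf cJ1384) (BT.leaf cJ1385))) (BT.node 1387 (BT.node 1386 (BT.leaf cJ1386) (BT.leaf cJ1387)) (BT.leaf cJ1388)))))) (BT.node 1416 (BT.node 1402 (BT.node 1395 (BT.node 1392 (BT.node 1390 (BT.node 1389 (BT.leaf cJ1389) (BT.leaf cJ1390)) (BT.node 1391 (BT.leaf cJ1391) (BT.leaf cJ1392))) (BT.node 1394 (BT.node 1393 (BT.leaf cJ1393) (BT.leaf cJ1394)) (BT.leaf cJ1395))) (BT.node 1399 (BT.node 1397 (BT.node 1396 (BT.leaf cJ1396) (BT.leaf cJ1397)) (BT.node 1398 (BT.leaf cJ1398) (BT.leaf cJ1399))) (BT.node 1401 (BT.node 1400 (BT.leaf cJ1400) (BT.leaf cJ1401)) (BT.leaf cJ1402)))) (BT.node 1409 (BT.node 1406 (BT.node 1404 (BT.node 1403 (BT.leaf cJ1403) (BT.leaf cJ1404)) (BT.node 1405 (BT.leaf cJ1405) (BT.leaf cJ1406))) (BT.node 1408 (BT.node 1407 (BT.leaf cJ1407) (BT.leaf cJ1408)) (BT.leaf cJ1409))) (BT.node 1413 (BT.node 1411 (BT.node 1410 (BT.leaf cJ1410) (BT.leaf cJ1411)) (BT.node 1412 (BT.leaf cJ1412) (BT.leaf cJ1413))) (BT.node 1415 (BT.node 1414 (BT.leaf cJ1414) (BT.leaf cJ1415)) (BT.leaf cJ1416))))) (BT.node 1430 (BT.node 1423 (BT.node 1420 (BT.node 1418 (BT.node 1417 (BT.leaf cJ1417) (BT.leaf cJ1418)) (BT.node 1419 (BT.leaf cJ1419) (BT.leaf cJ1420))) (BT.node 1422 (BT.node 1421 (BT.leaf cJ1421) (BT.leaf cJ1422)) (BT.leaf cJ1423))) (BT.node 1427 (BT.node 1425 (BT.node 1424 (BT.leaf cJ1424) (BT.leaf cJ1425)) (BT.node 1426 (BT.leaf cJ1426) (BT.leaf cJ1427))) (BT.node 1429 (BT.node 1428 (BT.leaf cJ1428) (BT.leaf cJ1429)) (BT.leaf cJ1430)))) (BT.node 1437 (BT.node 1434 (BT.node 1432 (BT.node 1431 (BT.leaf cJ1431) (BT.leaf cJ1432)) (BT.node 1433 (BT.leaf cJ1433) (BT.leaf cJ1434))) (BT.node 1436 (BT.node 1435 (BT.leaf cJ1435) (BT.leaf cJ1436)) (BT.leaf cJ1437))) (BT.node 1440 (BT.node 1439 (BT.node 1438 (BT.leaf cJ1438) (BT.leaf cJ1439)) (BT.leaf cJ1440)) (BT.node 1442 (BT.node 1441 (BT.leaf cJ1441) (BT.leaf cJ1442)) (BT.leaf cJ1443))))))) (BT.node 1499 (BT.node 1471 (BT.node 1457 (BT.node 1450 (BT.node 1447 (BT.node 1445 (BT.node 1444 (BT.leaf cJ1444) (BT.leaf cJ1445)) (BT.node 1446 (BT.leaf cJ1446) (BT.leaf cJ1447))) (BT.node 1449 (BT.node 1448 (BT.leaf cJ1448) (BT.leaf cJ1449)) (BT.leaf cJ1450))) (BT.node 1454 (BT.node 1452 (BT.node 1451 (BT.leaf cJ1451) (BT.leaf cJ1452)) (BT.node 1453 (BT.leaf cJ1453) (BT.leaf cJ1454))) (BT.node 1456 (BT.node 1455 (BT.leaf cJ1455) (BT.leaf cJ1456)) (BT.leaf cJ1457)))) (BT.node 1464 (BT.node 1461 (BT.node 1459 (BT.node 1458 (BT.leaf cJ1458) (BT.leaf cJ1459)) (BT.node 1460 (BT.leaf cJ1460) (BT.leaf cJ1461))) (BT.node 1463 (BT.node 1462 (BT.leaf cJ1462) (BT.leaf cJ1463)) (BT.leaf cJ1464))) (BT.node 1468 (BT.node 1466 (BT.node 1465 (BT.leaf cJ1465) (BT.leaf cJ1466)) (BT.node 1467 (BT.leaf cJ1467) (BT.leaf cJ1468))) (BT.node 1470 (BT.node 1469 (BT.leaf cJ1469) (BT.leaf cJ1470)) (BT.leaf cJ1471))))) (BT.node 1485 (BT.node 1478 (BT.node 1475 (BT.node 1473 (BT.node 1472 (BT.leaf cJ1472) (BT.leaf cJ1473)) (BT.node 1474 (BT.leaf cJ1474) (BT.leaf cJ1475))) (BT.node 1477 (BT.node 1476 (BT.leaf cJ1476) (BT.leaf cJ1477)) (BT.leaf cJ1478))) (BT.node 1482 (BT.node 1480 (BT.node 1479 (BT.leaf cJ1479) (BT.leaf cJ1480)) (BT.node 1481 (BT.leaf cJ1481) (BT.leaf cJ1482))) (BT.node 1484 (BT.node 1483 (BT.leaf cJ1483) (BT.leaf cJ1484)) (BT.leaf cJ1485)))) (BT.node 1492 (BT.node 1489 (BT.node 1487 (BT.node 1486 (BT.leaf cJ1486) (BT.leaf cJ1487)) (BT.node 1488 (BT.leaf cJ1488) (BT.leaf cJ1489))) (BT.node 1491 (BT.node 1490 (BT.leaf cJ1490) (BT.leaf cJ1491)) (BT.leaf cJ1492))) (BT.node 1496 (BT.node 1494 (BT.node 1493 (BT.leaf cJ1493) (BT.leaf cJ1494)) (BT.node 1495 (BT.leaf cJ1495) (BT.leaf cJ1496))) (BT.node 1498 (BT.node 1497 (BT.leaf cJ1497) (BT.leaf cJ1498)) (BT.leaf cJ1499)))))) (BT.node 1527 (BT.node 1513 (BT.node 1506 (BT.node 1503 (BT.node 1501 (BT.node 1500 (BT.leaf cJ1500) (BT.leaf cJ1501)) (BT.node 1502 (BT.leaf cJ1502) (BT.leaf cJ1503))) (BT.node 1505 (BT.node 1504 (BT.leaf cJ1504) (BT.leaf cJ1505)) (BT.leaf cJ1506))) (BT.node 1510 (BT.node 1508 (BT.node 1507 (BT.leaf cJ1507) (BT.leaf cJ1508)) (BT.node 1509 (BT.leaf cJ1509) (BT.leaf cJ1510))) (BT.node 1512 (BT.node 1511 (BT.leaf cJ1511) (BT.leaf cJ1512)) (BT.leaf cJ1513)))) (BT.node 1520 (BT.node 1517 (BT.node 1515 (BT.node 1514 (BT.leaf cJ1514) (BT.leaf cJ1515)) (BT.node 1516 (BT.leaf cJ1516) (BT.leaf cJ1517))) (BT.node 1519 (BT.node 1518 (BT.leaf cJ1518) (BT.leaf cJ1519)) (BT.leaf cJ1520))) (BT.node 1524 (BT.node 1522 (BT.node 1521 (BT.leaf cJ1521) (BT.leaf cJ1522)) (BT.node 1523 (BT.leaf cJ1523) (BT.leaf cJ1524))) (BT.node 1526 (BT.node 1525 (BT.leaf cJ1525) (BT.leaf cJ1526)) (BT.leaf cJ1527))))) (BT.node 1541 (BT.node 1534 (BT.node 1531 (BT.node 1529 (BT.node 1528 (BT.leaf cJ1528) (BT.leaf cJ1529)) (BT.node 1530 (BT.leaf cJ1530) (BT.leaf cJ1531))) (BT.node 1533 (BT.node 1532 (BT.leaf cJ1532) (BT.leaf cJ1533)) (BT.leaf cJ1534))) (BT.node 1538 (BT.node 1536 (BT.node 1535 (BT.leaf cJ1535) (BT.leaf cJ1536)) (BT.node 1537 (BT.leaf cJ1537) (BT.leaf cJ1538))) (BT.node 1540 (BT.node 1539 (BT.leaf cJ1539) (BT.leaf cJ1540)) (BT.leaf cJ1541)))) (BT.node 1548 (BT.node 1545 (BT.node 1543 (BT.node 1542 (BT.leaf cJ1542) (BT.leaf cJ1543)) (BT.node 1544 (BT.leaf cJ1544) (BT.leaf cJ1545))) (BT.node 1547 (BT.node 1546 (BT.leaf cJ1546) (BT.leaf cJ1547)) (BT.leaf cJ1548))) (BT.node 1551 (BT.node 1550 (BT.node 1549 (BT.leaf cJ1549) (BT.leaf cJ1550)) (BT.leaf cJ1551)) (BT.node 1553 (BT.node 1552 (BT.leaf cJ1552) (BT.leaf cJ1553)) (BT.leaf cJ1554)))))))) (BT.node 1665 (BT.node 1610 (BT.node 1582 (BT.node 1568 (BT.node 1561 (BT.node 1558 (BT.node 1556 (BT.node 1555 (BT.leaf cJ1555) (BT.leaf cJ1556)) (BT.node 1557 (BT.leaf cJ1557) (BT.leaf cJ1558))) (BT.node 1560 (BT.node 1559 (BT.leaf cJ1559) (BT.leaf cJ1560)) (BT.leaf cJ1561))) (BT.node 1565 (BT.node 1563 (BT.node 1562 (BT.leaf cJ1562) (BT.leaf cJ1563)) (BT.node 1564 (BT.leaf cJ1564) (BT.leaf cJ1565))) (BT.node 1567 (BT.node 1566 (BT.leaf cJ1566) (BT.leaf cJ1567)) (BT.leaf cJ1568)))) (BT.node 1575 (BT.node 1572 (BT.node 1570 (BT.node 1569 (BT.leaf cJ1569) (BT.leaf cJ1570)) (BT.node 1571 (BT.leaf cJ1571) (BT.leaf cJ1572))) (BT.node 1574 (BT.node 1573 (BT.leaf cJ1573) (BT.leaf cJ1574)) (BT.leaf cJ1575))) (BT.node 1579 (BT.node 1577 (BT.node 1576 (BT.leaf cJ1576) (BT.leaf cJ1577)) (BT.node 1578 (BT.leaf cJ1578) (BT.leaf cJ1579))) (BT.node 1581 (BT.node 1580 (BT.leaf cJ1580) (BT.leaf cJ1581)) (BT.leaf cJ1582))))) (BT.node 1596 (BT.node 1589 (BT.node 1586 (BT.node 1584 (BT.node 1583 (BT.leaf cJ1583) (BT.leaf cJ1584)) (BT.node 1585 (BT.leaf cJ1585) (BT.leaf cJ1586))) (BT.node 1588 (BT.node 1587 (BT.leaf cJ1587) (BT.leaf cJ1588)) (BT.leaf cJ1589))) (BT.node 1593 (BT.node 1591 (BT.node 1590 (BT.leaf cJ1590) (BT.leaf cJ1591)) (BT.node 1592 (BT.leaf cJ1592) (BT.leaf cJ1593))) (BT.node 1595 (BT.node 1594 (BT.leaf cJ1594) (BT.leaf cJ1595)) (BT.leaf cJ1596)))) (BT.node 1603 (BT.node 1600 (BT.node 1598 (BT.node 1597 (BT.leaf cJ1597) (BT.leaf cJ1598)) (BT.node 1599 (BT.leaf cJ1599) (BT.leaf cJ1600))) (BT.node 1602 (BT.node 1601 (BT.leaf cJ1601) (BT.leaf cJ1602)) (BT.leaf cJ1603))) (BT.node 1607 (BT.node 1605 (BT.node 1604 (BT.leaf cJ1604) (BT.leaf cJ1605)) (BT.node 1606 (BT.leaf cJ1606) (BT.leaf cJ1607))) (BT.node 1609 (BT.node 1608 (BT.leaf cJ1608) (BT.leaf cJ1609)) (BT.leaf cJ1610)))))) (BT.node 1638 (BT.node 1624 (BT.node 1617 (BT.node 1614 (BT.node 1612 (BT.node 1611 (BT.leaf cJ1611) (BT.leaf cJ1612)) (BT.node 1613 (BT.leaf cJ1613) (BT.leaf cJ1614))) (BT.node 1616 (BT.node 1615 (BT.leaf cJ1615) (BT.leaf cJ1616)) (BT.leaf cJ1617))) (BT.node 1621 (BT.node 1619 (BT.node 1618 (BT.leaf cJ1618) (BT.leaf cJ1619)) (BT.node 1620 (BT.leaf cJ1620) (BT.leaf cJ1621))) (BT.node 1623 (BT.node 1622 (BT.leaf cJ1622) (BT.leaf cJ1623)) (BT.leaf cJ1624)))) (BT.node 1631 (BT.node 1628 (BT.node 1626 (BT.node 1625 (BT.leaf cJ1625) (BT.leaf cJ1626)) (BT.node 1627 (BT.leaf cJ1627) (BT.leaf cJ1628))) (BT.node 1630 (BT.node 1629 (BT.leaf cJ1629) (BT.leaf cJ1630)) (BT.leaf cJ1631))) (BT.node 1635 (BT.node 1633 (BT.node 1632 (BT.leaf cJ1632) (BT.leaf cJ1633)) (BT.node 1634 (BT.leaf cJ1634) (BT.leaf cJ1635))) (BT.node 1637 (BT.node 1636 (BT.leaf cJ1636) (BT.leaf cJ1637)) (BT.leaf cJ1638))))) (BT.node 1652 (BT.node 1645 (BT.node 1642 (BT.node 1640 (BT.node 1639 (BT.leaf cJ1639) (BT.leaf cJ1640)) (BT.node 1641 (BT.leaf cJ1641) (BT.leaf cJ1642))) (BT.node 1644 (BT.node 1643 (BT.leaf cJ1643) (BT.leaf cJ1644)) (BT.leaf cJ1645))) (BT.node 1649 (BT.node 1647 (BT.node 1646 (BT.leaf cJ1646) (BT.leaf cJ1647)) (BT.node 1648 (BT.leaf cJ1648) (BT.leaf cJ1649))) (BT.node 1651 (BT.node 1650 (BT.leaf cJ1650) (BT.leaf cJ1651)) (BT.leaf cJ1652)))) (BT.node 1659 (BT.node 1656 (BT.node 1654 (BT.node 1653 (BT.leaf cJ1653) (BT.leaf cJ1654)) (BT.node 1655 (BT.leaf cJ1655) (BT.leaf cJ1656))) (BT.node 1658 (BT.node 1657 (BT.leaf cJ1657) (BT.leaf cJ1658)) (BT.leaf cJ1659))) (BT.node 1662 (BT.node 1661 (BT.node 1660 (BT.leaf cJ1660) (BT.leaf cJ1661)) (BT.leaf cJ1662)) (BT.node 1664 (BT.node 1663 (BT.leaf cJ1663) (BT.leaf cJ1664)) (BT.leaf cJ1665))))))) (BT.node 1721 (BT.node 1693 (BT.node 1679 (BT.node 1672 (BT.node 1669 (BT.node 1667 (BT.node 1666 (BT.leaf cJ1666) (BT.leaf cJ1667)) (BT.node 1668 (BT.leaf cJ1668) (BT.leaf cJ1669))) (BT.node 1671 (BT.node 1670 (BT.leaf cJ1670) (BT.leaf cJ1671)) (BT.leaf cJ1672))) (BT.node 1676 (BT.node 1674 (BT.node 1673 (BT.leaf cJ1673) (BT.leaf cJ1674)) (BT.node 1675 (BT.leaf cJ1675) (BT.leaf cJ1676))) (BT.node 1678 (BT.node 1677 (BT.leaf cJ1677) (BT.leaf cJ1678)) (BT.leaf cJ1679)))) (BT.node 1686 (BT.node 1683 (BT.node 1681 (BT.node 1680 (BT.leaf cJ1680) (BT.leaf cJ1681)) (BT.node 1682 (BT.leaf cJ1682) (BT.leaf cJ1683))) (BT.node 1685 (BT.node 1684 (BT.leaf cJ1684) (BT.leaf cJ1685)) (BT.leaf cJ1686))) (BT.node 1690 (BT.node 1688 (BT.node 1687 (BT.leaf cJ1687) (BT.leaf cJ1688)) (BT.node 1689 (BT.leaf cJ1689) (BT.leaf cJ1690))) (BT.node 1692 (BT.node 1691 (BT.leaf cJ1691) (BT.leaf cJ1692)) (BT.leaf cJ1693))))) (BT.node 1707 (BT.node 1700 (BT.node 1697 (BT.node 1695 (BT.node 1694 (BT.leaf cJ1694) (BT.leaf cJ1695)) (BT.node 1696 (BT.leaf cJ1696) (BT.leaf cJ1697))) (BT.node 1699 (BT.node 1698 (BT.leaf cJ1698) (BT.leaf cJ1699)) (BT.leaf cJ1700))) (BT.node 1704 (BT.node 1702 (BT.node 1701 (BT.leaf cJ1701) (BT.leaf cJ1702)) (BT.node 1703 (BT.leaf cJ1703) (BT.leaf cJ1704))) (BT.node 1706 (BT.node 1705 (BT.leaf cJ1705) (BT.leaf cJ1706)) (BT.leaf cJ1707)))) (BT.node 1714 (BT.node 1711 (BT.node 1709 (BT.node 1708 (BT.leaf cJ1708) (BT.leaf cJ1709)) (BT.node 1710 (BT.leaf cJ1710) (BT.leaf cJ1711))) (BT.node 1713 (BT.node 1712 (BT.leaf cJ1712) (BT.leaf cJ1713)) (BT.leaf cJ1714))) (BT.node 1718 (BT.node 1716 (BT.node 1715 (BT.leaf cJ1715) (BT.leaf cJ1716)) (BT.node 1717 (BT.leaf cJ1717) (BT.leaf cJ1718))) (BT.node 1720 (BT.node 1719 (BT.leaf cJ1719) (BT.leaf cJ1720)) (BT.leaf cJ1721)))))) (BT.node 1749 (BT.node 1735 (BT.node 1728 (BT.node 1725 (BT.node 1723 (BT.node 1722 (BT.leaf cJ1722) (BT.leaf cJ1723)) (BT.node 1724 (BT.leaf cJ1724) (BT.leaf cJ1725))) (BT.node 1727 (BT.node 1726 (BT.leaf cJ1726) (BT.leaf cJ1727)) (BT.leaf cJ1728))) (BT.node 1732 (BT.node 1730 (BT.node 1729 (BT.leaf cJ1729) (BT.leaf cJ1730)) (BT.node 1731 (BT.leaf cJ1731) (BT.leaf cJ1732))) (BT.node 1734 (BT.node 1733 (BT.leaf cJ1733) (BT.leaf cJ1734)) (BT.leaf cJ1735)))) (BT.node 1742 (BT.node 1739 (BT.node 1737 (BT.node 1736 (BT.leaf cJ1736) (BT.leaf cJ1737)) (BT.node 1738 (BT.leaf cJ1738) (BT.leaf cJ1739))) (BT.node 1741 (BT.node 1740 (BT.leaf cJ1740) (BT.leaf cJ1741)) (BT.leaf cJ1742))) (BT.node 1746 (BT.node 1744 (BT.node 1743 (BT.leaf cJ1743) (BT.leaf cJ1744)) (BT.node 1745 (BT.leaf cJ1745) (BT.leaf cJ1746))) (BT.node 1748 (BT.node 1747 (BT.leaf cJ1747) (BT.leaf cJ1748)) (BT.leaf cJ1749))))) (BT.node 1763 (BT.node 1756 (BT.node 1753 (BT.node 1751 (BT.node 1750 (BT.leaf cJ1750) (BT.leaf cJ1751)) (BT.node 1752 (BT.leaf cJ1752) (BT.leaf cJ1753))) (BT.node 1755 (BT.node 1754 (BT.leaf cJ1754) (BT.leaf cJ1755)) (BT.leaf cJ1756))) (BT.node 1760 (BT.node 1758 (BT.node 1757 (BT.leaf cJ1757) (BT.leaf cJ1758)) (BT.node 1759 (BT.leaf cJ1759) (BT.leaf cJ1760))) (BT.node 1762 (BT.node 1761 (BT.leaf cJ1761) (BT.leaf cJ1762)) (BT.leaf cJ1763)))) (BT.node 1770 (BT.node 1767 (BT.node 1765 (BT.node 1764 (BT.leaf cJ1764) (BT.leaf cJ1765)) (BT.node 1766 (BT.leaf cJ1766) (BT.leaf cJ1767))) (BT.node 1769 (BT.node 1768 (BT.leaf cJ1768) (BT.leaf cJ1769)) (BT.leaf cJ1770))) (BT.node 1773 (BT.node 1772 (BT.node 1771 (BT.leaf cJ1771) (BT.leaf cJ1772)) (BT.leaf cJ1773)) (BT.node 1775 (BT.node 1774 (BT.leaf cJ1774) (BT.leaf cJ1775)) (BT.leaf cJ1776))))))))))) (BT.node 2664 (BT.node 2220 (BT.node 1998 (BT.node 1887 (BT.node 1832 (BT.node 1804 (BT.node 1790 (BT.node 1783 (BT.node 1780 (BT.node 1778 (BT.node 1777 (BT.leaf cJ1777) (BT.leaf cJ1778)) (BT.node 1779 (BT.leaf cJ1779) (BT.leaf cJ1780))) (BT.node 1782 (BT.node 1781 (BT.leaf cJ1781) (BT.leaf cJ1782)) (BT.leaf cJ1783))) (BT.node 1787 (BT.node 1785 (BT.node 1784 (BT.leaf cJ1784) (BT.leaf cJ1785)) (BT.node 1786 (BT.leaf cJ1786) (BT.leaf cJ1787))) (BT.node 1789 (BT.node 1788 (BT.leaf cJ1788) (BT.leaf cJ1789)) (BT.leaf cJ1790)))) (BT.node 1797 (BT.node 1794 (BT.node 1792 (BT.node 1791 (BT.leaf cJ1791) (BT.leaf cJ1792)) (BT.node 1793 (BT.leaf cJ1793) (BT.leaf cJ1794))) (BT.node 1796 (BT.node 1795 (BT.leaf cJ1795) (BT.leaf cJ1796)) (BT.leaf cJ1797))) (BT.node 1801 (BT.node 1799 (BT.node 1798 (BT.leaf cJ1798) (BT.leaf cJ1799)) (BT.node 1800 (BT.leaf cJ1800) (BT.leaf cJ1801))) (BT.node 1803 (BT.node 1802 (BT.leaf cJ1802) (BT.leaf cJ1803)) (BT.leaf cJ1804))))) (BT.node 1818 (BT.node 1811 (BT.node 1808 (BT.node 1806 (BT.node 1805 (BT.leaf cJ1805) (BT.leaf cJ1806)) (BT.node 1807 (BT.leaf cJ1807) (BT.leaf cJ1808))) (BT.node 1810 (BT.node 1809 (BT.leaf cJ1809) (BT.leaf cJ1810)) (BT.leaf cJ1811))) (BT.node 1815 (BT.node 1813 (BT.node 1812 (BT.leaf cJ1812) (BT.leaf cJ1813)) (BT.node 1814 (BT.leaf cJ1814) (BT.leaf cJ1815))) (BT.node 1817 (BT.node 1816 (BT.leaf cJ1816) (BT.leaf cJ1817)) (BT.leaf cJ1818)))) (BT.node 1825 (BT.node 1822 (BT.node 1820 (BT.node 1819 (BT.leaf cJ1819) (BT.leaf cJ1820)) (BT.node 1821 (BT.leaf cJ1821) (BT.leaf cJ1822))) (BT.node 1824 (BT.node 1823 (BT.leaf cJ1823) (BT.leaf cJ1824)) (BT.leaf cJ1825))) (BT.node 1829 (BT.node 1827 (BT.node 1826 (BT.leaf cJ1826) (BT.leaf cJ1827)) (BT.node 1828 (BT.leaf cJ1828) (BT.leaf cJ1829))) (BT.node 1831 (BT.node 1830 (BT.leaf cJ1830) (BT.leaf cJ1831)) (BT.leaf cJ1832)))))) (BT.node 1860 (BT.node 1846 (BT.node 1839 (BT.node 1836 (BT.node 1834 (BT.node 1833 (BT.leaf cJ1833) (BT.leaf cJ1834)) (BT.node 1835 (BT.leaf cJ1835) (BT.leaf cJ1836))) (BT.node 1838 (BT.node 1837 (BT.leaf cJ1837) (BT.leaf cJ1838)) (BT.leaf cJ1839))) (BT.node 1843 (BT.node 1841 (BT.node 1840 (BT.leaf cJ1840) (BT.leaf cJ1841)) (BT.node 1842 (BT.leaf cJ1842) (BT.leaf cJ1843))) (BT.node 1845 (BT.node 1844 (BT.leaf cJ1844) (BT.leaf cJ1845)) (BT.leaf cJ1846)))) (BT.node 1853 (BT.node 1850 (BT.node 1848 (BT.node 1847 (BT.leaf cJ1847) (BT.leaf cJ1848)) (BT.node 1849 (BT.leaf cJ1849) (BT.leaf cJ1850))) (BT.node 1852 (BT.node 1851 (BT.leaf cJ1851) (BT.leaf cJ1852)) (BT.leaf cJ1853))) (BT.node 1857 (BT.node 1855 (BT.node 1854 (BT.leaf cJ1854) (BT.leaf cJ1855)) (BT.node 1856 (BT.leaf cJ1856) (BT.leaf cJ1857))) (BT.node 1859 (BT.node 1858 (BT.leaf cJ1858) (BT.leaf cJ1859)) (BT.leaf cJ1860))))) (BT.node 1874 (BT.node 1867 (BT.node 1864 (BT.node 1862 (BT.node 1861 (BT.leaf cJ1861) (BT.leaf cJ1862)) (BT.node 1863 (BT.leaf cJ1863) (BT.leaf cJ1864))) (BT.node 1866 (BT.node 1865 (BT.leaf cJ1865) (BT.leaf cJ1866)) (BT.leaf cJ1867))) (BT.node 1871 (BT.node 1869 (BT.node 1868 (BT.leaf cJ1868) (BT.leaf cJ1869)) (BT.node 1870 (BT.leaf cJ1870) (BT.leaf cJ1871))) (BT.node 1873 (BT.node 1872 (BT.leaf cJ1872) (BT.leaf cJ1873)) (BT.leaf cJ1874)))) (BT.node 1881 (BT.node 1878 (BT.node 1876 (BT.node 1875 (BT.leaf cJ1875) (BT.leaf cJ1876)) (BT.node 1877 (BT.leaf cJ1877) (BT.leaf cJ1878))) (BT.node 1880 (BT.node 1879 (BT.leaf cJ1879) (BT.leaf cJ1880)) (BT.leaf cJ1881))) (BT.node 1884 (BT.node 1883 (BT.node 1882 (BT.leaf cJ1882) (BT.leaf cJ1883)) (BT.leaf cJ1884)) (BT.node 1886 (BT.node 1885 (BT.leaf cJ1885) (BT.leaf cJ1886)) (BT.leaf cJ1887))))))) (BT.node 1943 (BT.node 1915 (BT.node 1901 (BT.node 1894 (BT.node 1891 (BT.node 1889 (BT.node 1888 (BT.leaf cJ1888) (BT.leaf cJ1889)) (BT.node 1890 (BT.leaf cJ1890) (BT.leaf cJ1891))) (BT.node 1893 (BT.node 1892 (BT.leaf cJ1892) (BT.leaf cJ1893)) (BT.leaf cJ1894))) (BT.node 1898 (BT.node 1896 (BT.node 1895 (BT.leaf cJ1895) (BT.leaf cJ1896)) (BT.node 1897 (BT.leaf cJ1897) (BT.leaf cJ1898))) (BT.node 1900 (BT.node 1899 (BT.leaf cJ1899) (BT.leaf cJ1900)) (BT.leaf cJ1901)))) (BT.node 1908 (BT.node 1905 (BT.node 1903 (BT.node 1902 (BT.leaf cJ1902) (BT.leaf cJ1903)) (BT.node 1904 (BT.leaf cJ1904) (BT.leaf cJ1905))) (BT.node 1907 (BT.node 1906 (BT.leaf cJ1906) (BT.leaf cJ1907)) (BT.leaf cJ1908))) (BT.node 1912 (BT.node 1910 (BT.node 1909 (BT.leaf cJ1909) (BT.leaf cJ1910)) (BT.node 1911 (BT.leaf cJ1911) (BT.leaf cJ1912))) (BT.node 1914 (BT.node 1913 (BT.leaf cJ1913) (BT.leaf cJ1914)) (BT.leaf cJ1915))))) (BT.node 1929 (BT.node 1922 (BT.node 1919 (BT.node 1917 (BT.node 1916 (BT.leaf cJ1916) (BT.leaf cJ1917)) (BT.node 1918 (BT.leaf cJ1918) (BT.leaf cJ1919))) (BT.node 1921 (BT.node 1920 (BT.leaf cJ1920) (BT.leaf cJ1921)) (BT.leaf cJ1922))) (BT.node 1926 (BT.node 1924 (BT.node 1923 (BT.leaf cJ1923) (BT.leaf cJ1924)) (BT.node 1925 (BT.leaf cJ1925) (BT.leaf cJ1926))) (BT.node 1928 (BT.node 1927 (BT.leaf cJ1927) (BT.leaf cJ1928)) (BT.leaf cJ1929)))) (BT.node 1936 (BT.node 1933 (BT.node 1931 (BT.node 1930 (BT.leaf cJ1930) (BT.leaf cJ1931)) (BT.node 1932 (BT.leaf cJ1932) (BT.leaf cJ1933))) (BT.node 1935 (BT.node 1934 (BT.leaf cJ1934) (BT.leaf cJ1935)) (BT.leaf cJ1936))) (BT.node 1940 (BT.node 1938 (BT.node 1937 (BT.leaf cJ1937) (BT.leaf cJ1938)) (BT.node 1939 (BT.leaf cJ1939) (BT.leaf cJ1940))) (BT.node 1942 (BT.node 1941 (BT.leaf cJ1941) (BT.leaf cJ1942)) (BT.leaf cJ1943)))))) (BT.node 1971 (BT.node 1957 (BT.node 1950 (BT.node 1947 (BT.node 1945 (BT.node 1944 (BT.leaf cJ1944) (BT.leaf cJ1945)) (BT.node 1946 (BT.leaf cJ1946) (BT.leaf cJ1947))) (BT.node 1949 (BT.node 1948 (BT.leaf cJ1948) (BT.leaf cJ1949)) (BT.leaf cJ1950))) (BT.node 1954 (BT.node 1952 (BT.node 1951 (BT.leaf cJ1951) (BT.leaf cJ1952)) (BT.node 1953 (BT.leaf cJ1953) (BT.leaf cJ1954))) (BT.node 1956 (BT.node 1955 (BT.leaf cJ1955) (BT.leaf cJ1956)) (BT.leaf cJ1957)))) (BT.node 1964 (BT.node 1961 (BT.node 1959 (BT.node 1958 (BT.leaf cJ1958) (BT.leaf cJ1959)) (BT.node 1960 (BT.leaf cJ1960) (BT.leaf cJ1961))) (BT.node 1963 (BT.node 1962 (BT.leaf cJ1962) (BT.leaf cJ1963)) (BT.leaf cJ1964))) (BT.node 1968 (BT.node 1966 (BT.node 1965 (BT.leaf cJ1965) (BT.leaf cJ1966)) (BT.node 1967 (BT.leaf cJ1967) (BT.leaf cJ1968))) (BT.node 1970 (BT.node 1969 (BT.leaf cJ1969) (BT.leaf cJ1970)) (BT.leaf cJ1971))))) (BT.node 1985 (BT.node 1978 (BT.node 1975 (BT.node 1973 (BT.node 1972 (BT.leaf cJ1972) (BT.leaf cJ1973)) (BT.node 1974 (BT.leaf cJ1974) (BT.leaf cJ1975))) (BT.node 1977 (BT.node 1976 (BT.leaf cJ1976) (BT.leaf cJ1977)) (BT.leaf cJ1978))) (BT.node 1982 (BT.node 1980 (BT.node 1979 (BT.leaf cJ1979) (BT.leaf cJ1980)) (BT.node 1981 (BT.leaf cJ1981) (BT.leaf cJ1982))) (BT.node 1984 (BT.node 1983 (BT.leaf cJ1983) (BT.leaf cJ1984)) (BT.leaf cJ1985)))) (BT.node 1992 (BT.node 1989 (BT.node 1987 (BT.node 1986 (BT.leaf cJ1986) (BT.leaf cJ1987)) (BT.node 1988 (BT.leaf cJ1988) (BT.leaf cJ1989))) (BT.node 1991 (BT.node 1990 (BT.leaf cJ1990) (BT.leaf cJ1991)) (BT.leaf cJ1992))) (BT.node 1995 (BT.node 1994 (BT.node 1993 (BT.leaf cJ1993) (BT.leaf cJ1994)) (BT.leaf cJ1995)) (BT.node 1997 (BT.node 1996 (BT.leaf cJ1996) (BT.leaf cJ1997)) (BT.leaf cJ1998)))))))) (BT.node 2109 (BT.node 2054 (BT.node 2026 (BT.node 2012 (BT.node 2005 (BT.node 2002 (BT.node 2000 (BT.node 1999 (BT.leaf cJ1999) (BT.leaf cJ2000)) (BT.node 2001 (BT.leaf cJ2001) (BT.leaf cJ2002))) (BT.node 2004 (BT.node 2003 (BT.leaf cJ2003) (BT.leaf cJ2004)) (BT.leaf cJ2005))) (BT.node 2009 (BT.node 2007 (BT.node 2006 (BT.leaf cJ2006) (BT.leaf cJ2007)) (BT.node 2008 (BT.leaf cJ2008) (BT.leaf cJ2009))) (BT.node 2011 (BT.node 2010 (BT.leaf cJ2010) (BT.leaf cJ2011)) (BT.leaf cJ2012)))) (BT.node 2019 (BT.node 2016 (BT.node 2014 (BT.node 2013 (BT.leaf cJ2013) (BT.leaf cJ2014)) (BT.node 2015 (BT.leaf cJ2015) (BT.leaf cJ2016))) (BT.node 2018 (BT.node 2017 (BT.leaf cJ2017) (BT.leaf cJ2018)) (BT.leaf cJ2019))) (BT.node 2023 (BT.node 2021 (BT.node 2020 (BT.leaf cJ2020) (BT.leaf cJ2021)) (BT.node 2022 (BT.leaf cJ2022) (BT.leaf cJ2023))) (BT.node 2025 (BT.node 2024 (BT.leaf cJ2024) (BT.leaf cJ2025)) (BT.leaf cJ2026))))) (BT.node 2040 (BT.node 2033 (BT.node 2030 (BT.node 2028 (BT.node 2027 (BT.leaf cJ2027) (BT.leaf cJ2028)) (BT.node 2029 (BT.leaf cJ2029) (BT.leaf cJ2030))) (BT.node 2032 (BT.node 2031 (BT.leaf cJ2031) (BT.leaf cJ2032)) (BT.leaf cJ2033))) (BT.node 2037 (BT.node 2035 (BT.node 2034 (BT.leaf cJ2034) (BT.leaf cJ2035)) (BT.node 2036 (BT.leaf cJ2036) (BT.leaf cJ2037))) (BT.node 2039 (BT.node 2038 (BT.leaf cJ2038) (BT.leaf cJ2039)) (BT.leaf cJ2040)))) (BT.node 2047 (BT.node 2044 (BT.node 2042 (BT.node 2041 (BT.leaf cJ2041) (BT.leaf cJ2042)) (BT.node 2043 (BT.leaf cJ2043) (BT.leaf cJ2044))) (BT.node 2046 (BT.node 2045 (BT.leaf cJ2045) (BT.leaf cJ2046)) (BT.leaf cJ2047))) (BT.node 2051 (BT.node 2049 (BT.node 2048 (BT.leaf cJ2048) (BT.leaf cJ2049)) (BT.node 2050 (BT.leaf cJ2050) (BT.leaf cJ2051))) (BT.node 2053 (BT.node 2052 (BT.leaf cJ2052) (BT.leaf cJ2053)) (BT.leaf cJ2054)))))) (BT.node 2082 (BT.node 2068 (BT.node 2061 (BT.node 2058 (BT.node 2056 (BT.node 2055 (BT.leaf cJ2055) (BT.leaf cJ2056)) (BT.node 2057 (BT.leaf cJ2057) (BT.leaf cJ2058))) (BT.node 2060 (BT.node 2059 (BT.leaf cJ2059) (BT.leaf cJ2060)) (BT.leaf cJ2061))) (BT.node 2065 (BT.node 2063 (BT.node 2062 (BT.leaf cJ2062) (BT.leaf cJ2063)) (BT.node 2064 (BT.leaf cJ2064) (BT.leaf cJ2065))) (BT.node 2067 (BT.node 2066 (BT.leaf cJ2066) (BT.leaf cJ2067)) (BT.leaf cJ2068)))) (BT.node 2075 (BT.node 2072 (BT.node 2070 (BT.node 2069 (BT.leaf cJ2069) (BT.leaf cJ2070)) (BT.node 2071 (BT.leaf cJ2071) (BT.leaf cJ2072))) (BT.node 2074 (BT.node 2073 (BT.leaf cJ2073) (BT.leaf cJ2074)) (BT.leaf cJ2075))) (BT.node 2079 (BT.node 2077 (BT.node 2076 (BT.leaf cJ2076) (BT.leaf cJ2077)) (BT.node 2078 (BT.leaf cJ2078) (BT.leaf cJ2079))) (BT.node 2081 (BT.node 2080 (BT.leaf cJ2080) (BT.leaf cJ2081)) (BT.leaf cJ2082))))) (BT.node 2096 (BT.node 2089 (BT.node 2086 (BT.node 2084 (BT.node 2083 (BT.leaf cJ2083) (BT.leaf cJ2084)) (BT.node 2085 (BT.leaf cJ2085) (BT.leaf cJ2086))) (BT.node 2088 (BT.node 2087 (BT.leaf cJ2087) (BT.leaf cJ2088)) (BT.leaf cJ2089))) (BT.node 2093 (BT.node 2091 (BT.node 2090 (BT.leaf cJ2090) (BT.leaf cJ2091)) (BT.node 2092 (BT.leaf cJ2092) (BT.leaf cJ2093))) (BT.node 2095 (BT.node 2094 (BT.leaf cJ2094) (BT.leaf cJ2095)) (BT.leaf cJ2096)))) (BT.node 2103 (BT.node 2100 (BT.node 2098 (BT.node 2097 (BT.leaf cJ2097) (BT.leaf cJ2098)) (BT.node 2099 (BT.leaf cJ2099) (BT.leaf cJ2100))) (BT.node 2102 (BT.node 2101 (BT.leaf cJ2101) (BT.leaf cJ2102)) (BT.leaf cJ2103))) (BT.node 2106 (BT.node 2105 (BT.node 2104 (BT.leaf cJ2104) (BT.leaf cJ2105)) (BT.leaf cJ2106)) (BT.node 2108 (BT.node 2107 (BT.leaf cJ2107) (BT.leaf cJ2108)) (BT.leaf cJ2109))))))) (BT.node 2165 (BT.node 2137 (BT.node 2123 (BT.node 2116 (BT.node 2113 (BT.node 2111 (BT.node 2110 (BT.leaf cJ2110) (BT.leaf cJ2111)) (BT.node 2112 (BT.leaf cJ2112) (BT.leaf cJ2113))) (BT.node 2115 (BT.node 2114 (BT.leaf cJ2114) (BT.leaf cJ2115)) (BT.leaf cJ2116))) (BT.node 2120 (BT.node 2118 (BT.node 2117 (BT.leaf cJ2117) (BT.leaf cJ2118)) (BT.node 2119 (BT.leaf cJ2119) (BT.leaf cJ2120))) (BT.node 2122 (BT.node 2121 (BT.leaf cJ2121) (BT.leaf cJ2122)) (BT.leaf cJ2123)))) (BT.node 2130 (BT.node 2127 (BT.node 2125 (BT.node 2124 (BT.leaf cJ2124) (BT.leaf cJ2125)) (BT.node 2126 (BT.leaf cJ2126) (BT.leaf cJ2127))) (BT.node 2129 (BT.node 2128 (BT.leaf cJ2128) (BT.leaf cJ2129)) (BT.leaf cJ2130))) (BT.node 2134 (BT.node 2132 (BT.node 2131 (BT.leaf cJ2131) (BT.leaf cJ2132)) (BT.node 2133 (BT.leaf cJ2133) (BT.leaf cJ2134))) (BT.node 2136 (BT.node 2135 (BT.leaf cJ2135) (BT.leaf cJ2136)) (BT.leaf cJ2137))))) (BT.node 2151 (BT.node 2144 (BT.node 2141 (BT.node 2139 (BT.node 2138 (BT.leaf cJ2138) (BT.leaf cJ2139)) (BT.node 2140 (BT.leaf cJ2140) (BT.leaf cJ2141))) (BT.node 2143 (BT.node 2142 (BT.leaf cJ2142) (BT.leaf cJ2143)) (BT.leaf cJ2144))) (BT.node 2148 (BT.node 2146 (BT.node 2145 (BT.leaf cJ2145) (BT.leaf cJ2146)) (BT.node 2147 (BT.leaf cJ2147) (BT.leaf cJ2148))) (BT.node 2150 (BT.node 2149 (BT.leaf cJ2149) (BT.leaf cJ2150)) (BT.leaf cJ2151)))) (BT.node 2158 (BT.node 2155 (BT.node 2153 (BT.node 2152 (BT.leaf cJ2152) (BT.leaf cJ2153)) (BT.node 2154 (BT.leaf cJ2154) (BT.leaf cJ2155))) (BT.node 2157 (BT.node 2156 (BT.leaf cJ2156) (BT.leaf cJ2157)) (BT.leaf cJ2158))) (BT.node 2162 (BT.node 2160 (BT.node 2159 (BT.leaf cJ2159) (BT.leaf cJ2160)) (BT.node 2161 (BT.leaf cJ2161) (BT.leaf cJ2162))) (BT.node 2164 (BT.node 2163 (BT.leaf cJ2163) (BT.leaf cJ2164)) (BT.leaf cJ2165)))))) (BT.node 2193 (BT.node 2179 (BT.node 2172 (BT.node 2169 (BT.node 2167 (BT.node 2166 (BT.leaf cJ2166) (BT.leaf cJ2167)) (BT.node 2168 (BT.leaf cJ2168) (BT.leaf cJ2169))) (BT.node 2171 (BT.node 2170 (BT.leaf cJ2170) (BT.leaf cJ2171)) (BT.leaf cJ2172))) (BT.node 2176 (BT.node 2174 (BT.node 2173 (BT.leaf cJ2173) (BT.leaf cJ2174)) (BT.node 2175 (BT.leaf cJ2175) (BT.leaf cJ2176))) (BT.node 2178 (BT.node 2177 (BT.leaf cJ2177) (BT.leaf cJ2178)) (BT.leaf cJ2179)))) (BT.node 2186 (BT.node 2183 (BT.node 2181 (BT.node 2180 (BT.leaf cJ2180) (BT.leaf cJ2181)) (BT.node 2182 (BT.leaf cJ2182) (BT.leaf cJ2183))) (BT.node 2185 (BT.node 2184 (BT.leaf cJ2184) (BT.leaf cJ2185)) (BT.leaf cJ2186))) (BT.node 2190 (BT.node 2188 (BT.node 2187 (BT.leaf cJ2187) (BT.leaf cJ2188)) (BT.node 2189 (BT.leaf cJ2189) (BT.leaf cJ2190))) (BT.node 2192 (BT.node 2191 (BT.leaf cJ2191) (BT.leaf cJ2192)) (BT.leaf cJ2193))))) (BT.node 2207 (BT.node 2200 (BT.node 2197 (BT.node 2195 (BT.node 2194 (BT.leaf cJ2194) (BT.leaf cJ2195)) (BT.node 2196 (BT.leaf cJ2196) (BT.leaf cJ2197))) (BT.node 2199 (BT.node 2198 (BT.leaf cJ2198) (BT.leaf cJ2199)) (BT.leaf cJ2200))) (BT.node 2204 (BT.node 2202 (BT.node 2201 (BT.leaf cJ2201) (BT.leaf cJ2202)) (BT.node 2203 (BT.leaf cJ2203) (BT.leaf cJ2204))) (BT.node 2206 (BT.node 2205 (BT.leaf cJ2205) (BT.leaf cJ2206)) (BT.leaf cJ2207)))) (BT.node 2214 (BT.node 2211 (BT.node 2209 (BT.node 2208 (BT.leaf cJ2208) (BT.leaf cJ2209)) (BT.node 2210 (BT.leaf cJ2210) (BT.leaf cJ2211))) (BT.node 2213 (BT.node 2212 (BT.leaf cJ2212) (BT.leaf cJ2213)) (BT.leaf cJ2214))) (BT.node 2217 (BT.node 2216 (BT.node 2215 (BT.leaf cJ2215) (BT.leaf cJ2216)) (BT.leaf cJ2217)) (BT.node 2219 (BT.node 2218 (BT.leaf cJ2218) (BT.leaf cJ2219)) (BT.leaf cJ2220))))))))) (BT.node 2442 (BT.node 2331 (BT.node 2276 (BT.node 2248 (BT.node 2234 (BT.node 2227 (BT.node 2224 (BT.node 2222 (BT.node 2221 (BT.leaf cJ2221) (BT.leaf cJ2222)) (BT.node 2223 (BT.leaf cJ2223) (BT.leaf cJ2224))) (BT.node 2226 (BT.node 2225 (BT.leaf cJ2225) (BT.leaf cJ2226)) (BT.leaf cJ2227))) (BT.node 2231 (BT.node 2229 (BT.node 2228 (BT.leaf cJ2228) (BT.leaf cJ2229)) (BT.node 2230 (BT.leaf cJ2230) (BT.leaf cJ2231))) (BT.node 2233 (BT.node 2232 (BT.leaf cJ2232) (BT.leaf cJ2233)) (BT.leaf cJ2234)))) (BT.node 2241 (BT.node 2238 (BT.node 2236 (BT.node 2235 (BT.leaf cJ2235) (BT.leaf cJ2236)) (BT.node 2237 (BT.leaf cJ2237) (BT.leaf cJ2238))) (BT.node 2240 (BT.node 2239 (BT.leaf cJ2239) (BT.leaf cJ2240)) (BT.leaf cJ2241))) (BT.node 2245 (BT.node 2243 (BT.node 2242 (BT.leaf cJ2242) (BT.leaf cJ2243)) (BT.node 2244 (BT.leaf cJ2244) (BT.leaf cJ2245))) (BT.node 2247 (BT.node 2246 (BT.leaf cJ2246) (BT.leaf cJ2247)) (BT.leaf cJ2248))))) (BT.node 2262 (BT.node 2255 (BT.node 2252 (BT.node 2250 (BT.node 2249 (BT.leaf cJ2249) (BT.leaf cJ2250)) (BT.node 2251 (BT.leaf cJ2251) (BT.leaf cJ2252))) (BT.node 2254 (BT.node 2253 (BT.leaf cJ2253) (BT.leaf cJ2254)) (BT.leaf cJ2255))) (BT.node 2259 (BT.node 2257 (BT.node 2256 (BT.leaf cJ2256) (BT.leaf cJ2257)) (BT.node 2258 (BT.leaf cJ2258) (BT.leaf cJ2259))) (BT.node 2261 (BT.node 2260 (BT.leaf cJ2260) (BT.leaf cJ2261)) (BT.leaf cJ2262)))) (BT.node 2269 (BT.node 2266 (BT.node 2264 (BT.node 2263 (BT.leaf cJ2263) (BT.leaf cJ2264)) (BT.node 2265 (BT.leaf cJ2265) (BT.leaf cJ2266))) (BT.node 2268 (BT.node 2267 (BT.leaf cJ2267) (BT.leaf cJ2268)) (BT.leaf cJ2269))) (BT.node 2273 (BT.node 2271 (BT.node 2270 (BT.leaf cJ2270) (BT.leaf cJ2271)) (BT.node 2272 (BT.leaf cJ2272) (BT.leaf cJ2273))) (BT.node 2275 (BT.node 2274 (BT.leaf cJ2274) (BT.leaf cJ2275)) (BT.leaf cJ2276)))))) (BT.node 2304 (BT.node 2290 (BT.node 2283 (BT.node 2280 (BT.node 2278 (BT.node 2277 (BT.leaf cJ2277) (BT.leaf cJ2278)) (BT.node 2279 (BT.leaf cJ2279) (BT.leaf cJ2280))) (BT.node 2282 (BT.node 2281 (BT.leaf cJ2281) (BT.leaf cJ2282)) (BT.leaf cJ2283))) (BT.node 2287 (BT.node 2285 (BT.node 2284 (BT.leaf cJ2284) (BT.leaf cJ2285)) (BT.node 2286 (BT.leaf cJ2286) (BT.leaf cJ2287))) (BT.node 2289 (BT.node 2288 (BT.leaf cJ2288) (BT.leaf cJ2289)) (BT.leaf cJ2290)))) (BT.node 2297 (BT.node 2294 (BT.node 2292 (BT.node 2291 (BT.leaf cJ2291) (BT.leaf cJ2292)) (BT.node 2293 (BT.leaf cJ2293) (BT.leaf cJ2294))) (BT.node 2296 (BT.node 2295 (BT.leaf cJ2295) (BT.leaf cJ2296)) (BT.leaf cJ2297))) (BT.node 2301 (BT.node 2299 (BT.node 2298 (BT.leaf cJ2298) (BT.leaf cJ2299)) (BT.node 2300 (BT.leaf cJ2300) (BT.leaf cJ2301))) (BT.node 2303 (BT.node 2302 (BT.leaf cJ2302) (BT.leaf cJ2303)) (BT.leaf cJ2304))))) (BT.node 2318 (BT.node 2311 (BT.node 2308 (BT.node 2306 (BT.node 2305 (BT.leaf cJ2305) (BT.leaf cJ2306)) (BT.node 2307 (BT.leaf cJ2307) (BT.leaf cJ2308))) (BT.node 2310 (BT.node 2309 (BT.leaf cJ2309) (BT.leaf cJ2310)) (BT.leaf cJ2311))) (BT.node 2315 (BT.node 2313 (BT.node 2312 (BT.leaf cJ2312) (BT.leaf cJ2313)) (BT.node 2314 (BT.leaf cJ2314) (BT.leaf cJ2315))) (BT.node 2317 (BT.node 2316 (BT.leaf cJ2316) (BT.leaf cJ2317)) (BT.leaf cJ2318)))) (BT.node 2325 (BT.node 2322 (BT.node 2320 (BT.node 2319 (BT.leaf cJ2319) (BT.leaf cJ2320)) (BT.node 2321 (BT.leaf cJ2321) (BT.leaf cJ2322))) (BT.node 2324 (BT.node 2323 (BT.leaf cJ2323) (BT.leaf cJ2324)) (BT.leaf cJ2325))) (BT.node 2328 (BT.node 2327 (BT.node 2326 (BT.leaf cJ2326) (BT.leaf cJ2327)) (BT.leaf cJ2328)) (BT.node 2330 (BT.node 2329 (BT.leaf cJ2329) (BT.leaf cJ2330)) (BT.leaf cJ2331))))))) (BT.node 2387 (BT.node 2359 (BT.node 2345 (BT.node 2338 (BT.node 2335 (BT.node 2333 (BT.node 2332 (BT.leaf cJ2332) (BT.leaf cJ2333)) (BT.node 2334 (BT.leaf cJ2334) (BT.leaf cJ2335))) (BT.node 2337 (BT.node 2336 (BT.leaf cJ2336) (BT.leaf cJ2337)) (BT.leaf cJ2338))) (BT.node 2342 (BT.node 2340 (BT.node 2339 (BT.leaf cJ2339) (BT.leaf cJ2340)) (BT.node 2341 (BT.leaf cJ2341) (BT.leaf cJ2342))) (BT.node 2344 (BT.node 2343 (BT.leaf cJ2343) (BT.leaf cJ2344)) (BT.leaf cJ2345)))) (BT.node 2352 (BT.node 2349 (BT.node 2347 (BT.node 2346 (BT.leaf cJ2346) (BT.leaf cJ2347)) (BT.node 2348 (BT.leaf cJ2348) (BT.leaf cJ2349))) (BT.node 2351 (BT.node 2350 (BT.leaf cJ2350) (BT.leaf cJ2351)) (BT.leaf cJ2352))) (BT.node 2356 (BT.node 2354 (BT.node 2353 (BT.leaf cJ2353) (BT.leaf cJ2354)) (BT.node 2355 (BT.leaf cJ2355) (BT.leaf cJ2356))) (BT.node 2358 (BT.node 2357 (BT.leaf cJ2357) (BT.leaf cJ2358)) (BT.leaf cJ2359))))) (BT.node 2373 (BT.node 2366 (BT.node 2363 (BT.node 2361 (BT.node 2360 (BT.leaf cJ2360) (BT.leaf cJ2361)) (BT.node 2362 (BT.leaf cJ2362) (BT.leaf cJ2363))) (BT.node 2365 (BT.node 2364 (BT.leaf cJ2364) (BT.leaf cJ2365)) (BT.leaf cJ2366))) (BT.node 2370 (BT.node 2368 (BT.node 2367 (BT.leaf cJ2367) (BT.leaf cJ2368)) (BT.node 2369 (BT.leaf cJ2369) (BT.leaf cJ2370))) (BT.node 2372 (BT.node 2371 (BT.leaf cJ2371) (BT.leaf cJ2372)) (BT.leaf cJ2373)))) (BT.node 2380 (BT.node 2377 (BT.node 2375 (BT.node 2374 (BT.leaf cJ2374) (BT.leaf cJ2375)) (BT.node 2376 (BT.leaf cJ2376) (BT.leaf cJ2377))) (BT.node 2379 (BT.node 2378 (BT.leaf cJ2378) (BT.leaf cJ2379)) (BT.leaf cJ2380))) (BT.node 2384 (BT.node 2382 (BT.node 2381 (BT.leaf cJ2381) (BT.leaf cJ2382)) (BT.node 2383 (BT.leaf cJ2383) (BT.leaf cJ2384))) (BT.node 2386 (BT.node 2385 (BT.leaf cJ2385) (BT.leaf cJ2386)) (BT.leaf cJ2387)))))) (BT.node 2415 (BT.node 2401 (BT.node 2394 (BT.node 2391 (BT.node 2389 (BT.node 2388 (BT.leaf cJ2388) (BT.leaf cJ2389)) (BT.node 2390 (BT.leaf cJ2390) (BT.leaf cJ2391))) (BT.node 2393 (BT.node 2392 (BT.leaf cJ2392) (BT.leaf cJ2393)) (BT.leaf cJ2394))) (BT.node 2398 (BT.node 2396 (BT.node 2395 (BT.leaf cJ2395) (BT.leaf cJ2396)) (BT.node 2397 (BT.leaf cJ2397) (BT.leaf cJ2398))) (BT.node 2400 (BT.node 2399 (BT.leaf cJ2399) (BT.leaf cJ2400)) (BT.leaf cJ2401)))) (BT.node 2408 (BT.node 2405 (BT.node 2403 (BT.node 2402 (BT.leaf cJ2402) (BT.leaf cJ2403)) (BT.node 2404 (BT.leaf cJ2404) (BT.leaf cJ2405))) (BT.node 2407 (BT.node 2406 (BT.leaf cJ2406) (BT.leaf cJ2407)) (BT.leaf cJ2408))) (BT.node 2412 (BT.node 2410 (BT.node 2409 (BT.leaf cJ2409) (BT.leaf cJ2410)) (BT.node 2411 (BT.leaf cJ2411) (BT.leaf cJ2412))) (BT.node 2414 (BT.node 2413 (BT.leaf cJ2413) (BT.leaf cJ2414)) (BT.leaf cJ2415))))) (BT.node 2429 (BT.node 2422 (BT.node 2419 (BT.node 2417 (BT.node 2416 (BT.leaf cJ2416) (BT.leaf cJ2417)) (BT.node 2418 (BT.leaf cJ2418) (BT.leaf cJ2419))) (BT.node 2421 (BT.node 2420 (BT.leaf cJ2420) (BT.leaf cJ2421)) (BT.leaf cJ2422))) (BT.node 2426 (BT.node 2424 (BT.node 2423 (BT.leaf cJ2423) (BT.leaf cJ2424)) (BT.node 2425 (BT.leaf cJ2425) (BT.leaf cJ2426))) (BT.node 2428 (BT.node 2427 (BT.leaf cJ2427) (BT.leaf cJ2428)) (BT.leaf cJ2429)))) (BT.node 2436 (BT.node 2433 (BT.node 2431 (BT.node 2430 (BT.leaf cJ2430) (BT.leaf cJ2431)) (BT.node 2432 (BT.leaf cJ2432) (BT.leaf cJ2433))) (BT.node 2435 (BT.node 2434 (BT.leaf cJ2434) (BT.leaf cJ2435)) (BT.leaf cJ2436))) (BT.node 2439 (BT.node 2438 (BT.node 2437 (BT.leaf cJ2437) (BT.leaf cJ2438)) (BT.leaf cJ2439)) (BT.node 2441 (BT.node 2440 (BT.leaf cJ2440) (BT.leaf cJ2441)) (BT.leaf cJ2442)))))))) (BT.node 2553 (BT.node 2498 (BT.node 2470 (BT.node 2456 (BT.node 2449 (BT.node 2446 (BT.node 2444 (BT.node 2443 (BT.leaf cJ2443) (BT.leaf cJ2444)) (BT.node 2445 (BT.leaf cJ2445) (BT.leaf cJ2446))) (BT.node 2448 (BT.node 2447 (BT.leaf cJ2447) (BT.leaf cJ2448)) (BT.leaf cJ2449))) (BT.node 2453 (BT.node 2451 (BT.node 2450 (BT.leaf cJ2450) (BT.leaf cJ2451)) (BT.node 2452 (BT.leaf cJ2452) (BT.leaf cJ2453))) (BT.node 2455 (BT.node 2454 (BT.leaf cJ2454) (BT.leaf cJ2455)) (BT.leaf cJ2456)))) (BT.node 2463 (BT.node 2460 (BT.node 2458 (BT.node 2457 (BT.leaf cJ2457) (BT.leaf cJ2458)) (BT.node 2459 (BT.leaf cJ2459) (BT.leaf cJ2460))) (BT.node 2462 (BT.node 2461 (BT.leaf cJ2461) (BT.leaf cJ2462)) (BT.leaf cJ2463))) (BT.node 2467 (BT.node 2465 (BT.node 2464 (BT.leaf cJ2464) (BT.leaf cJ2465)) (BT.node 2466 (BT.leaf cJ2466) (BT.leaf cJ2467))) (BT.node 2469 (BT.node 2468 (BT.leaf cJ2468) (BT.leaf cJ2469)) (BT.leaf cJ2470))))) (BT.node 2484 (BT.node 2477 (BT.node 2474 (BT.node 2472 (BT.node 2471 (BT.leaf cJ2471) (BT.leaf cJ2472)) (BT.node 2473 (BT.leaf cJ2473) (BT.leaf cJ2474))) (BT.node 2476 (BT.node 2475 (BT.leaf cJ2475) (BT.leaf cJ2476)) (BT.leaf cJ2477))) (BT.node 2481 (BT.node 2479 (BT.node 2478 (BT.leaf cJ2478) (BT.leaf cJ2479)) (BT.node 2480 (BT.leaf cJ2480) (BT.leaf cJ2481))) (BT.node 2483 (BT.node 2482 (BT.leaf cJ2482) (BT.leaf cJ2483)) (BT.leaf cJ2484)))) (BT.node 2491 (BT.node 2488 (BT.node 2486 (BT.node 2485 (BT.leaf cJ2485) (BT.leaf cJ2486)) (BT.node 2487 (BT.leaf cJ2487) (BT.leaf cJ2488))) (BT.node 2490 (BT.node 2489 (BT.leaf cJ2489) (BT.leaf cJ2490)) (BT.leaf cJ2491))) (BT.node 2495 (BT.node 2493 (BT.node 2492 (BT.leaf cJ2492) (BT.leaf cJ2493)) (BT.node 2494 (BT.leaf cJ2494) (BT.leaf cJ2495))) (BT.node 2497 (BT.node 2496 (BT.leaf cJ2496) (BT.leaf cJ2497)) (BT.leaf cJ2498)))))) (BT.node 2526 (BT.node 2512 (BT.node 2505 (BT.node 2502 (BT.node 2500 (BT.node 2499 (BT.leaf cJ2499) (BT.leaf cJ2500)) (BT.node 2501 (BT.leaf cJ2501) (BT.leaf cJ2502))) (BT.node 2504 (BT.node 2503 (BT.leaf cJ2503) (BT.leaf cJ2504)) (BT.leaf cJ2505))) (BT.node 2509 (BT.node 2507 (BT.node 2506 (BT.leaf cJ2506) (BT.leaf cJ2507)) (BT.node 2508 (BT.leaf cJ2508) (BT.leaf cJ2509))) (BT.node 2511 (BT.node 2510 (BT.leaf cJ2510) (BT.leaf cJ2511)) (BT.leaf cJ2512)))) (BT.node 2519 (BT.node 2516 (BT.node 2514 (BT.node 2513 (BT.leaf cJ2513) (BT.leaf cJ2514)) (BT.node 2515 (BT.leaf cJ2515) (BT.leaf cJ2516))) (BT.node 2518 (BT.node 2517 (BT.leaf cJ2517) (BT.leaf cJ2518)) (BT.leaf cJ2519))) (BT.node 2523 (BT.node 2521 (BT.node 2520 (BT.leaf cJ2520) (BT.leaf cJ2521)) (BT.node 2522 (BT.leaf cJ2522) (BT.leaf cJ2523))) (BT.node 2525 (BT.node 2524 (BT.leaf cJ2524) (BT.leaf cJ2525)) (BT.leaf cJ2526))))) (BT.node 2540 (BT.node 2533 (BT.node 2530 (BT.node 2528 (BT.node 2527 (BT.leaf cJ2527) (BT.leaf cJ2528)) (BT.node 2529 (BT.leaf cJ2529) (BT.leaf cJ2530))) (BT.node 2532 (BT.node 2531 (BT.leaf cJ2531) (BT.leaf cJ2532)) (BT.leaf cJ2533))) (BT.node 2537 (BT.node 2535 (BT.node 2534 (BT.leaf cJ2534) (BT.leaf cJ2535)) (BT.node 2536 (BT.leaf cJ2536) (BT.leaf cJ2537))) (BT.node 2539 (BT.node 2538 (BT.leaf cJ2538) (BT.leaf cJ2539)) (BT.leaf cJ2540)))) (BT.node 2547 (BT.node 2544 (BT.node 2542 (BT.node 2541 (BT.leaf cJ2541) (BT.leaf cJ2542)) (BT.node 2543 (BT.leaf cJ2543) (BT.leaf cJ2544))) (BT.node 2546 (BT.node 2545 (BT.leaf cJ2545) (BT.leaf cJ2546)) (BT.leaf cJ2547))) (BT.node 2550 (BT.node 2549 (BT.node 2548 (BT.leaf cJ2548) (BT.leaf cJ2549)) (BT.leaf cJ2550)) (BT.node 2552 (BT.node 2551 (BT.leaf cJ2551) (BT.leaf cJ2552)) (BT.leaf cJ2553))))))) (BT.node 2609 (BT.node 2581 (BT.node 2567 (BT.node 2560 (BT.node 2557 (BT.node 2555 (BT.node 2554 (BT.leaf cJ2554) (BT.leaf cJ2555)) (BT.node 2556 (BT.leaf cJ2556) (BT.leaf cJ2557))) (BT.node 2559 (BT.node 2558 (BT.leaf cJ2558) (BT.leaf cJ2559)) (BT.leaf cJ2560))) (BT.node 2564 (BT.node 2562 (BT.node 2561 (BT.leaf cJ2561) (BT.leaf cJ2562)) (BT.node 2563 (BT.leaf cJ2563) (BT.leaf cJ2564))) (BT.node 2566 (BT.node 2565 (BT.leaf cJ2565) (BT.leaf cJ2566)) (BT.leaf cJ2567)))) (BT.node 2574 (BT.node 2571 (BT.node 2569 (BT.node 2568 (BT.leaf cJ2568) (BT.leaf cJ2569)) (BT.node 2570 (BT.leaf cJ2570) (BT.leaf cJ2571))) (BT.node 2573 (BT.node 2572 (BT.leaf cJ2572) (BT.leaf cJ2573)) (BT.leaf cJ2574))) (BT.node 2578 (BT.node 2576 (BT.node 2575 (BT.leaf cJ2575) (BT.leaf cJ2576)) (BT.node 2577 (BT.leaf cJ2577) (BT.leaf cJ2578))) (BT.node 2580 (BT.node 2579 (BT.leaf cJ2579) (BT.leaf cJ2580)) (BT.leaf cJ2581))))) (BT.node 2595 (BT.node 2588 (BT.node 2585 (BT.node 2583 (BT.node 2582 (BT.leaf cJ2582) (BT.leaf cJ2583)) (BT.node 2584 (BT.leaf cJ2584) (BT.leaf cJ2585))) (BT.node 2587 (BT.node 2586 (BT.leaf cJ2586) (BT.leaf cJ2587)) (BT.leaf cJ2588))) (BT.node 2592 (BT.node 2590 (BT.node 2589 (BT.leaf cJ2589) (BT.leaf cJ2590)) (BT.node 2591 (BT.leaf cJ2591) (BT.leaf cJ2592))) (BT.node 2594 (BT.node 2593 (BT.leaf cJ2593) (BT.leaf cJ2594)) (BT.leaf cJ2595)))) (BT.node 2602 (BT.node 2599 (BT.node 2597 (BT.node 2596 (BT.leaf cJ2596) (BT.leaf cJ2597)) (BT.node 2598 (BT.leaf cJ2598) (BT.leaf cJ2599))) (BT.node 2601 (BT.node 2600 (BT.leaf cJ2600) (BT.leaf cJ2601)) (BT.leaf cJ2602))) (BT.node 2606 (BT.node 2604 (BT.node 2603 (BT.leaf cJ2603) (BT.leaf cJ2604)) (BT.node 2605 (BT.leaf cJ2605) (BT.leaf cJ2606))) (BT.node 2608 (BT.node 2607 (BT.leaf cJ2607) (BT.leaf cJ2608)) (BT.leaf cJ2609)))))) (BT.node 2637 (BT.node 2623 (BT.node 2616 (BT.node 2613 (BT.node 2611 (BT.node 2610 (BT.leaf cJ2610) (BT.leaf cJ2611)) (BT.node 2612 (BT.leaf cJ2612) (BT.leaf cJ2613))) (BT.node 2615 (BT.node 2614 (BT.leaf cJ2614) (BT.leaf cJ2615)) (BT.leaf cJ2616))) (BT.node 2620 (BT.node 2618 (BT.node 2617 (BT.leaf cJ2617) (BT.leaf cJ2618)) (BT.node 2619 (BT.leaf cJ2619) (BT.leaf cJ2620))) (BT.node 2622 (BT.node 2621 (BT.leaf cJ2621) (BT.leaf cJ2622)) (BT.leaf cJ2623)))) (BT.node 2630 (BT.node 2627 (BT.node 2625 (BT.node 2624 (BT.leaf cJ2624) (BT.leaf cJ2625)) (BT.node 2626 (BT.leaf cJ2626) (BT.leaf cJ2627))) (BT.node 2629 (BT.node 2628 (BT.leaf cJ2628) (BT.leaf cJ2629)) (BT.leaf cJ2630))) (BT.node 2634 (BT.node 2632 (BT.node 2631 (BT.leaf cJ2631) (BT.leaf cJ2632)) (BT.node 2633 (BT.leaf cJ2633) (BT.leaf cJ2634))) (BT.node 2636 (BT.node 2635 (BT.leaf cJ2635) (BT.leaf cJ2636)) (BT.leaf cJ2637))))) (BT.node 2651 (BT.node 2644 (BT.node 2641 (BT.node 2639 (BT.node 2638 (BT.leaf cJ2638) (BT.leaf cJ2639)) (BT.node 2640 (BT.leaf cJ2640) (BT.leaf cJ2641))) (BT.node 2643 (BT.node 2642 (BT.leaf cJ2642) (BT.leaf cJ2643)) (BT.leaf cJ2644))) (BT.node 2648 (BT.node 2646 (BT.node 2645 (BT.leaf cJ2645) (BT.leaf cJ2646)) (BT.node 2647 (BT.leaf cJ2647) (BT.leaf cJ2648))) (BT.node 2650 (BT.node 2649 (BT.leaf cJ2649) (BT.leaf cJ2650)) (BT.leaf cJ2651)))) (BT.node 2658 (BT.node 2655 (BT.node 2653 (BT.node 2652 (BT.leaf cJ2652) (BT.leaf cJ2653)) (BT.node 2654 (BT.leaf cJ2654) (BT.leaf cJ2655))) (BT.node 2657 (BT.node 2656 (BT.leaf cJ2656) (BT.leaf cJ2657)) (BT.leaf cJ2658))) (BT.node 2661 (BT.node 2660 (BT.node 2659 (BT.leaf cJ2659) (BT.leaf cJ2660)) (BT.leaf cJ2661)) (BT.node 2663 (BT.node 2662 (BT.leaf cJ2662) (BT.leaf cJ2663)) (BT.leaf cJ2664)))))))))) (BT.node 3108 (BT.node 2886 (BT.node 2775 (BT.node 2720 (BT.node 2692 (BT.node 2678 (BT.node 2671 (BT.node 2668 (BT.node 2666 (BT.node 2665 (BT.leaf cJ2665) (BT.leaf cJ2666)) (BT.node 2667 (BT.leaf cJ2667) (BT.leaf cJ2668))) (BT.node 2670 (BT.node 2669 (BT.leaf cJ2669) (BT.leaf cJ2670)) (BT.leaf cJ2671))) (BT.node 2675 (BT.node 2673 (BT.node 2672 (BT.leaf cJ2672) (BT.leaf cJ2673)) (BT.node 2674 (BT.leaf cJ2674) (BT.leaf cJ2675))) (BT.node 2677 (BT.node 2676 (BT.leaf cJ2676) (BT.leaf cJ2677)) (BT.leaf cJ2678)))) (BT.node 2685 (BT.node 2682 (BT.node 2680 (BT.node 2679 (BT.leaf cJ2679) (BT.leaf cJ2680)) (BT.node 2681 (BT.leaf cJ2681) (BT.leaf cJ2682))) (BT.node 2684 (BT.node 2683 (BT.leaf cJ2683) (BT.leaf cJ2684)) (BT.leaf cJ2685))) (BT.node 2689 (BT.node 2687 (BT.node 2686 (BT.leaf cJ2686) (BT.leaf cJ2687)) (BT.node 2688 (BT.leaf cJ2688) (BT.leaf cJ2689))) (BT.node 2691 (BT.node 2690 (BT.leaf cJ2690) (BT.leaf cJ2691)) (BT.leaf cJ2692))))) (BT.node 2706 (BT.node 2699 (BT.node 2696 (BT.node 2694 (BT.node 2693 (BT.leaf cJ2693) (BT.leaf cJ2694)) (BT.node 2695 (BT.leaf cJ2695) (BT.leaf cJ2696))) (BT.node 2698 (BT.node 2697 (BT.leaf cJ2697) (BT.leaf cJ2698)) (BT.leaf cJ2699))) (BT.node 2703 (BT.node 2701 (BT.node 2700 (BT.leaf cJ2700) (BT.leaf cJ2701)) (BT.node 2702 (BT.leaf cJ2702) (BT.leaf cJ2703))) (BT.node 2705 (BT.node 2704 (BT.leaf cJ2704) (BT.leaf cJ2705)) (BT.leaf cJ2706)))) (BT.node 2713 (BT.node 2710 (BT.node 2708 (BT.node 2707 (BT.leaf cJ2707) (BT.leaf cJ2708)) (BT.node 2709 (BT.leaf cJ2709) (BT.leaf cJ2710))) (BT.node 2712 (BT.node 2711 (BT.leaf cJ2711) (BT.leaf cJ2712)) (BT.leaf cJ2713))) (BT.node 2717 (BT.node 2715 (BT.node 2714 (BT.leaf cJ2714) (BT.leaf cJ2715)) (BT.node 2716 (BT.leaf cJ2716) (BT.leaf cJ2717))) (BT.node 2719 (BT.node 2718 (BT.leaf cJ2718) (BT.leaf cJ2719)) (BT.leaf cJ2720)))))) (BT.node 2748 (BT.node 2734 (BT.node 2727 (BT.node 2724 (BT.node 2722 (BT.node 2721 (BT.leaf cJ2721) (BT.leaf cJ2722)) (BT.node 2723 (BT.leaf cJ2723) (BT.leaf cJ2724))) (BT.node 2726 (BT.node 2725 (BT.leaf cJ2725) (BT.leaf cJ2726)) (BT.leaf cJ2727))) (BT.node 2731 (BT.node 2729 (BT.node 2728 (BT.leaf cJ2728) (BT.leaf cJ2729)) (BT.node 2730 (BT.leaf cJ2730) (BT.leaf cJ2731))) (BT.node 2733 (BT.node 2732 (BT.leaf cJ2732) (BT.leaf cJ2733)) (BT.leaf cJ2734)))) (BT.node 2741 (BT.node 2738 (BT.node 2736 (BT.node 2735 (BT.leaf cJ2735) (BT.leaf cJ2736)) (BT.node 2737 (BT.leaf cJ2737) (BT.leaf cJ2738))) (BT.node 2740 (BT.node 2739 (BT.leaf cJ2739) (BT.leaf cJ2740)) (BT.leaf cJ2741))) (BT.node 2745 (BT.node 2743 (BT.node 2742 (BT.leaf cJ2742) (BT.leaf cJ2743)) (BT.node 2744 (BT.leaf cJ2744) (BT.leaf cJ2745))) (BT.node 2747 (BT.node 2746 (BT.leaf cJ2746) (BT.leaf cJ2747)) (BT.leaf cJ2748))))) (BT.node 2762 (BT.node 2755 (BT.node 2752 (BT.node 2750 (BT.node 2749 (BT.leaf cJ2749) (BT.leaf cJ2750)) (BT.node 2751 (BT.leaf cJ2751) (BT.leaf cJ2752))) (BT.node 2754 (BT.node 2753 (BT.leaf cJ2753) (BT.leaf cJ2754)) (BT.leaf cJ2755))) (BT.node 2759 (BT.node 2757 (BT.node 2756 (BT.leaf cJ2756) (BT.leaf cJ2757)) (BT.node 2758 (BT.leaf cJ2758) (BT.leaf cJ2759))) (BT.node 2761 (BT.node 2760 (BT.leaf cJ2760) (BT.leaf cJ2761)) (BT.leaf cJ2762)))) (BT.node 2769 (BT.node 2766 (BT.node 2764 (BT.node 2763 (BT.leaf cJ2763) (BT.leaf cJ2764)) (BT.node 2765 (BT.leaf cJ2765) (BT.leaf cJ2766))) (BT.node 2768 (BT.node 2767 (BT.leaf cJ2767) (BT.leaf cJ2768)) (BT.leaf cJ2769))) (BT.node 2772 (BT.node 2771 (BT.node 2770 (BT.leaf cJ2770) (BT.leaf cJ2771)) (BT.leaf cJ2772)) (BT.node 2774 (BT.node 2773 (BT.leaf cJ2773) (BT.leaf cJ2774)) (BT.leaf cJ2775))))))) (BT.node 2831 (BT.node 2803 (BT.node 2789 (BT.node 2782 (BT.node 2779 (BT.node 2777 (BT.node 2776 (BT.leaf cJ2776) (BT.leaf cJ2777)) (BT.node 2778 (BT.leaf cJ2778) (BT.leaf cJ2779))) (BT.node 2781 (BT.node 2780 (BT.leaf cJ2780) (BT.leaf cJ2781)) (BT.leaf cJ2782))) (BT.node 2786 (BT.node 2784 (BT.node 2783 (BT.leaf cJ2783) (BT.leaf cJ2784)) (BT.node 2785 (BT.leaf cJ2785) (BT.leaf cJ2786))) (BT.node 2788 (BT.node 2787 (BT.leaf cJ2787) (BT.leaf cJ2788)) (BT.leaf cJ2789)))) (BT.node 2796 (BT.node 2793 (BT.node 2791 (BT.node 2790 (BT.leaf cJ2790) (BT.leaf cJ2791)) (BT.node 2792 (BT.leaf cJ2792) (BT.leaf cJ2793))) (BT.node 2795 (BT.node 2794 (BT.leaf cJ2794) (BT.leaf cJ2795)) (BT.leaf cJ2796))) (BT.node 2800 (BT.node 2798 (BT.node 2797 (BT.leaf cJ2797) (BT.leaf cJ2798)) (BT.node 2799 (BT.leaf cJ2799) (BT.leaf cJ2800))) (BT.node 2802 (BT.node 2801 (BT.leaf cJ2801) (BT.leaf cJ2802)) (BT.leaf cJ2803))))) (BT.node 2817 (BT.node 2810 (BT.node 2807 (BT.node 2805 (BT.node 2804 (BT.leaf cJ2804) (BT.leaf cJ2805)) (BT.node 2806 (BT.leaf cJ2806) (BT.leaf cJ2807))) (BT.node 2809 (BT.node 2808 (BT.leaf cJ2808) (BT.leaf cJ2809)) (BT.leaf cJ2810))) (BT.node 2814 (BT.node 2812 (BT.node 2811 (BT.leaf cJ2811) (BT.leaf cJ2812)) (BT.node 2813 (BT.leaf cJ2813) (BT.leaf cJ2814))) (BT.node 2816 (BT.node 2815 (BT.leaf cJ2815) (BT.leaf cJ2816)) (BT.leaf cJ2817)))) (BT.node 2824 (BT.node 2821 (BT.node 2819 (BT.node 2818 (BT.leaf cJ2818) (BT.leaf cJ2819)) (BT.node 2820 (BT.leaf cJ2820) (BT.leaf cJ2821))) (BT.node 2823 (BT.node 2822 (BT.leaf cJ2822) (BT.leaf cJ2823)) (BT.leaf cJ2824))) (BT.node 2828 (BT.node 2826 (BT.node 2825 (BT.leaf cJ2825) (BT.leaf cJ2826)) (BT.node 2827 (BT.leaf cJ2827) (BT.leaf cJ2828))) (BT.node 2830 (BT.node 2829 (BT.leaf cJ2829) (BT.leaf cJ2830)) (BT.leaf cJ2831)))))) (BT.node 2859 (BT.node 2845 (BT.node 2838 (BT.node 2835 (BT.node 2833 (BT.node 2832 (BT.leaf cJ2832) (BT.leaf cJ2833)) (BT.node 2834 (BT.leaf cJ2834) (BT.leaf cJ2835))) (BT.node 2837 (BT.node 2836 (BT.leaf cJ2836) (BT.leaf cJ2837)) (BT.leaf cJ2838))) (BT.node 2842 (BT.node 2840 (BT.node 2839 (BT.leaf cJ2839) (BT.leaf cJ2840)) (BT.node 2841 (BT.leaf cJ2841) (BT.leaf cJ2842))) (BT.node 2844 (BT.node 2843 (BT.leaf cJ2843) (BT.leaf cJ2844)) (BT.leaf cJ2845)))) (BT.node 2852 (BT.node 2849 (BT.node 2847 (BT.node 2846 (BT.leaf cJ2846) (BT.leaf cJ2847)) (BT.node 2848 (BT.leaf cJ2848) (BT.leaf cJ2849))) (BT.node 2851 (BT.node 2850 (BT.leaf cJ2850) (BT.leaf cJ2851)) (BT.leaf cJ2852))) (BT.node 2856 (BT.node 2854 (BT.node 2853 (BT.leaf cJ2853) (BT.leaf cJ2854)) (BT.node 2855 (BT.leaf cJ2855) (BT.leaf cJ2856))) (BT.node 2858 (BT.node 2857 (BT.leaf cJ2857) (BT.leaf cJ2858)) (BT.leaf cJ2859))))) (BT.node 2873 (BT.node 2866 (BT.node 2863 (BT.node 2861 (BT.node 2860 (BT.leaf cJ2860) (BT.leaf cJ2861)) (BT.node 2862 (BT.leaf cJ2862) (BT.leaf cJ2863))) (BT.node 2865 (BT.node 2864 (BT.leaf cJ2864) (BT.leaf cJ2865)) (BT.leaf cJ2866))) (BT.node 2870 (BT.node 2868 (BT.node 2867 (BT.leaf cJ2867) (BT.leaf cJ2868)) (BT.node 2869 (BT.leaf cJ2869) (BT.leaf cJ2870))) (BT.node 2872 (BT.node 2871 (BT.leaf cJ2871) (BT.leaf cJ2872)) (BT.leaf cJ2873)))) (BT.node 2880 (BT.node 2877 (BT.node 2875 (BT.node 2874 (BT.leaf cJ2874) (BT.leaf cJ2875)) (BT.node 2876 (BT.leaf cJ2876) (BT.leaf cJ2877))) (BT.node 2879 (BT.node 2878 (BT.leaf cJ2878) (BT.leaf cJ2879)) (BT.leaf cJ2880))) (BT.node 2883 (BT.node 2882 (BT.node 2881 (BT.leaf cJ2881) (BT.leaf cJ2882)) (BT.leaf cJ2883)) (BT.node 2885 (BT.node 2884 (BT.leaf cJ2884) (BT.leaf cJ2885)) (BT.leaf cJ2886)))))))) (BT.node 2997 (BT.node 2942 (BT.node 2914 (BT.node 2900 (BT.node 2893 (BT.node 2890 (BT.node 2888 (BT.node 2887 (BT.leaf cJ2887) (BT.leaf cJ2888)) (BT.node 2889 (BT.leaf cJ2889) (BT.leaf cJ2890))) (BT.node 2892 (BT.node 2891 (BT.leaf cJ2891) (BT.leaf cJ2892)) (BT.leaf cJ2893))) (BT.node 2897 (BT.node 2895 (BT.node 2894 (BT.leaf cJ2894) (BT.leaf cJ2895)) (BT.node 2896 (BT.leaf cJ2896) (BT.leaf cJ2897))) (BT.node 2899 (BT.node 2898 (BT.leaf cJ2898) (BT.leaf cJ2899)) (BT.leaf cJ2900)))) (BT.node 2907 (BT.node 2904 (BT.node 2902 (BT.node 2901 (BT.leaf cJ2901) (BT.leaf cJ2902)) (BT.node 2903 (BT.leaf cJ2903) (BT.leaf cJ2904))) (BT.node 2906 (BT.node 2905 (BT.leaf cJ2905) (BT.leaf cJ2906)) (BT.leaf cJ2907))) (BT.node 2911 (BT.node 2909 (BT.node 2908 (BT.leaf cJ2908) (BT.leaf cJ2909)) (BT.node 2910 (BT.leaf cJ2910) (BT.leaf cJ2911))) (BT.node 2913 (BT.node 2912 (BT.leaf cJ2912) (BT.leaf cJ2913)) (BT.leaf cJ2914))))) (BT.node 2928 (BT.node 2921 (BT.node 2918 (BT.node 2916 (BT.node 2915 (BT.leaf cJ2915) (BT.leaf cJ2916)) (BT.node 2917 (BT.leaf cJ2917) (BT.leaf cJ2918))) (BT.node 2920 (BT.node 2919 (BT.leaf cJ2919) (BT.leaf cJ2920)) (BT.leaf cJ2921))) (BT.node 2925 (BT.node 2923 (BT.node 2922 (BT.leaf cJ2922) (BT.leaf cJ2923)) (BT.node 2924 (BT.leaf cJ2924) (BT.leaf cJ2925))) (BT.node 2927 (BT.node 2926 (BT.leaf cJ2926) (BT.leaf cJ2927)) (BT.leaf cJ2928)))) (BT.node 2935 (BT.node 2932 (BT.node 2930 (BT.node 2929 (BT.leaf cJ2929) (BT.leaf cJ2930)) (BT.node 2931 (BT.leaf cJ2931) (BT.leaf cJ2932))) (BT.node 2934 (BT.node 2933 (BT.leaf cJ2933) (BT.leaf cJ2934)) (BT.leaf cJ2935))) (BT.node 2939 (BT.node 2937 (BT.node 2936 (BT.leaf cJ2936) (BT.leaf cJ2937)) (BT.node 2938 (BT.leaf cJ2938) (BT.leaf cJ2939))) (BT.node 2941 (BT.node 2940 (BT.leaf cJ2940) (BT.leaf cJ2941)) (BT.leaf cJ2942)))))) (BT.node 2970 (BT.node 2956 (BT.node 2949 (BT.node 2946 (BT.node 2944 (BT.node 2943 (BT.leaf cJ2943) (BT.leaf cJ2944)) (BT.node 2945 (BT.leaf cJ2945) (BT.leaf cJ2946))) (BT.node 2948 (BT.node 2947 (BT.leaf cJ2947) (BT.leaf cJ2948)) (BT.leaf cJ2949))) (BT.node 2953 (BT.node 2951 (BT.node 2950 (BT.leaf cJ2950) (BT.leaf cJ2951)) (BT.node 2952 (BT.leaf cJ2952) (BT.leaf cJ2953))) (BT.node 2955 (BT.node 2954 (BT.leaf cJ2954) (BT.leaf cJ2955)) (BT.leaf cJ2956)))) (BT.node 2963 (BT.node 2960 (BT.node 2958 (BT.node 2957 (BT.leaf cJ2957) (BT.leaf cJ2958)) (BT.node 2959 (BT.leaf cJ2959) (BT.leaf cJ2960))) (BT.node 2962 (BT.node 2961 (BT.leaf cJ2961) (BT.leaf cJ2962)) (BT.leaf cJ2963))) (BT.node 2967 (BT.node 2965 (BT.node 2964 (BT.leaf cJ2964) (BT.leaf cJ2965)) (BT.node 2966 (BT.leaf cJ2966) (BT.leaf cJ2967))) (BT.node 2969 (BT.node 2968 (BT.leaf cJ2968) (BT.leaf cJ2969)) (BT.leaf cJ2970))))) (BT.node 2984 (BT.node 2977 (BT.node 2974 (BT.node 2972 (BT.node 2971 (BT.leaf cJ2971) (BT.leaf cJ2972)) (BT.node 2973 (BT.leaf cJ2973) (BT.leaf cJ2974))) (BT.node 2976 (BT.node 2975 (BT.leaf cJ2975) (BT.leaf cJ2976)) (BT.leaf cJ2977))) (BT.node 2981 (BT.node 2979 (BT.node 2978 (BT.leaf cJ2978) (BT.leaf cJ2979)) (BT.node 2980 (BT.leaf cJ2980) (BT.leaf cJ2981))) (BT.node 2983 (BT.node 2982 (BT.leaf cJ2982) (BT.leaf cJ2983)) (BT.leaf cJ2984)))) (BT.node 2991 (BT.node 2988 (BT.node 2986 (BT.node 2985 (BT.leaf cJ2985) (BT.leaf cJ2986)) (BT.node 2987 (BT.leaf cJ2987) (BT.leaf cJ2988))) (BT.node 2990 (BT.node 2989 (BT.leaf cJ2989) (BT.leaf cJ2990)) (BT.leaf cJ2991))) (BT.node 2994 (BT.node 2993 (BT.node 2992 (BT.leaf cJ2992) (BT.leaf cJ2993)) (BT.leaf cJ2994)) (BT.node 2996 (BT.node 2995 (BT.leaf cJ2995) (BT.leaf cJ2996)) (BT.leaf cJ2997))))))) (BT.node 3053 (BT.node 3025 (BT.node 3011 (BT.node 3004 (BT.node 3001 (BT.node 2999 (BT.node 2998 (BT.leaf cJ2998) (BT.leaf cJ2999)) (BT.node 3000 (BT.leaf cJ3000) (BT.leaf cJ3001))) (BT.node 3003 (BT.node 3002 (BT.leaf cJ3002) (BT.leaf cJ3003)) (BT.leaf cJ3004))) (BT.node 3008 (BT.node 3006 (BT.node 3005 (BT.leaf cJ3005) (BT.leaf cJ3006)) (BT.node 3007 (BT.leaf cJ3007) (BT.leaf cJ3008))) (BT.node 3010 (BT.node 3009 (BT.leaf cJ3009) (BT.leaf cJ3010)) (BT.leaf cJ3011)))) (BT.node 3018 (BT.node 3015 (BT.node 3013 (BT.node 3012 (BT.leaf cJ3012) (BT.leaf cJ3013)) (BT.node 3014 (BT.leaf cJ3014) (BT.leaf cJ3015))) (BT.node 3017 (BT.node 3016 (BT.leaf cJ3016) (BT.leaf cJ3017)) (BT.leaf cJ3018))) (BT.node 3022 (BT.node 3020 (BT.node 3019 (BT.leaf cJ3019) (BT.leaf cJ3020)) (BT.node 3021 (BT.leaf cJ3021) (BT.leaf cJ3022))) (BT.node 3024 (BT.node 3023 (BT.leaf cJ3023) (BT.leaf cJ3024)) (BT.leaf cJ3025))))) (BT.node 3039 (BT.node 3032 (BT.node 3029 (BT.node 3027 (BT.node 3026 (BT.leaf cJ3026) (BT.leaf cJ3027)) (BT.node 3028 (BT.leaf cJ3028) (BT.leaf cJ3029))) (BT.node 3031 (BT.node 3030 (BT.leaf cJ3030) (BT.leaf cJ3031)) (BT.leaf cJ3032))) (BT.node 3036 (BT.node 3034 (BT.node 3033 (BT.leaf cJ3033) (BT.leaf cJ3034)) (BT.node 3035 (BT.leaf cJ3035) (BT.leaf cJ3036))) (BT.node 3038 (BT.node 3037 (BT.leaf cJ3037) (BT.leaf cJ3038)) (BT.leaf cJ3039)))) (BT.node 3046 (BT.node 3043 (BT.node 3041 (BT.node 3040 (BT.leaf cJ3040) (BT.leaf cJ3041)) (BT.node 3042 (BT.leaf cJ3042) (BT.leaf cJ3043))) (BT.node 3045 (BT.node 3044 (BT.leaf cJ3044) (BT.leaf cJ3045)) (BT.leaf cJ3046))) (BT.node 3050 (BT.node 3048 (BT.node 3047 (BT.leaf cJ3047) (BT.leaf cJ3048)) (BT.node 3049 (BT.leaf cJ3049) (BT.leaf cJ3050))) (BT.node 3052 (BT.node 3051 (BT.leaf cJ3051) (BT.leaf cJ3052)) (BT.leaf cJ3053)))))) (BT.node 3081 (BT.node 3067 (BT.node 3060 (BT.node 3057 (BT.node 3055 (BT.node 3054 (BT.leaf cJ3054) (BT.leaf cJ3055)) (BT.node 3056 (BT.leaf cJ3056) (BT.leaf cJ3057))) (BT.node 3059 (BT.node 3058 (BT.leaf cJ3058) (BT.leaf cJ3059)) (BT.leaf cJ3060))) (BT.node 3064 (BT.node 3062 (BT.node 3061 (BT.leaf cJ3061) (BT.leaf cJ3062)) (BT.node 3063 (BT.leaf cJ3063) (BT.leaf cJ3064))) (BT.node 3066 (BT.node 3065 (BT.leaf cJ3065) (BT.leaf cJ3066)) (BT.leaf cJ3067)))) (BT.node 3074 (BT.node 3071 (BT.node 3069 (BT.node 3068 (BT.leaf cJ3068) (BT.leaf cJ3069)) (BT.node 3070 (BT.leaf cJ3070) (BT.leaf cJ3071))) (BT.node 3073 (BT.node 3072 (BT.leaf cJ3072) (BT.leaf cJ3073)) (BT.leaf cJ3074))) (BT.node 3078 (BT.node 3076 (BT.node 3075 (BT.leaf cJ3075) (BT.leaf cJ3076)) (BT.node 3077 (BT.leaf cJ3077) (BT.leaf cJ3078))) (BT.node 3080 (BT.node 3079 (BT.leaf cJ3079) (BT.leaf cJ3080)) (BT.leaf cJ3081))))) (BT.node 3095 (BT.node 3088 (BT.node 3085 (BT.node 3083 (BT.node 3082 (BT.leaf cJ3082) (BT.leaf cJ3083)) (BT.node 3084 (BT.leaf cJ3084) (BT.leaf cJ3085))) (BT.node 3087 (BT.node 3086 (BT.leaf cJ3086) (BT.leaf cJ3087)) (BT.leaf cJ3088))) (BT.node 3092 (BT.node 3090 (BT.node 3089 (BT.leaf cJ3089) (BT.leaf cJ3090)) (BT.node 3091 (BT.leaf cJ3091) (BT.leaf cJ3092))) (BT.node 3094 (BT.node 3093 (BT.leaf cJ3093) (BT.leaf cJ3094)) (BT.leaf cJ3095)))) (BT.node 3102 (BT.node 3099 (BT.node 3097 (BT.node 3096 (BT.leaf cJ3096) (BT.leaf cJ3097)) (BT.node 3098 (BT.leaf cJ3098) (BT.leaf cJ3099))) (BT.node 3101 (BT.node 3100 (BT.leaf cJ3100) (BT.leaf cJ3101)) (BT.leaf cJ3102))) (BT.node 3105 (BT.node 3104 (BT.node 3103 (BT.leaf cJ3103) (BT.leaf cJ3104)) (BT.leaf cJ3105)) (BT.node 3107 (BT.node 3106 (BT.leaf cJ3106) (BT.leaf cJ3107)) (BT.leaf cJ3108))))))))) (BT.node 3330 (BT.node 3219 (BT.node 3164 (BT.node 3136 (BT.node 3122 (BT.node 3115 (BT.node 3112 (BT.node 3110 (BT.node 3109 (BT.leaf cJ3109) (BT.leaf cJ3110)) (BT.node 3111 (BT.leaf cJ3111) (BT.leaf cJ3112))) (BT.node 3114 (BT.node 3113 (BT.leaf cJ3113) (BT.leaf cJ3114)) (BT.leaf cJ3115))) (BT.node 3119 (BT.node 3117 (BT.node 3116 (BT.leaf cJ3116) (BT.leaf cJ3117)) (BT.node 3118 (BT.leaf cJ3118) (BT.leaf cJ3119))) (BT.node 3121 (BT.node 3120 (BT.leaf cJ3120) (BT.leaf cJ3121)) (BT.leaf cJ3122)))) (BT.node 3129 (BT.node 3126 (BT.node 3124 (BT.node 3123 (BT.leaf cJ3123) (BT.leaf cJ3124)) (BT.node 3125 (BT.leaf cJ3125) (BT.leaf cJ3126))) (BT.node 3128 (BT.node 3127 (BT.leaf cJ3127) (BT.leaf cJ3128)) (BT.leaf cJ3129))) (BT.node 3133 (BT.node 3131 (BT.node 3130 (BT.leaf cJ3130) (BT.leaf cJ3131)) (BT.node 3132 (BT.leaf cJ3132) (BT.leaf cJ3133))) (BT.node 3135 (BT.node 3134 (BT.leaf cJ3134) (BT.leaf cJ3135)) (BT.leaf cJ3136))))) (BT.node 3150 (BT.node 3143 (BT.node 3140 (BT.node 3138 (BT.node 3137 (BT.leaf cJ3137) (BT.leaf cJ3138)) (BT.node 3139 (BT.leaf cJ3139) (BT.leaf cJ3140))) (BT.node 3142 (BT.node 3141 (BT.leaf cJ3141) (BT.leaf cJ3142)) (BT.leaf cJ3143))) (BT.node 3147 (BT.node 3145 (BT.node 3144 (BT.leaf cJ3144) (BT.leaf cJ3145)) (BT.node 3146 (BT.leaf cJ3146) (BT.leaf cJ3147))) (BT.node 3149 (BT.node 3148 (BT.leaf cJ3148) (BT.leaf cJ3149)) (BT.leaf cJ3150)))) (BT.node 3157 (BT.node 3154 (BT.node 3152 (BT.node 3151 (BT.leaf cJ3151) (BT.leaf cJ3152)) (BT.node 3153 (BT.leaf cJ3153) (BT.leaf cJ3154))) (BT.node 3156 (BT.node 3155 (BT.leaf cJ3155) (BT.leaf cJ3156)) (BT.leaf cJ3157))) (BT.node 3161 (BT.node 3159 (BT.node 3158 (BT.leaf cJ3158) (BT.leaf cJ3159)) (BT.node 3160 (BT.leaf cJ3160) (BT.leaf cJ3161))) (BT.node 3163 (BT.node 3162 (BT.leaf cJ3162) (BT.leaf cJ3163)) (BT.leaf cJ3164)))))) (BT.node 3192 (BT.node 3178 (BT.node 3171 (BT.node 3168 (BT.node 3166 (BT.node 3165 (BT.leaf cJ3165) (BT.leaf cJ3166)) (BT.node 3167 (BT.leaf cJ3167) (BT.leaf cJ3168))) (BT.node 3170 (BT.node 3169 (BT.leaf cJ3169) (BT.leaf cJ3170)) (BT.leaf cJ3171))) (BT.node 3175 (BT.node 3173 (BT.node 3172 (BT.leaf cJ3172) (BT.leaf cJ3173)) (BT.node 3174 (BT.leaf cJ3174) (BT.leaf cJ3175))) (BT.node 3177 (BT.node 3176 (BT.leaf cJ3176) (BT.leaf cJ3177)) (BT.leaf cJ3178)))) (BT.node 3185 (BT.node 3182 (BT.node 3180 (BT.node 3179 (BT.leaf cJ3179) (BT.leaf cJ3180)) (BT.node 3181 (BT.leaf cJ3181) (BT.leaf cJ3182))) (BT.node 3184 (BT.node 3183 (BT.leaf cJ3183) (BT.leaf cJ3184)) (BT.leaf cJ3185))) (BT.node 3189 (BT.node 3187 (BT.node 3186 (BT.leaf cJ3186) (BT.leaf cJ3187)) (BT.node 3188 (BT.leaf cJ3188) (BT.leaf cJ3189))) (BT.node 3191 (BT.node 3190 (BT.leaf cJ3190) (BT.leaf cJ3191)) (BT.leaf cJ3192))))) (BT.node 3206 (BT.node 3199 (BT.node 3196 (BT.node 3194 (BT.node 3193 (BT.leaf cJ3193) (BT.leaf cJ3194)) (BT.node 3195 (BT.leaf cJ3195) (BT.leaf cJ3196))) (BT.node 3198 (BT.node 3197 (BT.leaf cJ3197) (BT.leaf cJ3198)) (BT.leaf cJ3199))) (BT.node 3203 (BT.node 3201 (BT.node 3200 (BT.leaf cJ3200) (BT.leaf cJ3201)) (BT.node 3202 (BT.leaf cJ3202) (BT.leaf cJ3203))) (BT.node 3205 (BT.node 3204 (BT.leaf cJ3204) (BT.leaf cJ3205)) (BT.leaf cJ3206)))) (BT.node 3213 (BT.node 3210 (BT.node 3208 (BT.node 3207 (BT.leaf cJ3207) (BT.leaf cJ3208)) (BT.node 3209 (BT.leaf cJ3209) (BT.leaf cJ3210))) (BT.node 3212 (BT.node 3211 (BT.leaf cJ3211) (BT.leaf cJ3212)) (BT.leaf cJ3213))) (BT.node 3216 (BT.node 3215 (BT.node 3214 (BT.leaf cJ3214) (BT.leaf cJ3215)) (BT.leaf cJ3216)) (BT.node 3218 (BT.node 3217 (BT.leaf cJ3217) (BT.leaf cJ3218)) (BT.leaf cJ3219))))))) (BT.node 3275 (BT.node 3247 (BT.node 3233 (BT.node 3226 (BT.node 3223 (BT.node 3221 (BT.node 3220 (BT.leaf cJ3220) (BT.leaf cJ3221)) (BT.node 3222 (BT.leaf cJ3222) (BT.leaf cJ3223))) (BT.node 3225 (BT.node 3224 (BT.leaf cJ3224) (BT.leaf cJ3225)) (BT.leaf cJ3226))) (BT.node 3230 (BT.node 3228 (BT.node 3227 (BT.leaf cJ3227) (BT.leaf cJ3228)) (BT.node 3229 (BT.leaf cJ3229) (BT.leaf cJ3230))) (BT.node 3232 (BT.node 3231 (BT.leaf cJ3231) (BT.leaf cJ3232)) (BT.leaf cJ3233)))) (BT.node 3240 (BT.node 3237 (BT.node 3235 (BT.node 3234 (BT.leaf cJ3234) (BT.leaf cJ3235)) (BT.node 3236 (BT.leaf cJ3236) (BT.leaf cJ3237))) (BT.node 3239 (BT.node 3238 (BT.leaf cJ3238) (BT.leaf cJ3239)) (BT.leaf cJ3240))) (BT.node 3244 (BT.node 3242 (BT.node 3241 (BT.leaf cJ3241) (BT.leaf cJ3242)) (BT.node 3243 (BT.leaf cJ3243) (BT.leaf cJ3244))) (BT.node 3246 (BT.node 3245 (BT.leaf cJ3245) (BT.leaf cJ3246)) (BT.leaf cJ3247))))) (BT.node 3261 (BT.node 3254 (BT.node 3251 (BT.node 3249 (BT.node 3248 (BT.leaf cJ3248) (BT.leaf cJ3249)) (BT.node 3250 (BT.leaf cJ3250) (BT.leaf cJ3251))) (BT.node 3253 (BT.node 3252 (BT.leaf cJ3252) (BT.leaf cJ3253)) (BT.leaf cJ3254))) (BT.node 3258 (BT.node 3256 (BT.node 3255 (BT.leaf cJ3255) (BT.leaf cJ3256)) (BT.node 3257 (BT.leaf cJ3257) (BT.leaf cJ3258))) (BT.node 3260 (BT.node 3259 (BT.leaf cJ3259) (BT.leaf cJ3260)) (BT.leaf cJ3261)))) (BT.node 3268 (BT.node 3265 (BT.node 3263 (BT.node 3262 (BT.leaf cJ3262) (BT.leaf cJ3263)) (BT.node 3264 (BT.leaf cJ3264) (BT.leaf cJ3265))) (BT.node 3267 (BT.node 3266 (BT.leaf cJ3266) (BT.leaf cJ3267)) (BT.leaf cJ3268))) (BT.node 3272 (BT.node 3270 (BT.node 3269 (BT.leaf cJ3269) (BT.leaf cJ3270)) (BT.node 3271 (BT.leaf cJ3271) (BT.leaf cJ3272))) (BT.node 3274 (BT.node 3273 (BT.leaf cJ3273) (BT.leaf cJ3274)) (BT.leaf cJ3275)))))) (BT.node 3303 (BT.node 3289 (BT.node 3282 (BT.node 3279 (BT.node 3277 (BT.node 3276 (BT.leaf cJ3276) (BT.leaf cJ3277)) (BT.node 3278 (BT.leaf cJ3278) (BT.leaf cJ3279))) (BT.node 3281 (BT.node 3280 (BT.leaf cJ3280) (BT.leaf cJ3281)) (BT.leaf cJ3282))) (BT.node 3286 (BT.node 3284 (BT.node 3283 (BT.leaf cJ3283) (BT.leaf cJ3284)) (BT.node 3285 (BT.leaf cJ3285) (BT.leaf cJ3286))) (BT.node 3288 (BT.node 3287 (BT.leaf cJ3287) (BT.leaf cJ3288)) (BT.leaf cJ3289)))) (BT.node 3296 (BT.node 3293 (BT.node 3291 (BT.node 3290 (BT.leaf cJ3290) (BT.leaf cJ3291)) (BT.node 3292 (BT.leaf cJ3292) (BT.leaf cJ3293))) (BT.node 3295 (BT.node 3294 (BT.leaf cJ3294) (BT.leaf cJ3295)) (BT.leaf cJ3296))) (BT.node 3300 (BT.node 3298 (BT.node 3297 (BT.leaf cJ3297) (BT.leaf cJ3298)) (BT.node 3299 (BT.leaf cJ3299) (BT.leaf cJ3300))) (BT.node 3302 (BT.node 3301 (BT.leaf cJ3301) (BT.leaf cJ3302)) (BT.leaf cJ3303))))) (BT.node 3317 (BT.node 3310 (BT.node 3307 (BT.node 3305 (BT.node 3304 (BT.leaf cJ3304) (BT.leaf cJ3305)) (BT.node 3306 (BT.leaf cJ3306) (BT.leaf cJ3307))) (BT.node 3309 (BT.node 3308 (BT.leaf cJ3308) (BT.leaf cJ3309)) (BT.leaf cJ3310))) (BT.node 3314 (BT.node 3312 (BT.node 3311 (BT.leaf cJ3311) (BT.leaf cJ3312)) (BT.node 3313 (BT.leaf cJ3313) (BT.leaf cJ3314))) (BT.node 3316 (BT.node 3315 (BT.leaf cJ3315) (BT.leaf cJ3316)) (BT.leaf cJ3317)))) (BT.node 3324 (BT.node 3321 (BT.node 3319 (BT.node 3318 (BT.leaf cJ3318) (BT.leaf cJ3319)) (BT.node 3320 (BT.leaf cJ3320) (BT.leaf cJ3321))) (BT.node 3323 (BT.node 3322 (BT.leaf cJ3322) (BT.leaf cJ3323)) (BT.leaf cJ3324))) (BT.node 3327 (BT.node 3326 (BT.node 3325 (BT.leaf cJ3325) (BT.leaf cJ3326)) (BT.leaf cJ3327)) (BT.node 3329 (BT.node 3328 (BT.leaf cJ3328) (BT.leaf cJ3329)) (BT.leaf cJ3330)))))))) (BT.node 3441 (BT.node 3386 (BT.node 3358 (BT.node 3344 (BT.node 3337 (BT.node 3334 (BT.node 3332 (BT.node 3331 (BT.leaf cJ3331) (BT.leaf cJ3332)) (BT.node 3333 (BT.leaf cJ3333) (BT.leaf cJ3334))) (BT.node 3336 (BT.node 3335 (BT.leaf cJ3335) (BT.leaf cJ3336)) (BT.leaf cJ3337))) (BT.node 3341 (BT.node 3339 (BT.node 3338 (BT.leaf cJ3338) (BT.leaf cJ3339)) (BT.node 3340 (BT.leaf cJ3340) (BT.leaf cJ3341))) (BT.node 3343 (BT.node 3342 (BT.leaf cJ3342) (BT.leaf cJ3343)) (BT.leaf cJ3344)))) (BT.node 3351 (BT.node 3348 (BT.node 3346 (BT.node 3345 (BT.leaf cJ3345) (BT.leaf cJ3346)) (BT.node 3347 (BT.leaf cJ3347) (BT.leaf cJ3348))) (BT.node 3350 (BT.node 3349 (BT.leaf cJ3349) (BT.leaf cJ3350)) (BT.leaf cJ3351))) (BT.node 3355 (BT.node 3353 (BT.node 3352 (BT.leaf cJ3352) (BT.leaf cJ3353)) (BT.node 3354 (BT.leaf cJ3354) (BT.leaf cJ3355))) (BT.node 3357 (BT.node 3356 (BT.leaf cJ3356) (BT.leaf cJ3357)) (BT.leaf cJ3358))))) (BT.node 3372 (BT.node 3365 (BT.node 3362 (BT.node 3360 (BT.node 3359 (BT.leaf cJ3359) (BT.leaf cJ3360)) (BT.node 3361 (BT.leaf cJ3361) (BT.leaf cJ3362))) (BT.node 3364 (BT.node 3363 (BT.leaf cJ3363) (BT.leaf cJ3364)) (BT.leaf cJ3365))) (BT.node 3369 (BT.node 3367 (BT.node 3366 (BT.leaf cJ3366) (BT.leaf cJ3367)) (BT.node 3368 (BT.leaf cJ3368) (BT.leaf cJ3369))) (BT.node 3371 (BT.node 3370 (BT.leaf cJ3370) (BT.leaf cJ3371)) (BT.leaf cJ3372)))) (BT.node 3379 (BT.node 3376 (BT.node 3374 (BT.node 3373 (BT.leaf cJ3373) (BT.leaf cJ3374)) (BT.node 3375 (BT.leaf cJ3375) (BT.leaf cJ3376))) (BT.node 3378 (BT.node 3377 (BT.leaf cJ3377) (BT.leaf cJ3378)) (BT.leaf cJ3379))) (BT.node 3383 (BT.node 3381 (BT.node 3380 (BT.leaf cJ3380) (BT.leaf cJ3381)) (BT.node 3382 (BT.leaf cJ3382) (BT.leaf cJ3383))) (BT.node 3385 (BT.node 3384 (BT.leaf cJ3384) (BT.leaf cJ3385)) (BT.leaf cJ3386)))))) (BT.node 3414 (BT.node 3400 (BT.node 3393 (BT.node 3390 (BT.node 3388 (BT.node 3387 (BT.leaf cJ3387) (BT.leaf cJ3388)) (BT.node 3389 (BT.leaf cJ3389) (BT.leaf cJ3390))) (BT.node 3392 (BT.node 3391 (BT.leaf cJ3391) (BT.leaf cJ3392)) (BT.leaf cJ3393))) (BT.node 3397 (BT.node 3395 (BT.node 3394 (BT.leaf cJ3394) (BT.leaf cJ3395)) (BT.node 3396 (BT.leaf cJ3396) (BT.leaf cJ3397))) (BT.node 3399 (BT.node 3398 (BT.leaf cJ3398) (BT.leaf cJ3399)) (BT.leaf cJ3400)))) (BT.node 3407 (BT.node 3404 (BT.node 3402 (BT.node 3401 (BT.leaf cJ3401) (BT.leaf cJ3402)) (BT.node 3403 (BT.leaf cJ3403) (BT.leaf cJ3404))) (BT.node 3406 (BT.node 3405 (BT.leaf cJ3405) (BT.leaf cJ3406)) (BT.leaf cJ3407))) (BT.node 3411 (BT.node 3409 (BT.node 3408 (BT.leaf cJ3408) (BT.leaf cJ3409)) (BT.node 3410 (BT.leaf cJ3410) (BT.leaf cJ3411))) (BT.node 3413 (BT.node 3412 (BT.leaf cJ3412) (BT.leaf cJ3413)) (BT.leaf cJ3414))))) (BT.node 3428 (BT.node 3421 (BT.node 3418 (BT.node 3416 (BT.node 3415 (BT.leaf cJ3415) (BT.leaf cJ3416)) (BT.node 3417 (BT.leaf cJ3417) (BT.leaf cJ3418))) (BT.node 3420 (BT.node 3419 (BT.leaf cJ3419) (BT.leaf cJ3420)) (BT.leaf cJ3421))) (BT.node 3425 (BT.node 3423 (BT.node 3422 (BT.leaf cJ3422) (BT.leaf cJ3423)) (BT.node 3424 (BT.leaf cJ3424) (BT.leaf cJ3425))) (BT.node 3427 (BT.node 3426 (BT.leaf cJ3426) (BT.leaf cJ3427)) (BT.leaf cJ3428)))) (BT.node 3435 (BT.node 3432 (BT.node 3430 (BT.node 3429 (BT.leaf cJ3429) (BT.leaf cJ3430)) (BT.node 3431 (BT.leaf cJ3431) (BT.leaf cJ3432))) (BT.node 3434 (BT.node 3433 (BT.leaf cJ3433) (BT.leaf cJ3434)) (BT.leaf cJ3435))) (BT.node 3438 (BT.node 3437 (BT.node 3436 (BT.leaf cJ3436) (BT.leaf cJ3437)) (BT.leaf cJ3438)) (BT.node 3440 (BT.node 3439 (BT.leaf cJ3439) (BT.leaf cJ3440)) (BT.leaf cJ3441))))))) (BT.node 3497 (BT.node 3469 (BT.node 3455 (BT.node 3448 (BT.node 3445 (BT.node 3443 (BT.node 3442 (BT.leaf cJ3442) (BT.leaf cJ3443)) (BT.node 3444 (BT.leaf cJ3444) (BT.leaf cJ3445))) (BT.node 3447 (BT.node 3446 (BT.leaf cJ3446) (BT.leaf cJ3447)) (BT.leaf cJ3448))) (BT.node 3452 (BT.node 3450 (BT.node 3449 (BT.leaf cJ3449) (BT.leaf cJ3450)) (BT.node 3451 (BT.leaf cJ3451) (BT.leaf cJ3452))) (BT.node 3454 (BT.node 3453 (BT.leaf cJ3453) (BT.leaf cJ3454)) (BT.leaf cJ3455)))) (BT.node 3462 (BT.node 3459 (BT.node 3457 (BT.node 3456 (BT.leaf cJ3456) (BT.leaf cJ3457)) (BT.node 3458 (BT.leaf cJ3458) (BT.leaf cJ3459))) (BT.node 3461 (BT.node 3460 (BT.leaf cJ3460) (BT.leaf cJ3461)) (BT.leaf cJ3462))) (BT.node 3466 (BT.node 3464 (BT.node 3463 (BT.leaf cJ3463) (BT.leaf cJ3464)) (BT.node 3465 (BT.leaf cJ3465) (BT.leaf cJ3466))) (BT.node 3468 (BT.node 3467 (BT.leaf cJ3467) (BT.leaf cJ3468)) (BT.leaf cJ3469))))) (BT.node 3483 (BT.node 3476 (BT.node 3473 (BT.node 3471 (BT.node 3470 (BT.leaf cJ3470) (BT.leaf cJ3471)) (BT.node 3472 (BT.leaf cJ3472) (BT.leaf cJ3473))) (BT.node 3475 (BT.node 3474 (BT.leaf cJ3474) (BT.leaf cJ3475)) (BT.leaf cJ3476))) (BT.node 3480 (BT.node 3478 (BT.node 3477 (BT.leaf cJ3477) (BT.leaf cJ3478)) (BT.node 3479 (BT.leaf cJ3479) (BT.leaf cJ3480))) (BT.node 3482 (BT.node 3481 (BT.leaf cJ3481) (BT.leaf cJ3482)) (BT.leaf cJ3483)))) (BT.node 3490 (BT.node 3487 (BT.node 3485 (BT.node 3484 (BT.leaf cJ3484) (BT.leaf cJ3485)) (BT.node 3486 (BT.leaf cJ3486) (BT.leaf cJ3487))) (BT.node 3489 (BT.node 3488 (BT.leaf cJ3488) (BT.leaf cJ3489)) (BT.leaf cJ3490))) (BT.node 3494 (BT.node 3492 (BT.node 3491 (BT.leaf cJ3491) (BT.leaf cJ3492)) (BT.node 3493 (BT.leaf cJ3493) (BT.leaf cJ3494))) (BT.node 3496 (BT.node 3495 (BT.leaf cJ3495) (BT.leaf cJ3496)) (BT.leaf cJ3497)))))) (BT.node 3525 (BT.node 3511 (BT.node 3504 (BT.node 3501 (BT.node 3499 (BT.node 3498 (BT.leaf cJ3498) (BT.leaf cJ3499)) (BT.node 3500 (BT.leaf cJ3500) (BT.leaf cJ3501))) (BT.node 3503 (BT.node 3502 (BT.leaf cJ3502) (BT.leaf cJ3503)) (BT.leaf cJ3504))) (BT.node 3508 (BT.node 3506 (BT.node 3505 (BT.leaf cJ3505) (BT.leaf cJ3506)) (BT.node 3507 (BT.leaf cJ3507) (BT.leaf cJ3508))) (BT.node 3510 (BT.node 3509 (BT.leaf cJ3509) (BT.leaf cJ3510)) (BT.leaf cJ3511)))) (BT.node 3518 (BT.node 3515 (BT.node 3513 (BT.node 3512 (BT.leaf cJ3512) (BT.leaf cJ3513)) (BT.node 3514 (BT.leaf cJ3514) (BT.leaf cJ3515))) (BT.node 3517 (BT.node 3516 (BT.leaf cJ3516) (BT.leaf cJ3517)) (BT.leaf cJ3518))) (BT.node 3522 (BT.node 3520 (BT.node 3519 (BT.leaf cJ3519) (BT.leaf cJ3520)) (BT.node 3521 (BT.leaf cJ3521) (BT.leaf cJ3522))) (BT.node 3524 (BT.node 3523 (BT.leaf cJ3523) (BT.leaf cJ3524)) (BT.leaf cJ3525))))) (BT.node 3539 (BT.node 3532 (BT.node 3529 (BT.node 3527 (BT.node 3526 (BT.leaf cJ3526) (BT.leaf cJ3527)) (BT.node 3528 (BT.leaf cJ3528) (BT.leaf cJ3529))) (BT.node 3531 (BT.node 3530 (BT.leaf cJ3530) (BT.leaf cJ3531)) (BT.leaf cJ3532))) (BT.node 3536 (BT.node 3534 (BT.node 3533 (BT.leaf cJ3533) (BT.leaf cJ3534)) (BT.node 3535 (BT.leaf cJ3535) (BT.leaf cJ3536))) (BT.node 3538 (BT.node 3537 (BT.leaf cJ3537) (BT.leaf cJ3538)) (BT.leaf cJ3539)))) (BT.node 3546 (BT.node 3543 (BT.node 3541 (BT.node 3540 (BT.leaf cJ3540) (BT.leaf cJ3541)) (BT.node 3542 (BT.leaf cJ3542) (BT.leaf cJ3543))) (BT.node 3545 (BT.node 3544 (BT.leaf cJ3544) (BT.leaf cJ3545)) (BT.leaf cJ3546))) (BT.node 3549 (BT.node 3548 (BT.node 3547 (BT.leaf cJ3547) (BT.leaf cJ3548)) (BT.leaf cJ3549)) (BT.node 3551 (BT.node 3550 (BT.leaf cJ3550) (BT.leaf cJ3551)) (BT.leaf cJ3552))))))))))))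
/-- parent chunks -/
noncomputable def parCT : BT ℕ := (BT.node 161 (BT.node 80 (BT.node 40 (BT.node 20 (BT.node 10 (BT.node 5 (BT.node 2 (BT.node 1 (BT.node 0 (BT.leaf cP0) (BT.leaf cP1)) (BT.leaf cP2)) (BT.node 4 (BT.node 3 (BT.leaf cP3) (BT.leaf cP4)) (BT.leaf cP5))) (BT.node 8 (BT.node 7 (BT.node 6 (BT.leaf cP6) (BT.leaf cP7)) (BT.leaf cP8)) (BT.node 9 (BT.leaf cP9) (BT.leaf cP10)))) (BT.node 15 (BT.node 13 (BT.node 12 (BT.node 11 (BT.leaf cP11) (BT.leaf cP12)) (BT.leaf cP13)) (BT.node 14 (BT.leaf cP14) (BT.leaf cP15))) (BT.node 18 (BT.node 17 (BT.node 16 (BT.leaf cP16) (BT.leaf cP17)) (BT.leaf cP18)) (BT.node 19 (BT.leaf cP19) (BT.leaf cP20))))) (BT.node 30 (BT.node 25 (BT.node 23 (BT.node 22 (BT.node 21 (BT.leaf cP21) (BT.leaf cP22)) (BT.leaf cP23)) (BT.node 24 (BT.leaf cP24) (BT.leaf cP25))) (BT.node 28 (BT.node 27 (BT.node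 26 (BT.leaf cP26) (BT.leaf cP27)) (BT.leaf cP28)) (BT.node 29 (BT.leaf cP29) (BT.leaf cP30)))) (BT.node 35 (BT.node 33 (BT.node 32 (BT.node 31 (BT.leaf cP31) (BT.leaf cP32)) (BT.leaf cP33)) (BT.node 34 (BT.leaf cP34) (BT.leaf cP35))) (BT.node 38 (BT.node 37 (BT.node 36 (BT.leaf cP36) (BT.leaf cP37)) (BT.leaf cP38)) (BT.node 39 (BT.leaf cP39) (BT.leaf cP40)))))) (BT.node 60 (BT.node 50 (BT.node 45 (BT.node 43 (BT.node 42 (BT.node 41 (BT.leaf cP41) (BT.leaf cP42)) (BT.leaf cP43)) (BT.node 44 (BT.leaf cP44) (BT.leaf cP45))) (BT.node 48 (BT.node 47 (BT.node 46 (BT.leaf cP46) (BT.leaf cP47)) (BT.leaf cP48)) (BT.node 49 (BT.leaf cP49) (BT.leaf cP50)))) (BT.node 55 (BT.node 53 (BT.node 52 (BT.node 51 (BT.leaf cP51) (BT.leaf cP52)) (BT.leaf cP53)) (BT.node 54 (BT.leaf cP54) (BT.leaf cP55))) (BT.node 58 (BT.node 57 (BT.node 56 (BT.leaf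 cP56) (BT.leaf cP57)) (BT.leaf cP58)) (BT.node 59 (BT.leaf cP59) (BT.leaf cP60))))) (BT.node 70 (BT.node 65 (BT.node 63 (BT.node 62 (BT.node 61 (BT.leaf cP61) (BT.leaf cP62)) (BT.leaf cP63)) (BT.node 64 (BT.leaf cP64) (BT.leaf cP65))) (BT.node 68 (BT.node 67 (BT.node 66 (BT.leaf cP66) (BT.leaf cP67)) (BT.leaf cP68)) (BT.node 69 (BT.leaf cP69) (BT.leaf cP70)))) (BT.node 75 (BT.node 73 (BT.node 72 (BT.node 71 (BT.leaf cP71) (BT.leaf cP72)) (BT.leaf cP73)) (BT.node 74 (BT.leaf cP74) (BT.leaf cP75))) (BT.node 78 (BT.node 77 (BT.node 76 (BT.leaf cP76) (BT.leaf cP77)) (BT.leaf cP78)) (BT.node 79 (BT.leaf cP79) (BT.leaf cP80))))))) (BT.node 121 (BT.node 101 (BT.node 91 (BT.node 86 (BT.node 83 (BT.node 82 (BT.node 81 (BT.leaf cP81) (BT.leaf cP82)) (BT.leaf cP83)) (BT.node 85 (BT.node 84 (BT.leaf cP84) (BT.leaf cP85)) (BT.leaf cP86)))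 (BT.node 89 (BT.node 88 (BT.node 87 (BT.leaf cP87) (BT.leaf cP88)) (BT.leaf cP89)) (BT.node 90 (BT.leaf cP90) (BT.leaf cP91)))) (BT.node 96 (BT.node 94 (BT.node 93 (BT.node 92 (BT.leaf cP92) (BT.leaf cP93)) (BT.leaf cP94)) (BT.node 95 (BT.leaf cP95) (BT.leaf cP96))) (BT.node 99 (BT.node 98 (BT.node 97 (BT.leaf cP97) (BT.leaf cP98)) (BT.leaf cP99)) (BT.node 100 (BT.leaf cP100) (BT.leaf cP101))))) (BT.node 111 (BT.node 106 (BT.node 104 (BT.node 103 (BT.node 102 (BT.leaf cP102) (BT.leaf cP103)) (BT.leaf cP104)) (BT.node 105 (BT.leaf cP105) (BT.leaf cP106))) (BT.node 109 (BT.node 108 (BT.node 107 (BT.leaf cP107) (BT.leaf cP108)) (BT.leaf cP109)) (BT.node 110 (BT.leaf cP110) (BT.leaf cP111)))) (BT.node 116 (BT.node 114 (BT.node 113 (BT.node 112 (BT.leaf cP112) (BT.leaf cP113)) (BT.leaf cP114)) (BT.node 115 (BT.leaf cP115) (BT.leaf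 cP116))) (BT.node 119 (BT.node 118 (BT.node 117 (BT.leaf cP117) (BT.leaf cP118)) (BT.leaf cP119)) (BT.node 120 (BT.leaf cP120) (BT.leaf cP121)))))) (BT.node 141 (BT.node 131 (BT.node 126 (BT.node 124 (BT.node 123 (BT.node 122 (BT.leaf cP122) (BT.leaf cP123)) (BT.leaf cP124)) (BT.node 125 (BT.leaf cP125) (BT.leaf cP126))) (BT.node 129 (BT.node 128 (BT.node 127 (BT.leaf cP127) (BT.leaf cP128)) (BT.leaf cP129)) (BT.node 130 (BT.leaf cP130) (BT.leaf cP131)))) (BT.node 136 (BT.node 134 (BT.node 133 (BT.node 132 (BT.leaf cP132) (BT.leaf cP133)) (BT.leaf cP134)) (BT.node 135 (BT.leaf cP135) (BT.leaf cP136))) (BT.node 139 (BT.node 138 (BT.node 137 (BT.leaf cP137) (BT.leaf cP138)) (BT.leaf cP139)) (BT.node 140 (BT.leaf cP140) (BT.leaf cP141))))) (BT.node 151 (BT.node 146 (BT.node 144 (BT.node 143 (BT.node 142 (BT.leaf cP142) (BT.leaf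 cP143)) (BT.leaf cP144)) (BT.node 145 (BT.leaf cP145) (BT.leaf cP146))) (BT.node 149 (BT.node 148 (BT.node 147 (BT.leaf cP147) (BT.leaf cP148)) (BT.leaf cP149)) (BT.node 150 (BT.leaf cP150) (BT.leaf cP151)))) (BT.node 156 (BT.node 154 (BT.node 153 (BT.node 152 (BT.leaf cP152) (BT.leaf cP153)) (BT.leaf cP154)) (BT.node 155 (BT.leaf cP155) (BT.leaf cP156))) (BT.node 159 (BT.node 158 (BT.node 157 (BT.leaf cP157) (BT.leaf cP158)) (BT.leaf cP159)) (BT.node 160 (BT.leaf cP160) (BT.leaf cP161)))))))) (BT.node 242 (BT.node 202 (BT.node 182 (BT.node 172 (BT.node 167 (BT.node 164 (BT.node 163 (BT.node 162 (BT.leaf cP162) (BT.leaf cP163)) (BT.leaf cP164)) (BT.node 166 (BT.node 165 (BT.leaf cP165) (BT.leaf cP166)) (BT.leaf cP167))) (BT.node 170 (BT.node 169 (BT.node 168 (BT.leaf cP168) (BT.leaf cP169)) (BT.leaf cP170)) (BT.node 171 (BT.leaf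 cP171) (BT.leaf cP172)))) (BT.node 177 (BT.node 175 (BT.node 174 (BT.node 173 (BT.leaf cP173) (BT.leaf cP174)) (BT.leaf cP175)) (BT.node 176 (BT.leaf cP176) (BT.leaf cP177))) (BT.node 180 (BT.node 179 (BT.node 178 (BT.leaf cP178) (BT.leaf cP179)) (BT.leaf cP180)) (BT.node 181 (BT.leaf cP181) (BT.leaf cP182))))) (BT.node 192 (BT.node 187 (BT.node 185 (BT.node 184 (BT.node 183 (BT.leaf cP183) (BT.leaf cP184)) (BT.leaf cP185)) (BT.node 186 (BT.leaf cP186) (BT.leaf cP187))) (BT.node 190 (BT.node 189 (BT.node 188 (BT.leaf cP188) (BT.leaf cP189)) (BT.leaf cP190)) (BT.node 191 (BT.leaf cP191) (BT.leaf cP192)))) (BT.node 197 (BT.node 195 (BT.node 194 (BT.node 193 (BT.leaf cP193) (BT.leaf cP194)) (BT.leaf cP195)) (BT.node 196 (BT.leaf cP196) (BT.leaf cP197))) (BT.node 200 (BT.node 199 (BT.node 198 (BT.leaf cP198) (BT.leaf cP199)) (BT.leaf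 cP200)) (BT.node 201 (BT.leaf cP201) (BT.leaf cP202)))))) (BT.node 222 (BT.node 212 (BT.node 207 (BT.node 205 (BT.node 204 (BT.node 203 (BT.leaf cP203) (BT.leaf cP204)) (BT.leaf cP205)) (BT.node 206 (BT.leaf cP206) (BT.leaf cP207))) (BT.node 210 (BT.node 209 (BT.node 208 (BT.leaf cP208) (BT.leaf cP209)) (BT.leaf cP210)) (BT.node 211 (BT.leaf cP211) (BT.leaf cP212)))) (BT.node 217 (BT.node 215 (BT.node 214 (BT.node 213 (BT.leaf cP213) (BT.leaf cP214)) (BT.leaf cP215)) (BT.node 216 (BT.leaf cP216) (BT.leaf cP217))) (BT.node 220 (BT.node 219 (BT.node 218 (BT.leaf cP218) (BT.leaf cP219)) (BT.leaf cP220)) (BT.node 221 (BT.leaf cP221) (BT.leaf cP222))))) (BT.node 232 (BT.node 227 (BT.node 225 (BT.node 224 (BT.node 223 (BT.leaf cP223) (BT.leaf cP224)) (BT.leaf cP225)) (BT.node 226 (BT.leaf cP226) (BT.leaf cP227))) (BT.node 230 (BT.node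 229 (BT.node 228 (BT.leaf cP228) (BT.leaf cP229)) (BT.leaf cP230)) (BT.node 231 (BT.leaf cP231) (BT.leaf cP232)))) (BT.node 237 (BT.node 235 (BT.node 234 (BT.node 233 (BT.leaf cP233) (BT.leaf cP234)) (BT.leaf cP235)) (BT.node 236 (BT.leaf cP236) (BT.leaf cP237))) (BT.node 240 (BT.node 239 (BT.node 238 (BT.leaf cP238) (BT.leaf cP239)) (BT.leaf cP240)) (BT.node 241 (BT.leaf cP241) (BT.leaf cP242))))))) (BT.node 282 (BT.node 262 (BT.node 252 (BT.node 247 (BT.node 245 (BT.node 244 (BT.node 243 (BT.leaf cP243) (BT.leaf cP244)) (BT.leaf cP245)) (BT.node 246 (BT.leaf cP246) (BT.leaf cP247))) (BT.node 250 (BT.node 249 (BT.node 248 (BT.leaf cP248) (BT.leaf cP249)) (BT.leaf cP250)) (BT.node 251 (BT.leaf cP251) (BT.leaf cP252)))) (BT.node 257 (BT.node 255 (BT.node 254 (BT.node 253 (BT.leaf cP253) (BT.leaf cP254)) (BT.leaf cP255)) (BT.node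 256 (BT.leaf cP256) (BT.leaf cP257))) (BT.node 260 (BT.node 259 (BT.node 258 (BT.leaf cP258) (BT.leaf cP259)) (BT.leaf cP260)) (BT.node 261 (BT.leaf cP261) (BT.leaf cP262))))) (BT.node 272 (BT.node 267 (BT.node 265 (BT.node 264 (BT.node 263 (BT.leaf cP263) (BT.leaf cP264)) (BT.leaf cP265)) (BT.node 266 (BT.leaf cP266) (BT.leaf cP267))) (BT.node 270 (BT.node 269 (BT.node 268 (BT.leaf cP268) (BT.leaf cP269)) (BT.leaf cP270)) (BT.node 271 (BT.leaf cP271) (BT.leaf cP272)))) (BT.node 277 (BT.node 275 (BT.node 274 (BT.node 273 (BT.leaf cP273) (BT.leaf cP274)) (BT.leaf cP275)) (BT.node 276 (BT.leaf cP276) (BT.leaf cP277))) (BT.node 280 (BT.node 279 (BT.node 278 (BT.leaf cP278) (BT.leaf cP279)) (BT.leaf cP280)) (BT.node 281 (BT.leaf cP281) (BT.leaf cP282)))))) (BT.node 302 (BT.node 292 (BT.node 287 (BT.node 285 (BT.node 284 (BT.node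 283 (BT.leaf cP283) (BT.leaf cP284)) (BT.leaf cP285)) (BT.node 286 (BT.leaf cP286) (BT.leaf cP287))) (BT.node 290 (BT.node 289 (BT.node 288 (BT.leaf cP288) (BT.leaf cP289)) (BT.leaf cP290)) (BT.node 291 (BT.leaf cP291) (BT.leaf cP292)))) (BT.node 297 (BT.node 295 (BT.node 294 (BT.node 293 (BT.leaf cP293) (BT.leaf cP294)) (BT.leaf cP295)) (BT.node 296 (BT.leaf cP296) (BT.leaf cP297))) (BT.node 300 (BT.node 299 (BT.node 298 (BT.leaf cP298) (BT.leaf cP299)) (BT.leaf cP300)) (BT.node 301 (BT.leaf cP301) (BT.leaf cP302))))) (BT.node 312 (BT.node 307 (BT.node 305 (BT.node 304 (BT.node 303 (BT.leaf cP303) (BT.leaf cP304)) (BT.leaf cP305)) (BT.node 306 (BT.leaf cP306) (BT.leaf cP307))) (BT.node 310 (BT.node 309 (BT.node 308 (BT.leaf cP308) (BT.leaf cP309)) (BT.leaf cP310)) (BT.node 311 (BT.leaf cP311) (BT.leaf cP312)))) (BT.node 317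 (BT.node 315 (BT.node 314 (BT.node 313 (BT.leaf cP313) (BT.leaf cP314)) (BT.leaf cP315)) (BT.node 316 (BT.leaf cP316) (BT.leaf cP317))) (BT.node 320 (BT.node 319 (BT.node 318 (BT.leaf cP318) (BT.leaf cP319)) (BT.leaf cP320)) (BT.node 321 (BT.leaf cP321) (BT.leaf cP322)))))))))
/-- the certificate -/
noncomputable def data : Data where
  k := 10
  N := 165094
  W := 37
  MW := 137438953472
  B := 262144
  CH := 512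
  NCH := 323
  colE := colET
  JW := 64
  MJ := 18446744073709551616
  A := 1048576
  colJ := colJT
  PW := 28
  MP := 268435456
  parC := parCT
  inv := (BT.node 5 (BT.node 2 (BT.node 1 (BT.node 0 (BT.leaf 1) (BT.leaf 0)) (BT.leaf 3)) (BT.node 4 (BT.node 3 (BT.leaf 2) (BT.leaf 5)) (BT.leaf 4))) (BT.node 8 (BT.node 7 (BT.node 6 (BT.leaf 7) (BT.leaf 6)) (BT.leaf 9)) (BT.node 9 (BT.leaf 8) (BT.leaf 10))))
  rel := relT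
  sub := subT
  fuel := 64

end Cfsg.Agent.Lib.Helper16.RuM.E2Data
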