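import Cfsg.Agent.Lib.Helper16.RuM.E2Data
set_option autoImplicit false
set_option maxRecDepth 100000
set_option maxHeartbeats 0

namespace Cfsg.Agent.Lib.Helper16.RuM.E2U0
open Cfsg.Agent.Lib.Helper28.TC2Upper Cfsg.Agent.Lib.Helper16.RuM.E2Data

theorem chk0 : data.checkRange 0 625 = true := by decide +kernel
theorem chk1 : data.checkRange 625 606 = true := by decide +kernel
theorem chk2 : data.checkRange 1231 731 = true := by decide +kernel
theorem chk3 : data.checkRange 1962 810 = true := by decide +kernel
theorem chk4 : data.checkRange 2772 886 = true := by decide +kernel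

theorem all : ∀ v, 0 ≤ v → v < 3658 → data.checkNode v = true := by
  intro v h1 h2
  rcases Nat.lt_or_ge v 625 with h | h
  · exact (data.checkRange_iff 0 625).mp chk0 v (by omega) (by omega)
  rcases Nat.lt_or_ge v 1231 with h | h
  · exact (data.checkRange_iff 625 606).mp chk1 v (by omega) (by omega)
  rcases Nat.lt_or_ge v 1962 with h | h
  · exact (data.checkRange_iff 1231 731).mp chk2 v (by omega) (by omega)
  rcases Nat.lt_or_ge v 2772 with h | h
  · exact (data.checkRange_iff 1962 810).mp chk3 v (by omega) (by omega)
  exact (data.checkRange_iff 2772 886).mp chk4 v (by omega) (by omega)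

end Cfsg.Agent.Lib.Helper16.RuM.E2U0
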