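import Cfsg.Agent.Lib.Helper16.RuM.E2Data
set_option autoImplicit false
set_option maxRecDepth 100000
set_option maxHeartbeats 0

namespace Cfsg.Agent.Lib.Helper16.RuM.E2U1
open Cfsg.Agent.Lib.Helper28.TC2Upper Cfsg.Agent.Lib.Helper16.RuM.E2Data

theorem chk5 : data.checkRange 3658 947 = true := by decide +kernel
theorem chk6 : data.checkRange 4605 1039 = true := by decide +kernel
theorem chk7 : data.checkRange 5644 1091 = true := by decide +kernel
theorem chk8 : data.checkRange 6735 1161 = true := by decide +kernel
theorem chk9 : data.checkRange 7896 690 = true := by decide +kernel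

theorem all : ∀ v, 3658 ≤ v → v < 8586 → data.checkNode v = true := by
  intro v h1 h2
  rcases Nat.lt_or_ge v 4605 with h | h
  · exact (data.checkRange_iff 3658 947).mp chk5 v (by omega) (by omega)
  rcases Nat.lt_or_ge v 5644 with h | h
  · exact (data.checkRange_iff 4605 1039).mp chk6 v (by omega) (by omega)
  rcases Nat.lt_or_ge v 6735 with h | h
  · exact (data.checkRange_iff 5644 1091).mp chk7 v (by omega) (by omega)
  rcases Nat.lt_or_ge v 7896 with h | h
  · exact (data.checkRange_iff 6735 1161).mp chk8 v (by omega) (by omega)
  exact (data.checkRange_iff 7896 690).mp chk9 v (by omega) (by omega)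

end Cfsg.Agent.Lib.Helper16.RuM.E2U1
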