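import Cfsg.Agent.Lib.Helper16.RuM.E2Data
import Cfsg.Agent.Lib.Helper16.RuM.E2U0
set_option autoImplicit false
set_option maxRecDepth 100000
set_option maxHeartbeats 0

namespace Cfsg.Agent.Lib.Helper16.RuM.E2U10
open Cfsg.Agent.Lib.Helper28.TC2Upper Cfsg.Agent.Lib.Helper16.RuM.E2Data

theorem chk50 : data.checkRange 59196 1340 = true := by decide +kernel
theorem chk51 : data.checkRange 60536 1487 = true := by decide +kernel
theorem chk52 : data.checkRange 62023 1468 = true := by decide +kernel
theorem chk53 : data.checkRange 63491 1393 = true := by decide +kernel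
theorem chk54 : data.checkRange 64884 1874 = true := by decide +kernel

theorem all : ∀ v, 59196 ≤ v → v < 66758 → data.checkNode v = true := by
  intro v h1 h2
  rcases Nat.lt_or_ge v 60536 with h | h
  · exact (data.checkRange_iff 59196 1340).mp chk50 v (by omega) (by omega)
  rcases Nat.lt_or_ge v 62023 with h | h
  · exact (data.checkRange_iff 60536 1487).mp chk51 v (by omega) (by omega)
  rcases Nat.lt_or_ge v 63491 with h | h
  · exact (data.checkRange_iff 62023 1468).mp chk52 v (by omega) (by omega)
  rcases Nat.lt_or_ge v 64884 with h | h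
  · exact (data.checkRange_iff 63491 1393).mp chk53 v (by omega) (by omega)
  exact (data.checkRange_iff 64884 1874).mp chk54 v (by omega) (by omega)

end Cfsg.Agent.Lib.Helper16.RuM.E2U10
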