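import Cfsg.Agent.Lib.Helper16.RuM.E2Data
import Cfsg.Agent.Lib.Helper16.RuM.E2U1
set_option autoImplicit false
set_option maxRecDepth 100000
set_option maxHeartbeats 0

namespace Cfsg.Agent.Lib.Helper16.RuM.E2U11
open Cfsg.Agent.Lib.Helper28.TC2Upper Cfsg.Agent.Lib.Helper16.RuM.E2Data

theorem chk55 : data.checkRange 66758 1736 = true := by decide +kernel
theorem chk56 : data.checkRange 68494 1918 = true := by decide +kernel
theorem chk57 : data.checkRange 70412 1859 = true := by decide +kernel
theorem chk58 : data.checkRange 72271 1475 = true := by decide +kernel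
theorem chk59 : data.checkRange 73746 1469 = true := by decide +kernel

theorem all : ∀ v, 66758 ≤ v → v < 75215 → data.checkNode v = true := by
  intro v h1 h2
  rcases Nat.lt_or_ge v 68494 with h | h
  · exact (data.checkRange_iff 66758 1736).mp chk55 v (by omega) (by omega)
  rcases Nat.lt_or_ge v 70412 with h | h
  · exact (data.checkRange_iff 68494 1918).mp chk56 v (by omega) (by omega)
  rcases Nat.lt_or_ge v 72271 with h | h
  · exact (data.checkRange_iff 70412 1859).mp chk57 v (by omega) (by omega)
  rcases Nat.lt_or_ge v 73746 with h | h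
  · exact (data.checkRange_iff 72271 1475).mp chk58 v (by omega) (by omega)
  exact (data.checkRange_iff 73746 1469).mp chk59 v (by omega) (by omega)

end Cfsg.Agent.Lib.Helper16.RuM.E2U11
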