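import Cfsg.Agent.Lib.Helper16.RuM.E2Data
set_option autoImplicit false
set_option maxRecDepth 100000
set_option maxHeartbeats 0

namespace Cfsg.Agent.Lib.Helper16.RuM.E2U2
open Cfsg.Agent.Lib.Helper28.TC2Upper Cfsg.Agent.Lib.Helper16.RuM.E2Data

theorem chk10 : data.checkRange 8586 726 = true := by decide +kernel
theorem chk11 : data.checkRange 9312 787 = true := by decide +kernel
theorem chk12 : data.checkRange 10099 760 = true := by decide +kernel
theorem chk13 : data.checkRange 10859 1033 = true := by decide +kernel
theorem chk14 : data.checkRange 11892 1310 = true := by decide +kernel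

theorem all : ∀ v, 8586 ≤ v → v < 13202 → data.checkNode v = true := by
  intro v h1 h2
  rcases Nat.lt_or_ge v 9312 with h | h
  · exact (data.checkRange_iff 8586 726).mp chk10 v (by omega) (by omega)
  rcases Nat.lt_or_ge v 10099 with h | h
  · exact (data.checkRange_iff 9312 787).mp chk11 v (by omega) (by omega)
  rcases Nat.lt_or_ge v 10859 with h | h
  · exact (data.checkRange_iff 10099 760).mp chk12 v (by omega) (by omega)
  rcases Nat.lt_or_ge v 11892 with h | h
  · exact (data.checkRange_iff 10859 1033).mp chk13 v (by omega) (by omega)
  exact (data.checkRange_iff 11892 1310).mp chk14 v (by omega) (by omega)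

end Cfsg.Agent.Lib.Helper16.RuM.E2U2
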