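import Cfsg.Agent.Lib.Helper16.RuM.E2Data
import Cfsg.Agent.Lib.Helper16.RuM.E2U2
set_option autoImplicit false
set_option maxRecDepth 100000
set_option maxHeartbeats 0

namespace Cfsg.Agent.Lib.Helper16.RuM.E2U12
open Cfsg.Agent.Lib.Helper28.TC2Upper Cfsg.Agent.Lib.Helper16.RuM.E2Data

theorem chk60 : data.checkRange 75215 1511 = true := by decide +kernel
theorem chk61 : data.checkRange 76726 1640 = true := by decide +kernel
theorem chk62 : data.checkRange 78366 1565 = true := by decide +kernel
theorem chk63 : data.checkRange 79931 1447 = true := by decide +kernel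
theorem chk64 : data.checkRange 81378 1336 = true := by decide +kernel

theorem all : ∀ v, 75215 ≤ v → v < 82714 → data.checkNode v = true := by
  intro v h1 h2
  rcases Nat.lt_or_ge v 76726 with h | h
  · exact (data.checkRange_iff 75215 1511).mp chk60 v (by omega) (by omega)
  rcases Nat.lt_or_ge v 78366 with h | h
  · exact (data.checkRange_iff 76726 1640).mp chk61 v (by omega) (by omega)
  rcases Nat.lt_or_ge v 79931 with h | h
  · exact (data.checkRange_iff 78366 1565).mp chk62 v (by omega) (by omega)
  rcases Nat.lt_or_ge v 81378 with h | h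
  · exact (data.checkRange_iff 79931 1447).mp chk63 v (by omega) (by omega)
  exact (data.checkRange_iff 81378 1336).mp chk64 v (by omega) (by omega)

end Cfsg.Agent.Lib.Helper16.RuM.E2U12
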