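import Cfsg.Agent.Lib.Helper16.RuM.E2Data
set_option autoImplicit false
set_option maxRecDepth 100000
set_option maxHeartbeats 0

namespace Cfsg.Agent.Lib.Helper16.RuM.E2U3
open Cfsg.Agent.Lib.Helper28.TC2Upper Cfsg.Agent.Lib.Helper16.RuM.E2Data

theorem chk15 : data.checkRange 13202 1573 = true := by decide +kernel
theorem chk16 : data.checkRange 14775 1335 = true := by decide +kernel
theorem chk17 : data.checkRange 16110 814 = true := by decide +kernel
theorem chk18 : data.checkRange 16924 885 = true := by decide +kernel
theorem chk19 : data.checkRange 17809 841 = true := by decide +kernel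

theorem all : ∀ v, 13202 ≤ v → v < 18650 → data.checkNode v = true := by
  intro v h1 h2
  rcases Nat.lt_or_ge v 14775 with h | h
  · exact (data.checkRange_iff 13202 1573).mp chk15 v (by omega) (by omega)
  rcases Nat.lt_or_ge v 16110 with h | h
  · exact (data.checkRange_iff 14775 1335).mp chk16 v (by omega) (by omega)
  rcases Nat.lt_or_ge v 16924 with h | h
  · exact (data.checkRange_iff 16110 814).mp chk17 v (by omega) (by omega)
  rcases Nat.lt_or_ge v 17809 with h | h
  · exact (data.checkRange_iff 16924 885).mp chk18 v (by omega) (by omega)
  exact (data.checkRange_iff 17809 841).mp chk19 v (by omega) (by omega)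

end Cfsg.Agent.Lib.Helper16.RuM.E2U3
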