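import Cfsg.Agent.Lib.Helper16.RuM.E2Data
import Cfsg.Agent.Lib.Helper16.RuM.E2U3
set_option autoImplicit false
set_option maxRecDepth 100000
set_option maxHeartbeats 0

namespace Cfsg.Agent.Lib.Helper16.RuM.E2U13
open Cfsg.Agent.Lib.Helper28.TC2Upper Cfsg.Agent.Lib.Helper16.RuM.E2Data

theorem chk65 : data.checkRange 82714 1484 = true := by decide +kernel
theorem chk66 : data.checkRange 84198 1452 = true := by decide +kernel
theorem chk67 : data.checkRange 85650 1529 = true := by decide +kernel
theorem chk68 : data.checkRange 87179 1658 = true := by decide +kernel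
theorem chk69 : data.checkRange 88837 1531 = true := by decide +kernel

theorem all : ∀ v, 82714 ≤ v → v < 90368 → data.checkNode v = true := by
  intro v h1 h2
  rcases Nat.lt_or_ge v 84198 with h | h
  · exact (data.checkRange_iff 82714 1484).mp chk65 v (by omega) (by omega)
  rcases Nat.lt_or_ge v 85650 with h | h
  · exact (data.checkRange_iff 84198 1452).mp chk66 v (by omega) (by omega)
  rcases Nat.lt_or_ge v 87179 with h | h
  · exact (data.checkRange_iff 85650 1529).mp chk67 v (by omega) (by omega)
  rcases Nat.lt_or_ge v 88837 with h | h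
  · exact (data.checkRange_iff 87179 1658).mp chk68 v (by omega) (by omega)
  exact (data.checkRange_iff 88837 1531).mp chk69 v (by omega) (by omega)

end Cfsg.Agent.Lib.Helper16.RuM.E2U13
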