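import Cfsg.Agent.Lib.Helper16.RuM.E2Data
set_option autoImplicit false
set_option maxRecDepth 100000
set_option maxHeartbeats 0

namespace Cfsg.Agent.Lib.Helper16.RuM.E2U4
open Cfsg.Agent.Lib.Helper28.TC2Upper Cfsg.Agent.Lib.Helper16.RuM.E2Data

theorem chk20 : data.checkRange 18650 1172 = true := by decide +kernel
theorem chk21 : data.checkRange 19822 1356 = true := by decide +kernel
theorem chk22 : data.checkRange 21178 1465 = true := by decide +kernel
theorem chk23 : data.checkRange 22643 1495 = true := by decide +kernel
theorem chk24 : data.checkRange 24138 1150 = true := by decide +kernel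

theorem all : ∀ v, 18650 ≤ v → v < 25288 → data.checkNode v = true := by
  intro v h1 h2
  rcases Nat.lt_or_ge v 19822 with h | h
  · exact (data.checkRange_iff 18650 1172).mp chk20 v (by omega) (by omega)
  rcases Nat.lt_or_ge v 21178 with h | h
  · exact (data.checkRange_iff 19822 1356).mp chk21 v (by omega) (by omega)
  rcases Nat.lt_or_ge v 22643 with h | h
  · exact (data.checkRange_iff 21178 1465).mp chk22 v (by omega) (by omega)
  rcases Nat.lt_or_ge v 24138 with h | h
  · exact (data.checkRange_iff 22643 1495).mp chk23 v (by omega) (by omega)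
  exact (data.checkRange_iff 24138 1150).mp chk24 v (by omega) (by omega)

end Cfsg.Agent.Lib.Helper16.RuM.E2U4
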