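import Cfsg.Agent.Lib.Helper16.RuM.E2Data
import Cfsg.Agent.Lib.Helper16.RuM.E2U4
set_option autoImplicit false
set_option maxRecDepth 100000
set_option maxHeartbeats 0

namespace Cfsg.Agent.Lib.Helper16.RuM.E2U14
open Cfsg.Agent.Lib.Helper28.TC2Upper Cfsg.Agent.Lib.Helper16.RuM.E2Data

theorem chk70 : data.checkRange 90368 1672 = true := by decide +kernel
theorem chk71 : data.checkRange 92040 1459 = true := by decide +kernel
theorem chk72 : data.checkRange 93499 1621 = true := by decide +kernel
theorem chk73 : data.checkRange 95120 1862 = true := by decide +kernel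
theorem chk74 : data.checkRange 96982 1969 = true := by decide +kernel

theorem all : ∀ v, 90368 ≤ v → v < 98951 → data.checkNode v = true := by
  intro v h1 h2
  rcases Nat.lt_or_ge v 92040 with h | h
  · exact (data.checkRange_iff 90368 1672).mp chk70 v (by omega) (by omega)
  rcases Nat.lt_or_ge v 93499 with h | h
  · exact (data.checkRange_iff 92040 1459).mp chk71 v (by omega) (by omega)
  rcases Nat.lt_or_ge v 95120 with h | h
  · exact (data.checkRange_iff 93499 1621).mp chk72 v (by omega) (by omega)
  rcases Nat.lt_or_ge v 96982 with h | h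
  · exact (data.checkRange_iff 95120 1862).mp chk73 v (by omega) (by omega)
  exact (data.checkRange_iff 96982 1969).mp chk74 v (by omega) (by omega)

end Cfsg.Agent.Lib.Helper16.RuM.E2U14
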