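import Cfsg.Agent.Lib.Helper16.RuM.E2Data
set_option autoImplicit false
set_option maxRecDepth 100000
set_option maxHeartbeats 0

namespace Cfsg.Agent.Lib.Helper16.RuM.E2U5
open Cfsg.Agent.Lib.Helper28.TC2Upper Cfsg.Agent.Lib.Helper16.RuM.E2Data

theorem chk25 : data.checkRange 25288 1201 = true := by decide +kernel
theorem chk26 : data.checkRange 26489 1351 = true := by decide +kernel
theorem chk27 : data.checkRange 27840 1581 = true := by decide +kernel
theorem chk28 : data.checkRange 29421 1540 = true := by decide +kernel
theorem chk29 : data.checkRange 30961 1574 = true := by decide +kernel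

theorem all : ∀ v, 25288 ≤ v → v < 32535 → data.checkNode v = true := by
  intro v h1 h2
  rcases Nat.lt_or_ge v 26489 with h | h
  · exact (data.checkRange_iff 25288 1201).mp chk25 v (by omega) (by omega)
  rcases Nat.lt_or_ge v 27840 with h | h
  · exact (data.checkRange_iff 26489 1351).mp chk26 v (by omega) (by omega)
  rcases Nat.lt_or_ge v 29421 with h | h
  · exact (data.checkRange_iff 27840 1581).mp chk27 v (by omega) (by omega)
  rcases Nat.lt_or_ge v 30961 with h | h
  · exact (data.checkRange_iff 29421 1540).mp chk28 v (by omega) (by omega)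
  exact (data.checkRange_iff 30961 1574).mp chk29 v (by omega) (by omega)

end Cfsg.Agent.Lib.Helper16.RuM.E2U5
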