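import Cfsg.Agent.Lib.Helper16.RuM.E2Data
import Cfsg.Agent.Lib.Helper16.RuM.E2U5
set_option autoImplicit false
set_option maxRecDepth 100000
set_option maxHeartbeats 0

namespace Cfsg.Agent.Lib.Helper16.RuM.E2U15
open Cfsg.Agent.Lib.Helper28.TC2Upper Cfsg.Agent.Lib.Helper16.RuM.E2Data

theorem chk75 : data.checkRange 98951 1750 = true := by decide +kernel
theorem chk76 : data.checkRange 100701 1737 = true := by decide +kernel
theorem chk77 : data.checkRange 102438 1901 = true := by decide +kernel
theorem chk78 : data.checkRange 104339 1745 = true := by decide +kernel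
theorem chk79 : data.checkRange 106084 1763 = true := by decide +kernel

theorem all : ∀ v, 98951 ≤ v → v < 107847 → data.checkNode v = true := by
  intro v h1 h2
  rcases Nat.lt_or_ge v 100701 with h | h
  · exact (data.checkRange_iff 98951 1750).mp chk75 v (by omega) (by omega)
  rcases Nat.lt_or_ge v 102438 with h | h
  · exact (data.checkRange_iff 100701 1737).mp chk76 v (by omega) (by omega)
  rcases Nat.lt_or_ge v 104339 with h | h
  · exact (data.checkRange_iff 102438 1901).mp chk77 v (by omega) (by omega)
  rcases Nat.lt_or_ge v 106084 with h | h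
  · exact (data.checkRange_iff 104339 1745).mp chk78 v (by omega) (by omega)
  exact (data.checkRange_iff 106084 1763).mp chk79 v (by omega) (by omega)

end Cfsg.Agent.Lib.Helper16.RuM.E2U15
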