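import Cfsg.Agent.Lib.Helper16.RuM.E2Data
set_option autoImplicit false
set_option maxRecDepth 100000
set_option maxHeartbeats 0

namespace Cfsg.Agent.Lib.Helper16.RuM.E2U6
open Cfsg.Agent.Lib.Helper28.TC2Upper Cfsg.Agent.Lib.Helper16.RuM.E2Data

theorem chk30 : data.checkRange 32535 1644 = true := by decide +kernel
theorem chk31 : data.checkRange 34179 1599 = true := by decide +kernel
theorem chk32 : data.checkRange 35778 1513 = true := by decide +kernel
theorem chk33 : data.checkRange 37291 1648 = true := by decide +kernel
theorem chk34 : data.checkRange 38939 1079 = true := by decide +kernel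

theorem all : ∀ v, 32535 ≤ v → v < 40018 → data.checkNode v = true := by
  intro v h1 h2
  rcases Nat.lt_or_ge v 34179 with h | h
  · exact (data.checkRange_iff 32535 1644).mp chk30 v (by omega) (by omega)
  rcases Nat.lt_or_ge v 35778 with h | h
  · exact (data.checkRange_iff 34179 1599).mp chk31 v (by omega) (by omega)
  rcases Nat.lt_or_ge v 37291 with h | h
  · exact (data.checkRange_iff 35778 1513).mp chk32 v (by omega) (by omega)
  rcases Nat.lt_or_ge v 38939 with h | h
  · exact (data.checkRange_iff 37291 1648).mp chk33 v (by omega) (by omega)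
  exact (data.checkRange_iff 38939 1079).mp chk34 v (by omega) (by omega)

end Cfsg.Agent.Lib.Helper16.RuM.E2U6
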