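import Cfsg.Agent.Lib.Helper16.RuM.E2Data
import Cfsg.Agent.Lib.Helper16.RuM.E2U6
set_option autoImplicit false
set_option maxRecDepth 100000
set_option maxHeartbeats 0

namespace Cfsg.Agent.Lib.Helper16.RuM.E2U16
open Cfsg.Agent.Lib.Helper28.TC2Upper Cfsg.Agent.Lib.Helper16.RuM.E2Data

theorem chk80 : data.checkRange 107847 1840 = true := by decide +kernel
theorem chk81 : data.checkRange 109687 1801 = true := by decide +kernel
theorem chk82 : data.checkRange 111488 1779 = true := by decide +kernel
theorem chk83 : data.checkRange 113267 1850 = true := by decide +kernel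
theorem chk84 : data.checkRange 115117 2092 = true := by decide +kernel

theorem all : ∀ v, 107847 ≤ v → v < 117209 → data.checkNode v = true := by
  intro v h1 h2
  rcases Nat.lt_or_ge v 109687 with h | h
  · exact (data.checkRange_iff 107847 1840).mp chk80 v (by omega) (by omega)
  rcases Nat.lt_or_ge v 111488 with h | h
  · exact (data.checkRange_iff 109687 1801).mp chk81 v (by omega) (by omega)
  rcases Nat.lt_or_ge v 113267 with h | h
  · exact (data.checkRange_iff 111488 1779).mp chk82 v (by omega) (by omega)
  rcases Nat.lt_or_ge v 115117 with h | h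
  · exact (data.checkRange_iff 113267 1850).mp chk83 v (by omega) (by omega)
  exact (data.checkRange_iff 115117 2092).mp chk84 v (by omega) (by omega)

end Cfsg.Agent.Lib.Helper16.RuM.E2U16
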