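import Cfsg.Agent.Lib.Helper16.RuM.E2Data
set_option autoImplicit false
set_option maxRecDepth 100000
set_option maxHeartbeats 0

namespace Cfsg.Agent.Lib.Helper16.RuM.E2U7
open Cfsg.Agent.Lib.Helper28.TC2Upper Cfsg.Agent.Lib.Helper16.RuM.E2Data

theorem chk35 : data.checkRange 40018 1030 = true := by decide +kernel
theorem chk36 : data.checkRange 41048 1397 = true := by decide +kernel
theorem chk37 : data.checkRange 42445 1369 = true := by decide +kernel
theorem chk38 : data.checkRange 43814 1078 = true := by decide +kernel
theorem chk39 : data.checkRange 44892 1691 = true := by decide +kernel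

theorem all : ∀ v, 40018 ≤ v → v < 46583 → data.checkNode v = true := by
  intro v h1 h2
  rcases Nat.lt_or_ge v 41048 with h | h
  · exact (data.checkRange_iff 40018 1030).mp chk35 v (by omega) (by omega)
  rcases Nat.lt_or_ge v 42445 with h | h
  · exact (data.checkRange_iff 41048 1397).mp chk36 v (by omega) (by omega)
  rcases Nat.lt_or_ge v 43814 with h | h
  · exact (data.checkRange_iff 42445 1369).mp chk37 v (by omega) (by omega)
  rcases Nat.lt_or_ge v 44892 with h | h
  · exact (data.checkRange_iff 43814 1078).mp chk38 v (by omega) (by omega)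
  exact (data.checkRange_iff 44892 1691).mp chk39 v (by omega) (by omega)

end Cfsg.Agent.Lib.Helper16.RuM.E2U7
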