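import Cfsg.Agent.Lib.Helper16.RuM.E2Data
import Cfsg.Agent.Lib.Helper16.RuM.E2U7
set_option autoImplicit false
set_option maxRecDepth 100000
set_option maxHeartbeats 0

namespace Cfsg.Agent.Lib.Helper16.RuM.E2U17
open Cfsg.Agent.Lib.Helper28.TC2Upper Cfsg.Agent.Lib.Helper16.RuM.E2Data

theorem chk85 : data.checkRange 117209 1975 = true := by decide +kernel
theorem chk86 : data.checkRange 119184 1890 = true := by decide +kernel
theorem chk87 : data.checkRange 121074 1536 = true := by decide +kernel
theorem chk88 : data.checkRange 122610 1708 = true := by decide +kernel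
theorem chk89 : data.checkRange 124318 1517 = true := by decide +kernel

theorem all : ∀ v, 117209 ≤ v → v < 125835 → data.checkNode v = true := by
  intro v h1 h2
  rcases Nat.lt_or_ge v 119184 with h | h
  · exact (data.checkRange_iff 117209 1975).mp chk85 v (by omega) (by omega)
  rcases Nat.lt_or_ge v 121074 with h | h
  · exact (data.checkRange_iff 119184 1890).mp chk86 v (by omega) (by omega)
  rcases Nat.lt_or_ge v 122610 with h | h
  · exact (data.checkRange_iff 121074 1536).mp chk87 v (by omega) (by omega)
  rcases Nat.lt_or_ge v 124318 with h | h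
  · exact (data.checkRange_iff 122610 1708).mp chk88 v (by omega) (by omega)
  exact (data.checkRange_iff 124318 1517).mp chk89 v (by omega) (by omega)

end Cfsg.Agent.Lib.Helper16.RuM.E2U17
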