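import Cfsg.Agent.Lib.Helper16.RuM.E2Data
set_option autoImplicit false
set_option maxRecDepth 100000
set_option maxHeartbeats 0

namespace Cfsg.Agent.Lib.Helper16.RuM.E2U9
open Cfsg.Agent.Lib.Helper28.TC2Upper Cfsg.Agent.Lib.Helper16.RuM.E2Data

theorem chk45 : data.checkRange 52268 1468 = true := by decide +kernel
theorem chk46 : data.checkRange 53736 1226 = true := by decide +kernel
theorem chk47 : data.checkRange 54962 1557 = true := by decide +kernel
theorem chk48 : data.checkRange 56519 1375 = true := by decide +kernel
theorem chk49 : data.checkRange 57894 1302 = true := by decide +kernel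

theorem all : ∀ v, 52268 ≤ v → v < 59196 → data.checkNode v = true := by
  intro v h1 h2
  rcases Nat.lt_or_ge v 53736 with h | h
  · exact (data.checkRange_iff 52268 1468).mp chk45 v (by omega) (by omega)
  rcases Nat.lt_or_ge v 54962 with h | h
  · exact (data.checkRange_iff 53736 1226).mp chk46 v (by omega) (by omega)
  rcases Nat.lt_or_ge v 56519 with h | h
  · exact (data.checkRange_iff 54962 1557).mp chk47 v (by omega) (by omega)
  rcases Nat.lt_or_ge v 57894 with h | h
  · exact (data.checkRange_iff 56519 1375).mp chk48 v (by omega) (by omega)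
  exact (data.checkRange_iff 57894 1302).mp chk49 v (by omega) (by omega)

end Cfsg.Agent.Lib.Helper16.RuM.E2U9
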