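import Cfsg.Agent.Lib.Helper16.RuM.E2Data
import Cfsg.Agent.Lib.Helper16.RuM.E2U9
set_option autoImplicit false
set_option maxRecDepth 100000
set_option maxHeartbeats 0

namespace Cfsg.Agent.Lib.Helper16.RuM.E2U19
open Cfsg.Agent.Lib.Helper28.TC2Upper Cfsg.Agent.Lib.Helper16.RuM.E2Data

theorem chk95 : data.checkRange 133768 1392 = true := by decide +kernel
theorem chk96 : data.checkRange 135160 1563 = true := by decide +kernel
theorem chk97 : data.checkRange 136723 1517 = true := by decide +kernel
theorem chk98 : data.checkRange 138240 1255 = true := by decide +kernel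
theorem chk99 : data.checkRange 139495 1484 = true := by decide +kernel

theorem all : ∀ v, 133768 ≤ v → v < 140979 → data.checkNode v = true := by
  intro v h1 h2
  rcases Nat.lt_or_ge v 135160 with h | h
  · exact (data.checkRange_iff 133768 1392).mp chk95 v (by omega) (by omega)
  rcases Nat.lt_or_ge v 136723 with h | h
  · exact (data.checkRange_iff 135160 1563).mp chk96 v (by omega) (by omega)
  rcases Nat.lt_or_ge v 138240 with h | h
  · exact (data.checkRange_iff 136723 1517).mp chk97 v (by omega) (by omega)
  rcases Nat.lt_or_ge v 139495 with h | h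
  · exact (data.checkRange_iff 138240 1255).mp chk98 v (by omega) (by omega)
  exact (data.checkRange_iff 139495 1484).mp chk99 v (by omega) (by omega)

end Cfsg.Agent.Lib.Helper16.RuM.E2U19
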