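import Cfsg.Agent.Lib.Helper16.RuM.E2Data
import Cfsg.Agent.Lib.Helper16.RuM.E2U10
set_option autoImplicit false
set_option maxRecDepth 100000
set_option maxHeartbeats 0

namespace Cfsg.Agent.Lib.Helper16.RuM.E2U20
open Cfsg.Agent.Lib.Helper28.TC2Upper Cfsg.Agent.Lib.Helper16.RuM.E2Data

theorem chk100 : data.checkRange 140979 1534 = true := by decide +kernel
theorem chk101 : data.checkRange 142513 1576 = true := by decide +kernel
theorem chk102 : data.checkRange 144089 1709 = true := by decide +kernel
theorem chk103 : data.checkRange 145798 2050 = true := by decide +kernel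
theorem chk104 : data.checkRange 147848 2210 = true := by decide +kernel

theorem all : ∀ v, 140979 ≤ v → v < 150058 → data.checkNode v = true := by
  intro v h1 h2
  rcases Nat.lt_or_ge v 142513 with h | h
  · exact (data.checkRange_iff 140979 1534).mp chk100 v (by omega) (by omega)
  rcases Nat.lt_or_ge v 144089 with h | h
  · exact (data.checkRange_iff 142513 1576).mp chk101 v (by omega) (by omega)
  rcases Nat.lt_or_ge v 145798 with h | h
  · exact (data.checkRange_iff 144089 1709).mp chk102 v (by omega) (by omega)
  rcases Nat.lt_or_ge v 147848 with h | h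
  · exact (data.checkRange_iff 145798 2050).mp chk103 v (by omega) (by omega)
  exact (data.checkRange_iff 147848 2210).mp chk104 v (by omega) (by omega)

end Cfsg.Agent.Lib.Helper16.RuM.E2U20
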