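import Cfsg.Agent.Lib.Helper16.RuM.E2Data
import Cfsg.Agent.Lib.Helper16.RuM.E2U11
set_option autoImplicit false
set_option maxRecDepth 100000
set_option maxHeartbeats 0

namespace Cfsg.Agent.Lib.Helper16.RuM.E2U21
open Cfsg.Agent.Lib.Helper28.TC2Upper Cfsg.Agent.Lib.Helper16.RuM.E2Data

theorem chk105 : data.checkRange 150058 2177 = true := by decide +kernel
theorem chk106 : data.checkRange 152235 1890 = true := by decide +kernel
theorem chk107 : data.checkRange 154125 1764 = true := by decide +kernel
theorem chk108 : data.checkRange 155889 1663 = true := by decide +kernel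
theorem chk109 : data.checkRange 157552 1797 = true := by decide +kernel

theorem all : ∀ v, 150058 ≤ v → v < 159349 → data.checkNode v = true := by
  intro v h1 h2
  rcases Nat.lt_or_ge v 152235 with h | h
  · exact (data.checkRange_iff 150058 2177).mp chk105 v (by omega) (by omega)
  rcases Nat.lt_or_ge v 154125 with h | h
  · exact (data.checkRange_iff 152235 1890).mp chk106 v (by omega) (by omega)
  rcases Nat.lt_or_ge v 155889 with h | h
  · exact (data.checkRange_iff 154125 1764).mp chk107 v (by omega) (by omega)
  rcases Nat.lt_or_ge v 157552 with h | h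
  · exact (data.checkRange_iff 155889 1663).mp chk108 v (by omega) (by omega)
  exact (data.checkRange_iff 157552 1797).mp chk109 v (by omega) (by omega)

end Cfsg.Agent.Lib.Helper16.RuM.E2U21
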