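import Cfsg.Agent.Lib.Helper16.RuM.E2Data
import Cfsg.Agent.Lib.Helper16.RuM.E2U12
set_option autoImplicit false
set_option maxRecDepth 100000
set_option maxHeartbeats 0

namespace Cfsg.Agent.Lib.Helper16.RuM.E2U22
open Cfsg.Agent.Lib.Helper28.TC2Upper Cfsg.Agent.Lib.Helper16.RuM.E2Data

theorem chk110 : data.checkRange 159349 2192 = true := by decide +kernel
theorem chk111 : data.checkRange 161541 2312 = true := by decide +kernel
theorem chk112 : data.checkRange 163853 1241 = true := by decide +kernel

theorem all : ∀ v, 159349 ≤ v → v < 165094 → data.checkNode v = true := by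
  intro v h1 h2
  rcases Nat.lt_or_ge v 161541 with h | h
  · exact (data.checkRange_iff 159349 2192).mp chk110 v (by omega) (by omega)
  rcases Nat.lt_or_ge v 163853 with h | h
  · exact (data.checkRange_iff 161541 2312).mp chk111 v (by omega) (by omega)
  exact (data.checkRange_iff 163853 1241).mp chk112 v (by omega) (by omega)

end Cfsg.Agent.Lib.Helper16.RuM.E2U22
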