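import Cfsg.Agent.Lib.Helper16.RuM.E2Data
set_option autoImplicit false
set_option maxRecDepth 100000
set_option maxHeartbeats 0

namespace Cfsg.Agent.Lib.Helper16.RuM.E2U8
open Cfsg.Agent.Lib.Helper28.TC2Upper Cfsg.Agent.Lib.Helper16.RuM.E2Data

theorem chk40 : data.checkRange 46583 1232 = true := by decide +kernel
theorem chk41 : data.checkRange 47815 1176 = true := by decide +kernel
theorem chk42 : data.checkRange 48991 1012 = true := by decide +kernel
theorem chk43 : data.checkRange 50003 1082 = true := by decide +kernel
theorem chk44 : data.checkRange 51085 1183 = true := by decide +kernel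

theorem all : ∀ v, 46583 ≤ v → v < 52268 → data.checkNode v = true := by
  intro v h1 h2
  rcases Nat.lt_or_ge v 47815 with h | h
  · exact (data.checkRange_iff 46583 1232).mp chk40 v (by omega) (by omega)
  rcases Nat.lt_or_ge v 48991 with h | h
  · exact (data.checkRange_iff 47815 1176).mp chk41 v (by omega) (by omega)
  rcases Nat.lt_or_ge v 50003 with h | h
  · exact (data.checkRange_iff 48991 1012).mp chk42 v (by omega) (by omega)
  rcases Nat.lt_or_ge v 51085 with h | h
  · exact (data.checkRange_iff 50003 1082).mp chk43 v (by omega) (by omega)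
  exact (data.checkRange_iff 51085 1183).mp chk44 v (by omega) (by omega)

end Cfsg.Agent.Lib.Helper16.RuM.E2U8
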