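import Cfsg.Agent.Lib.Helper28.TC2Glue
import Cfsg.Agent.Lib.Helper28.TC2Range
import Cfsg.Agent.Lib.Helper16.RuM.Target
import Cfsg.Agent.Lib.Helper16.RuM.E2Link
import Cfsg.Agent.Lib.Helper16.RuM.E2W
import Cfsg.Agent.Lib.Helper16.RuM.E2U0
import Cfsg.Agent.Lib.Helper16.RuM.E2U1
import Cfsg.Agent.Lib.Helper16.RuM.E2U2
import Cfsg.Agent.Lib.Helper16.RuM.E2U3
import Cfsg.Agent.Lib.Helper16.RuM.E2U4
import Cfsg.Agent.Lib.Helper16.RuM.E2U5
import Cfsg.Agent.Lib.Helper16.RuM.E2U6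
import Cfsg.Agent.Lib.Helper16.RuM.E2U7
import Cfsg.Agent.Lib.Helper16.RuM.E2U8
import Cfsg.Agent.Lib.Helper16.RuM.E2U9
import Cfsg.Agent.Lib.Helper16.RuM.E2U10
import Cfsg.Agent.Lib.Helper16.RuM.E2U11
import Cfsg.Agent.Lib.Helper16.RuM.E2U12
import Cfsg.Agent.Lib.Helper16.RuM.E2U13
import Cfsg.Agent.Lib.Helper16.RuM.E2U14
import Cfsg.Agent.Lib.Helper16.RuM.E2U15
import Cfsg.Agent.Lib.Helper16.RuM.E2U16
import Cfsg.Agent.Lib.Helper16.RuM.E2U17
import Cfsg.Agent.Lib.Helper16.RuM.E2U18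
import Cfsg.Agent.Lib.Helper16.RuM.E2U19
import Cfsg.Agent.Lib.Helper16.RuM.E2U20
import Cfsg.Agent.Lib.Helper16.RuM.E2U21
import Cfsg.Agent.Lib.Helper16.RuM.E2U22

set_option autoImplicit false
set_option maxRecDepth 100000
open Cfsg

namespace Cfsg.Agent.Lib.Helper16.RuM.E2MainT
open Cfsg.Agent.Lib.Helper28.TC2Upper Cfsg.Agent.Lib.Helper28.TC2Lower Cfsg.Agent.Lib.Helper28.TC2Glue Cfsg.Agent.Lib.Helper28.TC2Range
open Cfsg.Agent.Lib.Helper16.RuM.E2Data Cfsg.Agent.Lib.Helper16.RuM.E2Table Cfsg.Agent.Lib.Helper16.RuM.E2Link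

theorem hchk : ∀ v, v < data.N → data.checkNode v = true := by
  intro v hv
  have hv' : v < 165094 := hv
  rcases Nat.lt_or_ge v 3658 with h0 | h0
  · exact Cfsg.Agent.Lib.Helper16.RuM.E2U0.all v (by omega) (by omega)
  rcases Nat.lt_or_ge v 8586 with h1 | h1
  · exact Cfsg.Agent.Lib.Helper16.RuM.E2U1.all v (by omega) (by omega)
  rcases Nat.lt_or_ge v 13202 with h2 | h2
  · exact Cfsg.Agent.Lib.Helper16.RuM.E2U2.all v (by omega) (by omega)
  rcases Nat.lt_or_ge v 18650 with h3 | h3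
  · exact Cfsg.Agent.Lib.Helper16.RuM.E2U3.all v (by omega) (by omega)
  rcases Nat.lt_or_ge v 25288 with h4 | h4
  · exact Cfsg.Agent.Lib.Helper16.RuM.E2U4.all v (by omega) (by omega)
  rcases Nat.lt_or_ge v 32535 with h5 | h5
  · exact Cfsg.Agent.Lib.Helper16.RuM.E2U5.all v (by omega) (by omega)
  rcases Nat.lt_or_ge v 40018 with h6 | h6
  · exact Cfsg.Agent.Lib.Helper16.RuM.E2U6.all v (by omega) (by omega)
  rcases Nat.lt_or_ge v 46583 with h7 | h7
  · exact Cfsg.Agent.Lib.Helper16.RuM.E2U7.all v (by omega) (by omega)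
  rcases Nat.lt_or_ge v 52268 with h8 | h8
  · exact Cfsg.Agent.Lib.Helper16.RuM.E2U8.all v (by omega) (by omega)
  rcases Nat.lt_or_ge v 59196 with h9 | h9
  · exact Cfsg.Agent.Lib.Helper16.RuM.E2U9.all v (by omega) (by omega)
  rcases Nat.lt_or_ge v 66758 with h10 | h10
  · exact Cfsg.Agent.Lib.Helper16.RuM.E2U10.all v (by omega) (by omega)
  rcases Nat.lt_or_ge v 75215 with h11 | h11
  · exact Cfsg.Agent.Lib.Helper16.RuM.E2U11.all v (by omega) (by omega)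
  rcases Nat.lt_or_ge v 82714 with h12 | h12
  · exact Cfsg.Agent.Lib.Helper16.RuM.E2U12.all v (by omega) (by omega)
  rcases Nat.lt_or_ge v 90368 with h13 | h13
  · exact Cfsg.Agent.Lib.Helper16.RuM.E2U13.all v (by omega) (by omega)
  rcases Nat.lt_or_ge v 98951 with h14 | h14
  · exact Cfsg.Agent.Lib.Helper16.RuM.E2U14.all v (by omega) (by omega)
  rcases Nat.lt_or_ge v 107847 with h15 | h15
  · exact Cfsg.Agent.Lib.Helper16.RuM.E2U15.all v (by omega) (by omega)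
  rcases Nat.lt_or_ge v 117209 with h16 | h16
  · exact Cfsg.Agent.Lib.Helper16.RuM.E2U16.all v (by omega) (by omega)
  rcases Nat.lt_or_ge v 125835 with h17 | h17
  · exact Cfsg.Agent.Lib.Helper16.RuM.E2U17.all v (by omega) (by omega)
  rcases Nat.lt_or_ge v 133768 with h18 | h18
  · exact Cfsg.Agent.Lib.Helper16.RuM.E2U18.all v (by omega) (by omega)
  rcases Nat.lt_or_ge v 140979 with h19 | h19
  · exact Cfsg.Agent.Lib.Helper16.RuM.E2U19.all v (by omega) (by omega)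
  rcases Nat.lt_or_ge v 150058 with h20 | h20
  · exact Cfsg.Agent.Lib.Helper16.RuM.E2U20.all v (by omega) (by omega)
  rcases Nat.lt_or_ge v 159349 with h21 | h21
  · exact Cfsg.Agent.Lib.Helper16.RuM.E2U21.all v (by omega) (by omega)
  exact Cfsg.Agent.Lib.Helper16.RuM.E2U22.all v (by omega) (by omega)

/-- the target words lie in the subgroup -/
theorem hmem : ∀ L ∈ Cfsg.Agent.Lib.Helper16.RuM.E2W.targets,
    PresentedGroup.mk rels (FreeGroup.mk L) ∈ (Subgroup.closure S).map (PresentedGroup.mk rels) :=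
  fun L hL => Cfsg.Agent.Lib.Helper16.RuM.Target.mem_of_walk link hchk L (Cfsg.Agent.Lib.Helper16.RuM.E2W.walk_all L hL)

end Cfsg.Agent.Lib.Helper16.RuM.E2MainT
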