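import Cfsg.Agent.Lib.Helper16.RuM.E2Data
import Cfsg.Agent.Lib.Helper16.RuM.E2U8
set_option autoImplicit false
set_option maxRecDepth 100000
set_option maxHeartbeats 0

namespace Cfsg.Agent.Lib.Helper16.RuM.E2U18
open Cfsg.Agent.Lib.Helper28.TC2Upper Cfsg.Agent.Lib.Helper16.RuM.E2Data

theorem chk90 : data.checkRange 125835 1658 = true := by decide +kernel
theorem chk91 : data.checkRange 127493 1787 = true := by decide +kernel
theorem chk92 : data.checkRange 129280 1583 = true := by decide +kernel
theorem chk93 : data.checkRange 130863 1397 = true := by decide +kernel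
theorem chk94 : data.checkRange 132260 1508 = true := by decide +kernel

theorem all : ∀ v, 125835 ≤ v → v < 133768 → data.checkNode v = true := by
  intro v h1 h2
  rcases Nat.lt_or_ge v 127493 with h | h
  · exact (data.checkRange_iff 125835 1658).mp chk90 v (by omega) (by omega)
  rcases Nat.lt_or_ge v 129280 with h | h
  · exact (data.checkRange_iff 127493 1787).mp chk91 v (by omega) (by omega)
  rcases Nat.lt_or_ge v 130863 with h | h
  · exact (data.checkRange_iff 129280 1583).mp chk92 v (by omega) (by omega)
  rcases Nat.lt_or_ge v 132260 with h | h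
  · exact (data.checkRange_iff 130863 1397).mp chk93 v (by omega) (by omega)
  exact (data.checkRange_iff 132260 1508).mp chk94 v (by omega) (by omega)

end Cfsg.Agent.Lib.Helper16.RuM.E2U18
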