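import Cfsg.Agent.Lib.Helper28.TC2Upper
import Cfsg.Agent.Lib.Helper16.RuM.E3DataC0
import Cfsg.Agent.Lib.Helper16.RuM.E3DataC1
import Cfsg.Agent.Lib.Helper16.RuM.E3DataC2
import Cfsg.Agent.Lib.Helper16.RuM.E3DataC3
import Cfsg.Agent.Lib.Helper16.RuM.E3DataC4
import Cfsg.Agent.Lib.Helper16.RuM.E3DataC5
import Cfsg.Agent.Lib.Helper16.RuM.E3DataC6
import Cfsg.Agent.Lib.Helper16.RuM.E3DataC7
import Cfsg.Agent.Lib.Helper16.RuM.E3DataC8
import Cfsg.Agent.Lib.Helper16.RuM.E3DataC9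
import Cfsg.Agent.Lib.Helper16.RuM.E3DataC10
import Cfsg.Agent.Lib.Helper16.RuM.E3DataC11
import Cfsg.Agent.Lib.Helper16.RuM.E3DataC12
import Cfsg.Agent.Lib.Helper16.RuM.E3DataC13
import Cfsg.Agent.Lib.Helper16.RuM.E3DataC14
import Cfsg.Agent.Lib.Helper16.RuM.E3DataC15
import Cfsg.Agent.Lib.Helper16.RuM.E3DataC16
import Cfsg.Agent.Lib.Helper16.RuM.E3DataC17
import Cfsg.Agent.Lib.Helper16.RuM.E3DataC18
import Cfsg.Agent.Lib.Helper16.RuM.E3DataC19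
import Cfsg.Agent.Lib.Helper16.RuM.E3DataC20
import Cfsg.Agent.Lib.Helper16.RuM.E3DataC21
import Cfsg.Agent.Lib.Helper16.RuM.E3DataC22
import Cfsg.Agent.Lib.Helper16.RuM.E3DataC23
import Cfsg.Agent.Lib.Helper16.RuM.E3DataC24
import Cfsg.Agent.Lib.Helper16.RuM.E3DataC25
import Cfsg.Agent.Lib.Helper16.RuM.E3DataC26
import Cfsg.Agent.Lib.Helper16.RuM.E3DataC27
import Cfsg.Agent.Lib.Helper16.RuM.E3DataC28
import Cfsg.Agent.Lib.Helper16.RuM.E3DataC29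
import Cfsg.Agent.Lib.Helper16.RuM.E3DataC30
import Cfsg.Agent.Lib.Helper16.RuM.E3DataC31
import Cfsg.Agent.Lib.Helper16.RuM.E3DataC32
import Cfsg.Agent.Lib.Helper16.RuM.E3DataC33
import Cfsg.Agent.Lib.Helper16.RuM.E3DataC34
import Cfsg.Agent.Lib.Helper16.RuM.E3DataC35
import Cfsg.Agent.Lib.Helper16.RuM.E3DataC36
import Cfsg.Agent.Lib.Helper16.RuM.E3DataC37
import Cfsg.Agent.Lib.Helper16.RuM.E3DataC38
import Cfsg.Agent.Lib.Helper16.RuM.E3DataC39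
import Cfsg.Agent.Lib.Helper16.RuM.E3DataC40
import Cfsg.Agent.Lib.Helper16.RuM.E3DataC41
import Cfsg.Agent.Lib.Helper16.RuM.E3DataC42
import Cfsg.Agent.Lib.Helper16.RuM.E3DataC43
import Cfsg.Agent.Lib.Helper16.RuM.E3DataC44
import Cfsg.Agent.Lib.Helper16.RuM.E3DataC45
import Cfsg.Agent.Lib.Helper16.RuM.E3DataC46
import Cfsg.Agent.Lib.Helper16.RuM.E3DataC47
import Cfsg.Agent.Lib.Helper16.RuM.E3DataC48
set_option autoImplicit false
set_option maxRecDepth 100000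

namespace Cfsg.Agent.Lib.Helper16.RuM.E3Data
open Cfsg.Agent.Lib.Helper28.TC2Upper

/-- relators -/
def relT : BT (ℕ × List ℕ × List ℕ) := (BT.node 134 (BT.node 67 (BT.node 33 (BT.node 16 (BT.node 8 (BT.node 4 (BT.node 2 (BT.node 1 (BT.node 0 (BT.leaf (6, [1, 3, 3, 0, 2, 2], [3, 3, 1, 2, 2, 0])) (BT.leaf (6, [3, 3, 3, 2, 2, 2], [3, 3, 3, 2, 2, 2]))) (BT.leaf (6, [5, 3, 3, 4, 2, 2], [3, 3, 5, 2, 2, 4]))) (BT.node 3 (BT.leaf (6, [7, 3, 3, 6, 2, 2], [3, 3, 7, 2, 2, 6])) (BT.leaf (6, [9, 3, 3, 8, 2, 2], [3, 3, 9, 2, 2, 8])))) (BT.node 6 (BT.node 5 (BT.leaf (6, [11, 3, 3, 10, 2, 2], [3, 3, 11, 2, 2, 10])) (BT.leaf (18, [1, 3, 11, 3, 11, 3, 11, 3, 11, 0, 10, 2, 10, 2, 10, 2, 10, 2], [3, 11, 3, 11, 3, 11, 3, 11, 1, 10, 2, 10, 2, 10, 2, 10, 2, 0]))) (BT.node 7 (BT.leaf (18, [3, 3, 11, 3, 11, 3, 11, 3, 11, 2, 10, 2, 10, 2, 10, 2, 10, 2], [3, 11, 3, 11, 3, 11, 3, 11, 3, 10,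 2, 10, 2, 10, 2, 10, 2, 2])) (BT.leaf (18, [5, 3, 11, 3, 11, 3, 11, 3, 11, 4, 10, 2, 10, 2, 10, 2, 10, 2], [3, 11, 3, 11, 3, 11, 3, 11, 5, 10, 2, 10, 2, 10, 2, 10, 2, 4]))))) (BT.node 12 (BT.node 10 (BT.node 9 (BT.leaf (18, [7, 3, 11, 3, 11, 3, 11, 3, 11, 6, 10, 2, 10, 2, 10, 2, 10, 2], [3, 11, 3, 11, 3, 11, 3, 11, 7, 10, 2, 10, 2, 10, 2, 10, 2, 6])) (BT.leaf (18, [9, 3, 11, 3, 11, 3, 11, 3, 11, 8, 10, 2, 10, 2, 10, 2, 10, 2], [3, 11, 3, 11, 3, 11, 3, 11, 9, 10, 2, 10, 2, 10, 2, 10, 2, 8]))) (BT.node 11 (BT.leaf (18, [11, 3, 11, 3, 11, 3, 11, 3, 11, 10, 10, 2, 10, 2, 10, 2, 10, 2], [3, 11, 3, 11, 3, 11, 3, 11, 11, 10, 2, 10, 2, 10, 2, 10, 2, 10])) (BT.leaf (26, [1, 3, 11, 11, 3, 11, 11, 3, 11, 11, 3, 11, 11, 0, 10, 10, 2, 10, 10, 2, 10, 10, 2, 10, 10, 2], [3, 11, 11, 3, 11, 11, 3, 11, 11, 3, 11, 11, 1, 10, 10, 2, 10, 10, 2, 10, 10, 2, 10, 10, 2, 0])))) (BT.node 14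 (BT.node 13 (BT.leaf (26, [3, 3, 11, 11, 3, 11, 11, 3, 11, 11, 3, 11, 11, 2, 10, 10, 2, 10, 10, 2, 10, 10, 2, 10, 10, 2], [3, 11, 11, 3, 11, 11, 3, 11, 11, 3, 11, 11, 3, 10, 10, 2, 10, 10, 2, 10, 10, 2, 10, 10, 2, 2])) (BT.leaf (26, [5, 3, 11, 11, 3, 11, 11, 3, 11, 11, 3, 11, 11, 4, 10, 10, 2, 10, 10, 2, 10, 10, 2, 10, 10, 2], [3, 11, 11, 3, 11, 11, 3, 11, 11, 3, 11, 11, 5, 10, 10, 2, 10, 10, 2, 10, 10, 2, 10, 10, 2, 4]))) (BT.node 15 (BT.leaf (26, [7, 3, 11, 11, 3, 11, 11, 3, 11, 11, 3, 11, 11, 6, 10, 10, 2, 10, 10, 2, 10, 10, 2, 10, 10, 2], [3, 11, 11, 3, 11, 11, 3, 11, 11, 3, 11, 11, 7, 10, 10, 2, 10, 10, 2, 10, 10, 2, 10, 10, 2, 6])) (BT.leaf (26, [9, 3, 11, 11, 3, 11, 11, 3, 11, 11, 3, 11, 11, 8, 10, 10, 2, 10, 10, 2, 10, 10, 2, 10, 10, 2], [3, 11, 11, 3, 11, 11, 3, 11, 11, 3, 11, 11, 9, 10, 10, 2, 10, 10, 2, 10, 10, 2, 10, 10, 2, 8])))))) (BT.node 25 (BT.node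 21 (BT.node 19 (BT.node 18 (BT.node 17 (BT.leaf (26, [11, 3, 11, 11, 3, 11, 11, 3, 11, 11, 3, 11, 11, 10, 10, 10, 2, 10, 10, 2, 10, 10, 2, 10, 10, 2], [3, 11, 11, 3, 11, 11, 3, 11, 11, 3, 11, 11, 11, 10, 10, 2, 10, 10, 2, 10, 10, 2, 10, 10, 2, 10])) (BT.leaf (28, [1, 11, 11, 11, 11, 11, 11, 11, 11, 11, 11, 11, 11, 11, 0, 10, 10, 10, 10, 10, 10, 10, 10, 10, 10, 10, 10, 10], [11, 11, 11, 11, 11, 11, 11, 11, 11, 11, 11, 11, 11, 1, 10, 10, 10, 10, 10, 10, 10, 10, 10, 10, 10, 10, 10, 0]))) (BT.leaf (28, [3, 11, 11, 11, 11, 11, 11, 11, 11, 11, 11, 11, 11, 11, 2, 10, 10, 10, 10, 10, 10, 10, 10, 10, 10, 10, 10, 10], [11, 11, 11, 11, 11, 11, 11, 11, 11, 11, 11, 11, 11, 3, 10, 10, 10, 10, 10, 10, 10, 10, 10, 10, 10, 10, 10, 2]))) (BT.node 20 (BT.leaf (28, [5, 11, 11, 11, 11, 11, 11, 11, 11, 11, 11, 11, 11, 11, 4, 10, 10, 10, 10, 10, 10, 10, 10, 10, 10, 10, 10, 10], [11, 11,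 11, 11, 11, 11, 11, 11, 11, 11, 11, 11, 11, 5, 10, 10, 10, 10, 10, 10, 10, 10, 10, 10, 10, 10, 10, 4])) (BT.leaf (28, [7, 11, 11, 11, 11, 11, 11, 11, 11, 11, 11, 11, 11, 11, 6, 10, 10, 10, 10, 10, 10, 10, 10, 10, 10, 10, 10, 10], [11, 11, 11, 11, 11, 11, 11, 11, 11, 11, 11, 11, 11, 7, 10, 10, 10, 10, 10, 10, 10, 10, 10, 10, 10, 10, 10, 6])))) (BT.node 23 (BT.node 22 (BT.leaf (28, [9, 11, 11, 11, 11, 11, 11, 11, 11, 11, 11, 11, 11, 11, 8, 10, 10, 10, 10, 10, 10, 10, 10, 10, 10, 10, 10, 10], [11, 11, 11, 11, 11, 11, 11, 11, 11, 11, 11, 11, 11, 9, 10, 10, 10, 10, 10, 10, 10, 10, 10, 10, 10, 10, 10, 8])) (BT.leaf (28, [11, 11, 11, 11, 11, 11, 11, 11, 11, 11, 11, 11, 11, 11, 10, 10, 10, 10, 10, 10, 10, 10, 10, 10, 10, 10, 10, 10], [11, 11, 11, 11, 11, 11, 11, 11, 11, 11, 11, 11, 11, 11, 10, 10, 10, 10, 10, 10, 10, 10, 10, 10, 10, 10, 10, 10]))) (BT.node 24 (BT.leaf (32,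 [1, 3, 11, 11, 11, 11, 3, 11, 11, 11, 11, 3, 11, 11, 11, 11, 0, 10, 10, 10, 10, 2, 10, 10, 10, 10, 2, 10, 10, 10, 10, 2], [3, 11, 11, 11, 11, 3, 11, 11, 11, 11, 3, 11, 11, 11, 11, 1, 10, 10, 10, 10, 2, 10, 10, 10, 10, 2, 10, 10, 10, 10, 2, 0])) (BT.leaf (32, [3, 3, 11, 11, 11, 11, 3, 11, 11, 11, 11, 3, 11, 11, 11, 11, 2, 10, 10, 10, 10, 2, 10, 10, 10, 10, 2, 10, 10, 10, 10, 2], [3, 11, 11, 11, 11, 3, 11, 11, 11, 11, 3, 11, 11, 11, 11, 3, 10, 10, 10, 10, 2, 10, 10, 10, 10, 2, 10, 10, 10, 10, 2, 2]))))) (BT.node 29 (BT.node 27 (BT.node 26 (BT.leaf (32, [5, 3, 11, 11, 11, 11, 3, 11, 11, 11, 11, 3, 11, 11, 11, 11, 4, 10, 10, 10, 10, 2, 10, 10, 10, 10, 2, 10, 10, 10, 10, 2], [3, 11, 11, 11, 11, 3, 11, 11, 11, 11, 3, 11, 11, 11, 11, 5, 10, 10, 10, 10, 2, 10, 10, 10, 10, 2, 10, 10, 10, 10, 2, 4])) (BT.leaf (32, [7, 3, 11, 11, 11, 11, 3, 11, 11, 11, 11, 3, 11, 11, 11, 11,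 6, 10, 10, 10, 10, 2, 10, 10, 10, 10, 2, 10, 10, 10, 10, 2], [3, 11, 11, 11, 11, 3, 11, 11, 11, 11, 3, 11, 11, 11, 11, 7, 10, 10, 10, 10, 2, 10, 10, 10, 10, 2, 10, 10, 10, 10, 2, 6]))) (BT.node 28 (BT.leaf (32, [9, 3, 11, 11, 11, 11, 3, 11, 11, 11, 11, 3, 11, 11, 11, 11, 8, 10, 10, 10, 10, 2, 10, 10, 10, 10, 2, 10, 10, 10, 10, 2], [3, 11, 11, 11, 11, 3, 11, 11, 11, 11, 3, 11, 11, 11, 11, 9, 10, 10, 10, 10, 2, 10, 10, 10, 10, 2, 10, 10, 10, 10, 2, 8])) (BT.leaf (32, [11, 3, 11, 11, 11, 11, 3, 11, 11, 11, 11, 3, 11, 11, 11, 11, 10, 10, 10, 10, 10, 2, 10, 10, 10, 10, 2, 10, 10, 10, 10, 2], [3, 11, 11, 11, 11, 3, 11, 11, 11, 11, 3, 11, 11, 11, 11, 11, 10, 10, 10, 10, 2, 10, 10, 10, 10, 2, 10, 10, 10, 10, 2, 10])))) (BT.node 31 (BT.node 30 (BT.leaf (14, [1, 10, 1, 5, 1, 3, 5, 0, 4, 2, 0, 4, 0, 11], [10, 1, 5, 1, 3, 5, 1, 4, 2, 0, 4, 0, 11, 0])) (BT.leaf (14, [3, 10, 1,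 5, 1, 3, 5, 2, 4, 2, 0, 4, 0, 11], [10, 1, 5, 1, 3, 5, 3, 4, 2, 0, 4, 0, 11, 2]))) (BT.node 32 (BT.leaf (14, [5, 10, 1, 5, 1, 3, 5, 4, 4, 2, 0, 4, 0, 11], [10, 1, 5, 1, 3, 5, 5, 4, 2, 0, 4, 0, 11, 4])) (BT.leaf (14, [7, 10, 1, 5, 1, 3, 5, 6, 4, 2, 0, 4, 0, 11], [10, 1, 5, 1, 3, 5, 7, 4, 2, 0, 4, 0, 11, 6]))))))) (BT.node 50 (BT.node 42 (BT.node 38 (BT.node 36 (BT.node 35 (BT.node 34 (BT.leaf (14, [9, 10, 1, 5, 1, 3, 5, 8, 4, 2, 0, 4, 0, 11], [10, 1, 5, 1, 3, 5, 9, 4, 2, 0, 4, 0, 11, 8])) (BT.leaf (14, [11, 10, 1, 5, 1, 3, 5, 10, 4, 2, 0, 4, 0, 11], [10, 1, 5, 1, 3, 5, 11, 4, 2, 0, 4, 0, 11, 10]))) (BT.leaf (6, [1, 1, 1, 0, 0, 0], [1, 1, 1, 0, 0, 0]))) (BT.node 37 (BT.leaf (6, [3, 1, 1, 2, 0, 0], [1, 1, 3, 0, 0, 2])) (BT.leaf (6, [5, 1, 1, 4, 0, 0], [1, 1, 5, 0, 0, 4])))) (BT.node 40 (BT.node 39 (BT.leaf (6, [7, 1, 1, 6, 0, 0], [1, 1, 7, 0, 0, 6])) (BT.leaf (6, [9,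 1, 1, 8, 0, 0], [1, 1, 9, 0, 0, 8]))) (BT.node 41 (BT.leaf (6, [11, 1, 1, 10, 0, 0], [1, 1, 11, 0, 0, 10])) (BT.leaf (6, [1, 5, 5, 0, 4, 4], [5, 5, 1, 4, 4, 0]))))) (BT.node 46 (BT.node 44 (BT.node 43 (BT.leaf (6, [3, 5, 5, 2, 4, 4], [5, 5, 3, 4, 4, 2])) (BT.leaf (6, [5, 5, 5, 4, 4, 4], [5, 5, 5, 4, 4, 4]))) (BT.node 45 (BT.leaf (6, [7, 5, 5, 6, 4, 4], [5, 5, 7, 4, 4, 6])) (BT.leaf (6, [9, 5, 5, 8, 4, 4], [5, 5, 9, 4, 4, 8])))) (BT.node 48 (BT.node 47 (BT.leaf (6, [11, 5, 5, 10, 4, 4], [5, 5, 11, 4, 4, 10])) (BT.leaf (6, [1, 7, 7, 0, 6, 6], [7, 7, 1, 6, 6, 0]))) (BT.node 49 (BT.leaf (6, [3, 7, 7, 2, 6, 6], [7, 7, 3, 6, 6, 2])) (BT.leaf (6, [5, 7, 7, 4, 6, 6], [7, 7, 5, 6, 6, 4])))))) (BT.node 59 (BT.node 55 (BT.node 53 (BT.node 52 (BT.node 51 (BT.leaf (6, [7, 7, 7, 6, 6, 6], [7, 7, 7, 6, 6, 6])) (BT.leaf (6, [9, 7, 7, 8, 6, 6], [7, 7, 9, 6, 6, 8]))) (BT.leaf (6, [11,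 7, 7, 10, 6, 6], [7, 7, 11, 6, 6, 10]))) (BT.node 54 (BT.leaf (10, [1, 1, 3, 1, 3, 0, 2, 0, 2, 0], [1, 3, 1, 3, 1, 2, 0, 2, 0, 0])) (BT.leaf (10, [3, 1, 3, 1, 3, 2, 2, 0, 2, 0], [1, 3, 1, 3, 3, 2, 0, 2, 0, 2])))) (BT.node 57 (BT.node 56 (BT.leaf (10, [5, 1, 3, 1, 3, 4, 2, 0, 2, 0], [1, 3, 1, 3, 5, 2, 0, 2, 0, 4])) (BT.leaf (10, [7, 1, 3, 1, 3, 6, 2, 0, 2, 0], [1, 3, 1, 3, 7, 2, 0, 2, 0, 6]))) (BT.node 58 (BT.leaf (10, [9, 1, 3, 1, 3, 8, 2, 0, 2, 0], [1, 3, 1, 3, 9, 2, 0, 2, 0, 8])) (BT.leaf (10, [11, 1, 3, 1, 3, 10, 2, 0, 2, 0], [1, 3, 1, 3, 11, 2, 0, 2, 0, 10]))))) (BT.node 63 (BT.node 61 (BT.node 60 (BT.leaf (50, [1, 1, 5, 1, 5, 1, 5, 1, 5, 1, 5, 1, 5, 1, 5, 1, 5, 1, 5, 1, 5, 1, 5, 1, 5, 0, 4, 0, 4, 0, 4, 0, 4, 0, 4, 0, 4, 0, 4, 0, 4, 0, 4, 0, 4, 0, 4, 0, 4, 0], [1, 5, 1, 5, 1, 5, 1, 5, 1, 5, 1, 5, 1, 5, 1, 5, 1, 5, 1, 5, 1, 5, 1, 5, 1, 4, 0, 4, 0, 4, 0, 4, 0, 4,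 0, 4, 0, 4, 0, 4, 0, 4, 0, 4, 0, 4, 0, 4, 0, 0])) (BT.leaf (50, [3, 1, 5, 1, 5, 1, 5, 1, 5, 1, 5, 1, 5, 1, 5, 1, 5, 1, 5, 1, 5, 1, 5, 1, 5, 2, 4, 0, 4, 0, 4, 0, 4, 0, 4, 0, 4, 0, 4, 0, 4, 0, 4, 0, 4, 0, 4, 0, 4, 0], [1, 5, 1, 5, 1, 5, 1, 5, 1, 5, 1, 5, 1, 5, 1, 5, 1, 5, 1, 5, 1, 5, 1, 5, 3, 4, 0, 4, 0, 4, 0, 4, 0, 4, 0, 4, 0, 4, 0, 4, 0, 4, 0, 4, 0, 4, 0, 4, 0, 2]))) (BT.node 62 (BT.leaf (50, [5, 1, 5, 1, 5, 1, 5, 1, 5, 1, 5, 1, 5, 1, 5, 1, 5, 1, 5, 1, 5, 1, 5, 1, 5, 4, 4, 0, 4, 0, 4, 0, 4, 0, 4, 0, 4, 0, 4, 0, 4, 0, 4, 0, 4, 0, 4, 0, 4, 0], [1, 5, 1, 5, 1, 5, 1, 5, 1, 5, 1, 5, 1, 5, 1, 5, 1, 5, 1, 5, 1, 5, 1, 5, 5, 4, 0, 4, 0, 4, 0, 4, 0, 4, 0, 4, 0, 4, 0, 4, 0, 4, 0, 4, 0, 4, 0, 4, 0, 4])) (BT.leaf (50, [7, 1, 5, 1, 5, 1, 5, 1, 5, 1, 5, 1, 5, 1, 5, 1, 5, 1, 5, 1, 5, 1, 5, 1, 5, 6, 4, 0, 4, 0, 4, 0, 4, 0, 4, 0, 4, 0, 4, 0, 4, 0, 4, 0, 4, 0, 4, 0, 4, 0], [1, 5, 1,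 5, 1, 5, 1, 5, 1, 5, 1, 5, 1, 5, 1, 5, 1, 5, 1, 5, 1, 5, 1, 5, 7, 4, 0, 4, 0, 4, 0, 4, 0, 4, 0, 4, 0, 4, 0, 4, 0, 4, 0, 4, 0, 4, 0, 4, 0, 6])))) (BT.node 65 (BT.node 64 (BT.leaf (50, [9, 1, 5, 1, 5, 1, 5, 1, 5, 1, 5, 1, 5, 1, 5, 1, 5, 1, 5, 1, 5, 1, 5, 1, 5, 8, 4, 0, 4, 0, 4, 0, 4, 0, 4, 0, 4, 0, 4, 0, 4, 0, 4, 0, 4, 0, 4, 0, 4, 0], [1, 5, 1, 5, 1, 5, 1, 5, 1, 5, 1, 5, 1, 5, 1, 5, 1, 5, 1, 5, 1, 5, 1, 5, 9, 4, 0, 4, 0, 4, 0, 4, 0, 4, 0, 4, 0, 4, 0, 4, 0, 4, 0, 4, 0, 4, 0, 4, 0, 8])) (BT.leaf (50, [11, 1, 5, 1, 5, 1, 5, 1, 5, 1, 5, 1, 5, 1, 5, 1, 5, 1, 5, 1, 5, 1, 5, 1, 5, 10, 4, 0, 4, 0, 4, 0, 4, 0, 4, 0, 4, 0, 4, 0, 4, 0, 4, 0, 4, 0, 4, 0, 4, 0], [1, 5, 1, 5, 1, 5, 1, 5, 1, 5, 1, 5, 1, 5, 1, 5, 1, 5, 1, 5, 1, 5, 1, 5, 11, 4, 0, 4, 0, 4, 0, 4, 0, 4, 0, 4, 0, 4, 0, 4, 0, 4, 0, 4, 0, 4, 0, 4, 0, 10]))) (BT.node 66 (BT.leaf (10, [1, 1, 7, 1, 7, 0, 6, 0, 6, 0], [1, 7,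 1, 7, 1, 6, 0, 6, 0, 0])) (BT.leaf (10, [3, 1, 7, 1, 7, 2, 6, 0, 6, 0], [1, 7, 1, 7, 3, 6, 0, 6, 0, 2])))))))) (BT.node 101 (BT.node 84 (BT.node 76 (BT.node 72 (BT.node 70 (BT.node 69 (BT.node 68 (BT.leaf (10, [5, 1, 7, 1, 7, 4, 6, 0, 6, 0], [1, 7, 1, 7, 5, 6, 0, 6, 0, 4])) (BT.leaf (10, [7, 1, 7, 1, 7, 6, 6, 0, 6, 0], [1, 7, 1, 7, 7, 6, 0, 6, 0, 6]))) (BT.leaf (10, [9, 1, 7, 1, 7, 8, 6, 0, 6, 0], [1, 7, 1, 7, 9, 6, 0, 6, 0, 8]))) (BT.node 71 (BT.leaf (10, [11, 1, 7, 1, 7, 10, 6, 0, 6, 0], [1, 7, 1, 7, 11, 6, 0, 6, 0, 10])) (BT.leaf (18, [1, 3, 5, 3, 5, 3, 5, 3, 5, 0, 4, 2, 4, 2, 4, 2, 4, 2], [3, 5, 3, 5, 3, 5, 3, 5, 1, 4, 2, 4, 2, 4, 2, 4, 2, 0])))) (BT.node 74 (BT.node 73 (BT.leaf (18, [3, 3, 5, 3, 5, 3, 5, 3, 5, 2, 4, 2, 4, 2, 4, 2, 4, 2], [3, 5, 3, 5, 3, 5, 3, 5, 3, 4, 2, 4, 2, 4, 2, 4, 2, 2])) (BT.leaf (18, [5, 3, 5, 3, 5, 3, 5, 3, 5, 4, 4, 2, 4, 2, 4, 2, 4, 2],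 [3, 5, 3, 5, 3, 5, 3, 5, 5, 4, 2, 4, 2, 4, 2, 4, 2, 4]))) (BT.node 75 (BT.leaf (18, [7, 3, 5, 3, 5, 3, 5, 3, 5, 6, 4, 2, 4, 2, 4, 2, 4, 2], [3, 5, 3, 5, 3, 5, 3, 5, 7, 4, 2, 4, 2, 4, 2, 4, 2, 6])) (BT.leaf (18, [9, 3, 5, 3, 5, 3, 5, 3, 5, 8, 4, 2, 4, 2, 4, 2, 4, 2], [3, 5, 3, 5, 3, 5, 3, 5, 9, 4, 2, 4, 2, 4, 2, 4, 2, 8]))))) (BT.node 80 (BT.node 78 (BT.node 77 (BT.leaf (18, [11, 3, 5, 3, 5, 3, 5, 3, 5, 10, 4, 2, 4, 2, 4, 2, 4, 2], [3, 5, 3, 5, 3, 5, 3, 5, 11, 4, 2, 4, 2, 4, 2, 4, 2, 10])) (BT.leaf (10, [1, 3, 7, 3, 7, 0, 6, 2, 6, 2], [3, 7, 3, 7, 1, 6, 2, 6, 2, 0]))) (BT.node 79 (BT.leaf (10, [3, 3, 7, 3, 7, 2, 6, 2, 6, 2], [3, 7, 3, 7, 3, 6, 2, 6, 2, 2])) (BT.leaf (10, [5, 3, 7, 3, 7, 4, 6, 2, 6, 2], [3, 7, 3, 7, 5, 6, 2, 6, 2, 4])))) (BT.node 82 (BT.node 81 (BT.leaf (10, [7, 3, 7, 3, 7, 6, 6, 2, 6, 2], [3, 7, 3, 7, 7, 6, 2, 6, 2, 6])) (BT.leaf (10, [9, 3, 7, 3, 7,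 8, 6, 2, 6, 2], [3, 7, 3, 7, 9, 6, 2, 6, 2, 8]))) (BT.node 83 (BT.leaf (10, [11, 3, 7, 3, 7, 10, 6, 2, 6, 2], [3, 7, 3, 7, 11, 6, 2, 6, 2, 10])) (BT.leaf (18, [1, 5, 7, 5, 7, 5, 7, 5, 7, 0, 6, 4, 6, 4, 6, 4, 6, 4], [5, 7, 5, 7, 5, 7, 5, 7, 1, 6, 4, 6, 4, 6, 4, 6, 4, 0])))))) (BT.node 93 (BT.node 89 (BT.node 87 (BT.node 86 (BT.node 85 (BT.leaf (18, [3, 5, 7, 5, 7, 5, 7, 5, 7, 2, 6, 4, 6, 4, 6, 4, 6, 4], [5, 7, 5, 7, 5, 7, 5, 7, 3, 6, 4, 6, 4, 6, 4, 6, 4, 2])) (BT.leaf (18, [5, 5, 7, 5, 7, 5, 7, 5, 7, 4, 6, 4, 6, 4, 6, 4, 6, 4], [5, 7, 5, 7, 5, 7, 5, 7, 5, 6, 4, 6, 4, 6, 4, 6, 4, 4]))) (BT.leaf (18, [7, 5, 7, 5, 7, 5, 7, 5, 7, 6, 6, 4, 6, 4, 6, 4, 6, 4], [5, 7, 5, 7, 5, 7, 5, 7, 7, 6, 4, 6, 4, 6, 4, 6, 4, 6]))) (BT.node 88 (BT.leaf (18, [9, 5, 7, 5, 7, 5, 7, 5, 7, 8, 6, 4, 6, 4, 6, 4, 6, 4], [5, 7, 5, 7, 5, 7, 5, 7, 9, 6, 4, 6, 4, 6, 4, 6, 4, 8])) (BT.leaf (18, [11,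 5, 7, 5, 7, 5, 7, 5, 7, 10, 6, 4, 6, 4, 6, 4, 6, 4], [5, 7, 5, 7, 5, 7, 5, 7, 11, 6, 4, 6, 4, 6, 4, 6, 4, 10])))) (BT.node 91 (BT.node 90 (BT.leaf (62, [1, 1, 5, 1, 5, 1, 5, 1, 5, 3, 5, 1, 5, 1, 5, 1, 5, 1, 5, 3, 5, 1, 5, 1, 5, 1, 5, 1, 5, 3, 5, 0, 4, 2, 4, 0, 4, 0, 4, 0, 4, 0, 4, 2, 4, 0, 4, 0, 4, 0, 4, 0, 4, 2, 4, 0, 4, 0, 4, 0, 4, 0], [1, 5, 1, 5, 1, 5, 1, 5, 3, 5, 1, 5, 1, 5, 1, 5, 1, 5, 3, 5, 1, 5, 1, 5, 1, 5, 1, 5, 3, 5, 1, 4, 2, 4, 0, 4, 0, 4, 0, 4, 0, 4, 2, 4, 0, 4, 0, 4, 0, 4, 0, 4, 2, 4, 0, 4, 0, 4, 0, 4, 0, 0])) (BT.leaf (62, [3, 1, 5, 1, 5, 1, 5, 1, 5, 3, 5, 1, 5, 1, 5, 1, 5, 1, 5, 3, 5, 1, 5, 1, 5, 1, 5, 1, 5, 3, 5, 2, 4, 2, 4, 0, 4, 0, 4, 0, 4, 0, 4, 2, 4, 0, 4, 0, 4, 0, 4, 0, 4, 2, 4, 0, 4, 0, 4, 0, 4, 0], [1, 5, 1, 5, 1, 5, 1, 5, 3, 5, 1, 5, 1, 5, 1, 5, 1, 5, 3, 5, 1, 5, 1, 5, 1, 5, 1, 5, 3, 5, 3, 4, 2, 4, 0, 4, 0, 4, 0, 4, 0, 4, 2, 4, 0, 4, 0, 4, 0,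 4, 0, 4, 2, 4, 0, 4, 0, 4, 0, 4, 0, 2]))) (BT.node 92 (BT.leaf (62, [5, 1, 5, 1, 5, 1, 5, 1, 5, 3, 5, 1, 5, 1, 5, 1, 5, 1, 5, 3, 5, 1, 5, 1, 5, 1, 5, 1, 5, 3, 5, 4, 4, 2, 4, 0, 4, 0, 4, 0, 4, 0, 4, 2, 4, 0, 4, 0, 4, 0, 4, 0, 4, 2, 4, 0, 4, 0, 4, 0, 4, 0], [1, 5, 1, 5, 1, 5, 1, 5, 3, 5, 1, 5, 1, 5, 1, 5, 1, 5, 3, 5, 1, 5, 1, 5, 1, 5, 1, 5, 3, 5, 5, 4, 2, 4, 0, 4, 0, 4, 0, 4, 0, 4, 2, 4, 0, 4, 0, 4, 0, 4, 0, 4, 2, 4, 0, 4, 0, 4, 0, 4, 0, 4])) (BT.leaf (62, [7, 1, 5, 1, 5, 1, 5, 1, 5, 3, 5, 1, 5, 1, 5, 1, 5, 1, 5, 3, 5, 1, 5, 1, 5, 1, 5, 1, 5, 3, 5, 6, 4, 2, 4, 0, 4, 0, 4, 0, 4, 0, 4, 2, 4, 0, 4, 0, 4, 0, 4, 0, 4, 2, 4, 0, 4, 0, 4, 0, 4, 0], [1, 5, 1, 5, 1, 5, 1, 5, 3, 5, 1, 5, 1, 5, 1, 5, 1, 5, 3, 5, 1, 5, 1, 5, 1, 5, 1, 5, 3, 5, 7, 4, 2, 4, 0, 4, 0, 4, 0, 4, 0, 4, 2, 4, 0, 4, 0, 4, 0, 4, 0, 4, 2, 4, 0, 4, 0, 4, 0, 4, 0, 6]))))) (BT.node 97 (BT.node 95 (BT.node 94 (BT.leaf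 (62, [9, 1, 5, 1, 5, 1, 5, 1, 5, 3, 5, 1, 5, 1, 5, 1, 5, 1, 5, 3, 5, 1, 5, 1, 5, 1, 5, 1, 5, 3, 5, 8, 4, 2, 4, 0, 4, 0, 4, 0, 4, 0, 4, 2, 4, 0, 4, 0, 4, 0, 4, 0, 4, 2, 4, 0, 4, 0, 4, 0, 4, 0], [1, 5, 1, 5, 1, 5, 1, 5, 3, 5, 1, 5, 1, 5, 1, 5, 1, 5, 3, 5, 1, 5, 1, 5, 1, 5, 1, 5, 3, 5, 9, 4, 2, 4, 0, 4, 0, 4, 0, 4, 0, 4, 2, 4, 0, 4, 0, 4, 0, 4, 0, 4, 2, 4, 0, 4, 0, 4, 0, 4, 0, 8])) (BT.leaf (62, [11, 1, 5, 1, 5, 1, 5, 1, 5, 3, 5, 1, 5, 1, 5, 1, 5, 1, 5, 3, 5, 1, 5, 1, 5, 1, 5, 1, 5, 3, 5, 10, 4, 2, 4, 0, 4, 0, 4, 0, 4, 0, 4, 2, 4, 0, 4, 0, 4, 0, 4, 0, 4, 2, 4, 0, 4, 0, 4, 0, 4, 0], [1, 5, 1, 5, 1, 5, 1, 5, 3, 5, 1, 5, 1, 5, 1, 5, 1, 5, 3, 5, 1, 5, 1, 5, 1, 5, 1, 5, 3, 5, 11, 4, 2, 4, 0, 4, 0, 4, 0, 4, 0, 4, 2, 4, 0, 4, 0, 4, 0, 4, 0, 4, 2, 4, 0, 4, 0, 4, 0, 4, 0, 10]))) (BT.node 96 (BT.leaf (62, [1, 3, 5, 1, 5, 3, 5, 1, 5, 1, 3, 5, 3, 5, 1, 5, 1, 5, 3, 5, 3, 1, 5, 1,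 5, 3, 5, 1, 5, 3, 5, 0, 4, 2, 4, 0, 4, 2, 4, 0, 4, 0, 2, 4, 2, 4, 0, 4, 0, 4, 2, 4, 2, 0, 4, 0, 4, 2, 4, 0, 4, 2], [3, 5, 1, 5, 3, 5, 1, 5, 1, 3, 5, 3, 5, 1, 5, 1, 5, 3, 5, 3, 1, 5, 1, 5, 3, 5, 1, 5, 3, 5, 1, 4, 2, 4, 0, 4, 2, 4, 0, 4, 0, 2, 4, 2, 4, 0, 4, 0, 4, 2, 4, 2, 0, 4, 0, 4, 2, 4, 0, 4, 2, 0])) (BT.leaf (62, [3, 3, 5, 1, 5, 3, 5, 1, 5, 1, 3, 5, 3, 5, 1, 5, 1, 5, 3, 5, 3, 1, 5, 1, 5, 3, 5, 1, 5, 3, 5, 2, 4, 2, 4, 0, 4, 2, 4, 0, 4, 0, 2, 4, 2, 4, 0, 4, 0, 4, 2, 4, 2, 0, 4, 0, 4, 2, 4, 0, 4, 2], [3, 5, 1, 5, 3, 5, 1, 5, 1, 3, 5, 3, 5, 1, 5, 1, 5, 3, 5, 3, 1, 5, 1, 5, 3, 5, 1, 5, 3, 5, 3, 4, 2, 4, 0, 4, 2, 4, 0, 4, 0, 2, 4, 2, 4, 0, 4, 0, 4, 2, 4, 2, 0, 4, 0, 4, 2, 4, 0, 4, 2, 2])))) (BT.node 99 (BT.node 98 (BT.leaf (62, [5, 3, 5, 1, 5, 3, 5, 1, 5, 1, 3, 5, 3, 5, 1, 5, 1, 5, 3, 5, 3, 1, 5, 1, 5, 3, 5, 1, 5, 3, 5, 4, 4, 2, 4, 0, 4, 2, 4, 0, 4, 0, 2, 4, 2, 4, 0,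 4, 0, 4, 2, 4, 2, 0, 4, 0, 4, 2, 4, 0, 4, 2], [3, 5, 1, 5, 3, 5, 1, 5, 1, 3, 5, 3, 5, 1, 5, 1, 5, 3, 5, 3, 1, 5, 1, 5, 3, 5, 1, 5, 3, 5, 5, 4, 2, 4, 0, 4, 2, 4, 0, 4, 0, 2, 4, 2, 4, 0, 4, 0, 4, 2, 4, 2, 0, 4, 0, 4, 2, 4, 0, 4, 2, 4])) (BT.leaf (62, [7, 3, 5, 1, 5, 3, 5, 1, 5, 1, 3, 5, 3, 5, 1, 5, 1, 5, 3, 5, 3, 1, 5, 1, 5, 3, 5, 1, 5, 3, 5, 6, 4, 2, 4, 0, 4, 2, 4, 0, 4, 0, 2, 4, 2, 4, 0, 4, 0, 4, 2, 4, 2, 0, 4, 0, 4, 2, 4, 0, 4, 2], [3, 5, 1, 5, 3, 5, 1, 5, 1, 3, 5, 3, 5, 1, 5, 1, 5, 3, 5, 3, 1, 5, 1, 5, 3, 5, 1, 5, 3, 5, 7, 4, 2, 4, 0, 4, 2, 4, 0, 4, 0, 2, 4, 2, 4, 0, 4, 0, 4, 2, 4, 2, 0, 4, 0, 4, 2, 4, 0, 4, 2, 6]))) (BT.node 100 (BT.leaf (62, [9, 3, 5, 1, 5, 3, 5, 1, 5, 1, 3, 5, 3, 5, 1, 5, 1, 5, 3, 5, 3, 1, 5, 1, 5, 3, 5, 1, 5, 3, 5, 8, 4, 2, 4, 0, 4, 2, 4, 0, 4, 0, 2, 4, 2, 4, 0, 4, 0, 4, 2, 4, 2, 0, 4, 0, 4, 2, 4, 0, 4, 2], [3, 5, 1, 5, 3, 5, 1, 5, 1, 3, 5, 3,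 5, 1, 5, 1, 5, 3, 5, 3, 1, 5, 1, 5, 3, 5, 1, 5, 3, 5, 9, 4, 2, 4, 0, 4, 2, 4, 0, 4, 0, 2, 4, 2, 4, 0, 4, 0, 4, 2, 4, 2, 0, 4, 0, 4, 2, 4, 0, 4, 2, 8])) (BT.leaf (62, [11, 3, 5, 1, 5, 3, 5, 1, 5, 1, 3, 5, 3, 5, 1, 5, 1, 5, 3, 5, 3, 1, 5, 1, 5, 3, 5, 1, 5, 3, 5, 10, 4, 2, 4, 0, 4, 2, 4, 0, 4, 0, 2, 4, 2, 4, 0, 4, 0, 4, 2, 4, 2, 0, 4, 0, 4, 2, 4, 0, 4, 2], [3, 5, 1, 5, 3, 5, 1, 5, 1, 3, 5, 3, 5, 1, 5, 1, 5, 3, 5, 3, 1, 5, 1, 5, 3, 5, 1, 5, 3, 5, 11, 4, 2, 4, 0, 4, 2, 4, 0, 4, 0, 2, 4, 2, 4, 0, 4, 0, 4, 2, 4, 2, 0, 4, 0, 4, 2, 4, 0, 4, 2, 10]))))))) (BT.node 118 (BT.node 110 (BT.node 106 (BT.node 104 (BT.node 103 (BT.node 102 (BT.leaf (60, [1, 3, 5, 1, 5, 1, 5, 1, 5, 1, 5, 1, 5, 3, 5, 1, 3, 5, 1, 5, 1, 5, 1, 5, 1, 5, 3, 1, 5, 1, 0, 0, 4, 0, 2, 4, 0, 4, 0, 4, 0, 4, 0, 4, 2, 0, 4, 2, 4, 0, 4, 0, 4, 0, 4, 0, 4, 0, 4, 2], [3, 5, 1, 5, 1, 5, 1, 5, 1, 5, 1, 5, 3, 5, 1, 3, 5,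 1, 5, 1, 5, 1, 5, 1, 5, 3, 1, 5, 1, 1, 0, 4, 0, 2, 4, 0, 4, 0, 4, 0, 4, 0, 4, 2, 0, 4, 2, 4, 0, 4, 0, 4, 0, 4, 0, 4, 0, 4, 2, 0])) (BT.leaf (60, [3, 3, 5, 1, 5, 1, 5, 1, 5, 1, 5, 1, 5, 3, 5, 1, 3, 5, 1, 5, 1, 5, 1, 5, 1, 5, 3, 1, 5, 1, 2, 0, 4, 0, 2, 4, 0, 4, 0, 4, 0, 4, 0, 4, 2, 0, 4, 2, 4, 0, 4, 0, 4, 0, 4, 0, 4, 0, 4, 2], [3, 5, 1, 5, 1, 5, 1, 5, 1, 5, 1, 5, 3, 5, 1, 3, 5, 1, 5, 1, 5, 1, 5, 1, 5, 3, 1, 5, 1, 3, 0, 4, 0, 2, 4, 0, 4, 0, 4, 0, 4, 0, 4, 2, 0, 4, 2, 4, 0, 4, 0, 4, 0, 4, 0, 4, 0, 4, 2, 2]))) (BT.leaf (60, [5, 3, 5, 1, 5, 1, 5, 1, 5, 1, 5, 1, 5, 3, 5, 1, 3, 5, 1, 5, 1, 5, 1, 5, 1, 5, 3, 1, 5, 1, 4, 0, 4, 0, 2, 4, 0, 4, 0, 4, 0, 4, 0, 4, 2, 0, 4, 2, 4, 0, 4, 0, 4, 0, 4, 0, 4, 0, 4, 2], [3, 5, 1, 5, 1, 5, 1, 5, 1, 5, 1, 5, 3, 5, 1, 3, 5, 1, 5, 1, 5, 1, 5, 1, 5, 3, 1, 5, 1, 5, 0, 4, 0, 2, 4, 0, 4, 0, 4, 0, 4, 0, 4, 2, 0, 4, 2, 4, 0, 4, 0, 4, 0, 4, 0, 4, 0,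 4, 2, 4]))) (BT.node 105 (BT.leaf (60, [7, 3, 5, 1, 5, 1, 5, 1, 5, 1, 5, 1, 5, 3, 5, 1, 3, 5, 1, 5, 1, 5, 1, 5, 1, 5, 3, 1, 5, 1, 6, 0, 4, 0, 2, 4, 0, 4, 0, 4, 0, 4, 0, 4, 2, 0, 4, 2, 4, 0, 4, 0, 4, 0, 4, 0, 4, 0, 4, 2], [3, 5, 1, 5, 1, 5, 1, 5, 1, 5, 1, 5, 3, 5, 1, 3, 5, 1, 5, 1, 5, 1, 5, 1, 5, 3, 1, 5, 1, 7, 0, 4, 0, 2, 4, 0, 4, 0, 4, 0, 4, 0, 4, 2, 0, 4, 2, 4, 0, 4, 0, 4, 0, 4, 0, 4, 0, 4, 2, 6])) (BT.leaf (60, [9, 3, 5, 1, 5, 1, 5, 1, 5, 1, 5, 1, 5, 3, 5, 1, 3, 5, 1, 5, 1, 5, 1, 5, 1, 5, 3, 1, 5, 1, 8, 0, 4, 0, 2, 4, 0, 4, 0, 4, 0, 4, 0, 4, 2, 0, 4, 2, 4, 0, 4, 0, 4, 0, 4, 0, 4, 0, 4, 2], [3, 5, 1, 5, 1, 5, 1, 5, 1, 5, 1, 5, 3, 5, 1, 3, 5, 1, 5, 1, 5, 1, 5, 1, 5, 3, 1, 5, 1, 9, 0, 4, 0, 2, 4, 0, 4, 0, 4, 0, 4, 0, 4, 2, 0, 4, 2, 4, 0, 4, 0, 4, 0, 4, 0, 4, 0, 4, 2, 8])))) (BT.node 108 (BT.node 107 (BT.leaf (60, [11, 3, 5, 1, 5, 1, 5, 1, 5, 1, 5, 1, 5, 3, 5, 1, 3,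 5, 1, 5, 1, 5, 1, 5, 1, 5, 3, 1, 5, 1, 10, 0, 4, 0, 2, 4, 0, 4, 0, 4, 0, 4, 0, 4, 2, 0, 4, 2, 4, 0, 4, 0, 4, 0, 4, 0, 4, 0, 4, 2], [3, 5, 1, 5, 1, 5, 1, 5, 1, 5, 1, 5, 3, 5, 1, 3, 5, 1, 5, 1, 5, 1, 5, 1, 5, 3, 1, 5, 1, 11, 0, 4, 0, 2, 4, 0, 4, 0, 4, 0, 4, 0, 4, 2, 0, 4, 2, 4, 0, 4, 0, 4, 0, 4, 0, 4, 0, 4, 2, 10])) (BT.leaf (68, [1, 3, 5, 3, 5, 1, 5, 1, 5, 1, 5, 1, 3, 5, 3, 5, 7, 5, 1, 5, 1, 5, 1, 5, 1, 7, 5, 1, 5, 1, 5, 1, 5, 7, 0, 6, 4, 0, 4, 0, 4, 0, 4, 6, 0, 4, 0, 4, 0, 4, 0, 4, 6, 4, 2, 4, 2, 0, 4, 0, 4, 0, 4, 0, 4, 2, 4, 2], [3, 5, 3, 5, 1, 5, 1, 5, 1, 5, 1, 3, 5, 3, 5, 7, 5, 1, 5, 1, 5, 1, 5, 1, 7, 5, 1, 5, 1, 5, 1, 5, 7, 1, 6, 4, 0, 4, 0, 4, 0, 4, 6, 0, 4, 0, 4, 0, 4, 0, 4, 6, 4, 2, 4, 2, 0, 4, 0, 4, 0, 4, 0, 4, 2, 4, 2, 0]))) (BT.node 109 (BT.leaf (68, [3, 3, 5, 3, 5, 1, 5, 1, 5, 1, 5, 1, 3, 5, 3, 5, 7, 5, 1, 5, 1, 5, 1, 5, 1, 7, 5, 1, 5, 1, 5, 1, 5, 7, 2,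 6, 4, 0, 4, 0, 4, 0, 4, 6, 0, 4, 0, 4, 0, 4, 0, 4, 6, 4, 2, 4, 2, 0, 4, 0, 4, 0, 4, 0, 4, 2, 4, 2], [3, 5, 3, 5, 1, 5, 1, 5, 1, 5, 1, 3, 5, 3, 5, 7, 5, 1, 5, 1, 5, 1, 5, 1, 7, 5, 1, 5, 1, 5, 1, 5, 7, 3, 6, 4, 0, 4, 0, 4, 0, 4, 6, 0, 4, 0, 4, 0, 4, 0, 4, 6, 4, 2, 4, 2, 0, 4, 0, 4, 0, 4, 0, 4, 2, 4, 2, 2])) (BT.leaf (68, [5, 3, 5, 3, 5, 1, 5, 1, 5, 1, 5, 1, 3, 5, 3, 5, 7, 5, 1, 5, 1, 5, 1, 5, 1, 7, 5, 1, 5, 1, 5, 1, 5, 7, 4, 6, 4, 0, 4, 0, 4, 0, 4, 6, 0, 4, 0, 4, 0, 4, 0, 4, 6, 4, 2, 4, 2, 0, 4, 0, 4, 0, 4, 0, 4, 2, 4, 2], [3, 5, 3, 5, 1, 5, 1, 5, 1, 5, 1, 3, 5, 3, 5, 7, 5, 1, 5, 1, 5, 1, 5, 1, 7, 5, 1, 5, 1, 5, 1, 5, 7, 5, 6, 4, 0, 4, 0, 4, 0, 4, 6, 0, 4, 0, 4, 0, 4, 0, 4, 6, 4, 2, 4, 2, 0, 4, 0, 4, 0, 4, 0, 4, 2, 4, 2, 4]))))) (BT.node 114 (BT.node 112 (BT.node 111 (BT.leaf (68, [7, 3, 5, 3, 5, 1, 5, 1, 5, 1, 5, 1, 3, 5, 3, 5, 7, 5, 1, 5, 1, 5, 1, 5, 1, 7, 5, 1, 5,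 1, 5, 1, 5, 7, 6, 6, 4, 0, 4, 0, 4, 0, 4, 6, 0, 4, 0, 4, 0, 4, 0, 4, 6, 4, 2, 4, 2, 0, 4, 0, 4, 0, 4, 0, 4, 2, 4, 2], [3, 5, 3, 5, 1, 5, 1, 5, 1, 5, 1, 3, 5, 3, 5, 7, 5, 1, 5, 1, 5, 1, 5, 1, 7, 5, 1, 5, 1, 5, 1, 5, 7, 7, 6, 4, 0, 4, 0, 4, 0, 4, 6, 0, 4, 0, 4, 0, 4, 0, 4, 6, 4, 2, 4, 2, 0, 4, 0, 4, 0, 4, 0, 4, 2, 4, 2, 6])) (BT.leaf (68, [9, 3, 5, 3, 5, 1, 5, 1, 5, 1, 5, 1, 3, 5, 3, 5, 7, 5, 1, 5, 1, 5, 1, 5, 1, 7, 5, 1, 5, 1, 5, 1, 5, 7, 8, 6, 4, 0, 4, 0, 4, 0, 4, 6, 0, 4, 0, 4, 0, 4, 0, 4, 6, 4, 2, 4, 2, 0, 4, 0, 4, 0, 4, 0, 4, 2, 4, 2], [3, 5, 3, 5, 1, 5, 1, 5, 1, 5, 1, 3, 5, 3, 5, 7, 5, 1, 5, 1, 5, 1, 5, 1, 7, 5, 1, 5, 1, 5, 1, 5, 7, 9, 6, 4, 0, 4, 0, 4, 0, 4, 6, 0, 4, 0, 4, 0, 4, 0, 4, 6, 4, 2, 4, 2, 0, 4, 0, 4, 0, 4, 0, 4, 2, 4, 2, 8]))) (BT.node 113 (BT.leaf (68, [11, 3, 5, 3, 5, 1, 5, 1, 5, 1, 5, 1, 3, 5, 3, 5, 7, 5, 1, 5, 1, 5, 1, 5, 1, 7, 5, 1, 5, 1, 5, 1,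 5, 7, 10, 6, 4, 0, 4, 0, 4, 0, 4, 6, 0, 4, 0, 4, 0, 4, 0, 4, 6, 4, 2, 4, 2, 0, 4, 0, 4, 0, 4, 0, 4, 2, 4, 2], [3, 5, 3, 5, 1, 5, 1, 5, 1, 5, 1, 3, 5, 3, 5, 7, 5, 1, 5, 1, 5, 1, 5, 1, 7, 5, 1, 5, 1, 5, 1, 5, 7, 11, 6, 4, 0, 4, 0, 4, 0, 4, 6, 0, 4, 0, 4, 0, 4, 0, 4, 6, 4, 2, 4, 2, 0, 4, 0, 4, 0, 4, 0, 4, 2, 4, 2, 10])) (BT.leaf (68, [1, 5, 1, 5, 7, 5, 1, 3, 7, 5, 3, 5, 1, 5, 3, 7, 5, 3, 5, 7, 5, 3, 5, 7, 3, 5, 1, 5, 7, 3, 5, 1, 5, 7, 0, 6, 4, 0, 4, 2, 6, 4, 0, 4, 2, 6, 4, 2, 4, 6, 4, 2, 4, 6, 2, 4, 0, 4, 2, 4, 6, 2, 0, 4, 6, 4, 0, 4], [5, 1, 5, 7, 5, 1, 3, 7, 5, 3, 5, 1, 5, 3, 7, 5, 3, 5, 7, 5, 3, 5, 7, 3, 5, 1, 5, 7, 3, 5, 1, 5, 7, 1, 6, 4, 0, 4, 2, 6, 4, 0, 4, 2, 6, 4, 2, 4, 6, 4, 2, 4, 6, 2, 4, 0, 4, 2, 4, 6, 2, 0, 4, 6, 4, 0, 4, 0])))) (BT.node 116 (BT.node 115 (BT.leaf (68, [3, 5, 1, 5, 7, 5, 1, 3, 7, 5, 3, 5, 1, 5, 3, 7, 5, 3, 5, 7, 5, 3, 5, 7, 3, 5, 1, 5, 7, 3,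 5, 1, 5, 7, 2, 6, 4, 0, 4, 2, 6, 4, 0, 4, 2, 6, 4, 2, 4, 6, 4, 2, 4, 6, 2, 4, 0, 4, 2, 4, 6, 2, 0, 4, 6, 4, 0, 4], [5, 1, 5, 7, 5, 1, 3, 7, 5, 3, 5, 1, 5, 3, 7, 5, 3, 5, 7, 5, 3, 5, 7, 3, 5, 1, 5, 7, 3, 5, 1, 5, 7, 3, 6, 4, 0, 4, 2, 6, 4, 0, 4, 2, 6, 4, 2, 4, 6, 4, 2, 4, 6, 2, 4, 0, 4, 2, 4, 6, 2, 0, 4, 6, 4, 0, 4, 2])) (BT.leaf (68, [5, 5, 1, 5, 7, 5, 1, 3, 7, 5, 3, 5, 1, 5, 3, 7, 5, 3, 5, 7, 5, 3, 5, 7, 3, 5, 1, 5, 7, 3, 5, 1, 5, 7, 4, 6, 4, 0, 4, 2, 6, 4, 0, 4, 2, 6, 4, 2, 4, 6, 4, 2, 4, 6, 2, 4, 0, 4, 2, 4, 6, 2, 0, 4, 6, 4, 0, 4], [5, 1, 5, 7, 5, 1, 3, 7, 5, 3, 5, 1, 5, 3, 7, 5, 3, 5, 7, 5, 3, 5, 7, 3, 5, 1, 5, 7, 3, 5, 1, 5, 7, 5, 6, 4, 0, 4, 2, 6, 4, 0, 4, 2, 6, 4, 2, 4, 6, 4, 2, 4, 6, 2, 4, 0, 4, 2, 4, 6, 2, 0, 4, 6, 4, 0, 4, 4]))) (BT.node 117 (BT.leaf (68, [7, 5, 1, 5, 7, 5, 1, 3, 7, 5, 3, 5, 1, 5, 3, 7, 5, 3, 5, 7, 5, 3, 5, 7, 3, 5, 1, 5, 7, 3, 5, 1, 5,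 7, 6, 6, 4, 0, 4, 2, 6, 4, 0, 4, 2, 6, 4, 2, 4, 6, 4, 2, 4, 6, 2, 4, 0, 4, 2, 4, 6, 2, 0, 4, 6, 4, 0, 4], [5, 1, 5, 7, 5, 1, 3, 7, 5, 3, 5, 1, 5, 3, 7, 5, 3, 5, 7, 5, 3, 5, 7, 3, 5, 1, 5, 7, 3, 5, 1, 5, 7, 7, 6, 4, 0, 4, 2, 6, 4, 0, 4, 2, 6, 4, 2, 4, 6, 4, 2, 4, 6, 2, 4, 0, 4, 2, 4, 6, 2, 0, 4, 6, 4, 0, 4, 6])) (BT.leaf (68, [9, 5, 1, 5, 7, 5, 1, 3, 7, 5, 3, 5, 1, 5, 3, 7, 5, 3, 5, 7, 5, 3, 5, 7, 3, 5, 1, 5, 7, 3, 5, 1, 5, 7, 8, 6, 4, 0, 4, 2, 6, 4, 0, 4, 2, 6, 4, 2, 4, 6, 4, 2, 4, 6, 2, 4, 0, 4, 2, 4, 6, 2, 0, 4, 6, 4, 0, 4], [5, 1, 5, 7, 5, 1, 3, 7, 5, 3, 5, 1, 5, 3, 7, 5, 3, 5, 7, 5, 3, 5, 7, 3, 5, 1, 5, 7, 3, 5, 1, 5, 7, 9, 6, 4, 0, 4, 2, 6, 4, 0, 4, 2, 6, 4, 2, 4, 6, 4, 2, 4, 6, 2, 4, 0, 4, 2, 4, 6, 2, 0, 4, 6, 4, 0, 4, 8])))))) (BT.node 126 (BT.node 122 (BT.node 120 (BT.node 119 (BT.leaf (68, [11, 5, 1, 5, 7, 5, 1, 3, 7, 5, 3, 5, 1, 5, 3, 7, 5, 3, 5, 7, 5, 3,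 5, 7, 3, 5, 1, 5, 7, 3, 5, 1, 5, 7, 10, 6, 4, 0, 4, 2, 6, 4, 0, 4, 2, 6, 4, 2, 4, 6, 4, 2, 4, 6, 2, 4, 0, 4, 2, 4, 6, 2, 0, 4, 6, 4, 0, 4], [5, 1, 5, 7, 5, 1, 3, 7, 5, 3, 5, 1, 5, 3, 7, 5, 3, 5, 7, 5, 3, 5, 7, 3, 5, 1, 5, 7, 3, 5, 1, 5, 7, 11, 6, 4, 0, 4, 2, 6, 4, 0, 4, 2, 6, 4, 2, 4, 6, 4, 2, 4, 6, 2, 4, 0, 4, 2, 4, 6, 2, 0, 4, 6, 4, 0, 4, 10])) (BT.leaf (66, [1, 5, 1, 3, 5, 1, 5, 1, 3, 5, 7, 5, 1, 5, 3, 7, 5, 1, 5, 3, 5, 7, 5, 3, 5, 1, 5, 7, 3, 5, 1, 5, 7, 0, 6, 4, 0, 4, 2, 6, 4, 0, 4, 2, 4, 6, 4, 2, 4, 0, 4, 6, 2, 4, 0, 4, 6, 4, 2, 0, 4, 0, 4, 2, 0, 4], [5, 1, 3, 5, 1, 5, 1, 3, 5, 7, 5, 1, 5, 3, 7, 5, 1, 5, 3, 5, 7, 5, 3, 5, 1, 5, 7, 3, 5, 1, 5, 7, 1, 6, 4, 0, 4, 2, 6, 4, 0, 4, 2, 4, 6, 4, 2, 4, 0, 4, 6, 2, 4, 0, 4, 6, 4, 2, 0, 4, 0, 4, 2, 0, 4, 0]))) (BT.node 121 (BT.leaf (66, [3, 5, 1, 3, 5, 1, 5, 1, 3, 5, 7, 5, 1, 5, 3, 7, 5, 1, 5, 3, 5, 7, 5, 3, 5, 1, 5, 7,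 3, 5, 1, 5, 7, 2, 6, 4, 0, 4, 2, 6, 4, 0, 4, 2, 4, 6, 4, 2, 4, 0, 4, 6, 2, 4, 0, 4, 6, 4, 2, 0, 4, 0, 4, 2, 0, 4], [5, 1, 3, 5, 1, 5, 1, 3, 5, 7, 5, 1, 5, 3, 7, 5, 1, 5, 3, 5, 7, 5, 3, 5, 1, 5, 7, 3, 5, 1, 5, 7, 3, 6, 4, 0, 4, 2, 6, 4, 0, 4, 2, 4, 6, 4, 2, 4, 0, 4, 6, 2, 4, 0, 4, 6, 4, 2, 0, 4, 0, 4, 2, 0, 4, 2])) (BT.leaf (66, [5, 5, 1, 3, 5, 1, 5, 1, 3, 5, 7, 5, 1, 5, 3, 7, 5, 1, 5, 3, 5, 7, 5, 3, 5, 1, 5, 7, 3, 5, 1, 5, 7, 4, 6, 4, 0, 4, 2, 6, 4, 0, 4, 2, 4, 6, 4, 2, 4, 0, 4, 6, 2, 4, 0, 4, 6, 4, 2, 0, 4, 0, 4, 2, 0, 4], [5, 1, 3, 5, 1, 5, 1, 3, 5, 7, 5, 1, 5, 3, 7, 5, 1, 5, 3, 5, 7, 5, 3, 5, 1, 5, 7, 3, 5, 1, 5, 7, 5, 6, 4, 0, 4, 2, 6, 4, 0, 4, 2, 4, 6, 4, 2, 4, 0, 4, 6, 2, 4, 0, 4, 6, 4, 2, 0, 4, 0, 4, 2, 0, 4, 4])))) (BT.node 124 (BT.node 123 (BT.leaf (66, [7, 5, 1, 3, 5, 1, 5, 1, 3, 5, 7, 5, 1, 5, 3, 7, 5, 1, 5, 3, 5, 7, 5, 3, 5, 1, 5, 7, 3, 5, 1, 5, 7, 6, 6,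 4, 0, 4, 2, 6, 4, 0, 4, 2, 4, 6, 4, 2, 4, 0, 4, 6, 2, 4, 0, 4, 6, 4, 2, 0, 4, 0, 4, 2, 0, 4], [5, 1, 3, 5, 1, 5, 1, 3, 5, 7, 5, 1, 5, 3, 7, 5, 1, 5, 3, 5, 7, 5, 3, 5, 1, 5, 7, 3, 5, 1, 5, 7, 7, 6, 4, 0, 4, 2, 6, 4, 0, 4, 2, 4, 6, 4, 2, 4, 0, 4, 6, 2, 4, 0, 4, 6, 4, 2, 0, 4, 0, 4, 2, 0, 4, 6])) (BT.leaf (66, [9, 5, 1, 3, 5, 1, 5, 1, 3, 5, 7, 5, 1, 5, 3, 7, 5, 1, 5, 3, 5, 7, 5, 3, 5, 1, 5, 7, 3, 5, 1, 5, 7, 8, 6, 4, 0, 4, 2, 6, 4, 0, 4, 2, 4, 6, 4, 2, 4, 0, 4, 6, 2, 4, 0, 4, 6, 4, 2, 0, 4, 0, 4, 2, 0, 4], [5, 1, 3, 5, 1, 5, 1, 3, 5, 7, 5, 1, 5, 3, 7, 5, 1, 5, 3, 5, 7, 5, 3, 5, 1, 5, 7, 3, 5, 1, 5, 7, 9, 6, 4, 0, 4, 2, 6, 4, 0, 4, 2, 4, 6, 4, 2, 4, 0, 4, 6, 2, 4, 0, 4, 6, 4, 2, 0, 4, 0, 4, 2, 0, 4, 8]))) (BT.node 125 (BT.leaf (66, [11, 5, 1, 3, 5, 1, 5, 1, 3, 5, 7, 5, 1, 5, 3, 7, 5, 1, 5, 3, 5, 7, 5, 3, 5, 1, 5, 7, 3, 5, 1, 5, 7, 10, 6, 4, 0, 4, 2, 6, 4, 0, 4, 2, 4, 6,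 4, 2, 4, 0, 4, 6, 2, 4, 0, 4, 6, 4, 2, 0, 4, 0, 4, 2, 0, 4], [5, 1, 3, 5, 1, 5, 1, 3, 5, 7, 5, 1, 5, 3, 7, 5, 1, 5, 3, 5, 7, 5, 3, 5, 1, 5, 7, 3, 5, 1, 5, 7, 11, 6, 4, 0, 4, 2, 6, 4, 0, 4, 2, 4, 6, 4, 2, 4, 0, 4, 6, 2, 4, 0, 4, 6, 4, 2, 0, 4, 0, 4, 2, 0, 4, 10])) (BT.leaf (66, [1, 5, 1, 3, 5, 1, 5, 1, 3, 5, 7, 5, 1, 5, 3, 7, 5, 1, 7, 5, 7, 3, 7, 5, 7, 1, 5, 7, 3, 5, 1, 5, 7, 0, 6, 4, 0, 4, 2, 6, 4, 0, 6, 4, 6, 2, 6, 4, 6, 0, 4, 6, 2, 4, 0, 4, 6, 4, 2, 0, 4, 0, 4, 2, 0, 4], [5, 1, 3, 5, 1, 5, 1, 3, 5, 7, 5, 1, 5, 3, 7, 5, 1, 7, 5, 7, 3, 7, 5, 7, 1, 5, 7, 3, 5, 1, 5, 7, 1, 6, 4, 0, 4, 2, 6, 4, 0, 6, 4, 6, 2, 6, 4, 6, 0, 4, 6, 2, 4, 0, 4, 6, 4, 2, 0, 4, 0, 4, 2, 0, 4, 0]))))) (BT.node 130 (BT.node 128 (BT.node 127 (BT.leaf (66, [3, 5, 1, 3, 5, 1, 5, 1, 3, 5, 7, 5, 1, 5, 3, 7, 5, 1, 7, 5, 7, 3, 7, 5, 7, 1, 5, 7, 3, 5, 1, 5, 7, 2, 6, 4, 0, 4, 2, 6, 4, 0, 6, 4, 6, 2, 6,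 4, 6, 0, 4, 6, 2, 4, 0, 4, 6, 4, 2, 0, 4, 0, 4, 2, 0, 4], [5, 1, 3, 5, 1, 5, 1, 3, 5, 7, 5, 1, 5, 3, 7, 5, 1, 7, 5, 7, 3, 7, 5, 7, 1, 5, 7, 3, 5, 1, 5, 7, 3, 6, 4, 0, 4, 2, 6, 4, 0, 6, 4, 6, 2, 6, 4, 6, 0, 4, 6, 2, 4, 0, 4, 6, 4, 2, 0, 4, 0, 4, 2, 0, 4, 2])) (BT.leaf (66, [5, 5, 1, 3, 5, 1, 5, 1, 3, 5, 7, 5, 1, 5, 3, 7, 5, 1, 7, 5, 7, 3, 7, 5, 7, 1, 5, 7, 3, 5, 1, 5, 7, 4, 6, 4, 0, 4, 2, 6, 4, 0, 6, 4, 6, 2, 6, 4, 6, 0, 4, 6, 2, 4, 0, 4, 6, 4, 2, 0, 4, 0, 4, 2, 0, 4], [5, 1, 3, 5, 1, 5, 1, 3, 5, 7, 5, 1, 5, 3, 7, 5, 1, 7, 5, 7, 3, 7, 5, 7, 1, 5, 7, 3, 5, 1, 5, 7, 5, 6, 4, 0, 4, 2, 6, 4, 0, 6, 4, 6, 2, 6, 4, 6, 0, 4, 6, 2, 4, 0, 4, 6, 4, 2, 0, 4, 0, 4, 2, 0, 4, 4]))) (BT.node 129 (BT.leaf (66, [7, 5, 1, 3, 5, 1, 5, 1, 3, 5, 7, 5, 1, 5, 3, 7, 5, 1, 7, 5, 7, 3, 7, 5, 7, 1, 5, 7, 3, 5, 1, 5, 7, 6, 6, 4, 0, 4, 2, 6, 4, 0, 6, 4, 6, 2, 6, 4, 6, 0, 4, 6, 2, 4, 0, 4, 6, 4,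 2, 0, 4, 0, 4, 2, 0, 4], [5, 1, 3, 5, 1, 5, 1, 3, 5, 7, 5, 1, 5, 3, 7, 5, 1, 7, 5, 7, 3, 7, 5, 7, 1, 5, 7, 3, 5, 1, 5, 7, 7, 6, 4, 0, 4, 2, 6, 4, 0, 6, 4, 6, 2, 6, 4, 6, 0, 4, 6, 2, 4, 0, 4, 6, 4, 2, 0, 4, 0, 4, 2, 0, 4, 6])) (BT.leaf (66, [9, 5, 1, 3, 5, 1, 5, 1, 3, 5, 7, 5, 1, 5, 3, 7, 5, 1, 7, 5, 7, 3, 7, 5, 7, 1, 5, 7, 3, 5, 1, 5, 7, 8, 6, 4, 0, 4, 2, 6, 4, 0, 6, 4, 6, 2, 6, 4, 6, 0, 4, 6, 2, 4, 0, 4, 6, 4, 2, 0, 4, 0, 4, 2, 0, 4], [5, 1, 3, 5, 1, 5, 1, 3, 5, 7, 5, 1, 5, 3, 7, 5, 1, 7, 5, 7, 3, 7, 5, 7, 1, 5, 7, 3, 5, 1, 5, 7, 9, 6, 4, 0, 4, 2, 6, 4, 0, 6, 4, 6, 2, 6, 4, 6, 0, 4, 6, 2, 4, 0, 4, 6, 4, 2, 0, 4, 0, 4, 2, 0, 4, 8])))) (BT.node 132 (BT.node 131 (BT.leaf (66, [11, 5, 1, 3, 5, 1, 5, 1, 3, 5, 7, 5, 1, 5, 3, 7, 5, 1, 7, 5, 7, 3, 7, 5, 7, 1, 5, 7, 3, 5, 1, 5, 7, 10, 6, 4, 0, 4, 2, 6, 4, 0, 6, 4, 6, 2, 6, 4, 6, 0, 4, 6, 2, 4, 0, 4, 6, 4, 2, 0, 4, 0, 4, 2,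 0, 4], [5, 1, 3, 5, 1, 5, 1, 3, 5, 7, 5, 1, 5, 3, 7, 5, 1, 7, 5, 7, 3, 7, 5, 7, 1, 5, 7, 3, 5, 1, 5, 7, 11, 6, 4, 0, 4, 2, 6, 4, 0, 6, 4, 6, 2, 6, 4, 6, 0, 4, 6, 2, 4, 0, 4, 6, 4, 2, 0, 4, 0, 4, 2, 0, 4, 10])) (BT.leaf (66, [1, 5, 3, 5, 1, 5, 3, 5, 1, 5, 3, 5, 7, 5, 3, 5, 1, 5, 7, 5, 3, 5, 1, 5, 3, 5, 7, 5, 1, 5, 3, 5, 7, 0, 6, 4, 2, 4, 0, 4, 6, 4, 2, 4, 0, 4, 2, 4, 6, 4, 0, 4, 2, 4, 6, 4, 2, 4, 0, 4, 2, 4, 0, 4, 2, 4], [5, 3, 5, 1, 5, 3, 5, 1, 5, 3, 5, 7, 5, 3, 5, 1, 5, 7, 5, 3, 5, 1, 5, 3, 5, 7, 5, 1, 5, 3, 5, 7, 1, 6, 4, 2, 4, 0, 4, 6, 4, 2, 4, 0, 4, 2, 4, 6, 4, 0, 4, 2, 4, 6, 4, 2, 4, 0, 4, 2, 4, 0, 4, 2, 4, 0]))) (BT.node 133 (BT.leaf (66, [3, 5, 3, 5, 1, 5, 3, 5, 1, 5, 3, 5, 7, 5, 3, 5, 1, 5, 7, 5, 3, 5, 1, 5, 3, 5, 7, 5, 1, 5, 3, 5, 7, 2, 6, 4, 2, 4, 0, 4, 6, 4, 2, 4, 0, 4, 2, 4, 6, 4, 0, 4, 2, 4, 6, 4, 2, 4, 0, 4, 2, 4, 0, 4, 2, 4], [5, 3, 5, 1, 5, 3, 5, 1,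 5, 3, 5, 7, 5, 3, 5, 1, 5, 7, 5, 3, 5, 1, 5, 3, 5, 7, 5, 1, 5, 3, 5, 7, 3, 6, 4, 2, 4, 0, 4, 6, 4, 2, 4, 0, 4, 2, 4, 6, 4, 0, 4, 2, 4, 6, 4, 2, 4, 0, 4, 2, 4, 0, 4, 2, 4, 2])) (BT.leaf (66, [5, 5, 3, 5, 1, 5, 3, 5, 1, 5, 3, 5, 7, 5, 3, 5, 1, 5, 7, 5, 3, 5, 1, 5, 3, 5, 7, 5, 1, 5, 3, 5, 7, 4, 6, 4, 2, 4, 0, 4, 6, 4, 2, 4, 0, 4, 2, 4, 6, 4, 0, 4, 2, 4, 6, 4, 2, 4, 0, 4, 2, 4, 0, 4, 2, 4], [5, 3, 5, 1, 5, 3, 5, 1, 5, 3, 5, 7, 5, 3, 5, 1, 5, 7, 5, 3, 5, 1, 5, 3, 5, 7, 5, 1, 5, 3, 5, 7, 5, 6, 4, 2, 4, 0, 4, 6, 4, 2, 4, 0, 4, 2, 4, 6, 4, 0, 4, 2, 4, 6, 4, 2, 4, 0, 4, 2, 4, 0, 4, 2, 4, 4]))))))))) (BT.node 202 (BT.node 168 (BT.node 151 (BT.node 143 (BT.node 139 (BT.node 137 (BT.node 136 (BT.node 135 (BT.leaf (66, [7, 5, 3, 5, 1, 5, 3, 5, 1, 5, 3, 5, 7, 5, 3, 5, 1, 5, 7, 5, 3, 5, 1, 5, 3, 5, 7, 5, 1, 5, 3, 5, 7, 6, 6, 4, 2, 4, 0, 4, 6, 4, 2, 4, 0, 4, 2, 4, 6, 4, 0, 4, 2, 4,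 6, 4, 2, 4, 0, 4, 2, 4, 0, 4, 2, 4], [5, 3, 5, 1, 5, 3, 5, 1, 5, 3, 5, 7, 5, 3, 5, 1, 5, 7, 5, 3, 5, 1, 5, 3, 5, 7, 5, 1, 5, 3, 5, 7, 7, 6, 4, 2, 4, 0, 4, 6, 4, 2, 4, 0, 4, 2, 4, 6, 4, 0, 4, 2, 4, 6, 4, 2, 4, 0, 4, 2, 4, 0, 4, 2, 4, 6])) (BT.leaf (66, [9, 5, 3, 5, 1, 5, 3, 5, 1, 5, 3, 5, 7, 5, 3, 5, 1, 5, 7, 5, 3, 5, 1, 5, 3, 5, 7, 5, 1, 5, 3, 5, 7, 8, 6, 4, 2, 4, 0, 4, 6, 4, 2, 4, 0, 4, 2, 4, 6, 4, 0, 4, 2, 4, 6, 4, 2, 4, 0, 4, 2, 4, 0, 4, 2, 4], [5, 3, 5, 1, 5, 3, 5, 1, 5, 3, 5, 7, 5, 3, 5, 1, 5, 7, 5, 3, 5, 1, 5, 3, 5, 7, 5, 1, 5, 3, 5, 7, 9, 6, 4, 2, 4, 0, 4, 6, 4, 2, 4, 0, 4, 2, 4, 6, 4, 0, 4, 2, 4, 6, 4, 2, 4, 0, 4, 2, 4, 0, 4, 2, 4, 8]))) (BT.leaf (66, [11, 5, 3, 5, 1, 5, 3, 5, 1, 5, 3, 5, 7, 5, 3, 5, 1, 5, 7, 5, 3, 5, 1, 5, 3, 5, 7, 5, 1, 5, 3, 5, 7, 10, 6, 4, 2, 4, 0, 4, 6, 4, 2, 4, 0, 4, 2, 4, 6, 4, 0, 4, 2, 4, 6, 4, 2, 4, 0, 4, 2, 4, 0, 4, 2, 4], [5, 3,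 5, 1, 5, 3, 5, 1, 5, 3, 5, 7, 5, 3, 5, 1, 5, 7, 5, 3, 5, 1, 5, 3, 5, 7, 5, 1, 5, 3, 5, 7, 11, 6, 4, 2, 4, 0, 4, 6, 4, 2, 4, 0, 4, 2, 4, 6, 4, 0, 4, 2, 4, 6, 4, 2, 4, 0, 4, 2, 4, 0, 4, 2, 4, 10]))) (BT.node 138 (BT.leaf (66, [1, 5, 1, 5, 3, 5, 1, 5, 3, 5, 7, 5, 3, 5, 1, 5, 3, 5, 1, 5, 1, 7, 1, 5, 7, 3, 5, 1, 5, 7, 3, 5, 7, 0, 6, 4, 2, 6, 4, 0, 4, 2, 6, 4, 0, 6, 0, 4, 0, 4, 2, 4, 0, 4, 2, 4, 6, 4, 2, 4, 0, 4, 2, 4, 0, 4], [5, 1, 5, 3, 5, 1, 5, 3, 5, 7, 5, 3, 5, 1, 5, 3, 5, 1, 5, 1, 7, 1, 5, 7, 3, 5, 1, 5, 7, 3, 5, 7, 1, 6, 4, 2, 6, 4, 0, 4, 2, 6, 4, 0, 6, 0, 4, 0, 4, 2, 4, 0, 4, 2, 4, 6, 4, 2, 4, 0, 4, 2, 4, 0, 4, 0])) (BT.leaf (66, [3, 5, 1, 5, 3, 5, 1, 5, 3, 5, 7, 5, 3, 5, 1, 5, 3, 5, 1, 5, 1, 7, 1, 5, 7, 3, 5, 1, 5, 7, 3, 5, 7, 2, 6, 4, 2, 6, 4, 0, 4, 2, 6, 4, 0, 6, 0, 4, 0, 4, 2, 4, 0, 4, 2, 4, 6, 4, 2, 4, 0, 4, 2, 4, 0, 4], [5, 1, 5, 3, 5, 1, 5, 3, 5, 7, 5, 3, 5,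 1, 5, 3, 5, 1, 5, 1, 7, 1, 5, 7, 3, 5, 1, 5, 7, 3, 5, 7, 3, 6, 4, 2, 6, 4, 0, 4, 2, 6, 4, 0, 6, 0, 4, 0, 4, 2, 4, 0, 4, 2, 4, 6, 4, 2, 4, 0, 4, 2, 4, 0, 4, 2])))) (BT.node 141 (BT.node 140 (BT.leaf (66, [5, 5, 1, 5, 3, 5, 1, 5, 3, 5, 7, 5, 3, 5, 1, 5, 3, 5, 1, 5, 1, 7, 1, 5, 7, 3, 5, 1, 5, 7, 3, 5, 7, 4, 6, 4, 2, 6, 4, 0, 4, 2, 6, 4, 0, 6, 0, 4, 0, 4, 2, 4, 0, 4, 2, 4, 6, 4, 2, 4, 0, 4, 2, 4, 0, 4], [5, 1, 5, 3, 5, 1, 5, 3, 5, 7, 5, 3, 5, 1, 5, 3, 5, 1, 5, 1, 7, 1, 5, 7, 3, 5, 1, 5, 7, 3, 5, 7, 5, 6, 4, 2, 6, 4, 0, 4, 2, 6, 4, 0, 6, 0, 4, 0, 4, 2, 4, 0, 4, 2, 4, 6, 4, 2, 4, 0, 4, 2, 4, 0, 4, 4])) (BT.leaf (66, [7, 5, 1, 5, 3, 5, 1, 5, 3, 5, 7, 5, 3, 5, 1, 5, 3, 5, 1, 5, 1, 7, 1, 5, 7, 3, 5, 1, 5, 7, 3, 5, 7, 6, 6, 4, 2, 6, 4, 0, 4, 2, 6, 4, 0, 6, 0, 4, 0, 4, 2, 4, 0, 4, 2, 4, 6, 4, 2, 4, 0, 4, 2, 4, 0, 4], [5, 1, 5, 3, 5, 1, 5, 3, 5, 7, 5, 3, 5, 1, 5, 3, 5, 1, 5, 1,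 7, 1, 5, 7, 3, 5, 1, 5, 7, 3, 5, 7, 7, 6, 4, 2, 6, 4, 0, 4, 2, 6, 4, 0, 6, 0, 4, 0, 4, 2, 4, 0, 4, 2, 4, 6, 4, 2, 4, 0, 4, 2, 4, 0, 4, 6]))) (BT.node 142 (BT.leaf (66, [9, 5, 1, 5, 3, 5, 1, 5, 3, 5, 7, 5, 3, 5, 1, 5, 3, 5, 1, 5, 1, 7, 1, 5, 7, 3, 5, 1, 5, 7, 3, 5, 7, 8, 6, 4, 2, 6, 4, 0, 4, 2, 6, 4, 0, 6, 0, 4, 0, 4, 2, 4, 0, 4, 2, 4, 6, 4, 2, 4, 0, 4, 2, 4, 0, 4], [5, 1, 5, 3, 5, 1, 5, 3, 5, 7, 5, 3, 5, 1, 5, 3, 5, 1, 5, 1, 7, 1, 5, 7, 3, 5, 1, 5, 7, 3, 5, 7, 9, 6, 4, 2, 6, 4, 0, 4, 2, 6, 4, 0, 6, 0, 4, 0, 4, 2, 4, 0, 4, 2, 4, 6, 4, 2, 4, 0, 4, 2, 4, 0, 4, 8])) (BT.leaf (66, [11, 5, 1, 5, 3, 5, 1, 5, 3, 5, 7, 5, 3, 5, 1, 5, 3, 5, 1, 5, 1, 7, 1, 5, 7, 3, 5, 1, 5, 7, 3, 5, 7, 10, 6, 4, 2, 6, 4, 0, 4, 2, 6, 4, 0, 6, 0, 4, 0, 4, 2, 4, 0, 4, 2, 4, 6, 4, 2, 4, 0, 4, 2, 4, 0, 4], [5, 1, 5, 3, 5, 1, 5, 3, 5, 7, 5, 3, 5, 1, 5, 3, 5, 1, 5, 1, 7, 1, 5, 7, 3, 5, 1, 5, 7, 3, 5,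 7, 11, 6, 4, 2, 6, 4, 0, 4, 2, 6, 4, 0, 6, 0, 4, 0, 4, 2, 4, 0, 4, 2, 4, 6, 4, 2, 4, 0, 4, 2, 4, 0, 4, 10]))))) (BT.node 147 (BT.node 145 (BT.node 144 (BT.leaf (6, [1, 9, 9, 0, 8, 8], [9, 9, 1, 8, 8, 0])) (BT.leaf (6, [3, 9, 9, 2, 8, 8], [9, 9, 3, 8, 8, 2]))) (BT.node 146 (BT.leaf (6, [5, 9, 9, 4, 8, 8], [9, 9, 5, 8, 8, 4])) (BT.leaf (6, [7, 9, 9, 6, 8, 8], [9, 9, 7, 8, 8, 6])))) (BT.node 149 (BT.node 148 (BT.leaf (6, [9, 9, 9, 8, 8, 8], [9, 9, 9, 8, 8, 8])) (BT.leaf (6, [11, 9, 9, 10, 8, 8], [9, 9, 11, 8, 8, 10]))) (BT.node 150 (BT.leaf (10, [1, 1, 9, 1, 9, 0, 8, 0, 8, 0], [1, 9, 1, 9, 1, 8, 0, 8, 0, 0])) (BT.leaf (10, [3, 1, 9, 1, 9, 2, 8, 0, 8, 0], [1, 9, 1, 9, 3, 8, 0, 8, 0, 2])))))) (BT.node 160 (BT.node 156 (BT.node 154 (BT.node 153 (BT.node 152 (BT.leaf (10, [5, 1, 9, 1, 9, 4, 8, 0, 8, 0], [1, 9, 1, 9, 5, 8, 0, 8, 0, 4])) (BT.leaf (10, [7, 1, 9, 1, 9, 6, 8,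 0, 8, 0], [1, 9, 1, 9, 7, 8, 0, 8, 0, 6]))) (BT.leaf (10, [9, 1, 9, 1, 9, 8, 8, 0, 8, 0], [1, 9, 1, 9, 9, 8, 0, 8, 0, 8]))) (BT.node 155 (BT.leaf (10, [11, 1, 9, 1, 9, 10, 8, 0, 8, 0], [1, 9, 1, 9, 11, 8, 0, 8, 0, 10])) (BT.leaf (10, [1, 3, 9, 3, 9, 0, 8, 2, 8, 2], [3, 9, 3, 9, 1, 8, 2, 8, 2, 0])))) (BT.node 158 (BT.node 157 (BT.leaf (10, [3, 3, 9, 3, 9, 2, 8, 2, 8, 2], [3, 9, 3, 9, 3, 8, 2, 8, 2, 2])) (BT.leaf (10, [5, 3, 9, 3, 9, 4, 8, 2, 8, 2], [3, 9, 3, 9, 5, 8, 2, 8, 2, 4]))) (BT.node 159 (BT.leaf (10, [7, 3, 9, 3, 9, 6, 8, 2, 8, 2], [3, 9, 3, 9, 7, 8, 2, 8, 2, 6])) (BT.leaf (10, [9, 3, 9, 3, 9, 8, 8, 2, 8, 2], [3, 9, 3, 9, 9, 8, 2, 8, 2, 8]))))) (BT.node 164 (BT.node 162 (BT.node 161 (BT.leaf (10, [11, 3, 9, 3, 9, 10, 8, 2, 8, 2], [3, 9, 3, 9, 11, 8, 2, 8, 2, 10])) (BT.leaf (18, [1, 5, 9, 5, 9, 5, 9, 5, 9, 0, 8, 4, 8, 4, 8, 4, 8, 4], [5, 9, 5, 9, 5, 9, 5, 9,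 1, 8, 4, 8, 4, 8, 4, 8, 4, 0]))) (BT.node 163 (BT.leaf (18, [3, 5, 9, 5, 9, 5, 9, 5, 9, 2, 8, 4, 8, 4, 8, 4, 8, 4], [5, 9, 5, 9, 5, 9, 5, 9, 3, 8, 4, 8, 4, 8, 4, 8, 4, 2])) (BT.leaf (18, [5, 5, 9, 5, 9, 5, 9, 5, 9, 4, 8, 4, 8, 4, 8, 4, 8, 4], [5, 9, 5, 9, 5, 9, 5, 9, 5, 8, 4, 8, 4, 8, 4, 8, 4, 4])))) (BT.node 166 (BT.node 165 (BT.leaf (18, [7, 5, 9, 5, 9, 5, 9, 5, 9, 6, 8, 4, 8, 4, 8, 4, 8, 4], [5, 9, 5, 9, 5, 9, 5, 9, 7, 8, 4, 8, 4, 8, 4, 8, 4, 6])) (BT.leaf (18, [9, 5, 9, 5, 9, 5, 9, 5, 9, 8, 8, 4, 8, 4, 8, 4, 8, 4], [5, 9, 5, 9, 5, 9, 5, 9, 9, 8, 4, 8, 4, 8, 4, 8, 4, 8]))) (BT.node 167 (BT.leaf (18, [11, 5, 9, 5, 9, 5, 9, 5, 9, 10, 8, 4, 8, 4, 8, 4, 8, 4], [5, 9, 5, 9, 5, 9, 5, 9, 11, 8, 4, 8, 4, 8, 4, 8, 4, 10])) (BT.leaf (18, [1, 7, 9, 7, 9, 7, 9, 7, 9, 0, 8, 6, 8, 6, 8, 6, 8, 6], [7, 9, 7, 9, 7, 9, 7, 9, 1, 8, 6, 8, 6, 8, 6, 8, 6, 0]))))))) (BT.node 185 (BT.node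 177 (BT.node 173 (BT.node 171 (BT.node 170 (BT.node 169 (BT.leaf (18, [3, 7, 9, 7, 9, 7, 9, 7, 9, 2, 8, 6, 8, 6, 8, 6, 8, 6], [7, 9, 7, 9, 7, 9, 7, 9, 3, 8, 6, 8, 6, 8, 6, 8, 6, 2])) (BT.leaf (18, [5, 7, 9, 7, 9, 7, 9, 7, 9, 4, 8, 6, 8, 6, 8, 6, 8, 6], [7, 9, 7, 9, 7, 9, 7, 9, 5, 8, 6, 8, 6, 8, 6, 8, 6, 4]))) (BT.leaf (18, [7, 7, 9, 7, 9, 7, 9, 7, 9, 6, 8, 6, 8, 6, 8, 6, 8, 6], [7, 9, 7, 9, 7, 9, 7, 9, 7, 8, 6, 8, 6, 8, 6, 8, 6, 6]))) (BT.node 172 (BT.leaf (18, [9, 7, 9, 7, 9, 7, 9, 7, 9, 8, 8, 6, 8, 6, 8, 6, 8, 6], [7, 9, 7, 9, 7, 9, 7, 9, 9, 8, 6, 8, 6, 8, 6, 8, 6, 8])) (BT.leaf (18, [11, 7, 9, 7, 9, 7, 9, 7, 9, 10, 8, 6, 8, 6, 8, 6, 8, 6], [7, 9, 7, 9, 7, 9, 7, 9, 11, 8, 6, 8, 6, 8, 6, 8, 6, 10])))) (BT.node 175 (BT.node 174 (BT.leaf (58, [1, 3, 5, 1, 5, 1, 5, 1, 5, 1, 5, 1, 5, 3, 9, 5, 1, 5, 1, 5, 9, 1, 9, 5, 1, 5, 1, 5, 9, 0, 8, 4, 0, 4, 0, 4, 8, 0, 8, 4, 0, 4,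 0, 4, 8, 2, 4, 0, 4, 0, 4, 0, 4, 0, 4, 0, 4, 2], [3, 5, 1, 5, 1, 5, 1, 5, 1, 5, 1, 5, 3, 9, 5, 1, 5, 1, 5, 9, 1, 9, 5, 1, 5, 1, 5, 9, 1, 8, 4, 0, 4, 0, 4, 8, 0, 8, 4, 0, 4, 0, 4, 8, 2, 4, 0, 4, 0, 4, 0, 4, 0, 4, 0, 4, 2, 0])) (BT.leaf (58, [3, 3, 5, 1, 5, 1, 5, 1, 5, 1, 5, 1, 5, 3, 9, 5, 1, 5, 1, 5, 9, 1, 9, 5, 1, 5, 1, 5, 9, 2, 8, 4, 0, 4, 0, 4, 8, 0, 8, 4, 0, 4, 0, 4, 8, 2, 4, 0, 4, 0, 4, 0, 4, 0, 4, 0, 4, 2], [3, 5, 1, 5, 1, 5, 1, 5, 1, 5, 1, 5, 3, 9, 5, 1, 5, 1, 5, 9, 1, 9, 5, 1, 5, 1, 5, 9, 3, 8, 4, 0, 4, 0, 4, 8, 0, 8, 4, 0, 4, 0, 4, 8, 2, 4, 0, 4, 0, 4, 0, 4, 0, 4, 0, 4, 2, 2]))) (BT.node 176 (BT.leaf (58, [5, 3, 5, 1, 5, 1, 5, 1, 5, 1, 5, 1, 5, 3, 9, 5, 1, 5, 1, 5, 9, 1, 9, 5, 1, 5, 1, 5, 9, 4, 8, 4, 0, 4, 0, 4, 8, 0, 8, 4, 0, 4, 0, 4, 8, 2, 4, 0, 4, 0, 4, 0, 4, 0, 4, 0, 4, 2], [3, 5, 1, 5, 1, 5, 1, 5, 1, 5, 1, 5, 3, 9, 5, 1, 5, 1, 5, 9, 1, 9, 5, 1, 5, 1, 5,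 9, 5, 8, 4, 0, 4, 0, 4, 8, 0, 8, 4, 0, 4, 0, 4, 8, 2, 4, 0, 4, 0, 4, 0, 4, 0, 4, 0, 4, 2, 4])) (BT.leaf (58, [7, 3, 5, 1, 5, 1, 5, 1, 5, 1, 5, 1, 5, 3, 9, 5, 1, 5, 1, 5, 9, 1, 9, 5, 1, 5, 1, 5, 9, 6, 8, 4, 0, 4, 0, 4, 8, 0, 8, 4, 0, 4, 0, 4, 8, 2, 4, 0, 4, 0, 4, 0, 4, 0, 4, 0, 4, 2], [3, 5, 1, 5, 1, 5, 1, 5, 1, 5, 1, 5, 3, 9, 5, 1, 5, 1, 5, 9, 1, 9, 5, 1, 5, 1, 5, 9, 7, 8, 4, 0, 4, 0, 4, 8, 0, 8, 4, 0, 4, 0, 4, 8, 2, 4, 0, 4, 0, 4, 0, 4, 0, 4, 0, 4, 2, 6]))))) (BT.node 181 (BT.node 179 (BT.node 178 (BT.leaf (58, [9, 3, 5, 1, 5, 1, 5, 1, 5, 1, 5, 1, 5, 3, 9, 5, 1, 5, 1, 5, 9, 1, 9, 5, 1, 5, 1, 5, 9, 8, 8, 4, 0, 4, 0, 4, 8, 0, 8, 4, 0, 4, 0, 4, 8, 2, 4, 0, 4, 0, 4, 0, 4, 0, 4, 0, 4, 2], [3, 5, 1, 5, 1, 5, 1, 5, 1, 5, 1, 5, 3, 9, 5, 1, 5, 1, 5, 9, 1, 9, 5, 1, 5, 1, 5, 9, 9, 8, 4, 0, 4, 0, 4, 8, 0, 8, 4, 0, 4, 0, 4, 8, 2, 4, 0, 4, 0, 4, 0, 4, 0, 4, 0, 4, 2, 8])) (BT.leaf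 (58, [11, 3, 5, 1, 5, 1, 5, 1, 5, 1, 5, 1, 5, 3, 9, 5, 1, 5, 1, 5, 9, 1, 9, 5, 1, 5, 1, 5, 9, 10, 8, 4, 0, 4, 0, 4, 8, 0, 8, 4, 0, 4, 0, 4, 8, 2, 4, 0, 4, 0, 4, 0, 4, 0, 4, 0, 4, 2], [3, 5, 1, 5, 1, 5, 1, 5, 1, 5, 1, 5, 3, 9, 5, 1, 5, 1, 5, 9, 1, 9, 5, 1, 5, 1, 5, 9, 11, 8, 4, 0, 4, 0, 4, 8, 0, 8, 4, 0, 4, 0, 4, 8, 2, 4, 0, 4, 0, 4, 0, 4, 0, 4, 0, 4, 2, 10]))) (BT.node 180 (BT.leaf (58, [1, 3, 5, 1, 5, 1, 3, 5, 1, 5, 3, 9, 5, 1, 5, 1, 7, 9, 5, 3, 9, 5, 9, 7, 1, 5, 1, 5, 9, 0, 8, 4, 0, 4, 0, 6, 8, 4, 8, 2, 4, 8, 6, 0, 4, 0, 4, 8, 2, 4, 0, 4, 2, 0, 4, 0, 4, 2], [3, 5, 1, 5, 1, 3, 5, 1, 5, 3, 9, 5, 1, 5, 1, 7, 9, 5, 3, 9, 5, 9, 7, 1, 5, 1, 5, 9, 1, 8, 4, 0, 4, 0, 6, 8, 4, 8, 2, 4, 8, 6, 0, 4, 0, 4, 8, 2, 4, 0, 4, 2, 0, 4, 0, 4, 2, 0])) (BT.leaf (58, [3, 3, 5, 1, 5, 1, 3, 5, 1, 5, 3, 9, 5, 1, 5, 1, 7, 9, 5, 3, 9, 5, 9, 7, 1, 5, 1, 5, 9, 2, 8, 4, 0, 4, 0, 6, 8, 4, 8, 2,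 4, 8, 6, 0, 4, 0, 4, 8, 2, 4, 0, 4, 2, 0, 4, 0, 4, 2], [3, 5, 1, 5, 1, 3, 5, 1, 5, 3, 9, 5, 1, 5, 1, 7, 9, 5, 3, 9, 5, 9, 7, 1, 5, 1, 5, 9, 3, 8, 4, 0, 4, 0, 6, 8, 4, 8, 2, 4, 8, 6, 0, 4, 0, 4, 8, 2, 4, 0, 4, 2, 0, 4, 0, 4, 2, 2])))) (BT.node 183 (BT.node 182 (BT.leaf (58, [5, 3, 5, 1, 5, 1, 3, 5, 1, 5, 3, 9, 5, 1, 5, 1, 7, 9, 5, 3, 9, 5, 9, 7, 1, 5, 1, 5, 9, 4, 8, 4, 0, 4, 0, 6, 8, 4, 8, 2, 4, 8, 6, 0, 4, 0, 4, 8, 2, 4, 0, 4, 2, 0, 4, 0, 4, 2], [3, 5, 1, 5, 1, 3, 5, 1, 5, 3, 9, 5, 1, 5, 1, 7, 9, 5, 3, 9, 5, 9, 7, 1, 5, 1, 5, 9, 5, 8, 4, 0, 4, 0, 6, 8, 4, 8, 2, 4, 8, 6, 0, 4, 0, 4, 8, 2, 4, 0, 4, 2, 0, 4, 0, 4, 2, 4])) (BT.leaf (58, [7, 3, 5, 1, 5, 1, 3, 5, 1, 5, 3, 9, 5, 1, 5, 1, 7, 9, 5, 3, 9, 5, 9, 7, 1, 5, 1, 5, 9, 6, 8, 4, 0, 4, 0, 6, 8, 4, 8, 2, 4, 8, 6, 0, 4, 0, 4, 8, 2, 4, 0, 4, 2, 0, 4, 0, 4, 2], [3, 5, 1, 5, 1, 3, 5, 1, 5, 3, 9, 5, 1, 5, 1, 7, 9, 5, 3, 9,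 5, 9, 7, 1, 5, 1, 5, 9, 7, 8, 4, 0, 4, 0, 6, 8, 4, 8, 2, 4, 8, 6, 0, 4, 0, 4, 8, 2, 4, 0, 4, 2, 0, 4, 0, 4, 2, 6]))) (BT.node 184 (BT.leaf (58, [9, 3, 5, 1, 5, 1, 3, 5, 1, 5, 3, 9, 5, 1, 5, 1, 7, 9, 5, 3, 9, 5, 9, 7, 1, 5, 1, 5, 9, 8, 8, 4, 0, 4, 0, 6, 8, 4, 8, 2, 4, 8, 6, 0, 4, 0, 4, 8, 2, 4, 0, 4, 2, 0, 4, 0, 4, 2], [3, 5, 1, 5, 1, 3, 5, 1, 5, 3, 9, 5, 1, 5, 1, 7, 9, 5, 3, 9, 5, 9, 7, 1, 5, 1, 5, 9, 9, 8, 4, 0, 4, 0, 6, 8, 4, 8, 2, 4, 8, 6, 0, 4, 0, 4, 8, 2, 4, 0, 4, 2, 0, 4, 0, 4, 2, 8])) (BT.leaf (58, [11, 3, 5, 1, 5, 1, 3, 5, 1, 5, 3, 9, 5, 1, 5, 1, 7, 9, 5, 3, 9, 5, 9, 7, 1, 5, 1, 5, 9, 10, 8, 4, 0, 4, 0, 6, 8, 4, 8, 2, 4, 8, 6, 0, 4, 0, 4, 8, 2, 4, 0, 4, 2, 0, 4, 0, 4, 2], [3, 5, 1, 5, 1, 3, 5, 1, 5, 3, 9, 5, 1, 5, 1, 7, 9, 5, 3, 9, 5, 9, 7, 1, 5, 1, 5, 9, 11, 8, 4, 0, 4, 0, 6, 8, 4, 8, 2, 4, 8, 6, 0, 4, 0, 4, 8, 2, 4, 0, 4, 2, 0, 4, 0, 4, 2, 10])))))) (BT.node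 194 (BT.node 190 (BT.node 188 (BT.node 187 (BT.node 186 (BT.leaf (58, [1, 5, 3, 5, 9, 5, 1, 7, 9, 7, 5, 7, 9, 5, 7, 5, 7, 5, 7, 9, 3, 5, 7, 9, 7, 5, 1, 5, 9, 0, 8, 4, 0, 4, 6, 8, 6, 4, 2, 8, 6, 4, 6, 4, 6, 4, 8, 6, 4, 6, 8, 6, 0, 4, 8, 4, 2, 4], [5, 3, 5, 9, 5, 1, 7, 9, 7, 5, 7, 9, 5, 7, 5, 7, 5, 7, 9, 3, 5, 7, 9, 7, 5, 1, 5, 9, 1, 8, 4, 0, 4, 6, 8, 6, 4, 2, 8, 6, 4, 6, 4, 6, 4, 8, 6, 4, 6, 8, 6, 0, 4, 8, 4, 2, 4, 0])) (BT.leaf (58, [3, 5, 3, 5, 9, 5, 1, 7, 9, 7, 5, 7, 9, 5, 7, 5, 7, 5, 7, 9, 3, 5, 7, 9, 7, 5, 1, 5, 9, 2, 8, 4, 0, 4, 6, 8, 6, 4, 2, 8, 6, 4, 6, 4, 6, 4, 8, 6, 4, 6, 8, 6, 0, 4, 8, 4, 2, 4], [5, 3, 5, 9, 5, 1, 7, 9, 7, 5, 7, 9, 5, 7, 5, 7, 5, 7, 9, 3, 5, 7, 9, 7, 5, 1, 5, 9, 3, 8, 4, 0, 4, 6, 8, 6, 4, 2, 8, 6, 4, 6, 4, 6, 4, 8, 6, 4, 6, 8, 6, 0, 4, 8, 4, 2, 4, 2]))) (BT.leaf (58, [5, 5, 3, 5, 9, 5, 1, 7, 9, 7, 5, 7, 9, 5, 7, 5, 7, 5, 7, 9, 3, 5, 7, 9,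 7, 5, 1, 5, 9, 4, 8, 4, 0, 4, 6, 8, 6, 4, 2, 8, 6, 4, 6, 4, 6, 4, 8, 6, 4, 6, 8, 6, 0, 4, 8, 4, 2, 4], [5, 3, 5, 9, 5, 1, 7, 9, 7, 5, 7, 9, 5, 7, 5, 7, 5, 7, 9, 3, 5, 7, 9, 7, 5, 1, 5, 9, 5, 8, 4, 0, 4, 6, 8, 6, 4, 2, 8, 6, 4, 6, 4, 6, 4, 8, 6, 4, 6, 8, 6, 0, 4, 8, 4, 2, 4, 4]))) (BT.node 189 (BT.leaf (58, [7, 5, 3, 5, 9, 5, 1, 7, 9, 7, 5, 7, 9, 5, 7, 5, 7, 5, 7, 9, 3, 5, 7, 9, 7, 5, 1, 5, 9, 6, 8, 4, 0, 4, 6, 8, 6, 4, 2, 8, 6, 4, 6, 4, 6, 4, 8, 6, 4, 6, 8, 6, 0, 4, 8, 4, 2, 4], [5, 3, 5, 9, 5, 1, 7, 9, 7, 5, 7, 9, 5, 7, 5, 7, 5, 7, 9, 3, 5, 7, 9, 7, 5, 1, 5, 9, 7, 8, 4, 0, 4, 6, 8, 6, 4, 2, 8, 6, 4, 6, 4, 6, 4, 8, 6, 4, 6, 8, 6, 0, 4, 8, 4, 2, 4, 6])) (BT.leaf (58, [9, 5, 3, 5, 9, 5, 1, 7, 9, 7, 5, 7, 9, 5, 7, 5, 7, 5, 7, 9, 3, 5, 7, 9, 7, 5, 1, 5, 9, 8, 8, 4, 0, 4, 6, 8, 6, 4, 2, 8, 6, 4, 6, 4, 6, 4, 8, 6, 4, 6, 8, 6, 0, 4, 8, 4, 2, 4], [5, 3, 5, 9, 5, 1, 7, 9, 7,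 5, 7, 9, 5, 7, 5, 7, 5, 7, 9, 3, 5, 7, 9, 7, 5, 1, 5, 9, 9, 8, 4, 0, 4, 6, 8, 6, 4, 2, 8, 6, 4, 6, 4, 6, 4, 8, 6, 4, 6, 8, 6, 0, 4, 8, 4, 2, 4, 8])))) (BT.node 192 (BT.node 191 (BT.leaf (58, [11, 5, 3, 5, 9, 5, 1, 7, 9, 7, 5, 7, 9, 5, 7, 5, 7, 5, 7, 9, 3, 5, 7, 9, 7, 5, 1, 5, 9, 10, 8, 4, 0, 4, 6, 8, 6, 4, 2, 8, 6, 4, 6, 4, 6, 4, 8, 6, 4, 6, 8, 6, 0, 4, 8, 4, 2, 4], [5, 3, 5, 9, 5, 1, 7, 9, 7, 5, 7, 9, 5, 7, 5, 7, 5, 7, 9, 3, 5, 7, 9, 7, 5, 1, 5, 9, 11, 8, 4, 0, 4, 6, 8, 6, 4, 2, 8, 6, 4, 6, 4, 6, 4, 8, 6, 4, 6, 8, 6, 0, 4, 8, 4, 2, 4, 10])) (BT.leaf (58, [1, 3, 5, 7, 5, 3, 9, 5, 1, 5, 9, 5, 3, 9, 7, 5, 1, 3, 1, 5, 7, 9, 3, 5, 9, 5, 1, 5, 9, 0, 8, 4, 0, 4, 8, 4, 2, 8, 6, 4, 0, 2, 0, 4, 6, 8, 2, 4, 8, 4, 0, 4, 8, 2, 4, 6, 4, 2], [3, 5, 7, 5, 3, 9, 5, 1, 5, 9, 5, 3, 9, 7, 5, 1, 3, 1, 5, 7, 9, 3, 5, 9, 5, 1, 5, 9, 1, 8, 4, 0, 4, 8, 4, 2, 8, 6, 4, 0, 2, 0, 4, 6, 8, 2,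 4, 8, 4, 0, 4, 8, 2, 4, 6, 4, 2, 0]))) (BT.node 193 (BT.leaf (58, [3, 3, 5, 7, 5, 3, 9, 5, 1, 5, 9, 5, 3, 9, 7, 5, 1, 3, 1, 5, 7, 9, 3, 5, 9, 5, 1, 5, 9, 2, 8, 4, 0, 4, 8, 4, 2, 8, 6, 4, 0, 2, 0, 4, 6, 8, 2, 4, 8, 4, 0, 4, 8, 2, 4, 6, 4, 2], [3, 5, 7, 5, 3, 9, 5, 1, 5, 9, 5, 3, 9, 7, 5, 1, 3, 1, 5, 7, 9, 3, 5, 9, 5, 1, 5, 9, 3, 8, 4, 0, 4, 8, 4, 2, 8, 6, 4, 0, 2, 0, 4, 6, 8, 2, 4, 8, 4, 0, 4, 8, 2, 4, 6, 4, 2, 2])) (BT.leaf (58, [5, 3, 5, 7, 5, 3, 9, 5, 1, 5, 9, 5, 3, 9, 7, 5, 1, 3, 1, 5, 7, 9, 3, 5, 9, 5, 1, 5, 9, 4, 8, 4, 0, 4, 8, 4, 2, 8, 6, 4, 0, 2, 0, 4, 6, 8, 2, 4, 8, 4, 0, 4, 8, 2, 4, 6, 4, 2], [3, 5, 7, 5, 3, 9, 5, 1, 5, 9, 5, 3, 9, 7, 5, 1, 3, 1, 5, 7, 9, 3, 5, 9, 5, 1, 5, 9, 5, 8, 4, 0, 4, 8, 4, 2, 8, 6, 4, 0, 2, 0, 4, 6, 8, 2, 4, 8, 4, 0, 4, 8, 2, 4, 6, 4, 2, 4]))))) (BT.node 198 (BT.node 196 (BT.node 195 (BT.leaf (58, [7, 3, 5, 7, 5, 3, 9, 5, 1, 5, 9, 5,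 3, 9, 7, 5, 1, 3, 1, 5, 7, 9, 3, 5, 9, 5, 1, 5, 9, 6, 8, 4, 0, 4, 8, 4, 2, 8, 6, 4, 0, 2, 0, 4, 6, 8, 2, 4, 8, 4, 0, 4, 8, 2, 4, 6, 4, 2], [3, 5, 7, 5, 3, 9, 5, 1, 5, 9, 5, 3, 9, 7, 5, 1, 3, 1, 5, 7, 9, 3, 5, 9, 5, 1, 5, 9, 7, 8, 4, 0, 4, 8, 4, 2, 8, 6, 4, 0, 2, 0, 4, 6, 8, 2, 4, 8, 4, 0, 4, 8, 2, 4, 6, 4, 2, 6])) (BT.leaf (58, [9, 3, 5, 7, 5, 3, 9, 5, 1, 5, 9, 5, 3, 9, 7, 5, 1, 3, 1, 5, 7, 9, 3, 5, 9, 5, 1, 5, 9, 8, 8, 4, 0, 4, 8, 4, 2, 8, 6, 4, 0, 2, 0, 4, 6, 8, 2, 4, 8, 4, 0, 4, 8, 2, 4, 6, 4, 2], [3, 5, 7, 5, 3, 9, 5, 1, 5, 9, 5, 3, 9, 7, 5, 1, 3, 1, 5, 7, 9, 3, 5, 9, 5, 1, 5, 9, 9, 8, 4, 0, 4, 8, 4, 2, 8, 6, 4, 0, 2, 0, 4, 6, 8, 2, 4, 8, 4, 0, 4, 8, 2, 4, 6, 4, 2, 8]))) (BT.node 197 (BT.leaf (58, [11, 3, 5, 7, 5, 3, 9, 5, 1, 5, 9, 5, 3, 9, 7, 5, 1, 3, 1, 5, 7, 9, 3, 5, 9, 5, 1, 5, 9, 10, 8, 4, 0, 4, 8, 4, 2, 8, 6, 4, 0, 2, 0, 4, 6, 8, 2, 4, 8, 4, 0, 4, 8, 2, 4,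 6, 4, 2], [3, 5, 7, 5, 3, 9, 5, 1, 5, 9, 5, 3, 9, 7, 5, 1, 3, 1, 5, 7, 9, 3, 5, 9, 5, 1, 5, 9, 11, 8, 4, 0, 4, 8, 4, 2, 8, 6, 4, 0, 2, 0, 4, 6, 8, 2, 4, 8, 4, 0, 4, 8, 2, 4, 6, 4, 2, 10])) (BT.leaf (58, [1, 1, 3, 5, 1, 5, 1, 5, 1, 7, 5, 1, 5, 1, 5, 1, 3, 9, 5, 1, 7, 5, 1, 7, 5, 7, 1, 5, 9, 0, 8, 4, 0, 6, 4, 6, 0, 4, 6, 0, 4, 8, 2, 0, 4, 0, 4, 0, 4, 6, 0, 4, 0, 4, 0, 4, 2, 0], [1, 3, 5, 1, 5, 1, 5, 1, 7, 5, 1, 5, 1, 5, 1, 3, 9, 5, 1, 7, 5, 1, 7, 5, 7, 1, 5, 9, 1, 8, 4, 0, 6, 4, 6, 0, 4, 6, 0, 4, 8, 2, 0, 4, 0, 4, 0, 4, 6, 0, 4, 0, 4, 0, 4, 2, 0, 0])))) (BT.node 200 (BT.node 199 (BT.leaf (58, [3, 1, 3, 5, 1, 5, 1, 5, 1, 7, 5, 1, 5, 1, 5, 1, 3, 9, 5, 1, 7, 5, 1, 7, 5, 7, 1, 5, 9, 2, 8, 4, 0, 6, 4, 6, 0, 4, 6, 0, 4, 8, 2, 0, 4, 0, 4, 0, 4, 6, 0, 4, 0, 4, 0, 4, 2, 0], [1, 3, 5, 1, 5, 1, 5, 1, 7, 5, 1, 5, 1, 5, 1, 3, 9, 5, 1, 7, 5, 1, 7, 5, 7, 1, 5, 9, 3, 8, 4, 0, 6, 4,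 6, 0, 4, 6, 0, 4, 8, 2, 0, 4, 0, 4, 0, 4, 6, 0, 4, 0, 4, 0, 4, 2, 0, 2])) (BT.leaf (58, [5, 1, 3, 5, 1, 5, 1, 5, 1, 7, 5, 1, 5, 1, 5, 1, 3, 9, 5, 1, 7, 5, 1, 7, 5, 7, 1, 5, 9, 4, 8, 4, 0, 6, 4, 6, 0, 4, 6, 0, 4, 8, 2, 0, 4, 0, 4, 0, 4, 6, 0, 4, 0, 4, 0, 4, 2, 0], [1, 3, 5, 1, 5, 1, 5, 1, 7, 5, 1, 5, 1, 5, 1, 3, 9, 5, 1, 7, 5, 1, 7, 5, 7, 1, 5, 9, 5, 8, 4, 0, 6, 4, 6, 0, 4, 6, 0, 4, 8, 2, 0, 4, 0, 4, 0, 4, 6, 0, 4, 0, 4, 0, 4, 2, 0, 4]))) (BT.node 201 (BT.leaf (58, [7, 1, 3, 5, 1, 5, 1, 5, 1, 7, 5, 1, 5, 1, 5, 1, 3, 9, 5, 1, 7, 5, 1, 7, 5, 7, 1, 5, 9, 6, 8, 4, 0, 6, 4, 6, 0, 4, 6, 0, 4, 8, 2, 0, 4, 0, 4, 0, 4, 6, 0, 4, 0, 4, 0, 4, 2, 0], [1, 3, 5, 1, 5, 1, 5, 1, 7, 5, 1, 5, 1, 5, 1, 3, 9, 5, 1, 7, 5, 1, 7, 5, 7, 1, 5, 9, 7, 8, 4, 0, 6, 4, 6, 0, 4, 6, 0, 4, 8, 2, 0, 4, 0, 4, 0, 4, 6, 0, 4, 0, 4, 0, 4, 2, 0, 6])) (BT.leaf (58, [9, 1, 3, 5, 1, 5, 1, 5, 1, 7, 5, 1, 5, 1,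 5, 1, 3, 9, 5, 1, 7, 5, 1, 7, 5, 7, 1, 5, 9, 8, 8, 4, 0, 6, 4, 6, 0, 4, 6, 0, 4, 8, 2, 0, 4, 0, 4, 0, 4, 6, 0, 4, 0, 4, 0, 4, 2, 0], [1, 3, 5, 1, 5, 1, 5, 1, 7, 5, 1, 5, 1, 5, 1, 3, 9, 5, 1, 7, 5, 1, 7, 5, 7, 1, 5, 9, 9, 8, 4, 0, 6, 4, 6, 0, 4, 6, 0, 4, 8, 2, 0, 4, 0, 4, 0, 4, 6, 0, 4, 0, 4, 0, 4, 2, 0, 8])))))))) (BT.node 236 (BT.node 219 (BT.node 211 (BT.node 207 (BT.node 205 (BT.node 204 (BT.node 203 (BT.leaf (58, [11, 1, 3, 5, 1, 5, 1, 5, 1, 7, 5, 1, 5, 1, 5, 1, 3, 9, 5, 1, 7, 5, 1, 7, 5, 7, 1, 5, 9, 10, 8, 4, 0, 6, 4, 6, 0, 4, 6, 0, 4, 8, 2, 0, 4, 0, 4, 0, 4, 6, 0, 4, 0, 4, 0, 4, 2, 0], [1, 3, 5, 1, 5, 1, 5, 1, 7, 5, 1, 5, 1, 5, 1, 3, 9, 5, 1, 7, 5, 1, 7, 5, 7, 1, 5, 9, 11, 8, 4, 0, 6, 4, 6, 0, 4, 6, 0, 4, 8, 2, 0, 4, 0, 4, 0, 4, 6, 0, 4, 0, 4, 0, 4, 2, 0, 10])) (BT.leaf (58, [1, 5, 3, 5, 7, 5, 3, 9, 5, 9, 7, 5, 9, 5, 3, 5, 9, 5, 7, 5, 9, 3, 5, 7, 9, 5, 3, 5,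 9, 0, 8, 4, 2, 4, 8, 6, 4, 2, 8, 4, 6, 4, 8, 4, 2, 4, 8, 4, 6, 8, 4, 8, 2, 4, 6, 4, 2, 4], [5, 3, 5, 7, 5, 3, 9, 5, 9, 7, 5, 9, 5, 3, 5, 9, 5, 7, 5, 9, 3, 5, 7, 9, 5, 3, 5, 9, 1, 8, 4, 2, 4, 8, 6, 4, 2, 8, 4, 6, 4, 8, 4, 2, 4, 8, 4, 6, 8, 4, 8, 2, 4, 6, 4, 2, 4, 0]))) (BT.leaf (58, [3, 5, 3, 5, 7, 5, 3, 9, 5, 9, 7, 5, 9, 5, 3, 5, 9, 5, 7, 5, 9, 3, 5, 7, 9, 5, 3, 5, 9, 2, 8, 4, 2, 4, 8, 6, 4, 2, 8, 4, 6, 4, 8, 4, 2, 4, 8, 4, 6, 8, 4, 8, 2, 4, 6, 4, 2, 4], [5, 3, 5, 7, 5, 3, 9, 5, 9, 7, 5, 9, 5, 3, 5, 9, 5, 7, 5, 9, 3, 5, 7, 9, 5, 3, 5, 9, 3, 8, 4, 2, 4, 8, 6, 4, 2, 8, 4, 6, 4, 8, 4, 2, 4, 8, 4, 6, 8, 4, 8, 2, 4, 6, 4, 2, 4, 2]))) (BT.node 206 (BT.leaf (58, [5, 5, 3, 5, 7, 5, 3, 9, 5, 9, 7, 5, 9, 5, 3, 5, 9, 5, 7, 5, 9, 3, 5, 7, 9, 5, 3, 5, 9, 4, 8, 4, 2, 4, 8, 6, 4, 2, 8, 4, 6, 4, 8, 4, 2, 4, 8, 4, 6, 8, 4, 8, 2, 4, 6, 4, 2, 4], [5, 3, 5, 7, 5, 3, 9, 5, 9, 7, 5, 9,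 5, 3, 5, 9, 5, 7, 5, 9, 3, 5, 7, 9, 5, 3, 5, 9, 5, 8, 4, 2, 4, 8, 6, 4, 2, 8, 4, 6, 4, 8, 4, 2, 4, 8, 4, 6, 8, 4, 8, 2, 4, 6, 4, 2, 4, 4])) (BT.leaf (58, [7, 5, 3, 5, 7, 5, 3, 9, 5, 9, 7, 5, 9, 5, 3, 5, 9, 5, 7, 5, 9, 3, 5, 7, 9, 5, 3, 5, 9, 6, 8, 4, 2, 4, 8, 6, 4, 2, 8, 4, 6, 4, 8, 4, 2, 4, 8, 4, 6, 8, 4, 8, 2, 4, 6, 4, 2, 4], [5, 3, 5, 7, 5, 3, 9, 5, 9, 7, 5, 9, 5, 3, 5, 9, 5, 7, 5, 9, 3, 5, 7, 9, 5, 3, 5, 9, 7, 8, 4, 2, 4, 8, 6, 4, 2, 8, 4, 6, 4, 8, 4, 2, 4, 8, 4, 6, 8, 4, 8, 2, 4, 6, 4, 2, 4, 6])))) (BT.node 209 (BT.node 208 (BT.leaf (58, [9, 5, 3, 5, 7, 5, 3, 9, 5, 9, 7, 5, 9, 5, 3, 5, 9, 5, 7, 5, 9, 3, 5, 7, 9, 5, 3, 5, 9, 8, 8, 4, 2, 4, 8, 6, 4, 2, 8, 4, 6, 4, 8, 4, 2, 4, 8, 4, 6, 8, 4, 8, 2, 4, 6, 4, 2, 4], [5, 3, 5, 7, 5, 3, 9, 5, 9, 7, 5, 9, 5, 3, 5, 9, 5, 7, 5, 9, 3, 5, 7, 9, 5, 3, 5, 9, 9, 8, 4, 2, 4, 8, 6, 4, 2, 8, 4, 6, 4, 8, 4, 2, 4, 8, 4, 6, 8, 4, 8,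 2, 4, 6, 4, 2, 4, 8])) (BT.leaf (58, [11, 5, 3, 5, 7, 5, 3, 9, 5, 9, 7, 5, 9, 5, 3, 5, 9, 5, 7, 5, 9, 3, 5, 7, 9, 5, 3, 5, 9, 10, 8, 4, 2, 4, 8, 6, 4, 2, 8, 4, 6, 4, 8, 4, 2, 4, 8, 4, 6, 8, 4, 8, 2, 4, 6, 4, 2, 4], [5, 3, 5, 7, 5, 3, 9, 5, 9, 7, 5, 9, 5, 3, 5, 9, 5, 7, 5, 9, 3, 5, 7, 9, 5, 3, 5, 9, 11, 8, 4, 2, 4, 8, 6, 4, 2, 8, 4, 6, 4, 8, 4, 2, 4, 8, 4, 6, 8, 4, 8, 2, 4, 6, 4, 2, 4, 10]))) (BT.node 210 (BT.leaf (58, [1, 3, 5, 1, 7, 5, 3, 9, 5, 1, 7, 5, 9, 5, 3, 7, 5, 1, 3, 1, 5, 7, 5, 9, 5, 7, 3, 5, 9, 0, 8, 4, 2, 6, 4, 8, 4, 6, 4, 0, 2, 0, 4, 6, 2, 4, 8, 4, 6, 0, 4, 8, 2, 4, 6, 0, 4, 2], [3, 5, 1, 7, 5, 3, 9, 5, 1, 7, 5, 9, 5, 3, 7, 5, 1, 3, 1, 5, 7, 5, 9, 5, 7, 3, 5, 9, 1, 8, 4, 2, 6, 4, 8, 4, 6, 4, 0, 2, 0, 4, 6, 2, 4, 8, 4, 6, 0, 4, 8, 2, 4, 6, 0, 4, 2, 0])) (BT.leaf (58, [3, 3, 5, 1, 7, 5, 3, 9, 5, 1, 7, 5, 9, 5, 3, 7, 5, 1, 3, 1, 5, 7, 5, 9, 5, 7, 3, 5, 9,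 2, 8, 4, 2, 6, 4, 8, 4, 6, 4, 0, 2, 0, 4, 6, 2, 4, 8, 4, 6, 0, 4, 8, 2, 4, 6, 0, 4, 2], [3, 5, 1, 7, 5, 3, 9, 5, 1, 7, 5, 9, 5, 3, 7, 5, 1, 3, 1, 5, 7, 5, 9, 5, 7, 3, 5, 9, 3, 8, 4, 2, 6, 4, 8, 4, 6, 4, 0, 2, 0, 4, 6, 2, 4, 8, 4, 6, 0, 4, 8, 2, 4, 6, 0, 4, 2, 2]))))) (BT.node 215 (BT.node 213 (BT.node 212 (BT.leaf (58, [5, 3, 5, 1, 7, 5, 3, 9, 5, 1, 7, 5, 9, 5, 3, 7, 5, 1, 3, 1, 5, 7, 5, 9, 5, 7, 3, 5, 9, 4, 8, 4, 2, 6, 4, 8, 4, 6, 4, 0, 2, 0, 4, 6, 2, 4, 8, 4, 6, 0, 4, 8, 2, 4, 6, 0, 4, 2], [3, 5, 1, 7, 5, 3, 9, 5, 1, 7, 5, 9, 5, 3, 7, 5, 1, 3, 1, 5, 7, 5, 9, 5, 7, 3, 5, 9, 5, 8, 4, 2, 6, 4, 8, 4, 6, 4, 0, 2, 0, 4, 6, 2, 4, 8, 4, 6, 0, 4, 8, 2, 4, 6, 0, 4, 2, 4])) (BT.leaf (58, [7, 3, 5, 1, 7, 5, 3, 9, 5, 1, 7, 5, 9, 5, 3, 7, 5, 1, 3, 1, 5, 7, 5, 9, 5, 7, 3, 5, 9, 6, 8, 4, 2, 6, 4, 8, 4, 6, 4, 0, 2, 0, 4, 6, 2, 4, 8, 4, 6, 0, 4, 8, 2, 4, 6, 0, 4, 2], [3, 5, 1, 7,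 5, 3, 9, 5, 1, 7, 5, 9, 5, 3, 7, 5, 1, 3, 1, 5, 7, 5, 9, 5, 7, 3, 5, 9, 7, 8, 4, 2, 6, 4, 8, 4, 6, 4, 0, 2, 0, 4, 6, 2, 4, 8, 4, 6, 0, 4, 8, 2, 4, 6, 0, 4, 2, 6]))) (BT.node 214 (BT.leaf (58, [9, 3, 5, 1, 7, 5, 3, 9, 5, 1, 7, 5, 9, 5, 3, 7, 5, 1, 3, 1, 5, 7, 5, 9, 5, 7, 3, 5, 9, 8, 8, 4, 2, 6, 4, 8, 4, 6, 4, 0, 2, 0, 4, 6, 2, 4, 8, 4, 6, 0, 4, 8, 2, 4, 6, 0, 4, 2], [3, 5, 1, 7, 5, 3, 9, 5, 1, 7, 5, 9, 5, 3, 7, 5, 1, 3, 1, 5, 7, 5, 9, 5, 7, 3, 5, 9, 9, 8, 4, 2, 6, 4, 8, 4, 6, 4, 0, 2, 0, 4, 6, 2, 4, 8, 4, 6, 0, 4, 8, 2, 4, 6, 0, 4, 2, 8])) (BT.leaf (58, [11, 3, 5, 1, 7, 5, 3, 9, 5, 1, 7, 5, 9, 5, 3, 7, 5, 1, 3, 1, 5, 7, 5, 9, 5, 7, 3, 5, 9, 10, 8, 4, 2, 6, 4, 8, 4, 6, 4, 0, 2, 0, 4, 6, 2, 4, 8, 4, 6, 0, 4, 8, 2, 4, 6, 0, 4, 2], [3, 5, 1, 7, 5, 3, 9, 5, 1, 7, 5, 9, 5, 3, 7, 5, 1, 3, 1, 5, 7, 5, 9, 5, 7, 3, 5, 9, 11, 8, 4, 2, 6, 4, 8, 4, 6, 4, 0, 2, 0, 4, 6, 2, 4, 8,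 4, 6, 0, 4, 8, 2, 4, 6, 0, 4, 2, 10])))) (BT.node 217 (BT.node 216 (BT.leaf (58, [1, 5, 1, 5, 3, 5, 1, 5, 3, 5, 1, 5, 9, 5, 3, 7, 5, 9, 5, 3, 1, 9, 5, 9, 5, 7, 3, 5, 9, 0, 8, 4, 2, 6, 4, 8, 4, 8, 0, 2, 4, 8, 4, 6, 2, 4, 8, 4, 0, 4, 2, 4, 0, 4, 2, 4, 0, 4], [5, 1, 5, 3, 5, 1, 5, 3, 5, 1, 5, 9, 5, 3, 7, 5, 9, 5, 3, 1, 9, 5, 9, 5, 7, 3, 5, 9, 1, 8, 4, 2, 6, 4, 8, 4, 8, 0, 2, 4, 8, 4, 6, 2, 4, 8, 4, 0, 4, 2, 4, 0, 4, 2, 4, 0, 4, 0])) (BT.leaf (58, [3, 5, 1, 5, 3, 5, 1, 5, 3, 5, 1, 5, 9, 5, 3, 7, 5, 9, 5, 3, 1, 9, 5, 9, 5, 7, 3, 5, 9, 2, 8, 4, 2, 6, 4, 8, 4, 8, 0, 2, 4, 8, 4, 6, 2, 4, 8, 4, 0, 4, 2, 4, 0, 4, 2, 4, 0, 4], [5, 1, 5, 3, 5, 1, 5, 3, 5, 1, 5, 9, 5, 3, 7, 5, 9, 5, 3, 1, 9, 5, 9, 5, 7, 3, 5, 9, 3, 8, 4, 2, 6, 4, 8, 4, 8, 0, 2, 4, 8, 4, 6, 2, 4, 8, 4, 0, 4, 2, 4, 0, 4, 2, 4, 0, 4, 2]))) (BT.node 218 (BT.leaf (58, [5, 5, 1, 5, 3, 5, 1, 5, 3, 5, 1, 5, 9, 5, 3, 7,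 5, 9, 5, 3, 1, 9, 5, 9, 5, 7, 3, 5, 9, 4, 8, 4, 2, 6, 4, 8, 4, 8, 0, 2, 4, 8, 4, 6, 2, 4, 8, 4, 0, 4, 2, 4, 0, 4, 2, 4, 0, 4], [5, 1, 5, 3, 5, 1, 5, 3, 5, 1, 5, 9, 5, 3, 7, 5, 9, 5, 3, 1, 9, 5, 9, 5, 7, 3, 5, 9, 5, 8, 4, 2, 6, 4, 8, 4, 8, 0, 2, 4, 8, 4, 6, 2, 4, 8, 4, 0, 4, 2, 4, 0, 4, 2, 4, 0, 4, 4])) (BT.leaf (58, [7, 5, 1, 5, 3, 5, 1, 5, 3, 5, 1, 5, 9, 5, 3, 7, 5, 9, 5, 3, 1, 9, 5, 9, 5, 7, 3, 5, 9, 6, 8, 4, 2, 6, 4, 8, 4, 8, 0, 2, 4, 8, 4, 6, 2, 4, 8, 4, 0, 4, 2, 4, 0, 4, 2, 4, 0, 4], [5, 1, 5, 3, 5, 1, 5, 3, 5, 1, 5, 9, 5, 3, 7, 5, 9, 5, 3, 1, 9, 5, 9, 5, 7, 3, 5, 9, 7, 8, 4, 2, 6, 4, 8, 4, 8, 0, 2, 4, 8, 4, 6, 2, 4, 8, 4, 0, 4, 2, 4, 0, 4, 2, 4, 0, 4, 6])))))) (BT.node 228 (BT.node 224 (BT.node 222 (BT.node 221 (BT.node 220 (BT.leaf (58, [9, 5, 1, 5, 3, 5, 1, 5, 3, 5, 1, 5, 9, 5, 3, 7, 5, 9, 5, 3, 1, 9, 5, 9, 5, 7, 3, 5, 9, 8, 8, 4, 2, 6, 4, 8, 4, 8, 0, 2, 4,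 8, 4, 6, 2, 4, 8, 4, 0, 4, 2, 4, 0, 4, 2, 4, 0, 4], [5, 1, 5, 3, 5, 1, 5, 3, 5, 1, 5, 9, 5, 3, 7, 5, 9, 5, 3, 1, 9, 5, 9, 5, 7, 3, 5, 9, 9, 8, 4, 2, 6, 4, 8, 4, 8, 0, 2, 4, 8, 4, 6, 2, 4, 8, 4, 0, 4, 2, 4, 0, 4, 2, 4, 0, 4, 8])) (BT.leaf (58, [11, 5, 1, 5, 3, 5, 1, 5, 3, 5, 1, 5, 9, 5, 3, 7, 5, 9, 5, 3, 1, 9, 5, 9, 5, 7, 3, 5, 9, 10, 8, 4, 2, 6, 4, 8, 4, 8, 0, 2, 4, 8, 4, 6, 2, 4, 8, 4, 0, 4, 2, 4, 0, 4, 2, 4, 0, 4], [5, 1, 5, 3, 5, 1, 5, 3, 5, 1, 5, 9, 5, 3, 7, 5, 9, 5, 3, 1, 9, 5, 9, 5, 7, 3, 5, 9, 11, 8, 4, 2, 6, 4, 8, 4, 8, 0, 2, 4, 8, 4, 6, 2, 4, 8, 4, 0, 4, 2, 4, 0, 4, 2, 4, 0, 4, 10]))) (BT.leaf (58, [1, 3, 5, 1, 3, 5, 3, 9, 5, 9, 7, 5, 3, 9, 5, 1, 5, 9, 5, 9, 5, 3, 5, 9, 7, 9, 3, 5, 9, 0, 8, 4, 2, 8, 6, 8, 4, 2, 4, 8, 4, 8, 4, 0, 4, 8, 2, 4, 6, 8, 4, 8, 2, 4, 2, 0, 4, 2], [3, 5, 1, 3, 5, 3, 9, 5, 9, 7, 5, 3, 9, 5, 1, 5, 9, 5, 9, 5, 3, 5, 9, 7, 9, 3, 5, 9, 1,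 8, 4, 2, 8, 6, 8, 4, 2, 4, 8, 4, 8, 4, 0, 4, 8, 2, 4, 6, 8, 4, 8, 2, 4, 2, 0, 4, 2, 0]))) (BT.node 223 (BT.leaf (58, [3, 3, 5, 1, 3, 5, 3, 9, 5, 9, 7, 5, 3, 9, 5, 1, 5, 9, 5, 9, 5, 3, 5, 9, 7, 9, 3, 5, 9, 2, 8, 4, 2, 8, 6, 8, 4, 2, 4, 8, 4, 8, 4, 0, 4, 8, 2, 4, 6, 8, 4, 8, 2, 4, 2, 0, 4, 2], [3, 5, 1, 3, 5, 3, 9, 5, 9, 7, 5, 3, 9, 5, 1, 5, 9, 5, 9, 5, 3, 5, 9, 7, 9, 3, 5, 9, 3, 8, 4, 2, 8, 6, 8, 4, 2, 4, 8, 4, 8, 4, 0, 4, 8, 2, 4, 6, 8, 4, 8, 2, 4, 2, 0, 4, 2, 2])) (BT.leaf (58, [5, 3, 5, 1, 3, 5, 3, 9, 5, 9, 7, 5, 3, 9, 5, 1, 5, 9, 5, 9, 5, 3, 5, 9, 7, 9, 3, 5, 9, 4, 8, 4, 2, 8, 6, 8, 4, 2, 4, 8, 4, 8, 4, 0, 4, 8, 2, 4, 6, 8, 4, 8, 2, 4, 2, 0, 4, 2], [3, 5, 1, 3, 5, 3, 9, 5, 9, 7, 5, 3, 9, 5, 1, 5, 9, 5, 9, 5, 3, 5, 9, 7, 9, 3, 5, 9, 5, 8, 4, 2, 8, 6, 8, 4, 2, 4, 8, 4, 8, 4, 0, 4, 8, 2, 4, 6, 8, 4, 8, 2, 4, 2, 0, 4, 2, 4])))) (BT.node 226 (BT.node 225 (BT.leaf (58,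 [7, 3, 5, 1, 3, 5, 3, 9, 5, 9, 7, 5, 3, 9, 5, 1, 5, 9, 5, 9, 5, 3, 5, 9, 7, 9, 3, 5, 9, 6, 8, 4, 2, 8, 6, 8, 4, 2, 4, 8, 4, 8, 4, 0, 4, 8, 2, 4, 6, 8, 4, 8, 2, 4, 2, 0, 4, 2], [3, 5, 1, 3, 5, 3, 9, 5, 9, 7, 5, 3, 9, 5, 1, 5, 9, 5, 9, 5, 3, 5, 9, 7, 9, 3, 5, 9, 7, 8, 4, 2, 8, 6, 8, 4, 2, 4, 8, 4, 8, 4, 0, 4, 8, 2, 4, 6, 8, 4, 8, 2, 4, 2, 0, 4, 2, 6])) (BT.leaf (58, [9, 3, 5, 1, 3, 5, 3, 9, 5, 9, 7, 5, 3, 9, 5, 1, 5, 9, 5, 9, 5, 3, 5, 9, 7, 9, 3, 5, 9, 8, 8, 4, 2, 8, 6, 8, 4, 2, 4, 8, 4, 8, 4, 0, 4, 8, 2, 4, 6, 8, 4, 8, 2, 4, 2, 0, 4, 2], [3, 5, 1, 3, 5, 3, 9, 5, 9, 7, 5, 3, 9, 5, 1, 5, 9, 5, 9, 5, 3, 5, 9, 7, 9, 3, 5, 9, 9, 8, 4, 2, 8, 6, 8, 4, 2, 4, 8, 4, 8, 4, 0, 4, 8, 2, 4, 6, 8, 4, 8, 2, 4, 2, 0, 4, 2, 8]))) (BT.node 227 (BT.leaf (58, [11, 3, 5, 1, 3, 5, 3, 9, 5, 9, 7, 5, 3, 9, 5, 1, 5, 9, 5, 9, 5, 3, 5, 9, 7, 9, 3, 5, 9, 10, 8, 4, 2, 8, 6, 8, 4, 2, 4, 8, 4, 8,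 4, 0, 4, 8, 2, 4, 6, 8, 4, 8, 2, 4, 2, 0, 4, 2], [3, 5, 1, 3, 5, 3, 9, 5, 9, 7, 5, 3, 9, 5, 1, 5, 9, 5, 9, 5, 3, 5, 9, 7, 9, 3, 5, 9, 11, 8, 4, 2, 8, 6, 8, 4, 2, 4, 8, 4, 8, 4, 0, 4, 8, 2, 4, 6, 8, 4, 8, 2, 4, 2, 0, 4, 2, 10])) (BT.leaf (58, [1, 3, 5, 7, 5, 3, 5, 9, 5, 3, 5, 7, 9, 5, 3, 9, 5, 7, 3, 5, 3, 5, 9, 5, 3, 5, 7, 5, 9, 0, 8, 4, 6, 4, 2, 4, 8, 4, 2, 4, 2, 6, 4, 8, 2, 4, 8, 6, 4, 2, 4, 8, 4, 2, 4, 6, 4, 2], [3, 5, 7, 5, 3, 5, 9, 5, 3, 5, 7, 9, 5, 3, 9, 5, 7, 3, 5, 3, 5, 9, 5, 3, 5, 7, 5, 9, 1, 8, 4, 6, 4, 2, 4, 8, 4, 2, 4, 2, 6, 4, 8, 2, 4, 8, 6, 4, 2, 4, 8, 4, 2, 4, 6, 4, 2, 0]))))) (BT.node 232 (BT.node 230 (BT.node 229 (BT.leaf (58, [3, 3, 5, 7, 5, 3, 5, 9, 5, 3, 5, 7, 9, 5, 3, 9, 5, 7, 3, 5, 3, 5, 9, 5, 3, 5, 7, 5, 9, 2, 8, 4, 6, 4, 2, 4, 8, 4, 2, 4, 2, 6, 4, 8, 2, 4, 8, 6, 4, 2, 4, 8, 4, 2, 4, 6, 4, 2], [3, 5, 7, 5, 3, 5, 9, 5, 3, 5, 7, 9, 5, 3, 9, 5, 7,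 3, 5, 3, 5, 9, 5, 3, 5, 7, 5, 9, 3, 8, 4, 6, 4, 2, 4, 8, 4, 2, 4, 2, 6, 4, 8, 2, 4, 8, 6, 4, 2, 4, 8, 4, 2, 4, 6, 4, 2, 2])) (BT.leaf (58, [5, 3, 5, 7, 5, 3, 5, 9, 5, 3, 5, 7, 9, 5, 3, 9, 5, 7, 3, 5, 3, 5, 9, 5, 3, 5, 7, 5, 9, 4, 8, 4, 6, 4, 2, 4, 8, 4, 2, 4, 2, 6, 4, 8, 2, 4, 8, 6, 4, 2, 4, 8, 4, 2, 4, 6, 4, 2], [3, 5, 7, 5, 3, 5, 9, 5, 3, 5, 7, 9, 5, 3, 9, 5, 7, 3, 5, 3, 5, 9, 5, 3, 5, 7, 5, 9, 5, 8, 4, 6, 4, 2, 4, 8, 4, 2, 4, 2, 6, 4, 8, 2, 4, 8, 6, 4, 2, 4, 8, 4, 2, 4, 6, 4, 2, 4]))) (BT.node 231 (BT.leaf (58, [7, 3, 5, 7, 5, 3, 5, 9, 5, 3, 5, 7, 9, 5, 3, 9, 5, 7, 3, 5, 3, 5, 9, 5, 3, 5, 7, 5, 9, 6, 8, 4, 6, 4, 2, 4, 8, 4, 2, 4, 2, 6, 4, 8, 2, 4, 8, 6, 4, 2, 4, 8, 4, 2, 4, 6, 4, 2], [3, 5, 7, 5, 3, 5, 9, 5, 3, 5, 7, 9, 5, 3, 9, 5, 7, 3, 5, 3, 5, 9, 5, 3, 5, 7, 5, 9, 7, 8, 4, 6, 4, 2, 4, 8, 4, 2, 4, 2, 6, 4, 8, 2, 4, 8, 6, 4, 2, 4, 8, 4, 2, 4, 6, 4, 2, 6])) (BT.leaf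 (58, [9, 3, 5, 7, 5, 3, 5, 9, 5, 3, 5, 7, 9, 5, 3, 9, 5, 7, 3, 5, 3, 5, 9, 5, 3, 5, 7, 5, 9, 8, 8, 4, 6, 4, 2, 4, 8, 4, 2, 4, 2, 6, 4, 8, 2, 4, 8, 6, 4, 2, 4, 8, 4, 2, 4, 6, 4, 2], [3, 5, 7, 5, 3, 5, 9, 5, 3, 5, 7, 9, 5, 3, 9, 5, 7, 3, 5, 3, 5, 9, 5, 3, 5, 7, 5, 9, 9, 8, 4, 6, 4, 2, 4, 8, 4, 2, 4, 2, 6, 4, 8, 2, 4, 8, 6, 4, 2, 4, 8, 4, 2, 4, 6, 4, 2, 8])))) (BT.node 234 (BT.node 233 (BT.leaf (58, [11, 3, 5, 7, 5, 3, 5, 9, 5, 3, 5, 7, 9, 5, 3, 9, 5, 7, 3, 5, 3, 5, 9, 5, 3, 5, 7, 5, 9, 10, 8, 4, 6, 4, 2, 4, 8, 4, 2, 4, 2, 6, 4, 8, 2, 4, 8, 6, 4, 2, 4, 8, 4, 2, 4, 6, 4, 2], [3, 5, 7, 5, 3, 5, 9, 5, 3, 5, 7, 9, 5, 3, 9, 5, 7, 3, 5, 3, 5, 9, 5, 3, 5, 7, 5, 9, 11, 8, 4, 6, 4, 2, 4, 8, 4, 2, 4, 2, 6, 4, 8, 2, 4, 8, 6, 4, 2, 4, 8, 4, 2, 4, 6, 4, 2, 10])) (BT.leaf (58, [1, 5, 1, 5, 3, 5, 1, 5, 3, 5, 1, 5, 9, 5, 7, 5, 9, 5, 3, 7, 9, 7, 1, 5, 9, 5, 7, 5, 9, 0, 8, 4, 6, 4, 8,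 4, 0, 6, 8, 6, 2, 4, 8, 4, 6, 4, 8, 4, 0, 4, 2, 4, 0, 4, 2, 4, 0, 4], [5, 1, 5, 3, 5, 1, 5, 3, 5, 1, 5, 9, 5, 7, 5, 9, 5, 3, 7, 9, 7, 1, 5, 9, 5, 7, 5, 9, 1, 8, 4, 6, 4, 8, 4, 0, 6, 8, 6, 2, 4, 8, 4, 6, 4, 8, 4, 0, 4, 2, 4, 0, 4, 2, 4, 0, 4, 0]))) (BT.node 235 (BT.leaf (58, [3, 5, 1, 5, 3, 5, 1, 5, 3, 5, 1, 5, 9, 5, 7, 5, 9, 5, 3, 7, 9, 7, 1, 5, 9, 5, 7, 5, 9, 2, 8, 4, 6, 4, 8, 4, 0, 6, 8, 6, 2, 4, 8, 4, 6, 4, 8, 4, 0, 4, 2, 4, 0, 4, 2, 4, 0, 4], [5, 1, 5, 3, 5, 1, 5, 3, 5, 1, 5, 9, 5, 7, 5, 9, 5, 3, 7, 9, 7, 1, 5, 9, 5, 7, 5, 9, 3, 8, 4, 6, 4, 8, 4, 0, 6, 8, 6, 2, 4, 8, 4, 6, 4, 8, 4, 0, 4, 2, 4, 0, 4, 2, 4, 0, 4, 2])) (BT.leaf (58, [5, 5, 1, 5, 3, 5, 1, 5, 3, 5, 1, 5, 9, 5, 7, 5, 9, 5, 3, 7, 9, 7, 1, 5, 9, 5, 7, 5, 9, 4, 8, 4, 6, 4, 8, 4, 0, 6, 8, 6, 2, 4, 8, 4, 6, 4, 8, 4, 0, 4, 2, 4, 0, 4, 2, 4, 0, 4], [5, 1, 5, 3, 5, 1, 5, 3, 5, 1, 5, 9, 5, 7, 5, 9, 5, 3, 7, 9,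 7, 1, 5, 9, 5, 7, 5, 9, 5, 8, 4, 6, 4, 8, 4, 0, 6, 8, 6, 2, 4, 8, 4, 6, 4, 8, 4, 0, 4, 2, 4, 0, 4, 2, 4, 0, 4, 4]))))))) (BT.node 253 (BT.node 245 (BT.node 241 (BT.node 239 (BT.node 238 (BT.node 237 (BT.leaf (58, [7, 5, 1, 5, 3, 5, 1, 5, 3, 5, 1, 5, 9, 5, 7, 5, 9, 5, 3, 7, 9, 7, 1, 5, 9, 5, 7, 5, 9, 6, 8, 4, 6, 4, 8, 4, 0, 6, 8, 6, 2, 4, 8, 4, 6, 4, 8, 4, 0, 4, 2, 4, 0, 4, 2, 4, 0, 4], [5, 1, 5, 3, 5, 1, 5, 3, 5, 1, 5, 9, 5, 7, 5, 9, 5, 3, 7, 9, 7, 1, 5, 9, 5, 7, 5, 9, 7, 8, 4, 6, 4, 8, 4, 0, 6, 8, 6, 2, 4, 8, 4, 6, 4, 8, 4, 0, 4, 2, 4, 0, 4, 2, 4, 0, 4, 6])) (BT.leaf (58, [9, 5, 1, 5, 3, 5, 1, 5, 3, 5, 1, 5, 9, 5, 7, 5, 9, 5, 3, 7, 9, 7, 1, 5, 9, 5, 7, 5, 9, 8, 8, 4, 6, 4, 8, 4, 0, 6, 8, 6, 2, 4, 8, 4, 6, 4, 8, 4, 0, 4, 2, 4, 0, 4, 2, 4, 0, 4], [5, 1, 5, 3, 5, 1, 5, 3, 5, 1, 5, 9, 5, 7, 5, 9, 5, 3, 7, 9, 7, 1, 5, 9, 5, 7, 5, 9, 9, 8, 4, 6, 4, 8, 4, 0, 6, 8, 6, 2,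 4, 8, 4, 6, 4, 8, 4, 0, 4, 2, 4, 0, 4, 2, 4, 0, 4, 8]))) (BT.leaf (58, [11, 5, 1, 5, 3, 5, 1, 5, 3, 5, 1, 5, 9, 5, 7, 5, 9, 5, 3, 7, 9, 7, 1, 5, 9, 5, 7, 5, 9, 10, 8, 4, 6, 4, 8, 4, 0, 6, 8, 6, 2, 4, 8, 4, 6, 4, 8, 4, 0, 4, 2, 4, 0, 4, 2, 4, 0, 4], [5, 1, 5, 3, 5, 1, 5, 3, 5, 1, 5, 9, 5, 7, 5, 9, 5, 3, 7, 9, 7, 1, 5, 9, 5, 7, 5, 9, 11, 8, 4, 6, 4, 8, 4, 0, 6, 8, 6, 2, 4, 8, 4, 6, 4, 8, 4, 0, 4, 2, 4, 0, 4, 2, 4, 0, 4, 10]))) (BT.node 240 (BT.leaf (58, [1, 5, 3, 5, 1, 7, 5, 3, 5, 9, 7, 9, 5, 7, 9, 5, 3, 5, 1, 5, 3, 5, 9, 7, 3, 5, 9, 7, 9, 0, 8, 6, 8, 4, 2, 6, 8, 4, 2, 4, 0, 4, 2, 4, 8, 6, 4, 8, 6, 8, 4, 2, 4, 6, 0, 4, 2, 4], [5, 3, 5, 1, 7, 5, 3, 5, 9, 7, 9, 5, 7, 9, 5, 3, 5, 1, 5, 3, 5, 9, 7, 3, 5, 9, 7, 9, 1, 8, 6, 8, 4, 2, 6, 8, 4, 2, 4, 0, 4, 2, 4, 8, 6, 4, 8, 6, 8, 4, 2, 4, 6, 0, 4, 2, 4, 0])) (BT.leaf (58, [3, 5, 3, 5, 1, 7, 5, 3, 5, 9, 7, 9, 5, 7, 9, 5, 3, 5,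 1, 5, 3, 5, 9, 7, 3, 5, 9, 7, 9, 2, 8, 6, 8, 4, 2, 6, 8, 4, 2, 4, 0, 4, 2, 4, 8, 6, 4, 8, 6, 8, 4, 2, 4, 6, 0, 4, 2, 4], [5, 3, 5, 1, 7, 5, 3, 5, 9, 7, 9, 5, 7, 9, 5, 3, 5, 1, 5, 3, 5, 9, 7, 3, 5, 9, 7, 9, 3, 8, 6, 8, 4, 2, 6, 8, 4, 2, 4, 0, 4, 2, 4, 8, 6, 4, 8, 6, 8, 4, 2, 4, 6, 0, 4, 2, 4, 2])))) (BT.node 243 (BT.node 242 (BT.leaf (58, [5, 5, 3, 5, 1, 7, 5, 3, 5, 9, 7, 9, 5, 7, 9, 5, 3, 5, 1, 5, 3, 5, 9, 7, 3, 5, 9, 7, 9, 4, 8, 6, 8, 4, 2, 6, 8, 4, 2, 4, 0, 4, 2, 4, 8, 6, 4, 8, 6, 8, 4, 2, 4, 6, 0, 4, 2, 4], [5, 3, 5, 1, 7, 5, 3, 5, 9, 7, 9, 5, 7, 9, 5, 3, 5, 1, 5, 3, 5, 9, 7, 3, 5, 9, 7, 9, 5, 8, 6, 8, 4, 2, 6, 8, 4, 2, 4, 0, 4, 2, 4, 8, 6, 4, 8, 6, 8, 4, 2, 4, 6, 0, 4, 2, 4, 4])) (BT.leaf (58, [7, 5, 3, 5, 1, 7, 5, 3, 5, 9, 7, 9, 5, 7, 9, 5, 3, 5, 1, 5, 3, 5, 9, 7, 3, 5, 9, 7, 9, 6, 8, 6, 8, 4, 2, 6, 8, 4, 2, 4, 0, 4, 2, 4, 8, 6, 4, 8, 6, 8, 4, 2, 4, 6, 0, 4, 2,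 4], [5, 3, 5, 1, 7, 5, 3, 5, 9, 7, 9, 5, 7, 9, 5, 3, 5, 1, 5, 3, 5, 9, 7, 3, 5, 9, 7, 9, 7, 8, 6, 8, 4, 2, 6, 8, 4, 2, 4, 0, 4, 2, 4, 8, 6, 4, 8, 6, 8, 4, 2, 4, 6, 0, 4, 2, 4, 6]))) (BT.node 244 (BT.leaf (58, [9, 5, 3, 5, 1, 7, 5, 3, 5, 9, 7, 9, 5, 7, 9, 5, 3, 5, 1, 5, 3, 5, 9, 7, 3, 5, 9, 7, 9, 8, 8, 6, 8, 4, 2, 6, 8, 4, 2, 4, 0, 4, 2, 4, 8, 6, 4, 8, 6, 8, 4, 2, 4, 6, 0, 4, 2, 4], [5, 3, 5, 1, 7, 5, 3, 5, 9, 7, 9, 5, 7, 9, 5, 3, 5, 1, 5, 3, 5, 9, 7, 3, 5, 9, 7, 9, 9, 8, 6, 8, 4, 2, 6, 8, 4, 2, 4, 0, 4, 2, 4, 8, 6, 4, 8, 6, 8, 4, 2, 4, 6, 0, 4, 2, 4, 8])) (BT.leaf (58, [11, 5, 3, 5, 1, 7, 5, 3, 5, 9, 7, 9, 5, 7, 9, 5, 3, 5, 1, 5, 3, 5, 9, 7, 3, 5, 9, 7, 9, 10, 8, 6, 8, 4, 2, 6, 8, 4, 2, 4, 0, 4, 2, 4, 8, 6, 4, 8, 6, 8, 4, 2, 4, 6, 0, 4, 2, 4], [5, 3, 5, 1, 7, 5, 3, 5, 9, 7, 9, 5, 7, 9, 5, 3, 5, 1, 5, 3, 5, 9, 7, 3, 5, 9, 7, 9, 11, 8, 6, 8, 4, 2, 6, 8, 4, 2, 4, 0, 4,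 2, 4, 8, 6, 4, 8, 6, 8, 4, 2, 4, 6, 0, 4, 2, 4, 10]))))) (BT.node 249 (BT.node 247 (BT.node 246 (BT.leaf (50, [1, 1, 7, 5, 3, 5, 9, 5, 3, 5, 1, 9, 5, 7, 9, 3, 9, 7, 5, 9, 5, 3, 5, 7, 9, 0, 8, 6, 4, 2, 4, 8, 4, 6, 8, 2, 8, 6, 4, 8, 0, 4, 2, 4, 8, 4, 2, 4, 6, 0], [1, 7, 5, 3, 5, 9, 5, 3, 5, 1, 9, 5, 7, 9, 3, 9, 7, 5, 9, 5, 3, 5, 7, 9, 1, 8, 6, 4, 2, 4, 8, 4, 6, 8, 2, 8, 6, 4, 8, 0, 4, 2, 4, 8, 4, 2, 4, 6, 0, 0])) (BT.leaf (50, [3, 1, 7, 5, 3, 5, 9, 5, 3, 5, 1, 9, 5, 7, 9, 3, 9, 7, 5, 9, 5, 3, 5, 7, 9, 2, 8, 6, 4, 2, 4, 8, 4, 6, 8, 2, 8, 6, 4, 8, 0, 4, 2, 4, 8, 4, 2, 4, 6, 0], [1, 7, 5, 3, 5, 9, 5, 3, 5, 1, 9, 5, 7, 9, 3, 9, 7, 5, 9, 5, 3, 5, 7, 9, 3, 8, 6, 4, 2, 4, 8, 4, 6, 8, 2, 8, 6, 4, 8, 0, 4, 2, 4, 8, 4, 2, 4, 6, 0, 2]))) (BT.node 248 (BT.leaf (50, [5, 1, 7, 5, 3, 5, 9, 5, 3, 5, 1, 9, 5, 7, 9, 3, 9, 7, 5, 9, 5, 3, 5, 7, 9, 4, 8, 6, 4, 2, 4, 8, 4, 6, 8, 2, 8, 6,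 4, 8, 0, 4, 2, 4, 8, 4, 2, 4, 6, 0], [1, 7, 5, 3, 5, 9, 5, 3, 5, 1, 9, 5, 7, 9, 3, 9, 7, 5, 9, 5, 3, 5, 7, 9, 5, 8, 6, 4, 2, 4, 8, 4, 6, 8, 2, 8, 6, 4, 8, 0, 4, 2, 4, 8, 4, 2, 4, 6, 0, 4])) (BT.leaf (50, [7, 1, 7, 5, 3, 5, 9, 5, 3, 5, 1, 9, 5, 7, 9, 3, 9, 7, 5, 9, 5, 3, 5, 7, 9, 6, 8, 6, 4, 2, 4, 8, 4, 6, 8, 2, 8, 6, 4, 8, 0, 4, 2, 4, 8, 4, 2, 4, 6, 0], [1, 7, 5, 3, 5, 9, 5, 3, 5, 1, 9, 5, 7, 9, 3, 9, 7, 5, 9, 5, 3, 5, 7, 9, 7, 8, 6, 4, 2, 4, 8, 4, 6, 8, 2, 8, 6, 4, 8, 0, 4, 2, 4, 8, 4, 2, 4, 6, 0, 6])))) (BT.node 251 (BT.node 250 (BT.leaf (50, [9, 1, 7, 5, 3, 5, 9, 5, 3, 5, 1, 9, 5, 7, 9, 3, 9, 7, 5, 9, 5, 3, 5, 7, 9, 8, 8, 6, 4, 2, 4, 8, 4, 6, 8, 2, 8, 6, 4, 8, 0, 4, 2, 4, 8, 4, 2, 4, 6, 0], [1, 7, 5, 3, 5, 9, 5, 3, 5, 1, 9, 5, 7, 9, 3, 9, 7, 5, 9, 5, 3, 5, 7, 9, 9, 8, 6, 4, 2, 4, 8, 4, 6, 8, 2, 8, 6, 4, 8, 0, 4, 2, 4, 8, 4, 2, 4, 6, 0, 8])) (BT.leaf (50, [11, 1,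 7, 5, 3, 5, 9, 5, 3, 5, 1, 9, 5, 7, 9, 3, 9, 7, 5, 9, 5, 3, 5, 7, 9, 10, 8, 6, 4, 2, 4, 8, 4, 6, 8, 2, 8, 6, 4, 8, 0, 4, 2, 4, 8, 4, 2, 4, 6, 0], [1, 7, 5, 3, 5, 9, 5, 3, 5, 1, 9, 5, 7, 9, 3, 9, 7, 5, 9, 5, 3, 5, 7, 9, 11, 8, 6, 4, 2, 4, 8, 4, 6, 8, 2, 8, 6, 4, 8, 0, 4, 2, 4, 8, 4, 2, 4, 6, 0, 10]))) (BT.node 252 (BT.leaf (50, [1, 7, 5, 7, 9, 7, 9, 5, 3, 7, 9, 5, 7, 5, 7, 5, 9, 7, 5, 9, 5, 3, 5, 7, 9, 0, 8, 6, 4, 2, 4, 8, 4, 6, 8, 4, 6, 4, 6, 4, 8, 6, 2, 4, 8, 6, 8, 6, 4, 6], [7, 5, 7, 9, 7, 9, 5, 3, 7, 9, 5, 7, 5, 7, 5, 9, 7, 5, 9, 5, 3, 5, 7, 9, 1, 8, 6, 4, 2, 4, 8, 4, 6, 8, 4, 6, 4, 6, 4, 8, 6, 2, 4, 8, 6, 8, 6, 4, 6, 0])) (BT.leaf (50, [3, 7, 5, 7, 9, 7, 9, 5, 3, 7, 9, 5, 7, 5, 7, 5, 9, 7, 5, 9, 5, 3, 5, 7, 9, 2, 8, 6, 4, 2, 4, 8, 4, 6, 8, 4, 6, 4, 6, 4, 8, 6, 2, 4, 8, 6, 8, 6, 4, 6], [7, 5, 7, 9, 7, 9, 5, 3, 7, 9, 5, 7, 5, 7, 5, 9, 7, 5, 9, 5, 3, 5, 7, 9, 3, 8,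 6, 4, 2, 4, 8, 4, 6, 8, 4, 6, 4, 6, 4, 8, 6, 2, 4, 8, 6, 8, 6, 4, 6, 2])))))) (BT.node 261 (BT.node 257 (BT.node 255 (BT.node 254 (BT.leaf (50, [5, 7, 5, 7, 9, 7, 9, 5, 3, 7, 9, 5, 7, 5, 7, 5, 9, 7, 5, 9, 5, 3, 5, 7, 9, 4, 8, 6, 4, 2, 4, 8, 4, 6, 8, 4, 6, 4, 6, 4, 8, 6, 2, 4, 8, 6, 8, 6, 4, 6], [7, 5, 7, 9, 7, 9, 5, 3, 7, 9, 5, 7, 5, 7, 5, 9, 7, 5, 9, 5, 3, 5, 7, 9, 5, 8, 6, 4, 2, 4, 8, 4, 6, 8, 4, 6, 4, 6, 4, 8, 6, 2, 4, 8, 6, 8, 6, 4, 6, 4])) (BT.leaf (50, [7, 7, 5, 7, 9, 7, 9, 5, 3, 7, 9, 5, 7, 5, 7, 5, 9, 7, 5, 9, 5, 3, 5, 7, 9, 6, 8, 6, 4, 2, 4, 8, 4, 6, 8, 4, 6, 4, 6, 4, 8, 6, 2, 4, 8, 6, 8, 6, 4, 6], [7, 5, 7, 9, 7, 9, 5, 3, 7, 9, 5, 7, 5, 7, 5, 9, 7, 5, 9, 5, 3, 5, 7, 9, 7, 8, 6, 4, 2, 4, 8, 4, 6, 8, 4, 6, 4, 6, 4, 8, 6, 2, 4, 8, 6, 8, 6, 4, 6, 6]))) (BT.node 256 (BT.leaf (50, [9, 7, 5, 7, 9, 7, 9, 5, 3, 7, 9, 5, 7, 5, 7, 5, 9, 7, 5, 9, 5, 3, 5, 7, 9, 8, 8,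 6, 4, 2, 4, 8, 4, 6, 8, 4, 6, 4, 6, 4, 8, 6, 2, 4, 8, 6, 8, 6, 4, 6], [7, 5, 7, 9, 7, 9, 5, 3, 7, 9, 5, 7, 5, 7, 5, 9, 7, 5, 9, 5, 3, 5, 7, 9, 9, 8, 6, 4, 2, 4, 8, 4, 6, 8, 4, 6, 4, 6, 4, 8, 6, 2, 4, 8, 6, 8, 6, 4, 6, 8])) (BT.leaf (50, [11, 7, 5, 7, 9, 7, 9, 5, 3, 7, 9, 5, 7, 5, 7, 5, 9, 7, 5, 9, 5, 3, 5, 7, 9, 10, 8, 6, 4, 2, 4, 8, 4, 6, 8, 4, 6, 4, 6, 4, 8, 6, 2, 4, 8, 6, 8, 6, 4, 6], [7, 5, 7, 9, 7, 9, 5, 3, 7, 9, 5, 7, 5, 7, 5, 9, 7, 5, 9, 5, 3, 5, 7, 9, 11, 8, 6, 4, 2, 4, 8, 4, 6, 8, 4, 6, 4, 6, 4, 8, 6, 2, 4, 8, 6, 8, 6, 4, 6, 10])))) (BT.node 259 (BT.node 258 (BT.leaf (48, [1, 7, 5, 9, 5, 3, 9, 7, 5, 9, 5, 7, 9, 7, 5, 9, 5, 7, 9, 5, 9, 5, 7, 9, 0, 8, 6, 4, 8, 4, 8, 6, 4, 8, 4, 6, 8, 6, 4, 8, 4, 6, 8, 2, 4, 8, 4, 6], [7, 5, 9, 5, 3, 9, 7, 5, 9, 5, 7, 9, 7, 5, 9, 5, 7, 9, 5, 9, 5, 7, 9, 1, 8, 6, 4, 8, 4, 8, 6, 4, 8, 4, 6, 8, 6, 4, 8, 4, 6, 8, 2, 4, 8, 4, 6, 0]))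 (BT.leaf (48, [3, 7, 5, 9, 5, 3, 9, 7, 5, 9, 5, 7, 9, 7, 5, 9, 5, 7, 9, 5, 9, 5, 7, 9, 2, 8, 6, 4, 8, 4, 8, 6, 4, 8, 4, 6, 8, 6, 4, 8, 4, 6, 8, 2, 4, 8, 4, 6], [7, 5, 9, 5, 3, 9, 7, 5, 9, 5, 7, 9, 7, 5, 9, 5, 7, 9, 5, 9, 5, 7, 9, 3, 8, 6, 4, 8, 4, 8, 6, 4, 8, 4, 6, 8, 6, 4, 8, 4, 6, 8, 2, 4, 8, 4, 6, 2]))) (BT.node 260 (BT.leaf (48, [5, 7, 5, 9, 5, 3, 9, 7, 5, 9, 5, 7, 9, 7, 5, 9, 5, 7, 9, 5, 9, 5, 7, 9, 4, 8, 6, 4, 8, 4, 8, 6, 4, 8, 4, 6, 8, 6, 4, 8, 4, 6, 8, 2, 4, 8, 4, 6], [7, 5, 9, 5, 3, 9, 7, 5, 9, 5, 7, 9, 7, 5, 9, 5, 7, 9, 5, 9, 5, 7, 9, 5, 8, 6, 4, 8, 4, 8, 6, 4, 8, 4, 6, 8, 6, 4, 8, 4, 6, 8, 2, 4, 8, 4, 6, 4])) (BT.leaf (48, [7, 7, 5, 9, 5, 3, 9, 7, 5, 9, 5, 7, 9, 7, 5, 9, 5, 7, 9, 5, 9, 5, 7, 9, 6, 8, 6, 4, 8, 4, 8, 6, 4, 8, 4, 6, 8, 6, 4, 8, 4, 6, 8, 2, 4, 8, 4, 6], [7, 5, 9, 5, 3, 9, 7, 5, 9, 5, 7, 9, 7, 5, 9, 5, 7, 9, 5, 9, 5, 7, 9, 7, 8, 6, 4, 8, 4, 8,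 6, 4, 8, 4, 6, 8, 6, 4, 8, 4, 6, 8, 2, 4, 8, 4, 6, 6]))))) (BT.node 265 (BT.node 263 (BT.node 262 (BT.leaf (48, [9, 7, 5, 9, 5, 3, 9, 7, 5, 9, 5, 7, 9, 7, 5, 9, 5, 7, 9, 5, 9, 5, 7, 9, 8, 8, 6, 4, 8, 4, 8, 6, 4, 8, 4, 6, 8, 6, 4, 8, 4, 6, 8, 2, 4, 8, 4, 6], [7, 5, 9, 5, 3, 9, 7, 5, 9, 5, 7, 9, 7, 5, 9, 5, 7, 9, 5, 9, 5, 7, 9, 9, 8, 6, 4, 8, 4, 8, 6, 4, 8, 4, 6, 8, 6, 4, 8, 4, 6, 8, 2, 4, 8, 4, 6, 8])) (BT.leaf (48, [11, 7, 5, 9, 5, 3, 9, 7, 5, 9, 5, 7, 9, 7, 5, 9, 5, 7, 9, 5, 9, 5, 7, 9, 10, 8, 6, 4, 8, 4, 8, 6, 4, 8, 4, 6, 8, 6, 4, 8, 4, 6, 8, 2, 4, 8, 4, 6], [7, 5, 9, 5, 3, 9, 7, 5, 9, 5, 7, 9, 7, 5, 9, 5, 7, 9, 5, 9, 5, 7, 9, 11, 8, 6, 4, 8, 4, 8, 6, 4, 8, 4, 6, 8, 6, 4, 8, 4, 6, 8, 2, 4, 8, 4, 6, 10]))) (BT.node 264 (BT.leaf (101, [7, 7, 7, 7, 7, 7, 7, 7, 5, 5, 5, 5, 5, 5, 5, 5, 5, 5, 5, 5, 3, 3, 3, 3, 3, 11, 3, 11, 3, 11, 3, 11, 3, 11, 11, 3, 11, 11, 3, 11, 11,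 3, 11, 11, 10, 10, 10, 10, 2, 10, 10, 10, 10, 2, 10, 10, 10, 10, 2, 2, 2, 2, 2, 1, 1, 1, 1, 1, 1, 6, 4, 0, 4, 2, 6, 4, 0, 6, 4, 6, 2, 6, 4, 6, 0, 4, 6, 2, 4, 0, 4, 6, 4, 2, 0, 4, 0, 4, 2, 0, 4], [5, 1, 3, 5, 1, 5, 1, 3, 5, 7, 5, 1, 5, 3, 7, 5, 1, 7, 5, 7, 3, 7, 5, 7, 1, 5, 7, 3, 5, 1, 5, 7, 0, 0, 0, 0, 0, 0, 3, 3, 3, 3, 3, 11, 11, 11, 11, 3, 11, 11, 11, 11, 3, 11, 11, 11, 11, 10, 10, 2, 10, 10, 2, 10, 10, 2, 10, 10, 2, 10, 2, 10, 2, 10, 2, 10, 2, 2, 2, 2, 2, 4, 4, 4, 4, 4, 4, 4, 4, 4, 4, 4, 4, 6, 6, 6, 6, 6, 6, 6, 6])) (BT.leaf (39, [3, 3, 3, 3, 3, 11, 11, 11, 11, 3, 11, 11, 11, 11, 3, 11, 11, 11, 11, 10, 10, 2, 10, 10, 2, 10, 10, 2, 10, 10, 2, 10, 2, 10, 2, 10, 2, 10, 2], [3, 11, 3, 11, 3, 11, 3, 11, 3, 11, 11, 3, 11, 11, 3, 11, 11, 3, 11, 11, 10, 10, 10, 10, 2, 10, 10, 10, 10, 2, 10, 10, 10, 10, 2, 2, 2, 2, 2])))) (BT.node 267 (BT.node 266 (BT.leaf (57, [5, 5, 5,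 5, 5, 5, 5, 5, 5, 5, 5, 5, 3, 3, 3, 3, 1, 1, 1, 1, 1, 1, 1, 1, 1, 1, 1, 1, 0, 4, 0, 2, 4, 0, 4, 0, 4, 0, 4, 0, 4, 2, 0, 4, 2, 4, 0, 4, 0, 4, 0, 4, 0, 4, 0, 4, 2], [3, 5, 1, 5, 1, 5, 1, 5, 1, 5, 1, 5, 3, 5, 1, 3, 5, 1, 5, 1, 5, 1, 5, 1, 5, 3, 1, 5, 1, 0, 0, 0, 0, 0, 0, 0, 0, 0, 0, 0, 0, 2, 2, 2, 2, 4, 4, 4, 4, 4, 4, 4, 4, 4, 4, 4, 4])) (BT.leaf (69, [7, 7, 4, 4, 5, 3, 5, 1, 5, 3, 5, 1, 5, 3, 5, 7, 5, 3, 5, 1, 5, 7, 5, 3, 5, 1, 5, 3, 5, 7, 5, 1, 5, 3, 5, 7, 6, 4, 0, 4, 2, 6, 4, 0, 4, 2, 6, 4, 2, 4, 6, 4, 2, 4, 6, 2, 4, 0, 4, 2, 4, 6, 2, 0, 4, 6, 4, 0, 4], [5, 1, 5, 7, 5, 1, 3, 7, 5, 3, 5, 1, 5, 3, 7, 5, 3, 5, 7, 5, 3, 5, 7, 3, 5, 1, 5, 7, 3, 5, 1, 5, 7, 6, 4, 2, 4, 0, 4, 6, 4, 2, 4, 0, 4, 2, 4, 6, 4, 0, 4, 2, 4, 6, 4, 2, 4, 0, 4, 2, 4, 0, 4, 2, 4, 5, 5, 6, 6]))) (BT.node 268 (BT.leaf (61, [7, 7, 4, 4, 4, 4, 2, 2, 2, 2, 8, 6, 4, 8, 4, 8, 6, 4, 8, 4, 6, 8, 6, 4, 8, 4,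 6, 8, 2, 4, 8, 4, 6, 5, 3, 5, 7, 5, 3, 9, 5, 9, 7, 5, 9, 5, 3, 5, 9, 5, 7, 5, 9, 3, 5, 7, 9, 5, 3, 5, 9], [8, 4, 2, 4, 8, 6, 4, 2, 8, 4, 6, 4, 8, 4, 2, 4, 8, 4, 6, 8, 4, 8, 2, 4, 6, 4, 2, 4, 7, 5, 9, 5, 3, 9, 7, 5, 9, 5, 7, 9, 7, 5, 9, 5, 7, 9, 5, 9, 5, 7, 9, 3, 3, 3, 3, 5, 5, 5, 5, 6, 6])) (BT.leaf (41, [10, 10, 10, 10, 10, 10, 10, 10, 10, 10, 10, 10, 10, 2, 2, 2, 2, 2, 2, 2, 2, 3, 11, 11, 3, 11, 11, 3, 11, 11, 3, 11, 11, 3, 11, 3, 11, 3, 11, 3, 11], [10, 2, 10, 2, 10, 2, 10, 2, 10, 10, 2, 10, 10, 2, 10, 10, 2, 10, 10, 2, 3, 3, 3, 3, 3, 3, 3, 3, 11, 11, 11, 11, 11, 11, 11, 11, 11, 11, 11, 11, 11]))))))))))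
/-- subgroup generators -/
def subT : BT (ℕ × List ℕ × List ℕ) := (BT.node 2 (BT.node 1 (BT.node 0 (BT.leaf (1, [0], [1])) (BT.leaf (1, [2], [3]))) (BT.leaf (1, [4], [5]))) (BT.node 3 (BT.leaf (1, [6], [7])) (BT.leaf (1, [10], [11]))))
/-- fact chunks -/
noncomputable def colET_0 : BT ℕ := (BT.node 80 (BT.node 40 (BT.node 20 (BT.node 10 (BT.node 5 (BT.node 2 (BT.node 1 (BT.node 0 (BT.leaf cE0) (BT.leaf cE1)) (BT.leaf cE2)) (BT.node 4 (BT.node 3 (BT.leaf cE3) (BT.leaf cE4)) (BT.leaf cE5))) (BT.node 8 (BT.node 7 (BT.node 6 (BT.leaf cE6) (BT.leaf cE7)) (BT.leaf cE8)) (BT.node 9 (BT.leaf cE9) (BT.leaf cE10)))) (BT.node 15 (BT.node 13 (BT.node 12 (BT.node 11 (BT.leaf cE11) (BT.leaf cE12)) (BT.leaf cE13)) (BT.node 14 (BT.leaf cE14) (BT.leaf cE15))) (BT.node 18 (BT.node 17 (BT.node 16 (BT.leaf cE16) (BT.leaf cE17)) (BT.leaf cE18)) (BT.node 19 (BT.leaf cE19) (BT.leaf cE20)))))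 (BT.node 30 (BT.node 25 (BT.node 23 (BT.node 22 (BT.node 21 (BT.leaf cE21) (BT.leaf cE22)) (BT.leaf cE23)) (BT.node 24 (BT.leaf cE24) (BT.leaf cE25))) (BT.node 28 (BT.node 27 (BT.node 26 (BT.leaf cE26) (BT.leaf cE27)) (BT.leaf cE28)) (BT.node 29 (BT.leaf cE29) (BT.leaf cE30)))) (BT.node 35 (BT.node 33 (BT.node 32 (BT.node 31 (BT.leaf cE31) (BT.leaf cE32)) (BT.leaf cE33)) (BT.node 34 (BT.leaf cE34) (BT.leaf cE35))) (BT.node 38 (BT.node 37 (BT.node 36 (BT.leaf cE36) (BT.leaf cE37)) (BT.leaf cE38)) (BT.node 39 (BT.leaf cE39) (BT.leaf cE40)))))) (BT.node 60 (BT.node 50 (BT.node 45 (BT.node 43 (BT.node 42 (BT.node 41 (BT.leaf cE41) (BT.leaf cE42)) (BT.leaf cE43)) (BT.node 44 (BT.leaf cE44) (BT.leaf cE45))) (BT.node 48 (BT.node 47 (BT.node 46 (BT.leaf cE46) (BT.leaf cE47)) (BT.leaf cE48)) (BT.node 49 (BT.leaf cE49) (BT.leaf cE50)))) (BT.node 55 (BT.node 53 (BT.node 52 (BT.node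 51 (BT.leaf cE51) (BT.leaf cE52)) (BT.leaf cE53)) (BT.node 54 (BT.leaf cE54) (BT.leaf cE55))) (BT.node 58 (BT.node 57 (BT.node 56 (BT.leaf cE56) (BT.leaf cE57)) (BT.leaf cE58)) (BT.node 59 (BT.leaf cE59) (BT.leaf cE60))))) (BT.node 70 (BT.node 65 (BT.node 63 (BT.node 62 (BT.node 61 (BT.leaf cE61) (BT.leaf cE62)) (BT.leaf cE63)) (BT.node 64 (BT.leaf cE64) (BT.leaf cE65))) (BT.node 68 (BT.node 67 (BT.node 66 (BT.leaf cE66) (BT.leaf cE67)) (BT.leaf cE68)) (BT.node 69 (BT.leaf cE69) (BT.leaf cE70)))) (BT.node 75 (BT.node 73 (BT.node 72 (BT.node 71 (BT.leaf cE71) (BT.leaf cE72)) (BT.leaf cE73)) (BT.node 74 (BT.leaf cE74) (BT.leaf cE75))) (BT.node 78 (BT.node 77 (BT.node 76 (BT.leaf cE76) (BT.leaf cE77)) (BT.leaf cE78)) (BT.node 79 (BT.leaf cE79) (BT.leaf cE80))))))) (BT.node 121 (BT.node 101 (BT.node 91 (BT.node 86 (BT.node 83 (BT.node 82 (BT.node 81 (BT.leaf cE81) (BT.leaf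 cE82)) (BT.leaf cE83)) (BT.node 85 (BT.node 84 (BT.leaf cE84) (BT.leaf cE85)) (BT.leaf cE86))) (BT.node 89 (BT.node 88 (BT.node 87 (BT.leaf cE87) (BT.leaf cE88)) (BT.leaf cE89)) (BT.node 90 (BT.leaf cE90) (BT.leaf cE91)))) (BT.node 96 (BT.node 94 (BT.node 93 (BT.node 92 (BT.leaf cE92) (BT.leaf cE93)) (BT.leaf cE94)) (BT.node 95 (BT.leaf cE95) (BT.leaf cE96))) (BT.node 99 (BT.node 98 (BT.node 97 (BT.leaf cE97) (BT.leaf cE98)) (BT.leaf cE99)) (BT.node 100 (BT.leaf cE100) (BT.leaf cE101))))) (BT.node 111 (BT.node 106 (BT.node 104 (BT.node 103 (BT.node 102 (BT.leaf cE102) (BT.leaf cE103)) (BT.leaf cE104)) (BT.node 105 (BT.leaf cE105) (BT.leaf cE106))) (BT.node 109 (BT.node 108 (BT.node 107 (BT.leaf cE107) (BT.leaf cE108)) (BT.leaf cE109)) (BT.node 110 (BT.leaf cE110) (BT.leaf cE111)))) (BT.node 116 (BT.node 114 (BT.node 113 (BT.node 112 (BT.leaf cE112) (BT.leaf cE113))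 (BT.leaf cE114)) (BT.node 115 (BT.leaf cE115) (BT.leaf cE116))) (BT.node 119 (BT.node 118 (BT.node 117 (BT.leaf cE117) (BT.leaf cE118)) (BT.leaf cE119)) (BT.node 120 (BT.leaf cE120) (BT.leaf cE121)))))) (BT.node 141 (BT.node 131 (BT.node 126 (BT.node 124 (BT.node 123 (BT.node 122 (BT.leaf cE122) (BT.leaf cE123)) (BT.leaf cE124)) (BT.node 125 (BT.leaf cE125) (BT.leaf cE126))) (BT.node 129 (BT.node 128 (BT.node 127 (BT.leaf cE127) (BT.leaf cE128)) (BT.leaf cE129)) (BT.node 130 (BT.leaf cE130) (BT.leaf cE131)))) (BT.node 136 (BT.node 134 (BT.node 133 (BT.node 132 (BT.leaf cE132) (BT.leaf cE133)) (BT.leaf cE134)) (BT.node 135 (BT.leaf cE135) (BT.leaf cE136))) (BT.node 139 (BT.node 138 (BT.node 137 (BT.leaf cE137) (BT.leaf cE138)) (BT.leaf cE139)) (BT.node 140 (BT.leaf cE140) (BT.leaf cE141))))) (BT.node 151 (BT.node 146 (BT.node 144 (BT.node 143 (BT.node 142 (BT.leaf cE142)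 (BT.leaf cE143)) (BT.leaf cE144)) (BT.node 145 (BT.leaf cE145) (BT.leaf cE146))) (BT.node 149 (BT.node 148 (BT.node 147 (BT.leaf cE147) (BT.leaf cE148)) (BT.leaf cE149)) (BT.node 150 (BT.leaf cE150) (BT.leaf cE151)))) (BT.node 156 (BT.node 154 (BT.node 153 (BT.node 152 (BT.leaf cE152) (BT.leaf cE153)) (BT.leaf cE154)) (BT.node 155 (BT.leaf cE155) (BT.leaf cE156))) (BT.node 159 (BT.node 158 (BT.node 157 (BT.leaf cE157) (BT.leaf cE158)) (BT.leaf cE159)) (BT.node 160 (BT.leaf cE160) (BT.leaf cE161))))))))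
noncomputable def colET_1 : BT ℕ := (BT.node 242 (BT.node 202 (BT.node 182 (BT.node 172 (BT.node 167 (BT.node 164 (BT.node 163 (BT.node 162 (BT.leaf cE162) (BT.leaf cE163)) (BT.leaf cE164)) (BT.node 166 (BT.node 165 (BT.leaf cE165) (BT.leaf cE166)) (BT.leaf cE167))) (BT.node 170 (BT.node 169 (BT.node 168 (BT.leaf cE168) (BT.leaf cE169)) (BT.leaf cE170)) (BT.node 171 (BT.leaf cE171) (BT.leaf cE172)))) (BT.node 177 (BT.node 175 (BT.node 174 (BT.node 173 (BT.leaf cE173) (BT.leaf cE174)) (BT.leaf cE175)) (BT.node 176 (BT.leaf cE176) (BT.leaf cE177))) (BT.node 180 (BT.node 179 (BT.node 178 (BT.leaf cE178) (BT.leaf cE179)) (BT.leaf cE180)) (BT.node 181 (BT.leaf cE181) (BT.leaf cE182))))) (BT.node 192 (BT.node 187 (BT.node 185 (BT.node 184 (BT.node 183 (BT.leaf cE183) (BT.leaf cE184)) (BT.leaf cE185)) (BT.node 186 (BT.leaf cE186) (BT.leaf cE187))) (BT.node 190 (BT.node 189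 (BT.node 188 (BT.leaf cE188) (BT.leaf cE189)) (BT.leaf cE190)) (BT.node 191 (BT.leaf cE191) (BT.leaf cE192)))) (BT.node 197 (BT.node 195 (BT.node 194 (BT.node 193 (BT.leaf cE193) (BT.leaf cE194)) (BT.leaf cE195)) (BT.node 196 (BT.leaf cE196) (BT.leaf cE197))) (BT.node 200 (BT.node 199 (BT.node 198 (BT.leaf cE198) (BT.leaf cE199)) (BT.leaf cE200)) (BT.node 201 (BT.leaf cE201) (BT.leaf cE202)))))) (BT.node 222 (BT.node 212 (BT.node 207 (BT.node 205 (BT.node 204 (BT.node 203 (BT.leaf cE203) (BT.leaf cE204)) (BT.leaf cE205)) (BT.node 206 (BT.leaf cE206) (BT.leaf cE207))) (BT.node 210 (BT.node 209 (BT.node 208 (BT.leaf cE208) (BT.leaf cE209)) (BT.leaf cE210)) (BT.node 211 (BT.leaf cE211) (BT.leaf cE212)))) (BT.node 217 (BT.node 215 (BT.node 214 (BT.node 213 (BT.leaf cE213) (BT.leaf cE214)) (BT.leaf cE215)) (BT.node 216 (BT.leaf cE216) (BT.leaf cE217))) (BT.node 220 (BT.node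 219 (BT.node 218 (BT.leaf cE218) (BT.leaf cE219)) (BT.leaf cE220)) (BT.node 221 (BT.leaf cE221) (BT.leaf cE222))))) (BT.node 232 (BT.node 227 (BT.node 225 (BT.node 224 (BT.node 223 (BT.leaf cE223) (BT.leaf cE224)) (BT.leaf cE225)) (BT.node 226 (BT.leaf cE226) (BT.leaf cE227))) (BT.node 230 (BT.node 229 (BT.node 228 (BT.leaf cE228) (BT.leaf cE229)) (BT.leaf cE230)) (BT.node 231 (BT.leaf cE231) (BT.leaf cE232)))) (BT.node 237 (BT.node 235 (BT.node 234 (BT.node 233 (BT.leaf cE233) (BT.leaf cE234)) (BT.leaf cE235)) (BT.node 236 (BT.leaf cE236) (BT.leaf cE237))) (BT.node 240 (BT.node 239 (BT.node 238 (BT.leaf cE238) (BT.leaf cE239)) (BT.leaf cE240)) (BT.node 241 (BT.leaf cE241) (BT.leaf cE242))))))) (BT.node 283 (BT.node 263 (BT.node 253 (BT.node 248 (BT.node 245 (BT.node 244 (BT.node 243 (BT.leaf cE243) (BT.leaf cE244)) (BT.leaf cE245)) (BT.node 247 (BT.node 246 (BT.leaf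 cE246) (BT.leaf cE247)) (BT.leaf cE248))) (BT.node 251 (BT.node 250 (BT.node 249 (BT.leaf cE249) (BT.leaf cE250)) (BT.leaf cE251)) (BT.node 252 (BT.leaf cE252) (BT.leaf cE253)))) (BT.node 258 (BT.node 256 (BT.node 255 (BT.node 254 (BT.leaf cE254) (BT.leaf cE255)) (BT.leaf cE256)) (BT.node 257 (BT.leaf cE257) (BT.leaf cE258))) (BT.node 261 (BT.node 260 (BT.node 259 (BT.leaf cE259) (BT.leaf cE260)) (BT.leaf cE261)) (BT.node 262 (BT.leaf cE262) (BT.leaf cE263))))) (BT.node 273 (BT.node 268 (BT.node 266 (BT.node 265 (BT.node 264 (BT.leaf cE264) (BT.leaf cE265)) (BT.leaf cE266)) (BT.node 267 (BT.leaf cE267) (BT.leaf cE268))) (BT.node 271 (BT.node 270 (BT.node 269 (BT.leaf cE269) (BT.leaf cE270)) (BT.leaf cE271)) (BT.node 272 (BT.leaf cE272) (BT.leaf cE273)))) (BT.node 278 (BT.node 276 (BT.node 275 (BT.node 274 (BT.leaf cE274) (BT.leaf cE275)) (BT.leaf cE276)) (BT.node 277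 (BT.leaf cE277) (BT.leaf cE278))) (BT.node 281 (BT.node 280 (BT.node 279 (BT.leaf cE279) (BT.leaf cE280)) (BT.leaf cE281)) (BT.node 282 (BT.leaf cE282) (BT.leaf cE283)))))) (BT.node 303 (BT.node 293 (BT.node 288 (BT.node 286 (BT.node 285 (BT.node 284 (BT.leaf cE284) (BT.leaf cE285)) (BT.leaf cE286)) (BT.node 287 (BT.leaf cE287) (BT.leaf cE288))) (BT.node 291 (BT.node 290 (BT.node 289 (BT.leaf cE289) (BT.leaf cE290)) (BT.leaf cE291)) (BT.node 292 (BT.leaf cE292) (BT.leaf cE293)))) (BT.node 298 (BT.node 296 (BT.node 295 (BT.node 294 (BT.leaf cE294) (BT.leaf cE295)) (BT.leaf cE296)) (BT.node 297 (BT.leaf cE297) (BT.leaf cE298))) (BT.node 301 (BT.node 300 (BT.node 299 (BT.leaf cE299) (BT.leaf cE300)) (BT.leaf cE301)) (BT.node 302 (BT.leaf cE302) (BT.leaf cE303))))) (BT.node 313 (BT.node 308 (BT.node 306 (BT.node 305 (BT.node 304 (BT.leaf cE304) (BT.leaf cE305)) (BT.leaf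 cE306)) (BT.node 307 (BT.leaf cE307) (BT.leaf cE308))) (BT.node 311 (BT.node 310 (BT.node 309 (BT.leaf cE309) (BT.leaf cE310)) (BT.leaf cE311)) (BT.node 312 (BT.leaf cE312) (BT.leaf cE313)))) (BT.node 318 (BT.node 316 (BT.node 315 (BT.node 314 (BT.leaf cE314) (BT.leaf cE315)) (BT.leaf cE316)) (BT.node 317 (BT.leaf cE317) (BT.leaf cE318))) (BT.node 321 (BT.node 320 (BT.node 319 (BT.leaf cE319) (BT.leaf cE320)) (BT.leaf cE321)) (BT.node 322 (BT.leaf cE322) (BT.leaf cE323))))))))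
noncomputable def colET_2 : BT ℕ := (BT.node 404 (BT.node 364 (BT.node 344 (BT.node 334 (BT.node 329 (BT.node 326 (BT.node 325 (BT.node 324 (BT.leaf cE324) (BT.leaf cE325)) (BT.leaf cE326)) (BT.node 328 (BT.node 327 (BT.leaf cE327) (BT.leaf cE328)) (BT.leaf cE329))) (BT.node 332 (BT.node 331 (BT.node 330 (BT.leaf cE330) (BT.leaf cE331)) (BT.leaf cE332)) (BT.node 333 (BT.leaf cE333) (BT.leaf cE334)))) (BT.node 339 (BT.node 337 (BT.node 336 (BT.node 335 (BT.leaf cE335) (BT.leaf cE336)) (BT.leaf cE337)) (BT.node 338 (BT.leaf cE338) (BT.leaf cE339))) (BT.node 342 (BT.node 341 (BT.node 340 (BT.leaf cE340) (BT.leaf cE341)) (BT.leaf cE342)) (BT.node 343 (BT.leaf cE343) (BT.leaf cE344))))) (BT.node 354 (BT.node 349 (BT.node 347 (BT.node 346 (BT.node 345 (BT.leaf cE345) (BT.leaf cE346)) (BT.leaf cE347)) (BT.node 348 (BT.leaf cE348) (BT.leaf cE349))) (BT.node 352 (BT.node 351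 (BT.node 350 (BT.leaf cE350) (BT.leaf cE351)) (BT.leaf cE352)) (BT.node 353 (BT.leaf cE353) (BT.leaf cE354)))) (BT.node 359 (BT.node 357 (BT.node 356 (BT.node 355 (BT.leaf cE355) (BT.leaf cE356)) (BT.leaf cE357)) (BT.node 358 (BT.leaf cE358) (BT.leaf cE359))) (BT.node 362 (BT.node 361 (BT.node 360 (BT.leaf cE360) (BT.leaf cE361)) (BT.leaf cE362)) (BT.node 363 (BT.leaf cE363) (BT.leaf cE364)))))) (BT.node 384 (BT.node 374 (BT.node 369 (BT.node 367 (BT.node 366 (BT.node 365 (BT.leaf cE365) (BT.leaf cE366)) (BT.leaf cE367)) (BT.node 368 (BT.leaf cE368) (BT.leaf cE369))) (BT.node 372 (BT.node 371 (BT.node 370 (BT.leaf cE370) (BT.leaf cE371)) (BT.leaf cE372)) (BT.node 373 (BT.leaf cE373) (BT.leaf cE374)))) (BT.node 379 (BT.node 377 (BT.node 376 (BT.node 375 (BT.leaf cE375) (BT.leaf cE376)) (BT.leaf cE377)) (BT.node 378 (BT.leaf cE378) (BT.leaf cE379))) (BT.node 382 (BT.node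 381 (BT.node 380 (BT.leaf cE380) (BT.leaf cE381)) (BT.leaf cE382)) (BT.node 383 (BT.leaf cE383) (BT.leaf cE384))))) (BT.node 394 (BT.node 389 (BT.node 387 (BT.node 386 (BT.node 385 (BT.leaf cE385) (BT.leaf cE386)) (BT.leaf cE387)) (BT.node 388 (BT.leaf cE388) (BT.leaf cE389))) (BT.node 392 (BT.node 391 (BT.node 390 (BT.leaf cE390) (BT.leaf cE391)) (BT.leaf cE392)) (BT.node 393 (BT.leaf cE393) (BT.leaf cE394)))) (BT.node 399 (BT.node 397 (BT.node 396 (BT.node 395 (BT.leaf cE395) (BT.leaf cE396)) (BT.leaf cE397)) (BT.node 398 (BT.leaf cE398) (BT.leaf cE399))) (BT.node 402 (BT.node 401 (BT.node 400 (BT.leaf cE400) (BT.leaf cE401)) (BT.leaf cE402)) (BT.node 403 (BT.leaf cE403) (BT.leaf cE404))))))) (BT.node 445 (BT.node 425 (BT.node 415 (BT.node 410 (BT.node 407 (BT.node 406 (BT.node 405 (BT.leaf cE405) (BT.leaf cE406)) (BT.leaf cE407)) (BT.node 409 (BT.node 408 (BT.leaf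 cE408) (BT.leaf cE409)) (BT.leaf cE410))) (BT.node 413 (BT.node 412 (BT.node 411 (BT.leaf cE411) (BT.leaf cE412)) (BT.leaf cE413)) (BT.node 414 (BT.leaf cE414) (BT.leaf cE415)))) (BT.node 420 (BT.node 418 (BT.node 417 (BT.node 416 (BT.leaf cE416) (BT.leaf cE417)) (BT.leaf cE418)) (BT.node 419 (BT.leaf cE419) (BT.leaf cE420))) (BT.node 423 (BT.node 422 (BT.node 421 (BT.leaf cE421) (BT.leaf cE422)) (BT.leaf cE423)) (BT.node 424 (BT.leaf cE424) (BT.leaf cE425))))) (BT.node 435 (BT.node 430 (BT.node 428 (BT.node 427 (BT.node 426 (BT.leaf cE426) (BT.leaf cE427)) (BT.leaf cE428)) (BT.node 429 (BT.leaf cE429) (BT.leaf cE430))) (BT.node 433 (BT.node 432 (BT.node 431 (BT.leaf cE431) (BT.leaf cE432)) (BT.leaf cE433)) (BT.node 434 (BT.leaf cE434) (BT.leaf cE435)))) (BT.node 440 (BT.node 438 (BT.node 437 (BT.node 436 (BT.leaf cE436) (BT.leaf cE437)) (BT.leaf cE438)) (BT.node 439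 (BT.leaf cE439) (BT.leaf cE440))) (BT.node 443 (BT.node 442 (BT.node 441 (BT.leaf cE441) (BT.leaf cE442)) (BT.leaf cE443)) (BT.node 444 (BT.leaf cE444) (BT.leaf cE445)))))) (BT.node 465 (BT.node 455 (BT.node 450 (BT.node 448 (BT.node 447 (BT.node 446 (BT.leaf cE446) (BT.leaf cE447)) (BT.leaf cE448)) (BT.node 449 (BT.leaf cE449) (BT.leaf cE450))) (BT.node 453 (BT.node 452 (BT.node 451 (BT.leaf cE451) (BT.leaf cE452)) (BT.leaf cE453)) (BT.node 454 (BT.leaf cE454) (BT.leaf cE455)))) (BT.node 460 (BT.node 458 (BT.node 457 (BT.node 456 (BT.leaf cE456) (BT.leaf cE457)) (BT.leaf cE458)) (BT.node 459 (BT.leaf cE459) (BT.leaf cE460))) (BT.node 463 (BT.node 462 (BT.node 461 (BT.leaf cE461) (BT.leaf cE462)) (BT.leaf cE463)) (BT.node 464 (BT.leaf cE464) (BT.leaf cE465))))) (BT.node 475 (BT.node 470 (BT.node 468 (BT.node 467 (BT.node 466 (BT.leaf cE466) (BT.leaf cE467)) (BT.leaf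 cE468)) (BT.node 469 (BT.leaf cE469) (BT.leaf cE470))) (BT.node 473 (BT.node 472 (BT.node 471 (BT.leaf cE471) (BT.leaf cE472)) (BT.leaf cE473)) (BT.node 474 (BT.leaf cE474) (BT.leaf cE475)))) (BT.node 480 (BT.node 478 (BT.node 477 (BT.node 476 (BT.leaf cE476) (BT.leaf cE477)) (BT.leaf cE478)) (BT.node 479 (BT.leaf cE479) (BT.leaf cE480))) (BT.node 483 (BT.node 482 (BT.node 481 (BT.leaf cE481) (BT.leaf cE482)) (BT.leaf cE483)) (BT.node 484 (BT.leaf cE484) (BT.leaf cE485))))))))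
noncomputable def colET_3 : BT ℕ := (BT.node 566 (BT.node 526 (BT.node 506 (BT.node 496 (BT.node 491 (BT.node 488 (BT.node 487 (BT.node 486 (BT.leaf cE486) (BT.leaf cE487)) (BT.leaf cE488)) (BT.node 490 (BT.node 489 (BT.leaf cE489) (BT.leaf cE490)) (BT.leaf cE491))) (BT.node 494 (BT.node 493 (BT.node 492 (BT.leaf cE492) (BT.leaf cE493)) (BT.leaf cE494)) (BT.node 495 (BT.leaf cE495) (BT.leaf cE496)))) (BT.node 501 (BT.node 499 (BT.node 498 (BT.node 497 (BT.leaf cE497) (BT.leaf cE498)) (BT.leaf cE499)) (BT.node 500 (BT.leaf cE500) (BT.leaf cE501))) (BT.node 504 (BT.node 503 (BT.node 502 (BT.leaf cE502) (BT.leaf cE503)) (BT.leaf cE504)) (BT.node 505 (BT.leaf cE505) (BT.leaf cE506))))) (BT.node 516 (BT.node 511 (BT.node 509 (BT.node 508 (BT.node 507 (BT.leaf cE507) (BT.leaf cE508)) (BT.leaf cE509)) (BT.node 510 (BT.leaf cE510) (BT.leaf cE511))) (BT.node 514 (BT.node 513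 (BT.node 512 (BT.leaf cE512) (BT.leaf cE513)) (BT.leaf cE514)) (BT.node 515 (BT.leaf cE515) (BT.leaf cE516)))) (BT.node 521 (BT.node 519 (BT.node 518 (BT.node 517 (BT.leaf cE517) (BT.leaf cE518)) (BT.leaf cE519)) (BT.node 520 (BT.leaf cE520) (BT.leaf cE521))) (BT.node 524 (BT.node 523 (BT.node 522 (BT.leaf cE522) (BT.leaf cE523)) (BT.leaf cE524)) (BT.node 525 (BT.leaf cE525) (BT.leaf cE526)))))) (BT.node 546 (BT.node 536 (BT.node 531 (BT.node 529 (BT.node 528 (BT.node 527 (BT.leaf cE527) (BT.leaf cE528)) (BT.leaf cE529)) (BT.node 530 (BT.leaf cE530) (BT.leaf cE531))) (BT.node 534 (BT.node 533 (BT.node 532 (BT.leaf cE532) (BT.leaf cE533)) (BT.leaf cE534)) (BT.node 535 (BT.leaf cE535) (BT.leaf cE536)))) (BT.node 541 (BT.node 539 (BT.node 538 (BT.node 537 (BT.leaf cE537) (BT.leaf cE538)) (BT.leaf cE539)) (BT.node 540 (BT.leaf cE540) (BT.leaf cE541))) (BT.node 544 (BT.node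 543 (BT.node 542 (BT.leaf cE542) (BT.leaf cE543)) (BT.leaf cE544)) (BT.node 545 (BT.leaf cE545) (BT.leaf cE546))))) (BT.node 556 (BT.node 551 (BT.node 549 (BT.node 548 (BT.node 547 (BT.leaf cE547) (BT.leaf cE548)) (BT.leaf cE549)) (BT.node 550 (BT.leaf cE550) (BT.leaf cE551))) (BT.node 554 (BT.node 553 (BT.node 552 (BT.leaf cE552) (BT.leaf cE553)) (BT.leaf cE554)) (BT.node 555 (BT.leaf cE555) (BT.leaf cE556)))) (BT.node 561 (BT.node 559 (BT.node 558 (BT.node 557 (BT.leaf cE557) (BT.leaf cE558)) (BT.leaf cE559)) (BT.node 560 (BT.leaf cE560) (BT.leaf cE561))) (BT.node 564 (BT.node 563 (BT.node 562 (BT.leaf cE562) (BT.leaf cE563)) (BT.leaf cE564)) (BT.node 565 (BT.leaf cE565) (BT.leaf cE566))))))) (BT.node 606 (BT.node 586 (BT.node 576 (BT.node 571 (BT.node 569 (BT.node 568 (BT.node 567 (BT.leaf cE567) (BT.leaf cE568)) (BT.leaf cE569)) (BT.node 570 (BT.leaf cE570) (BT.leaf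 cE571))) (BT.node 574 (BT.node 573 (BT.node 572 (BT.leaf cE572) (BT.leaf cE573)) (BT.leaf cE574)) (BT.node 575 (BT.leaf cE575) (BT.leaf cE576)))) (BT.node 581 (BT.node 579 (BT.node 578 (BT.node 577 (BT.leaf cE577) (BT.leaf cE578)) (BT.leaf cE579)) (BT.node 580 (BT.leaf cE580) (BT.leaf cE581))) (BT.node 584 (BT.node 583 (BT.node 582 (BT.leaf cE582) (BT.leaf cE583)) (BT.leaf cE584)) (BT.node 585 (BT.leaf cE585) (BT.leaf cE586))))) (BT.node 596 (BT.node 591 (BT.node 589 (BT.node 588 (BT.node 587 (BT.leaf cE587) (BT.leaf cE588)) (BT.leaf cE589)) (BT.node 590 (BT.leaf cE590) (BT.leaf cE591))) (BT.node 594 (BT.node 593 (BT.node 592 (BT.leaf cE592) (BT.leaf cE593)) (BT.leaf cE594)) (BT.node 595 (BT.leaf cE595) (BT.leaf cE596)))) (BT.node 601 (BT.node 599 (BT.node 598 (BT.node 597 (BT.leaf cE597) (BT.leaf cE598)) (BT.leaf cE599)) (BT.node 600 (BT.leaf cE600) (BT.leaf cE601)))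 (BT.node 604 (BT.node 603 (BT.node 602 (BT.leaf cE602) (BT.leaf cE603)) (BT.leaf cE604)) (BT.node 605 (BT.leaf cE605) (BT.leaf cE606)))))) (BT.node 626 (BT.node 616 (BT.node 611 (BT.node 609 (BT.node 608 (BT.node 607 (BT.leaf cE607) (BT.leaf cE608)) (BT.leaf cE609)) (BT.node 610 (BT.leaf cE610) (BT.leaf cE611))) (BT.node 614 (BT.node 613 (BT.node 612 (BT.leaf cE612) (BT.leaf cE613)) (BT.leaf cE614)) (BT.node 615 (BT.leaf cE615) (BT.leaf cE616)))) (BT.node 621 (BT.node 619 (BT.node 618 (BT.node 617 (BT.leaf cE617) (BT.leaf cE618)) (BT.leaf cE619)) (BT.node 620 (BT.leaf cE620) (BT.leaf cE621))) (BT.node 624 (BT.node 623 (BT.node 622 (BT.leaf cE622) (BT.leaf cE623)) (BT.leaf cE624)) (BT.node 625 (BT.leaf cE625) (BT.leaf cE626))))) (BT.node 636 (BT.node 631 (BT.node 629 (BT.node 628 (BT.node 627 (BT.leaf cE627) (BT.leaf cE628)) (BT.leaf cE629)) (BT.node 630 (BT.leaf cE630)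 (BT.leaf cE631))) (BT.node 634 (BT.node 633 (BT.node 632 (BT.leaf cE632) (BT.leaf cE633)) (BT.leaf cE634)) (BT.node 635 (BT.leaf cE635) (BT.leaf cE636)))) (BT.node 641 (BT.node 639 (BT.node 638 (BT.node 637 (BT.leaf cE637) (BT.leaf cE638)) (BT.leaf cE639)) (BT.node 640 (BT.leaf cE640) (BT.leaf cE641))) (BT.node 644 (BT.node 643 (BT.node 642 (BT.leaf cE642) (BT.leaf cE643)) (BT.leaf cE644)) (BT.node 645 (BT.leaf cE645) (BT.leaf cE646))))))))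
noncomputable def colET_4 : BT ℕ := (BT.node 727 (BT.node 687 (BT.node 667 (BT.node 657 (BT.node 652 (BT.node 649 (BT.node 648 (BT.node 647 (BT.leaf cE647) (BT.leaf cE648)) (BT.leaf cE649)) (BT.node 651 (BT.node 650 (BT.leaf cE650) (BT.leaf cE651)) (BT.leaf cE652))) (BT.node 655 (BT.node 654 (BT.node 653 (BT.leaf cE653) (BT.leaf cE654)) (BT.leaf cE655)) (BT.node 656 (BT.leaf cE656) (BT.leaf cE657)))) (BT.node 662 (BT.node 660 (BT.node 659 (BT.node 658 (BT.leaf cE658) (BT.leaf cE659)) (BT.leaf cE660)) (BT.node 661 (BT.leaf cE661) (BT.leaf cE662))) (BT.node 665 (BT.node 664 (BT.node 663 (BT.leaf cE663) (BT.leaf cE664)) (BT.leaf cE665)) (BT.node 666 (BT.leaf cE666) (BT.leaf cE667))))) (BT.node 677 (BT.node 672 (BT.node 670 (BT.node 669 (BT.node 668 (BT.leaf cE668) (BT.leaf cE669)) (BT.leaf cE670)) (BT.node 671 (BT.leaf cE671) (BT.leaf cE672))) (BT.node 675 (BT.node 674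 (BT.node 673 (BT.leaf cE673) (BT.leaf cE674)) (BT.leaf cE675)) (BT.node 676 (BT.leaf cE676) (BT.leaf cE677)))) (BT.node 682 (BT.node 680 (BT.node 679 (BT.node 678 (BT.leaf cE678) (BT.leaf cE679)) (BT.leaf cE680)) (BT.node 681 (BT.leaf cE681) (BT.leaf cE682))) (BT.node 685 (BT.node 684 (BT.node 683 (BT.leaf cE683) (BT.leaf cE684)) (BT.leaf cE685)) (BT.node 686 (BT.leaf cE686) (BT.leaf cE687)))))) (BT.node 707 (BT.node 697 (BT.node 692 (BT.node 690 (BT.node 689 (BT.node 688 (BT.leaf cE688) (BT.leaf cE689)) (BT.leaf cE690)) (BT.node 691 (BT.leaf cE691) (BT.leaf cE692))) (BT.node 695 (BT.node 694 (BT.node 693 (BT.leaf cE693) (BT.leaf cE694)) (BT.leaf cE695)) (BT.node 696 (BT.leaf cE696) (BT.leaf cE697)))) (BT.node 702 (BT.node 700 (BT.node 699 (BT.node 698 (BT.leaf cE698) (BT.leaf cE699)) (BT.leaf cE700)) (BT.node 701 (BT.leaf cE701) (BT.leaf cE702))) (BT.node 705 (BT.node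 704 (BT.node 703 (BT.leaf cE703) (BT.leaf cE704)) (BT.leaf cE705)) (BT.node 706 (BT.leaf cE706) (BT.leaf cE707))))) (BT.node 717 (BT.node 712 (BT.node 710 (BT.node 709 (BT.node 708 (BT.leaf cE708) (BT.leaf cE709)) (BT.leaf cE710)) (BT.node 711 (BT.leaf cE711) (BT.leaf cE712))) (BT.node 715 (BT.node 714 (BT.node 713 (BT.leaf cE713) (BT.leaf cE714)) (BT.leaf cE715)) (BT.node 716 (BT.leaf cE716) (BT.leaf cE717)))) (BT.node 722 (BT.node 720 (BT.node 719 (BT.node 718 (BT.leaf cE718) (BT.leaf cE719)) (BT.leaf cE720)) (BT.node 721 (BT.leaf cE721) (BT.leaf cE722))) (BT.node 725 (BT.node 724 (BT.node 723 (BT.leaf cE723) (BT.leaf cE724)) (BT.leaf cE725)) (BT.node 726 (BT.leaf cE726) (BT.leaf cE727))))))) (BT.node 768 (BT.node 748 (BT.node 738 (BT.node 733 (BT.node 730 (BT.node 729 (BT.node 728 (BT.leaf cE728) (BT.leaf cE729)) (BT.leaf cE730)) (BT.node 732 (BT.node 731 (BT.leaf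 cE731) (BT.leaf cE732)) (BT.leaf cE733))) (BT.node 736 (BT.node 735 (BT.node 734 (BT.leaf cE734) (BT.leaf cE735)) (BT.leaf cE736)) (BT.node 737 (BT.leaf cE737) (BT.leaf cE738)))) (BT.node 743 (BT.node 741 (BT.node 740 (BT.node 739 (BT.leaf cE739) (BT.leaf cE740)) (BT.leaf cE741)) (BT.node 742 (BT.leaf cE742) (BT.leaf cE743))) (BT.node 746 (BT.node 745 (BT.node 744 (BT.leaf cE744) (BT.leaf cE745)) (BT.leaf cE746)) (BT.node 747 (BT.leaf cE747) (BT.leaf cE748))))) (BT.node 758 (BT.node 753 (BT.node 751 (BT.node 750 (BT.node 749 (BT.leaf cE749) (BT.leaf cE750)) (BT.leaf cE751)) (BT.node 752 (BT.leaf cE752) (BT.leaf cE753))) (BT.node 756 (BT.node 755 (BT.node 754 (BT.leaf cE754) (BT.leaf cE755)) (BT.leaf cE756)) (BT.node 757 (BT.leaf cE757) (BT.leaf cE758)))) (BT.node 763 (BT.node 761 (BT.node 760 (BT.node 759 (BT.leaf cE759) (BT.leaf cE760)) (BT.leaf cE761)) (BT.node 762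 (BT.leaf cE762) (BT.leaf cE763))) (BT.node 766 (BT.node 765 (BT.node 764 (BT.leaf cE764) (BT.leaf cE765)) (BT.leaf cE766)) (BT.node 767 (BT.leaf cE767) (BT.leaf cE768)))))) (BT.node 788 (BT.node 778 (BT.node 773 (BT.node 771 (BT.node 770 (BT.node 769 (BT.leaf cE769) (BT.leaf cE770)) (BT.leaf cE771)) (BT.node 772 (BT.leaf cE772) (BT.leaf cE773))) (BT.node 776 (BT.node 775 (BT.node 774 (BT.leaf cE774) (BT.leaf cE775)) (BT.leaf cE776)) (BT.node 777 (BT.leaf cE777) (BT.leaf cE778)))) (BT.node 783 (BT.node 781 (BT.node 780 (BT.node 779 (BT.leaf cE779) (BT.leaf cE780)) (BT.leaf cE781)) (BT.node 782 (BT.leaf cE782) (BT.leaf cE783))) (BT.node 786 (BT.node 785 (BT.node 784 (BT.leaf cE784) (BT.leaf cE785)) (BT.leaf cE786)) (BT.node 787 (BT.leaf cE787) (BT.leaf cE788))))) (BT.node 798 (BT.node 793 (BT.node 791 (BT.node 790 (BT.node 789 (BT.leaf cE789) (BT.leaf cE790)) (BT.leaf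 cE791)) (BT.node 792 (BT.leaf cE792) (BT.leaf cE793))) (BT.node 796 (BT.node 795 (BT.node 794 (BT.leaf cE794) (BT.leaf cE795)) (BT.leaf cE796)) (BT.node 797 (BT.leaf cE797) (BT.leaf cE798)))) (BT.node 803 (BT.node 801 (BT.node 800 (BT.node 799 (BT.leaf cE799) (BT.leaf cE800)) (BT.leaf cE801)) (BT.node 802 (BT.leaf cE802) (BT.leaf cE803))) (BT.node 806 (BT.node 805 (BT.node 804 (BT.leaf cE804) (BT.leaf cE805)) (BT.leaf cE806)) (BT.node 807 (BT.leaf cE807) (BT.leaf cE808))))))))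
noncomputable def colET_5 : BT ℕ := (BT.node 889 (BT.node 849 (BT.node 829 (BT.node 819 (BT.node 814 (BT.node 811 (BT.node 810 (BT.node 809 (BT.leaf cE809) (BT.leaf cE810)) (BT.leaf cE811)) (BT.node 813 (BT.node 812 (BT.leaf cE812) (BT.leaf cE813)) (BT.leaf cE814))) (BT.node 817 (BT.node 816 (BT.node 815 (BT.leaf cE815) (BT.leaf cE816)) (BT.leaf cE817)) (BT.node 818 (BT.leaf cE818) (BT.leaf cE819)))) (BT.node 824 (BT.node 822 (BT.node 821 (BT.node 820 (BT.leaf cE820) (BT.leaf cE821)) (BT.leaf cE822)) (BT.node 823 (BT.leaf cE823) (BT.leaf cE824))) (BT.node 827 (BT.node 826 (BT.node 825 (BT.leaf cE825) (BT.leaf cE826)) (BT.leaf cE827)) (BT.node 828 (BT.leaf cE828) (BT.leaf cE829))))) (BT.node 839 (BT.node 834 (BT.node 832 (BT.node 831 (BT.node 830 (BT.leaf cE830) (BT.leaf cE831)) (BT.leaf cE832)) (BT.node 833 (BT.leaf cE833) (BT.leaf cE834))) (BT.node 837 (BT.node 836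 (BT.node 835 (BT.leaf cE835) (BT.leaf cE836)) (BT.leaf cE837)) (BT.node 838 (BT.leaf cE838) (BT.leaf cE839)))) (BT.node 844 (BT.node 842 (BT.node 841 (BT.node 840 (BT.leaf cE840) (BT.leaf cE841)) (BT.leaf cE842)) (BT.node 843 (BT.leaf cE843) (BT.leaf cE844))) (BT.node 847 (BT.node 846 (BT.node 845 (BT.leaf cE845) (BT.leaf cE846)) (BT.leaf cE847)) (BT.node 848 (BT.leaf cE848) (BT.leaf cE849)))))) (BT.node 869 (BT.node 859 (BT.node 854 (BT.node 852 (BT.node 851 (BT.node 850 (BT.leaf cE850) (BT.leaf cE851)) (BT.leaf cE852)) (BT.node 853 (BT.leaf cE853) (BT.leaf cE854))) (BT.node 857 (BT.node 856 (BT.node 855 (BT.leaf cE855) (BT.leaf cE856)) (BT.leaf cE857)) (BT.node 858 (BT.leaf cE858) (BT.leaf cE859)))) (BT.node 864 (BT.node 862 (BT.node 861 (BT.node 860 (BT.leaf cE860) (BT.leaf cE861)) (BT.leaf cE862)) (BT.node 863 (BT.leaf cE863) (BT.leaf cE864))) (BT.node 867 (BT.node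 866 (BT.node 865 (BT.leaf cE865) (BT.leaf cE866)) (BT.leaf cE867)) (BT.node 868 (BT.leaf cE868) (BT.leaf cE869))))) (BT.node 879 (BT.node 874 (BT.node 872 (BT.node 871 (BT.node 870 (BT.leaf cE870) (BT.leaf cE871)) (BT.leaf cE872)) (BT.node 873 (BT.leaf cE873) (BT.leaf cE874))) (BT.node 877 (BT.node 876 (BT.node 875 (BT.leaf cE875) (BT.leaf cE876)) (BT.leaf cE877)) (BT.node 878 (BT.leaf cE878) (BT.leaf cE879)))) (BT.node 884 (BT.node 882 (BT.node 881 (BT.node 880 (BT.leaf cE880) (BT.leaf cE881)) (BT.leaf cE882)) (BT.node 883 (BT.leaf cE883) (BT.leaf cE884))) (BT.node 887 (BT.node 886 (BT.node 885 (BT.leaf cE885) (BT.leaf cE886)) (BT.leaf cE887)) (BT.node 888 (BT.leaf cE888) (BT.leaf cE889))))))) (BT.node 929 (BT.node 909 (BT.node 899 (BT.node 894 (BT.node 892 (BT.node 891 (BT.node 890 (BT.leaf cE890) (BT.leaf cE891)) (BT.leaf cE892)) (BT.node 893 (BT.leaf cE893) (BT.leaf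 cE894))) (BT.node 897 (BT.node 896 (BT.node 895 (BT.leaf cE895) (BT.leaf cE896)) (BT.leaf cE897)) (BT.node 898 (BT.leaf cE898) (BT.leaf cE899)))) (BT.node 904 (BT.node 902 (BT.node 901 (BT.node 900 (BT.leaf cE900) (BT.leaf cE901)) (BT.leaf cE902)) (BT.node 903 (BT.leaf cE903) (BT.leaf cE904))) (BT.node 907 (BT.node 906 (BT.node 905 (BT.leaf cE905) (BT.leaf cE906)) (BT.leaf cE907)) (BT.node 908 (BT.leaf cE908) (BT.leaf cE909))))) (BT.node 919 (BT.node 914 (BT.node 912 (BT.node 911 (BT.node 910 (BT.leaf cE910) (BT.leaf cE911)) (BT.leaf cE912)) (BT.node 913 (BT.leaf cE913) (BT.leaf cE914))) (BT.node 917 (BT.node 916 (BT.node 915 (BT.leaf cE915) (BT.leaf cE916)) (BT.leaf cE917)) (BT.node 918 (BT.leaf cE918) (BT.leaf cE919)))) (BT.node 924 (BT.node 922 (BT.node 921 (BT.node 920 (BT.leaf cE920) (BT.leaf cE921)) (BT.leaf cE922)) (BT.node 923 (BT.leaf cE923) (BT.leaf cE924)))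 (BT.node 927 (BT.node 926 (BT.node 925 (BT.leaf cE925) (BT.leaf cE926)) (BT.leaf cE927)) (BT.node 928 (BT.leaf cE928) (BT.leaf cE929)))))) (BT.node 949 (BT.node 939 (BT.node 934 (BT.node 932 (BT.node 931 (BT.node 930 (BT.leaf cE930) (BT.leaf cE931)) (BT.leaf cE932)) (BT.node 933 (BT.leaf cE933) (BT.leaf cE934))) (BT.node 937 (BT.node 936 (BT.node 935 (BT.leaf cE935) (BT.leaf cE936)) (BT.leaf cE937)) (BT.node 938 (BT.leaf cE938) (BT.leaf cE939)))) (BT.node 944 (BT.node 942 (BT.node 941 (BT.node 940 (BT.leaf cE940) (BT.leaf cE941)) (BT.leaf cE942)) (BT.node 943 (BT.leaf cE943) (BT.leaf cE944))) (BT.node 947 (BT.node 946 (BT.node 945 (BT.leaf cE945) (BT.leaf cE946)) (BT.leaf cE947)) (BT.node 948 (BT.leaf cE948) (BT.leaf cE949))))) (BT.node 959 (BT.node 954 (BT.node 952 (BT.node 951 (BT.node 950 (BT.leaf cE950) (BT.leaf cE951)) (BT.leaf cE952)) (BT.node 953 (BT.leaf cE953)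 (BT.leaf cE954))) (BT.node 957 (BT.node 956 (BT.node 955 (BT.leaf cE955) (BT.leaf cE956)) (BT.leaf cE957)) (BT.node 958 (BT.leaf cE958) (BT.leaf cE959)))) (BT.node 964 (BT.node 962 (BT.node 961 (BT.node 960 (BT.leaf cE960) (BT.leaf cE961)) (BT.leaf cE962)) (BT.node 963 (BT.leaf cE963) (BT.leaf cE964))) (BT.node 967 (BT.node 966 (BT.node 965 (BT.leaf cE965) (BT.leaf cE966)) (BT.leaf cE967)) (BT.node 968 (BT.leaf cE968) (BT.leaf cE969))))))))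
noncomputable def colET_6 : BT ℕ := (BT.node 1050 (BT.node 1010 (BT.node 990 (BT.node 980 (BT.node 975 (BT.node 972 (BT.node 971 (BT.node 970 (BT.leaf cE970) (BT.leaf cE971)) (BT.leaf cE972)) (BT.node 974 (BT.node 973 (BT.leaf cE973) (BT.leaf cE974)) (BT.leaf cE975))) (BT.node 978 (BT.node 977 (BT.node 976 (BT.leaf cE976) (BT.leaf cE977)) (BT.leaf cE978)) (BT.node 979 (BT.leaf cE979) (BT.leaf cE980)))) (BT.node 985 (BT.node 983 (BT.node 982 (BT.node 981 (BT.leaf cE981) (BT.leaf cE982)) (BT.leaf cE983)) (BT.node 984 (BT.leaf cE984) (BT.leaf cE985))) (BT.node 988 (BT.node 987 (BT.node 986 (BT.leaf cE986) (BT.leaf cE987)) (BT.leaf cE988)) (BT.node 989 (BT.leaf cE989) (BT.leaf cE990))))) (BT.node 1000 (BT.node 995 (BT.node 993 (BT.node 992 (BT.node 991 (BT.leaf cE991) (BT.leaf cE992)) (BT.leaf cE993)) (BT.node 994 (BT.leaf cE994) (BT.leaf cE995))) (BT.node 998 (BT.node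 997 (BT.node 996 (BT.leaf cE996) (BT.leaf cE997)) (BT.leaf cE998)) (BT.node 999 (BT.leaf cE999) (BT.leaf cE1000)))) (BT.node 1005 (BT.node 1003 (BT.node 1002 (BT.node 1001 (BT.leaf cE1001) (BT.leaf cE1002)) (BT.leaf cE1003)) (BT.node 1004 (BT.leaf cE1004) (BT.leaf cE1005))) (BT.node 1008 (BT.node 1007 (BT.node 1006 (BT.leaf cE1006) (BT.leaf cE1007)) (BT.leaf cE1008)) (BT.node 1009 (BT.leaf cE1009) (BT.leaf cE1010)))))) (BT.node 1030 (BT.node 1020 (BT.node 1015 (BT.node 1013 (BT.node 1012 (BT.node 1011 (BT.leaf cE1011) (BT.leaf cE1012)) (BT.leaf cE1013)) (BT.node 1014 (BT.leaf cE1014) (BT.leaf cE1015))) (BT.node 1018 (BT.node 1017 (BT.node 1016 (BT.leaf cE1016) (BT.leaf cE1017)) (BT.leaf cE1018)) (BT.node 1019 (BT.leaf cE1019) (BT.leaf cE1020)))) (BT.node 1025 (BT.node 1023 (BT.node 1022 (BT.node 1021 (BT.leaf cE1021) (BT.leaf cE1022)) (BT.leaf cE1023)) (BT.node 1024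 (BT.leaf cE1024) (BT.leaf cE1025))) (BT.node 1028 (BT.node 1027 (BT.node 1026 (BT.leaf cE1026) (BT.leaf cE1027)) (BT.leaf cE1028)) (BT.node 1029 (BT.leaf cE1029) (BT.leaf cE1030))))) (BT.node 1040 (BT.node 1035 (BT.node 1033 (BT.node 1032 (BT.node 1031 (BT.leaf cE1031) (BT.leaf cE1032)) (BT.leaf cE1033)) (BT.node 1034 (BT.leaf cE1034) (BT.leaf cE1035))) (BT.node 1038 (BT.node 1037 (BT.node 1036 (BT.leaf cE1036) (BT.leaf cE1037)) (BT.leaf cE1038)) (BT.node 1039 (BT.leaf cE1039) (BT.leaf cE1040)))) (BT.node 1045 (BT.node 1043 (BT.node 1042 (BT.node 1041 (BT.leaf cE1041) (BT.leaf cE1042)) (BT.leaf cE1043)) (BT.node 1044 (BT.leaf cE1044) (BT.leaf cE1045))) (BT.node 1048 (BT.node 1047 (BT.node 1046 (BT.leaf cE1046) (BT.leaf cE1047)) (BT.leaf cE1048)) (BT.node 1049 (BT.leaf cE1049) (BT.leaf cE1050))))))) (BT.node 1091 (BT.node 1071 (BT.node 1061 (BT.node 1056 (BT.node 1053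 (BT.node 1052 (BT.node 1051 (BT.leaf cE1051) (BT.leaf cE1052)) (BT.leaf cE1053)) (BT.node 1055 (BT.node 1054 (BT.leaf cE1054) (BT.leaf cE1055)) (BT.leaf cE1056))) (BT.node 1059 (BT.node 1058 (BT.node 1057 (BT.leaf cE1057) (BT.leaf cE1058)) (BT.leaf cE1059)) (BT.node 1060 (BT.leaf cE1060) (BT.leaf cE1061)))) (BT.node 1066 (BT.node 1064 (BT.node 1063 (BT.node 1062 (BT.leaf cE1062) (BT.leaf cE1063)) (BT.leaf cE1064)) (BT.node 1065 (BT.leaf cE1065) (BT.leaf cE1066))) (BT.node 1069 (BT.node 1068 (BT.node 1067 (BT.leaf cE1067) (BT.leaf cE1068)) (BT.leaf cE1069)) (BT.node 1070 (BT.leaf cE1070) (BT.leaf cE1071))))) (BT.node 1081 (BT.node 1076 (BT.node 1074 (BT.node 1073 (BT.node 1072 (BT.leaf cE1072) (BT.leaf cE1073)) (BT.leaf cE1074)) (BT.node 1075 (BT.leaf cE1075) (BT.leaf cE1076))) (BT.node 1079 (BT.node 1078 (BT.node 1077 (BT.leaf cE1077) (BT.leaf cE1078)) (BT.leaf cE1079))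 (BT.node 1080 (BT.leaf cE1080) (BT.leaf cE1081)))) (BT.node 1086 (BT.node 1084 (BT.node 1083 (BT.node 1082 (BT.leaf cE1082) (BT.leaf cE1083)) (BT.leaf cE1084)) (BT.node 1085 (BT.leaf cE1085) (BT.leaf cE1086))) (BT.node 1089 (BT.node 1088 (BT.node 1087 (BT.leaf cE1087) (BT.leaf cE1088)) (BT.leaf cE1089)) (BT.node 1090 (BT.leaf cE1090) (BT.leaf cE1091)))))) (BT.node 1111 (BT.node 1101 (BT.node 1096 (BT.node 1094 (BT.node 1093 (BT.node 1092 (BT.leaf cE1092) (BT.leaf cE1093)) (BT.leaf cE1094)) (BT.node 1095 (BT.leaf cE1095) (BT.leaf cE1096))) (BT.node 1099 (BT.node 1098 (BT.node 1097 (BT.leaf cE1097) (BT.leaf cE1098)) (BT.leaf cE1099)) (BT.node 1100 (BT.leaf cE1100) (BT.leaf cE1101)))) (BT.node 1106 (BT.node 1104 (BT.node 1103 (BT.node 1102 (BT.leaf cE1102) (BT.leaf cE1103)) (BT.leaf cE1104)) (BT.node 1105 (BT.leaf cE1105) (BT.leaf cE1106))) (BT.node 1109 (BT.node 1108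 (BT.node 1107 (BT.leaf cE1107) (BT.leaf cE1108)) (BT.leaf cE1109)) (BT.node 1110 (BT.leaf cE1110) (BT.leaf cE1111))))) (BT.node 1121 (BT.node 1116 (BT.node 1114 (BT.node 1113 (BT.node 1112 (BT.leaf cE1112) (BT.leaf cE1113)) (BT.leaf cE1114)) (BT.node 1115 (BT.leaf cE1115) (BT.leaf cE1116))) (BT.node 1119 (BT.node 1118 (BT.node 1117 (BT.leaf cE1117) (BT.leaf cE1118)) (BT.leaf cE1119)) (BT.node 1120 (BT.leaf cE1120) (BT.leaf cE1121)))) (BT.node 1126 (BT.node 1124 (BT.node 1123 (BT.node 1122 (BT.leaf cE1122) (BT.leaf cE1123)) (BT.leaf cE1124)) (BT.node 1125 (BT.leaf cE1125) (BT.leaf cE1126))) (BT.node 1129 (BT.node 1128 (BT.node 1127 (BT.leaf cE1127) (BT.leaf cE1128)) (BT.leaf cE1129)) (BT.node 1130 (BT.leaf cE1130) (BT.leaf cE1131))))))))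
noncomputable def colET_7 : BT ℕ := (BT.node 1212 (BT.node 1172 (BT.node 1152 (BT.node 1142 (BT.node 1137 (BT.node 1134 (BT.node 1133 (BT.node 1132 (BT.leaf cE1132) (BT.leaf cE1133)) (BT.leaf cE1134)) (BT.node 1136 (BT.node 1135 (BT.leaf cE1135) (BT.leaf cE1136)) (BT.leaf cE1137))) (BT.node 1140 (BT.node 1139 (BT.node 1138 (BT.leaf cE1138) (BT.leaf cE1139)) (BT.leaf cE1140)) (BT.node 1141 (BT.leaf cE1141) (BT.leaf cE1142)))) (BT.node 1147 (BT.node 1145 (BT.node 1144 (BT.node 1143 (BT.leaf cE1143) (BT.leaf cE1144)) (BT.leaf cE1145)) (BT.node 1146 (BT.leaf cE1146) (BT.leaf cE1147))) (BT.node 1150 (BT.node 1149 (BT.node 1148 (BT.leaf cE1148) (BT.leaf cE1149)) (BT.leaf cE1150)) (BT.node 1151 (BT.leaf cE1151) (BT.leaf cE1152))))) (BT.node 1162 (BT.node 1157 (BT.node 1155 (BT.node 1154 (BT.node 1153 (BT.leaf cE1153) (BT.leaf cE1154)) (BT.leaf cE1155)) (BT.node 1156 (BT.leaf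 cE1156) (BT.leaf cE1157))) (BT.node 1160 (BT.node 1159 (BT.node 1158 (BT.leaf cE1158) (BT.leaf cE1159)) (BT.leaf cE1160)) (BT.node 1161 (BT.leaf cE1161) (BT.leaf cE1162)))) (BT.node 1167 (BT.node 1165 (BT.node 1164 (BT.node 1163 (BT.leaf cE1163) (BT.leaf cE1164)) (BT.leaf cE1165)) (BT.node 1166 (BT.leaf cE1166) (BT.leaf cE1167))) (BT.node 1170 (BT.node 1169 (BT.node 1168 (BT.leaf cE1168) (BT.leaf cE1169)) (BT.leaf cE1170)) (BT.node 1171 (BT.leaf cE1171) (BT.leaf cE1172)))))) (BT.node 1192 (BT.node 1182 (BT.node 1177 (BT.node 1175 (BT.node 1174 (BT.node 1173 (BT.leaf cE1173) (BT.leaf cE1174)) (BT.leaf cE1175)) (BT.node 1176 (BT.leaf cE1176) (BT.leaf cE1177))) (BT.node 1180 (BT.node 1179 (BT.node 1178 (BT.leaf cE1178) (BT.leaf cE1179)) (BT.leaf cE1180)) (BT.node 1181 (BT.leaf cE1181) (BT.leaf cE1182)))) (BT.node 1187 (BT.node 1185 (BT.node 1184 (BT.node 1183 (BT.leaf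 cE1183) (BT.leaf cE1184)) (BT.leaf cE1185)) (BT.node 1186 (BT.leaf cE1186) (BT.leaf cE1187))) (BT.node 1190 (BT.node 1189 (BT.node 1188 (BT.leaf cE1188) (BT.leaf cE1189)) (BT.leaf cE1190)) (BT.node 1191 (BT.leaf cE1191) (BT.leaf cE1192))))) (BT.node 1202 (BT.node 1197 (BT.node 1195 (BT.node 1194 (BT.node 1193 (BT.leaf cE1193) (BT.leaf cE1194)) (BT.leaf cE1195)) (BT.node 1196 (BT.leaf cE1196) (BT.leaf cE1197))) (BT.node 1200 (BT.node 1199 (BT.node 1198 (BT.leaf cE1198) (BT.leaf cE1199)) (BT.leaf cE1200)) (BT.node 1201 (BT.leaf cE1201) (BT.leaf cE1202)))) (BT.node 1207 (BT.node 1205 (BT.node 1204 (BT.node 1203 (BT.leaf cE1203) (BT.leaf cE1204)) (BT.leaf cE1205)) (BT.node 1206 (BT.leaf cE1206) (BT.leaf cE1207))) (BT.node 1210 (BT.node 1209 (BT.node 1208 (BT.leaf cE1208) (BT.leaf cE1209)) (BT.leaf cE1210)) (BT.node 1211 (BT.leaf cE1211) (BT.leaf cE1212))))))) (BT.node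 1252 (BT.node 1232 (BT.node 1222 (BT.node 1217 (BT.node 1215 (BT.node 1214 (BT.node 1213 (BT.leaf cE1213) (BT.leaf cE1214)) (BT.leaf cE1215)) (BT.node 1216 (BT.leaf cE1216) (BT.leaf cE1217))) (BT.node 1220 (BT.node 1219 (BT.node 1218 (BT.leaf cE1218) (BT.leaf cE1219)) (BT.leaf cE1220)) (BT.node 1221 (BT.leaf cE1221) (BT.leaf cE1222)))) (BT.node 1227 (BT.node 1225 (BT.node 1224 (BT.node 1223 (BT.leaf cE1223) (BT.leaf cE1224)) (BT.leaf cE1225)) (BT.node 1226 (BT.leaf cE1226) (BT.leaf cE1227))) (BT.node 1230 (BT.node 1229 (BT.node 1228 (BT.leaf cE1228) (BT.leaf cE1229)) (BT.leaf cE1230)) (BT.node 1231 (BT.leaf cE1231) (BT.leaf cE1232))))) (BT.node 1242 (BT.node 1237 (BT.node 1235 (BT.node 1234 (BT.node 1233 (BT.leaf cE1233) (BT.leaf cE1234)) (BT.leaf cE1235)) (BT.node 1236 (BT.leaf cE1236) (BT.leaf cE1237))) (BT.node 1240 (BT.node 1239 (BT.node 1238 (BT.leaf cE1238) (BT.leaf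 cE1239)) (BT.leaf cE1240)) (BT.node 1241 (BT.leaf cE1241) (BT.leaf cE1242)))) (BT.node 1247 (BT.node 1245 (BT.node 1244 (BT.node 1243 (BT.leaf cE1243) (BT.leaf cE1244)) (BT.leaf cE1245)) (BT.node 1246 (BT.leaf cE1246) (BT.leaf cE1247))) (BT.node 1250 (BT.node 1249 (BT.node 1248 (BT.leaf cE1248) (BT.leaf cE1249)) (BT.leaf cE1250)) (BT.node 1251 (BT.leaf cE1251) (BT.leaf cE1252)))))) (BT.node 1272 (BT.node 1262 (BT.node 1257 (BT.node 1255 (BT.node 1254 (BT.node 1253 (BT.leaf cE1253) (BT.leaf cE1254)) (BT.leaf cE1255)) (BT.node 1256 (BT.leaf cE1256) (BT.leaf cE1257))) (BT.node 1260 (BT.node 1259 (BT.node 1258 (BT.leaf cE1258) (BT.leaf cE1259)) (BT.leaf cE1260)) (BT.node 1261 (BT.leaf cE1261) (BT.leaf cE1262)))) (BT.node 1267 (BT.node 1265 (BT.node 1264 (BT.node 1263 (BT.leaf cE1263) (BT.leaf cE1264)) (BT.leaf cE1265)) (BT.node 1266 (BT.leaf cE1266) (BT.leaf cE1267)))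 (BT.node 1270 (BT.node 1269 (BT.node 1268 (BT.leaf cE1268) (BT.leaf cE1269)) (BT.leaf cE1270)) (BT.node 1271 (BT.leaf cE1271) (BT.leaf cE1272))))) (BT.node 1282 (BT.node 1277 (BT.node 1275 (BT.node 1274 (BT.node 1273 (BT.leaf cE1273) (BT.leaf cE1274)) (BT.leaf cE1275)) (BT.node 1276 (BT.leaf cE1276) (BT.leaf cE1277))) (BT.node 1280 (BT.node 1279 (BT.node 1278 (BT.leaf cE1278) (BT.leaf cE1279)) (BT.leaf cE1280)) (BT.node 1281 (BT.leaf cE1281) (BT.leaf cE1282)))) (BT.node 1287 (BT.node 1285 (BT.node 1284 (BT.node 1283 (BT.leaf cE1283) (BT.leaf cE1284)) (BT.leaf cE1285)) (BT.node 1286 (BT.leaf cE1286) (BT.leaf cE1287))) (BT.node 1290 (BT.node 1289 (BT.node 1288 (BT.leaf cE1288) (BT.leaf cE1289)) (BT.leaf cE1290)) (BT.node 1291 (BT.leaf cE1291) (BT.leaf cE1292))))))))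
noncomputable def colET_8 : BT ℕ := (BT.node 1373 (BT.node 1333 (BT.node 1313 (BT.node 1303 (BT.node 1298 (BT.node 1295 (BT.node 1294 (BT.node 1293 (BT.leaf cE1293) (BT.leaf cE1294)) (BT.leaf cE1295)) (BT.node 1297 (BT.node 1296 (BT.leaf cE1296) (BT.leaf cE1297)) (BT.leaf cE1298))) (BT.node 1301 (BT.node 1300 (BT.node 1299 (BT.leaf cE1299) (BT.leaf cE1300)) (BT.leaf cE1301)) (BT.node 1302 (BT.leaf cE1302) (BT.leaf cE1303)))) (BT.node 1308 (BT.node 1306 (BT.node 1305 (BT.node 1304 (BT.leaf cE1304) (BT.leaf cE1305)) (BT.leaf cE1306)) (BT.node 1307 (BT.leaf cE1307) (BT.leaf cE1308))) (BT.node 1311 (BT.node 1310 (BT.node 1309 (BT.leaf cE1309) (BT.leaf cE1310)) (BT.leaf cE1311)) (BT.node 1312 (BT.leaf cE1312) (BT.leaf cE1313))))) (BT.node 1323 (BT.node 1318 (BT.node 1316 (BT.node 1315 (BT.node 1314 (BT.leaf cE1314) (BT.leaf cE1315)) (BT.leaf cE1316)) (BT.node 1317 (BT.leaf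 cE1317) (BT.leaf cE1318))) (BT.node 1321 (BT.node 1320 (BT.node 1319 (BT.leaf cE1319) (BT.leaf cE1320)) (BT.leaf cE1321)) (BT.node 1322 (BT.leaf cE1322) (BT.leaf cE1323)))) (BT.node 1328 (BT.node 1326 (BT.node 1325 (BT.node 1324 (BT.leaf cE1324) (BT.leaf cE1325)) (BT.leaf cE1326)) (BT.node 1327 (BT.leaf cE1327) (BT.leaf cE1328))) (BT.node 1331 (BT.node 1330 (BT.node 1329 (BT.leaf cE1329) (BT.leaf cE1330)) (BT.leaf cE1331)) (BT.node 1332 (BT.leaf cE1332) (BT.leaf cE1333)))))) (BT.node 1353 (BT.node 1343 (BT.node 1338 (BT.node 1336 (BT.node 1335 (BT.node 1334 (BT.leaf cE1334) (BT.leaf cE1335)) (BT.leaf cE1336)) (BT.node 1337 (BT.leaf cE1337) (BT.leaf cE1338))) (BT.node 1341 (BT.node 1340 (BT.node 1339 (BT.leaf cE1339) (BT.leaf cE1340)) (BT.leaf cE1341)) (BT.node 1342 (BT.leaf cE1342) (BT.leaf cE1343)))) (BT.node 1348 (BT.node 1346 (BT.node 1345 (BT.node 1344 (BT.leaf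 cE1344) (BT.leaf cE1345)) (BT.leaf cE1346)) (BT.node 1347 (BT.leaf cE1347) (BT.leaf cE1348))) (BT.node 1351 (BT.node 1350 (BT.node 1349 (BT.leaf cE1349) (BT.leaf cE1350)) (BT.leaf cE1351)) (BT.node 1352 (BT.leaf cE1352) (BT.leaf cE1353))))) (BT.node 1363 (BT.node 1358 (BT.node 1356 (BT.node 1355 (BT.node 1354 (BT.leaf cE1354) (BT.leaf cE1355)) (BT.leaf cE1356)) (BT.node 1357 (BT.leaf cE1357) (BT.leaf cE1358))) (BT.node 1361 (BT.node 1360 (BT.node 1359 (BT.leaf cE1359) (BT.leaf cE1360)) (BT.leaf cE1361)) (BT.node 1362 (BT.leaf cE1362) (BT.leaf cE1363)))) (BT.node 1368 (BT.node 1366 (BT.node 1365 (BT.node 1364 (BT.leaf cE1364) (BT.leaf cE1365)) (BT.leaf cE1366)) (BT.node 1367 (BT.leaf cE1367) (BT.leaf cE1368))) (BT.node 1371 (BT.node 1370 (BT.node 1369 (BT.leaf cE1369) (BT.leaf cE1370)) (BT.leaf cE1371)) (BT.node 1372 (BT.leaf cE1372) (BT.leaf cE1373))))))) (BT.node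 1414 (BT.node 1394 (BT.node 1384 (BT.node 1379 (BT.node 1376 (BT.node 1375 (BT.node 1374 (BT.leaf cE1374) (BT.leaf cE1375)) (BT.leaf cE1376)) (BT.node 1378 (BT.node 1377 (BT.leaf cE1377) (BT.leaf cE1378)) (BT.leaf cE1379))) (BT.node 1382 (BT.node 1381 (BT.node 1380 (BT.leaf cE1380) (BT.leaf cE1381)) (BT.leaf cE1382)) (BT.node 1383 (BT.leaf cE1383) (BT.leaf cE1384)))) (BT.node 1389 (BT.node 1387 (BT.node 1386 (BT.node 1385 (BT.leaf cE1385) (BT.leaf cE1386)) (BT.leaf cE1387)) (BT.node 1388 (BT.leaf cE1388) (BT.leaf cE1389))) (BT.node 1392 (BT.node 1391 (BT.node 1390 (BT.leaf cE1390) (BT.leaf cE1391)) (BT.leaf cE1392)) (BT.node 1393 (BT.leaf cE1393) (BT.leaf cE1394))))) (BT.node 1404 (BT.node 1399 (BT.node 1397 (BT.node 1396 (BT.node 1395 (BT.leaf cE1395) (BT.leaf cE1396)) (BT.leaf cE1397)) (BT.node 1398 (BT.leaf cE1398) (BT.leaf cE1399))) (BT.node 1402 (BT.node 1401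 (BT.node 1400 (BT.leaf cE1400) (BT.leaf cE1401)) (BT.leaf cE1402)) (BT.node 1403 (BT.leaf cE1403) (BT.leaf cE1404)))) (BT.node 1409 (BT.node 1407 (BT.node 1406 (BT.node 1405 (BT.leaf cE1405) (BT.leaf cE1406)) (BT.leaf cE1407)) (BT.node 1408 (BT.leaf cE1408) (BT.leaf cE1409))) (BT.node 1412 (BT.node 1411 (BT.node 1410 (BT.leaf cE1410) (BT.leaf cE1411)) (BT.leaf cE1412)) (BT.node 1413 (BT.leaf cE1413) (BT.leaf cE1414)))))) (BT.node 1434 (BT.node 1424 (BT.node 1419 (BT.node 1417 (BT.node 1416 (BT.node 1415 (BT.leaf cE1415) (BT.leaf cE1416)) (BT.leaf cE1417)) (BT.node 1418 (BT.leaf cE1418) (BT.leaf cE1419))) (BT.node 1422 (BT.node 1421 (BT.node 1420 (BT.leaf cE1420) (BT.leaf cE1421)) (BT.leaf cE1422)) (BT.node 1423 (BT.leaf cE1423) (BT.leaf cE1424)))) (BT.node 1429 (BT.node 1427 (BT.node 1426 (BT.node 1425 (BT.leaf cE1425) (BT.leaf cE1426)) (BT.leaf cE1427)) (BT.node 1428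 (BT.leaf cE1428) (BT.leaf cE1429))) (BT.node 1432 (BT.node 1431 (BT.node 1430 (BT.leaf cE1430) (BT.leaf cE1431)) (BT.leaf cE1432)) (BT.node 1433 (BT.leaf cE1433) (BT.leaf cE1434))))) (BT.node 1444 (BT.node 1439 (BT.node 1437 (BT.node 1436 (BT.node 1435 (BT.leaf cE1435) (BT.leaf cE1436)) (BT.leaf cE1437)) (BT.node 1438 (BT.leaf cE1438) (BT.leaf cE1439))) (BT.node 1442 (BT.node 1441 (BT.node 1440 (BT.leaf cE1440) (BT.leaf cE1441)) (BT.leaf cE1442)) (BT.node 1443 (BT.leaf cE1443) (BT.leaf cE1444)))) (BT.node 1449 (BT.node 1447 (BT.node 1446 (BT.node 1445 (BT.leaf cE1445) (BT.leaf cE1446)) (BT.leaf cE1447)) (BT.node 1448 (BT.leaf cE1448) (BT.leaf cE1449))) (BT.node 1452 (BT.node 1451 (BT.node 1450 (BT.leaf cE1450) (BT.leaf cE1451)) (BT.leaf cE1452)) (BT.node 1453 (BT.leaf cE1453) (BT.leaf cE1454))))))))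
noncomputable def colET_9 : BT ℕ := (BT.node 1535 (BT.node 1495 (BT.node 1475 (BT.node 1465 (BT.node 1460 (BT.node 1457 (BT.node 1456 (BT.node 1455 (BT.leaf cE1455) (BT.leaf cE1456)) (BT.leaf cE1457)) (BT.node 1459 (BT.node 1458 (BT.leaf cE1458) (BT.leaf cE1459)) (BT.leaf cE1460))) (BT.node 1463 (BT.node 1462 (BT.node 1461 (BT.leaf cE1461) (BT.leaf cE1462)) (BT.leaf cE1463)) (BT.node 1464 (BT.leaf cE1464) (BT.leaf cE1465)))) (BT.node 1470 (BT.node 1468 (BT.node 1467 (BT.node 1466 (BT.leaf cE1466) (BT.leaf cE1467)) (BT.leaf cE1468)) (BT.node 1469 (BT.leaf cE1469) (BT.leaf cE1470))) (BT.node 1473 (BT.node 1472 (BT.node 1471 (BT.leaf cE1471) (BT.leaf cE1472)) (BT.leaf cE1473)) (BT.node 1474 (BT.leaf cE1474) (BT.leaf cE1475))))) (BT.node 1485 (BT.node 1480 (BT.node 1478 (BT.node 1477 (BT.node 1476 (BT.leaf cE1476) (BT.leaf cE1477)) (BT.leaf cE1478)) (BT.node 1479 (BT.leaf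 cE1479) (BT.leaf cE1480))) (BT.node 1483 (BT.node 1482 (BT.node 1481 (BT.leaf cE1481) (BT.leaf cE1482)) (BT.leaf cE1483)) (BT.node 1484 (BT.leaf cE1484) (BT.leaf cE1485)))) (BT.node 1490 (BT.node 1488 (BT.node 1487 (BT.node 1486 (BT.leaf cE1486) (BT.leaf cE1487)) (BT.leaf cE1488)) (BT.node 1489 (BT.leaf cE1489) (BT.leaf cE1490))) (BT.node 1493 (BT.node 1492 (BT.node 1491 (BT.leaf cE1491) (BT.leaf cE1492)) (BT.leaf cE1493)) (BT.node 1494 (BT.leaf cE1494) (BT.leaf cE1495)))))) (BT.node 1515 (BT.node 1505 (BT.node 1500 (BT.node 1498 (BT.node 1497 (BT.node 1496 (BT.leaf cE1496) (BT.leaf cE1497)) (BT.leaf cE1498)) (BT.node 1499 (BT.leaf cE1499) (BT.leaf cE1500))) (BT.node 1503 (BT.node 1502 (BT.node 1501 (BT.leaf cE1501) (BT.leaf cE1502)) (BT.leaf cE1503)) (BT.node 1504 (BT.leaf cE1504) (BT.leaf cE1505)))) (BT.node 1510 (BT.node 1508 (BT.node 1507 (BT.node 1506 (BT.leaf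 cE1506) (BT.leaf cE1507)) (BT.leaf cE1508)) (BT.node 1509 (BT.leaf cE1509) (BT.leaf cE1510))) (BT.node 1513 (BT.node 1512 (BT.node 1511 (BT.leaf cE1511) (BT.leaf cE1512)) (BT.leaf cE1513)) (BT.node 1514 (BT.leaf cE1514) (BT.leaf cE1515))))) (BT.node 1525 (BT.node 1520 (BT.node 1518 (BT.node 1517 (BT.node 1516 (BT.leaf cE1516) (BT.leaf cE1517)) (BT.leaf cE1518)) (BT.node 1519 (BT.leaf cE1519) (BT.leaf cE1520))) (BT.node 1523 (BT.node 1522 (BT.node 1521 (BT.leaf cE1521) (BT.leaf cE1522)) (BT.leaf cE1523)) (BT.node 1524 (BT.leaf cE1524) (BT.leaf cE1525)))) (BT.node 1530 (BT.node 1528 (BT.node 1527 (BT.node 1526 (BT.leaf cE1526) (BT.leaf cE1527)) (BT.leaf cE1528)) (BT.node 1529 (BT.leaf cE1529) (BT.leaf cE1530))) (BT.node 1533 (BT.node 1532 (BT.node 1531 (BT.leaf cE1531) (BT.leaf cE1532)) (BT.leaf cE1533)) (BT.node 1534 (BT.leaf cE1534) (BT.leaf cE1535))))))) (BT.node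 1576 (BT.node 1556 (BT.node 1546 (BT.node 1541 (BT.node 1538 (BT.node 1537 (BT.node 1536 (BT.leaf cE1536) (BT.leaf cE1537)) (BT.leaf cE1538)) (BT.node 1540 (BT.node 1539 (BT.leaf cE1539) (BT.leaf cE1540)) (BT.leaf cE1541))) (BT.node 1544 (BT.node 1543 (BT.node 1542 (BT.leaf cE1542) (BT.leaf cE1543)) (BT.leaf cE1544)) (BT.node 1545 (BT.leaf cE1545) (BT.leaf cE1546)))) (BT.node 1551 (BT.node 1549 (BT.node 1548 (BT.node 1547 (BT.leaf cE1547) (BT.leaf cE1548)) (BT.leaf cE1549)) (BT.node 1550 (BT.leaf cE1550) (BT.leaf cE1551))) (BT.node 1554 (BT.node 1553 (BT.node 1552 (BT.leaf cE1552) (BT.leaf cE1553)) (BT.leaf cE1554)) (BT.node 1555 (BT.leaf cE1555) (BT.leaf cE1556))))) (BT.node 1566 (BT.node 1561 (BT.node 1559 (BT.node 1558 (BT.node 1557 (BT.leaf cE1557) (BT.leaf cE1558)) (BT.leaf cE1559)) (BT.node 1560 (BT.leaf cE1560) (BT.leaf cE1561))) (BT.node 1564 (BT.node 1563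 (BT.node 1562 (BT.leaf cE1562) (BT.leaf cE1563)) (BT.leaf cE1564)) (BT.node 1565 (BT.leaf cE1565) (BT.leaf cE1566)))) (BT.node 1571 (BT.node 1569 (BT.node 1568 (BT.node 1567 (BT.leaf cE1567) (BT.leaf cE1568)) (BT.leaf cE1569)) (BT.node 1570 (BT.leaf cE1570) (BT.leaf cE1571))) (BT.node 1574 (BT.node 1573 (BT.node 1572 (BT.leaf cE1572) (BT.leaf cE1573)) (BT.leaf cE1574)) (BT.node 1575 (BT.leaf cE1575) (BT.leaf cE1576)))))) (BT.node 1596 (BT.node 1586 (BT.node 1581 (BT.node 1579 (BT.node 1578 (BT.node 1577 (BT.leaf cE1577) (BT.leaf cE1578)) (BT.leaf cE1579)) (BT.node 1580 (BT.leaf cE1580) (BT.leaf cE1581))) (BT.node 1584 (BT.node 1583 (BT.node 1582 (BT.leaf cE1582) (BT.leaf cE1583)) (BT.leaf cE1584)) (BT.node 1585 (BT.leaf cE1585) (BT.leaf cE1586)))) (BT.node 1591 (BT.node 1589 (BT.node 1588 (BT.node 1587 (BT.leaf cE1587) (BT.leaf cE1588)) (BT.leaf cE1589)) (BT.node 1590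 (BT.leaf cE1590) (BT.leaf cE1591))) (BT.node 1594 (BT.node 1593 (BT.node 1592 (BT.leaf cE1592) (BT.leaf cE1593)) (BT.leaf cE1594)) (BT.node 1595 (BT.leaf cE1595) (BT.leaf cE1596))))) (BT.node 1606 (BT.node 1601 (BT.node 1599 (BT.node 1598 (BT.node 1597 (BT.leaf cE1597) (BT.leaf cE1598)) (BT.leaf cE1599)) (BT.node 1600 (BT.leaf cE1600) (BT.leaf cE1601))) (BT.node 1604 (BT.node 1603 (BT.node 1602 (BT.leaf cE1602) (BT.leaf cE1603)) (BT.leaf cE1604)) (BT.node 1605 (BT.leaf cE1605) (BT.leaf cE1606)))) (BT.node 1611 (BT.node 1609 (BT.node 1608 (BT.node 1607 (BT.leaf cE1607) (BT.leaf cE1608)) (BT.leaf cE1609)) (BT.node 1610 (BT.leaf cE1610) (BT.leaf cE1611))) (BT.node 1614 (BT.node 1613 (BT.node 1612 (BT.leaf cE1612) (BT.leaf cE1613)) (BT.leaf cE1614)) (BT.node 1615 (BT.leaf cE1615) (BT.leaf cE1616))))))))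
noncomputable def colET_10 : BT ℕ := (BT.node 1697 (BT.node 1657 (BT.node 1637 (BT.node 1627 (BT.node 1622 (BT.node 1619 (BT.node 1618 (BT.node 1617 (BT.leaf cE1617) (BT.leaf cE1618)) (BT.leaf cE1619)) (BT.node 1621 (BT.node 1620 (BT.leaf cE1620) (BT.leaf cE1621)) (BT.leaf cE1622))) (BT.node 1625 (BT.node 1624 (BT.node 1623 (BT.leaf cE1623) (BT.leaf cE1624)) (BT.leaf cE1625)) (BT.node 1626 (BT.leaf cE1626) (BT.leaf cE1627)))) (BT.node 1632 (BT.node 1630 (BT.node 1629 (BT.node 1628 (BT.leaf cE1628) (BT.leaf cE1629)) (BT.leaf cE1630)) (BT.node 1631 (BT.leaf cE1631) (BT.leaf cE1632))) (BT.node 1635 (BT.node 1634 (BT.node 1633 (BT.leaf cE1633) (BT.leaf cE1634)) (BT.leaf cE1635)) (BT.node 1636 (BT.leaf cE1636) (BT.leaf cE1637))))) (BT.node 1647 (BT.node 1642 (BT.node 1640 (BT.node 1639 (BT.node 1638 (BT.leaf cE1638) (BT.leaf cE1639)) (BT.leaf cE1640)) (BT.node 1641 (BT.leaf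 cE1641) (BT.leaf cE1642))) (BT.node 1645 (BT.node 1644 (BT.node 1643 (BT.leaf cE1643) (BT.leaf cE1644)) (BT.leaf cE1645)) (BT.node 1646 (BT.leaf cE1646) (BT.leaf cE1647)))) (BT.node 1652 (BT.node 1650 (BT.node 1649 (BT.node 1648 (BT.leaf cE1648) (BT.leaf cE1649)) (BT.leaf cE1650)) (BT.node 1651 (BT.leaf cE1651) (BT.leaf cE1652))) (BT.node 1655 (BT.node 1654 (BT.node 1653 (BT.leaf cE1653) (BT.leaf cE1654)) (BT.leaf cE1655)) (BT.node 1656 (BT.leaf cE1656) (BT.leaf cE1657)))))) (BT.node 1677 (BT.node 1667 (BT.node 1662 (BT.node 1660 (BT.node 1659 (BT.node 1658 (BT.leaf cE1658) (BT.leaf cE1659)) (BT.leaf cE1660)) (BT.node 1661 (BT.leaf cE1661) (BT.leaf cE1662))) (BT.node 1665 (BT.node 1664 (BT.node 1663 (BT.leaf cE1663) (BT.leaf cE1664)) (BT.leaf cE1665)) (BT.node 1666 (BT.leaf cE1666) (BT.leaf cE1667)))) (BT.node 1672 (BT.node 1670 (BT.node 1669 (BT.node 1668 (BT.leaf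 cE1668) (BT.leaf cE1669)) (BT.leaf cE1670)) (BT.node 1671 (BT.leaf cE1671) (BT.leaf cE1672))) (BT.node 1675 (BT.node 1674 (BT.node 1673 (BT.leaf cE1673) (BT.leaf cE1674)) (BT.leaf cE1675)) (BT.node 1676 (BT.leaf cE1676) (BT.leaf cE1677))))) (BT.node 1687 (BT.node 1682 (BT.node 1680 (BT.node 1679 (BT.node 1678 (BT.leaf cE1678) (BT.leaf cE1679)) (BT.leaf cE1680)) (BT.node 1681 (BT.leaf cE1681) (BT.leaf cE1682))) (BT.node 1685 (BT.node 1684 (BT.node 1683 (BT.leaf cE1683) (BT.leaf cE1684)) (BT.leaf cE1685)) (BT.node 1686 (BT.leaf cE1686) (BT.leaf cE1687)))) (BT.node 1692 (BT.node 1690 (BT.node 1689 (BT.node 1688 (BT.leaf cE1688) (BT.leaf cE1689)) (BT.leaf cE1690)) (BT.node 1691 (BT.leaf cE1691) (BT.leaf cE1692))) (BT.node 1695 (BT.node 1694 (BT.node 1693 (BT.leaf cE1693) (BT.leaf cE1694)) (BT.leaf cE1695)) (BT.node 1696 (BT.leaf cE1696) (BT.leaf cE1697))))))) (BT.node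 1738 (BT.node 1718 (BT.node 1708 (BT.node 1703 (BT.node 1700 (BT.node 1699 (BT.node 1698 (BT.leaf cE1698) (BT.leaf cE1699)) (BT.leaf cE1700)) (BT.node 1702 (BT.node 1701 (BT.leaf cE1701) (BT.leaf cE1702)) (BT.leaf cE1703))) (BT.node 1706 (BT.node 1705 (BT.node 1704 (BT.leaf cE1704) (BT.leaf cE1705)) (BT.leaf cE1706)) (BT.node 1707 (BT.leaf cE1707) (BT.leaf cE1708)))) (BT.node 1713 (BT.node 1711 (BT.node 1710 (BT.node 1709 (BT.leaf cE1709) (BT.leaf cE1710)) (BT.leaf cE1711)) (BT.node 1712 (BT.leaf cE1712) (BT.leaf cE1713))) (BT.node 1716 (BT.node 1715 (BT.node 1714 (BT.leaf cE1714) (BT.leaf cE1715)) (BT.leaf cE1716)) (BT.node 1717 (BT.leaf cE1717) (BT.leaf cE1718))))) (BT.node 1728 (BT.node 1723 (BT.node 1721 (BT.node 1720 (BT.node 1719 (BT.leaf cE1719) (BT.leaf cE1720)) (BT.leaf cE1721)) (BT.node 1722 (BT.leaf cE1722) (BT.leaf cE1723))) (BT.node 1726 (BT.node 1725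 (BT.node 1724 (BT.leaf cE1724) (BT.leaf cE1725)) (BT.leaf cE1726)) (BT.node 1727 (BT.leaf cE1727) (BT.leaf cE1728)))) (BT.node 1733 (BT.node 1731 (BT.node 1730 (BT.node 1729 (BT.leaf cE1729) (BT.leaf cE1730)) (BT.leaf cE1731)) (BT.node 1732 (BT.leaf cE1732) (BT.leaf cE1733))) (BT.node 1736 (BT.node 1735 (BT.node 1734 (BT.leaf cE1734) (BT.leaf cE1735)) (BT.leaf cE1736)) (BT.node 1737 (BT.leaf cE1737) (BT.leaf cE1738)))))) (BT.node 1758 (BT.node 1748 (BT.node 1743 (BT.node 1741 (BT.node 1740 (BT.node 1739 (BT.leaf cE1739) (BT.leaf cE1740)) (BT.leaf cE1741)) (BT.node 1742 (BT.leaf cE1742) (BT.leaf cE1743))) (BT.node 1746 (BT.node 1745 (BT.node 1744 (BT.leaf cE1744) (BT.leaf cE1745)) (BT.leaf cE1746)) (BT.node 1747 (BT.leaf cE1747) (BT.leaf cE1748)))) (BT.node 1753 (BT.node 1751 (BT.node 1750 (BT.node 1749 (BT.leaf cE1749) (BT.leaf cE1750)) (BT.leaf cE1751)) (BT.node 1752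 (BT.leaf cE1752) (BT.leaf cE1753))) (BT.node 1756 (BT.node 1755 (BT.node 1754 (BT.leaf cE1754) (BT.leaf cE1755)) (BT.leaf cE1756)) (BT.node 1757 (BT.leaf cE1757) (BT.leaf cE1758))))) (BT.node 1768 (BT.node 1763 (BT.node 1761 (BT.node 1760 (BT.node 1759 (BT.leaf cE1759) (BT.leaf cE1760)) (BT.leaf cE1761)) (BT.node 1762 (BT.leaf cE1762) (BT.leaf cE1763))) (BT.node 1766 (BT.node 1765 (BT.node 1764 (BT.leaf cE1764) (BT.leaf cE1765)) (BT.leaf cE1766)) (BT.node 1767 (BT.leaf cE1767) (BT.leaf cE1768)))) (BT.node 1773 (BT.node 1771 (BT.node 1770 (BT.node 1769 (BT.leaf cE1769) (BT.leaf cE1770)) (BT.leaf cE1771)) (BT.node 1772 (BT.leaf cE1772) (BT.leaf cE1773))) (BT.node 1776 (BT.node 1775 (BT.node 1774 (BT.leaf cE1774) (BT.leaf cE1775)) (BT.leaf cE1776)) (BT.node 1777 (BT.leaf cE1777) (BT.leaf cE1778))))))))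
noncomputable def colET_11 : BT ℕ := (BT.node 1859 (BT.node 1819 (BT.node 1799 (BT.node 1789 (BT.node 1784 (BT.node 1781 (BT.node 1780 (BT.node 1779 (BT.leaf cE1779) (BT.leaf cE1780)) (BT.leaf cE1781)) (BT.node 1783 (BT.node 1782 (BT.leaf cE1782) (BT.leaf cE1783)) (BT.leaf cE1784))) (BT.node 1787 (BT.node 1786 (BT.node 1785 (BT.leaf cE1785) (BT.leaf cE1786)) (BT.leaf cE1787)) (BT.node 1788 (BT.leaf cE1788) (BT.leaf cE1789)))) (BT.node 1794 (BT.node 1792 (BT.node 1791 (BT.node 1790 (BT.leaf cE1790) (BT.leaf cE1791)) (BT.leaf cE1792)) (BT.node 1793 (BT.leaf cE1793) (BT.leaf cE1794))) (BT.node 1797 (BT.node 1796 (BT.node 1795 (BT.leaf cE1795) (BT.leaf cE1796)) (BT.leaf cE1797)) (BT.node 1798 (BT.leaf cE1798) (BT.leaf cE1799))))) (BT.node 1809 (BT.node 1804 (BT.node 1802 (BT.node 1801 (BT.node 1800 (BT.leaf cE1800) (BT.leaf cE1801)) (BT.leaf cE1802)) (BT.node 1803 (BT.leaf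 cE1803) (BT.leaf cE1804))) (BT.node 1807 (BT.node 1806 (BT.node 1805 (BT.leaf cE1805) (BT.leaf cE1806)) (BT.leaf cE1807)) (BT.node 1808 (BT.leaf cE1808) (BT.leaf cE1809)))) (BT.node 1814 (BT.node 1812 (BT.node 1811 (BT.node 1810 (BT.leaf cE1810) (BT.leaf cE1811)) (BT.leaf cE1812)) (BT.node 1813 (BT.leaf cE1813) (BT.leaf cE1814))) (BT.node 1817 (BT.node 1816 (BT.node 1815 (BT.leaf cE1815) (BT.leaf cE1816)) (BT.leaf cE1817)) (BT.node 1818 (BT.leaf cE1818) (BT.leaf cE1819)))))) (BT.node 1839 (BT.node 1829 (BT.node 1824 (BT.node 1822 (BT.node 1821 (BT.node 1820 (BT.leaf cE1820) (BT.leaf cE1821)) (BT.leaf cE1822)) (BT.node 1823 (BT.leaf cE1823) (BT.leaf cE1824))) (BT.node 1827 (BT.node 1826 (BT.node 1825 (BT.leaf cE1825) (BT.leaf cE1826)) (BT.leaf cE1827)) (BT.node 1828 (BT.leaf cE1828) (BT.leaf cE1829)))) (BT.node 1834 (BT.node 1832 (BT.node 1831 (BT.node 1830 (BT.leaf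 cE1830) (BT.leaf cE1831)) (BT.leaf cE1832)) (BT.node 1833 (BT.leaf cE1833) (BT.leaf cE1834))) (BT.node 1837 (BT.node 1836 (BT.node 1835 (BT.leaf cE1835) (BT.leaf cE1836)) (BT.leaf cE1837)) (BT.node 1838 (BT.leaf cE1838) (BT.leaf cE1839))))) (BT.node 1849 (BT.node 1844 (BT.node 1842 (BT.node 1841 (BT.node 1840 (BT.leaf cE1840) (BT.leaf cE1841)) (BT.leaf cE1842)) (BT.node 1843 (BT.leaf cE1843) (BT.leaf cE1844))) (BT.node 1847 (BT.node 1846 (BT.node 1845 (BT.leaf cE1845) (BT.leaf cE1846)) (BT.leaf cE1847)) (BT.node 1848 (BT.leaf cE1848) (BT.leaf cE1849)))) (BT.node 1854 (BT.node 1852 (BT.node 1851 (BT.node 1850 (BT.leaf cE1850) (BT.leaf cE1851)) (BT.leaf cE1852)) (BT.node 1853 (BT.leaf cE1853) (BT.leaf cE1854))) (BT.node 1857 (BT.node 1856 (BT.node 1855 (BT.leaf cE1855) (BT.leaf cE1856)) (BT.leaf cE1857)) (BT.node 1858 (BT.leaf cE1858) (BT.leaf cE1859))))))) (BT.node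 1899 (BT.node 1879 (BT.node 1869 (BT.node 1864 (BT.node 1862 (BT.node 1861 (BT.node 1860 (BT.leaf cE1860) (BT.leaf cE1861)) (BT.leaf cE1862)) (BT.node 1863 (BT.leaf cE1863) (BT.leaf cE1864))) (BT.node 1867 (BT.node 1866 (BT.node 1865 (BT.leaf cE1865) (BT.leaf cE1866)) (BT.leaf cE1867)) (BT.node 1868 (BT.leaf cE1868) (BT.leaf cE1869)))) (BT.node 1874 (BT.node 1872 (BT.node 1871 (BT.node 1870 (BT.leaf cE1870) (BT.leaf cE1871)) (BT.leaf cE1872)) (BT.node 1873 (BT.leaf cE1873) (BT.leaf cE1874))) (BT.node 1877 (BT.node 1876 (BT.node 1875 (BT.leaf cE1875) (BT.leaf cE1876)) (BT.leaf cE1877)) (BT.node 1878 (BT.leaf cE1878) (BT.leaf cE1879))))) (BT.node 1889 (BT.node 1884 (BT.node 1882 (BT.node 1881 (BT.node 1880 (BT.leaf cE1880) (BT.leaf cE1881)) (BT.leaf cE1882)) (BT.node 1883 (BT.leaf cE1883) (BT.leaf cE1884))) (BT.node 1887 (BT.node 1886 (BT.node 1885 (BT.leaf cE1885) (BT.leaf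 cE1886)) (BT.leaf cE1887)) (BT.node 1888 (BT.leaf cE1888) (BT.leaf cE1889)))) (BT.node 1894 (BT.node 1892 (BT.node 1891 (BT.node 1890 (BT.leaf cE1890) (BT.leaf cE1891)) (BT.leaf cE1892)) (BT.node 1893 (BT.leaf cE1893) (BT.leaf cE1894))) (BT.node 1897 (BT.node 1896 (BT.node 1895 (BT.leaf cE1895) (BT.leaf cE1896)) (BT.leaf cE1897)) (BT.node 1898 (BT.leaf cE1898) (BT.leaf cE1899)))))) (BT.node 1919 (BT.node 1909 (BT.node 1904 (BT.node 1902 (BT.node 1901 (BT.node 1900 (BT.leaf cE1900) (BT.leaf cE1901)) (BT.leaf cE1902)) (BT.node 1903 (BT.leaf cE1903) (BT.leaf cE1904))) (BT.node 1907 (BT.node 1906 (BT.node 1905 (BT.leaf cE1905) (BT.leaf cE1906)) (BT.leaf cE1907)) (BT.node 1908 (BT.leaf cE1908) (BT.leaf cE1909)))) (BT.node 1914 (BT.node 1912 (BT.node 1911 (BT.node 1910 (BT.leaf cE1910) (BT.leaf cE1911)) (BT.leaf cE1912)) (BT.node 1913 (BT.leaf cE1913) (BT.leaf cE1914)))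 (BT.node 1917 (BT.node 1916 (BT.node 1915 (BT.leaf cE1915) (BT.leaf cE1916)) (BT.leaf cE1917)) (BT.node 1918 (BT.leaf cE1918) (BT.leaf cE1919))))) (BT.node 1929 (BT.node 1924 (BT.node 1922 (BT.node 1921 (BT.node 1920 (BT.leaf cE1920) (BT.leaf cE1921)) (BT.leaf cE1922)) (BT.node 1923 (BT.leaf cE1923) (BT.leaf cE1924))) (BT.node 1927 (BT.node 1926 (BT.node 1925 (BT.leaf cE1925) (BT.leaf cE1926)) (BT.leaf cE1927)) (BT.node 1928 (BT.leaf cE1928) (BT.leaf cE1929)))) (BT.node 1934 (BT.node 1932 (BT.node 1931 (BT.node 1930 (BT.leaf cE1930) (BT.leaf cE1931)) (BT.leaf cE1932)) (BT.node 1933 (BT.leaf cE1933) (BT.leaf cE1934))) (BT.node 1937 (BT.node 1936 (BT.node 1935 (BT.leaf cE1935) (BT.leaf cE1936)) (BT.leaf cE1937)) (BT.node 1938 (BT.leaf cE1938) (BT.leaf cE1939))))))))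
noncomputable def colET_12 : BT ℕ := (BT.node 2020 (BT.node 1980 (BT.node 1960 (BT.node 1950 (BT.node 1945 (BT.node 1942 (BT.node 1941 (BT.node 1940 (BT.leaf cE1940) (BT.leaf cE1941)) (BT.leaf cE1942)) (BT.node 1944 (BT.node 1943 (BT.leaf cE1943) (BT.leaf cE1944)) (BT.leaf cE1945))) (BT.node 1948 (BT.node 1947 (BT.node 1946 (BT.leaf cE1946) (BT.leaf cE1947)) (BT.leaf cE1948)) (BT.node 1949 (BT.leaf cE1949) (BT.leaf cE1950)))) (BT.node 1955 (BT.node 1953 (BT.node 1952 (BT.node 1951 (BT.leaf cE1951) (BT.leaf cE1952)) (BT.leaf cE1953)) (BT.node 1954 (BT.leaf cE1954) (BT.leaf cE1955))) (BT.node 1958 (BT.node 1957 (BT.node 1956 (BT.leaf cE1956) (BT.leaf cE1957)) (BT.leaf cE1958)) (BT.node 1959 (BT.leaf cE1959) (BT.leaf cE1960))))) (BT.node 1970 (BT.node 1965 (BT.node 1963 (BT.node 1962 (BT.node 1961 (BT.leaf cE1961) (BT.leaf cE1962)) (BT.leaf cE1963)) (BT.node 1964 (BT.leaf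 cE1964) (BT.leaf cE1965))) (BT.node 1968 (BT.node 1967 (BT.node 1966 (BT.leaf cE1966) (BT.leaf cE1967)) (BT.leaf cE1968)) (BT.node 1969 (BT.leaf cE1969) (BT.leaf cE1970)))) (BT.node 1975 (BT.node 1973 (BT.node 1972 (BT.node 1971 (BT.leaf cE1971) (BT.leaf cE1972)) (BT.leaf cE1973)) (BT.node 1974 (BT.leaf cE1974) (BT.leaf cE1975))) (BT.node 1978 (BT.node 1977 (BT.node 1976 (BT.leaf cE1976) (BT.leaf cE1977)) (BT.leaf cE1978)) (BT.node 1979 (BT.leaf cE1979) (BT.leaf cE1980)))))) (BT.node 2000 (BT.node 1990 (BT.node 1985 (BT.node 1983 (BT.node 1982 (BT.node 1981 (BT.leaf cE1981) (BT.leaf cE1982)) (BT.leaf cE1983)) (BT.node 1984 (BT.leaf cE1984) (BT.leaf cE1985))) (BT.node 1988 (BT.node 1987 (BT.node 1986 (BT.leaf cE1986) (BT.leaf cE1987)) (BT.leaf cE1988)) (BT.node 1989 (BT.leaf cE1989) (BT.leaf cE1990)))) (BT.node 1995 (BT.node 1993 (BT.node 1992 (BT.node 1991 (BT.leaf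 cE1991) (BT.leaf cE1992)) (BT.leaf cE1993)) (BT.node 1994 (BT.leaf cE1994) (BT.leaf cE1995))) (BT.node 1998 (BT.node 1997 (BT.node 1996 (BT.leaf cE1996) (BT.leaf cE1997)) (BT.leaf cE1998)) (BT.node 1999 (BT.leaf cE1999) (BT.leaf cE2000))))) (BT.node 2010 (BT.node 2005 (BT.node 2003 (BT.node 2002 (BT.node 2001 (BT.leaf cE2001) (BT.leaf cE2002)) (BT.leaf cE2003)) (BT.node 2004 (BT.leaf cE2004) (BT.leaf cE2005))) (BT.node 2008 (BT.node 2007 (BT.node 2006 (BT.leaf cE2006) (BT.leaf cE2007)) (BT.leaf cE2008)) (BT.node 2009 (BT.leaf cE2009) (BT.leaf cE2010)))) (BT.node 2015 (BT.node 2013 (BT.node 2012 (BT.node 2011 (BT.leaf cE2011) (BT.leaf cE2012)) (BT.leaf cE2013)) (BT.node 2014 (BT.leaf cE2014) (BT.leaf cE2015))) (BT.node 2018 (BT.node 2017 (BT.node 2016 (BT.leaf cE2016) (BT.leaf cE2017)) (BT.leaf cE2018)) (BT.node 2019 (BT.leaf cE2019) (BT.leaf cE2020))))))) (BT.node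 2061 (BT.node 2041 (BT.node 2031 (BT.node 2026 (BT.node 2023 (BT.node 2022 (BT.node 2021 (BT.leaf cE2021) (BT.leaf cE2022)) (BT.leaf cE2023)) (BT.node 2025 (BT.node 2024 (BT.leaf cE2024) (BT.leaf cE2025)) (BT.leaf cE2026))) (BT.node 2029 (BT.node 2028 (BT.node 2027 (BT.leaf cE2027) (BT.leaf cE2028)) (BT.leaf cE2029)) (BT.node 2030 (BT.leaf cE2030) (BT.leaf cE2031)))) (BT.node 2036 (BT.node 2034 (BT.node 2033 (BT.node 2032 (BT.leaf cE2032) (BT.leaf cE2033)) (BT.leaf cE2034)) (BT.node 2035 (BT.leaf cE2035) (BT.leaf cE2036))) (BT.node 2039 (BT.node 2038 (BT.node 2037 (BT.leaf cE2037) (BT.leaf cE2038)) (BT.leaf cE2039)) (BT.node 2040 (BT.leaf cE2040) (BT.leaf cE2041))))) (BT.node 2051 (BT.node 2046 (BT.node 2044 (BT.node 2043 (BT.node 2042 (BT.leaf cE2042) (BT.leaf cE2043)) (BT.leaf cE2044)) (BT.node 2045 (BT.leaf cE2045) (BT.leaf cE2046))) (BT.node 2049 (BT.node 2048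 (BT.node 2047 (BT.leaf cE2047) (BT.leaf cE2048)) (BT.leaf cE2049)) (BT.node 2050 (BT.leaf cE2050) (BT.leaf cE2051)))) (BT.node 2056 (BT.node 2054 (BT.node 2053 (BT.node 2052 (BT.leaf cE2052) (BT.leaf cE2053)) (BT.leaf cE2054)) (BT.node 2055 (BT.leaf cE2055) (BT.leaf cE2056))) (BT.node 2059 (BT.node 2058 (BT.node 2057 (BT.leaf cE2057) (BT.leaf cE2058)) (BT.leaf cE2059)) (BT.node 2060 (BT.leaf cE2060) (BT.leaf cE2061)))))) (BT.node 2081 (BT.node 2071 (BT.node 2066 (BT.node 2064 (BT.node 2063 (BT.node 2062 (BT.leaf cE2062) (BT.leaf cE2063)) (BT.leaf cE2064)) (BT.node 2065 (BT.leaf cE2065) (BT.leaf cE2066))) (BT.node 2069 (BT.node 2068 (BT.node 2067 (BT.leaf cE2067) (BT.leaf cE2068)) (BT.leaf cE2069)) (BT.node 2070 (BT.leaf cE2070) (BT.leaf cE2071)))) (BT.node 2076 (BT.node 2074 (BT.node 2073 (BT.node 2072 (BT.leaf cE2072) (BT.leaf cE2073)) (BT.leaf cE2074)) (BT.node 2075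 (BT.leaf cE2075) (BT.leaf cE2076))) (BT.node 2079 (BT.node 2078 (BT.node 2077 (BT.leaf cE2077) (BT.leaf cE2078)) (BT.leaf cE2079)) (BT.node 2080 (BT.leaf cE2080) (BT.leaf cE2081))))) (BT.node 2091 (BT.node 2086 (BT.node 2084 (BT.node 2083 (BT.node 2082 (BT.leaf cE2082) (BT.leaf cE2083)) (BT.leaf cE2084)) (BT.node 2085 (BT.leaf cE2085) (BT.leaf cE2086))) (BT.node 2089 (BT.node 2088 (BT.node 2087 (BT.leaf cE2087) (BT.leaf cE2088)) (BT.leaf cE2089)) (BT.node 2090 (BT.leaf cE2090) (BT.leaf cE2091)))) (BT.node 2096 (BT.node 2094 (BT.node 2093 (BT.node 2092 (BT.leaf cE2092) (BT.leaf cE2093)) (BT.leaf cE2094)) (BT.node 2095 (BT.leaf cE2095) (BT.leaf cE2096))) (BT.node 2099 (BT.node 2098 (BT.node 2097 (BT.leaf cE2097) (BT.leaf cE2098)) (BT.leaf cE2099)) (BT.node 2100 (BT.leaf cE2100) (BT.leaf cE2101))))))))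
noncomputable def colET_13 : BT ℕ := (BT.node 2182 (BT.node 2142 (BT.node 2122 (BT.node 2112 (BT.node 2107 (BT.node 2104 (BT.node 2103 (BT.node 2102 (BT.leaf cE2102) (BT.leaf cE2103)) (BT.leaf cE2104)) (BT.node 2106 (BT.node 2105 (BT.leaf cE2105) (BT.leaf cE2106)) (BT.leaf cE2107))) (BT.node 2110 (BT.node 2109 (BT.node 2108 (BT.leaf cE2108) (BT.leaf cE2109)) (BT.leaf cE2110)) (BT.node 2111 (BT.leaf cE2111) (BT.leaf cE2112)))) (BT.node 2117 (BT.node 2115 (BT.node 2114 (BT.node 2113 (BT.leaf cE2113) (BT.leaf cE2114)) (BT.leaf cE2115)) (BT.node 2116 (BT.leaf cE2116) (BT.leaf cE2117))) (BT.node 2120 (BT.node 2119 (BT.node 2118 (BT.leaf cE2118) (BT.leaf cE2119)) (BT.leaf cE2120)) (BT.node 2121 (BT.leaf cE2121) (BT.leaf cE2122))))) (BT.node 2132 (BT.node 2127 (BT.node 2125 (BT.node 2124 (BT.node 2123 (BT.leaf cE2123) (BT.leaf cE2124)) (BT.leaf cE2125)) (BT.node 2126 (BT.leaf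 cE2126) (BT.leaf cE2127))) (BT.node 2130 (BT.node 2129 (BT.node 2128 (BT.leaf cE2128) (BT.leaf cE2129)) (BT.leaf cE2130)) (BT.node 2131 (BT.leaf cE2131) (BT.leaf cE2132)))) (BT.node 2137 (BT.node 2135 (BT.node 2134 (BT.node 2133 (BT.leaf cE2133) (BT.leaf cE2134)) (BT.leaf cE2135)) (BT.node 2136 (BT.leaf cE2136) (BT.leaf cE2137))) (BT.node 2140 (BT.node 2139 (BT.node 2138 (BT.leaf cE2138) (BT.leaf cE2139)) (BT.leaf cE2140)) (BT.node 2141 (BT.leaf cE2141) (BT.leaf cE2142)))))) (BT.node 2162 (BT.node 2152 (BT.node 2147 (BT.node 2145 (BT.node 2144 (BT.node 2143 (BT.leaf cE2143) (BT.leaf cE2144)) (BT.leaf cE2145)) (BT.node 2146 (BT.leaf cE2146) (BT.leaf cE2147))) (BT.node 2150 (BT.node 2149 (BT.node 2148 (BT.leaf cE2148) (BT.leaf cE2149)) (BT.leaf cE2150)) (BT.node 2151 (BT.leaf cE2151) (BT.leaf cE2152)))) (BT.node 2157 (BT.node 2155 (BT.node 2154 (BT.node 2153 (BT.leaf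 cE2153) (BT.leaf cE2154)) (BT.leaf cE2155)) (BT.node 2156 (BT.leaf cE2156) (BT.leaf cE2157))) (BT.node 2160 (BT.node 2159 (BT.node 2158 (BT.leaf cE2158) (BT.leaf cE2159)) (BT.leaf cE2160)) (BT.node 2161 (BT.leaf cE2161) (BT.leaf cE2162))))) (BT.node 2172 (BT.node 2167 (BT.node 2165 (BT.node 2164 (BT.node 2163 (BT.leaf cE2163) (BT.leaf cE2164)) (BT.leaf cE2165)) (BT.node 2166 (BT.leaf cE2166) (BT.leaf cE2167))) (BT.node 2170 (BT.node 2169 (BT.node 2168 (BT.leaf cE2168) (BT.leaf cE2169)) (BT.leaf cE2170)) (BT.node 2171 (BT.leaf cE2171) (BT.leaf cE2172)))) (BT.node 2177 (BT.node 2175 (BT.node 2174 (BT.node 2173 (BT.leaf cE2173) (BT.leaf cE2174)) (BT.leaf cE2175)) (BT.node 2176 (BT.leaf cE2176) (BT.leaf cE2177))) (BT.node 2180 (BT.node 2179 (BT.node 2178 (BT.leaf cE2178) (BT.leaf cE2179)) (BT.leaf cE2180)) (BT.node 2181 (BT.leaf cE2181) (BT.leaf cE2182))))))) (BT.node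 2222 (BT.node 2202 (BT.node 2192 (BT.node 2187 (BT.node 2185 (BT.node 2184 (BT.node 2183 (BT.leaf cE2183) (BT.leaf cE2184)) (BT.leaf cE2185)) (BT.node 2186 (BT.leaf cE2186) (BT.leaf cE2187))) (BT.node 2190 (BT.node 2189 (BT.node 2188 (BT.leaf cE2188) (BT.leaf cE2189)) (BT.leaf cE2190)) (BT.node 2191 (BT.leaf cE2191) (BT.leaf cE2192)))) (BT.node 2197 (BT.node 2195 (BT.node 2194 (BT.node 2193 (BT.leaf cE2193) (BT.leaf cE2194)) (BT.leaf cE2195)) (BT.node 2196 (BT.leaf cE2196) (BT.leaf cE2197))) (BT.node 2200 (BT.node 2199 (BT.node 2198 (BT.leaf cE2198) (BT.leaf cE2199)) (BT.leaf cE2200)) (BT.node 2201 (BT.leaf cE2201) (BT.leaf cE2202))))) (BT.node 2212 (BT.node 2207 (BT.node 2205 (BT.node 2204 (BT.node 2203 (BT.leaf cE2203) (BT.leaf cE2204)) (BT.leaf cE2205)) (BT.node 2206 (BT.leaf cE2206) (BT.leaf cE2207))) (BT.node 2210 (BT.node 2209 (BT.node 2208 (BT.leaf cE2208) (BT.leaf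 cE2209)) (BT.leaf cE2210)) (BT.node 2211 (BT.leaf cE2211) (BT.leaf cE2212)))) (BT.node 2217 (BT.node 2215 (BT.node 2214 (BT.node 2213 (BT.leaf cE2213) (BT.leaf cE2214)) (BT.leaf cE2215)) (BT.node 2216 (BT.leaf cE2216) (BT.leaf cE2217))) (BT.node 2220 (BT.node 2219 (BT.node 2218 (BT.leaf cE2218) (BT.leaf cE2219)) (BT.leaf cE2220)) (BT.node 2221 (BT.leaf cE2221) (BT.leaf cE2222)))))) (BT.node 2242 (BT.node 2232 (BT.node 2227 (BT.node 2225 (BT.node 2224 (BT.node 2223 (BT.leaf cE2223) (BT.leaf cE2224)) (BT.leaf cE2225)) (BT.node 2226 (BT.leaf cE2226) (BT.leaf cE2227))) (BT.node 2230 (BT.node 2229 (BT.node 2228 (BT.leaf cE2228) (BT.leaf cE2229)) (BT.leaf cE2230)) (BT.node 2231 (BT.leaf cE2231) (BT.leaf cE2232)))) (BT.node 2237 (BT.node 2235 (BT.node 2234 (BT.node 2233 (BT.leaf cE2233) (BT.leaf cE2234)) (BT.leaf cE2235)) (BT.node 2236 (BT.leaf cE2236) (BT.leaf cE2237)))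 (BT.node 2240 (BT.node 2239 (BT.node 2238 (BT.leaf cE2238) (BT.leaf cE2239)) (BT.leaf cE2240)) (BT.node 2241 (BT.leaf cE2241) (BT.leaf cE2242))))) (BT.node 2252 (BT.node 2247 (BT.node 2245 (BT.node 2244 (BT.node 2243 (BT.leaf cE2243) (BT.leaf cE2244)) (BT.leaf cE2245)) (BT.node 2246 (BT.leaf cE2246) (BT.leaf cE2247))) (BT.node 2250 (BT.node 2249 (BT.node 2248 (BT.leaf cE2248) (BT.leaf cE2249)) (BT.leaf cE2250)) (BT.node 2251 (BT.leaf cE2251) (BT.leaf cE2252)))) (BT.node 2257 (BT.node 2255 (BT.node 2254 (BT.node 2253 (BT.leaf cE2253) (BT.leaf cE2254)) (BT.leaf cE2255)) (BT.node 2256 (BT.leaf cE2256) (BT.leaf cE2257))) (BT.node 2260 (BT.node 2259 (BT.node 2258 (BT.leaf cE2258) (BT.leaf cE2259)) (BT.leaf cE2260)) (BT.node 2261 (BT.leaf cE2261) (BT.leaf cE2262))))))))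
noncomputable def colET_14 : BT ℕ := (BT.node 2343 (BT.node 2303 (BT.node 2283 (BT.node 2273 (BT.node 2268 (BT.node 2265 (BT.node 2264 (BT.node 2263 (BT.leaf cE2263) (BT.leaf cE2264)) (BT.leaf cE2265)) (BT.node 2267 (BT.node 2266 (BT.leaf cE2266) (BT.leaf cE2267)) (BT.leaf cE2268))) (BT.node 2271 (BT.node 2270 (BT.node 2269 (BT.leaf cE2269) (BT.leaf cE2270)) (BT.leaf cE2271)) (BT.node 2272 (BT.leaf cE2272) (BT.leaf cE2273)))) (BT.node 2278 (BT.node 2276 (BT.node 2275 (BT.node 2274 (BT.leaf cE2274) (BT.leaf cE2275)) (BT.leaf cE2276)) (BT.node 2277 (BT.leaf cE2277) (BT.leaf cE2278))) (BT.node 2281 (BT.node 2280 (BT.node 2279 (BT.leaf cE2279) (BT.leaf cE2280)) (BT.leaf cE2281)) (BT.node 2282 (BT.leaf cE2282) (BT.leaf cE2283))))) (BT.node 2293 (BT.node 2288 (BT.node 2286 (BT.node 2285 (BT.node 2284 (BT.leaf cE2284) (BT.leaf cE2285)) (BT.leaf cE2286)) (BT.node 2287 (BT.leaf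 cE2287) (BT.leaf cE2288))) (BT.node 2291 (BT.node 2290 (BT.node 2289 (BT.leaf cE2289) (BT.leaf cE2290)) (BT.leaf cE2291)) (BT.node 2292 (BT.leaf cE2292) (BT.leaf cE2293)))) (BT.node 2298 (BT.node 2296 (BT.node 2295 (BT.node 2294 (BT.leaf cE2294) (BT.leaf cE2295)) (BT.leaf cE2296)) (BT.node 2297 (BT.leaf cE2297) (BT.leaf cE2298))) (BT.node 2301 (BT.node 2300 (BT.node 2299 (BT.leaf cE2299) (BT.leaf cE2300)) (BT.leaf cE2301)) (BT.node 2302 (BT.leaf cE2302) (BT.leaf cE2303)))))) (BT.node 2323 (BT.node 2313 (BT.node 2308 (BT.node 2306 (BT.node 2305 (BT.node 2304 (BT.leaf cE2304) (BT.leaf cE2305)) (BT.leaf cE2306)) (BT.node 2307 (BT.leaf cE2307) (BT.leaf cE2308))) (BT.node 2311 (BT.node 2310 (BT.node 2309 (BT.leaf cE2309) (BT.leaf cE2310)) (BT.leaf cE2311)) (BT.node 2312 (BT.leaf cE2312) (BT.leaf cE2313)))) (BT.node 2318 (BT.node 2316 (BT.node 2315 (BT.node 2314 (BT.leaf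 cE2314) (BT.leaf cE2315)) (BT.leaf cE2316)) (BT.node 2317 (BT.leaf cE2317) (BT.leaf cE2318))) (BT.node 2321 (BT.node 2320 (BT.node 2319 (BT.leaf cE2319) (BT.leaf cE2320)) (BT.leaf cE2321)) (BT.node 2322 (BT.leaf cE2322) (BT.leaf cE2323))))) (BT.node 2333 (BT.node 2328 (BT.node 2326 (BT.node 2325 (BT.node 2324 (BT.leaf cE2324) (BT.leaf cE2325)) (BT.leaf cE2326)) (BT.node 2327 (BT.leaf cE2327) (BT.leaf cE2328))) (BT.node 2331 (BT.node 2330 (BT.node 2329 (BT.leaf cE2329) (BT.leaf cE2330)) (BT.leaf cE2331)) (BT.node 2332 (BT.leaf cE2332) (BT.leaf cE2333)))) (BT.node 2338 (BT.node 2336 (BT.node 2335 (BT.node 2334 (BT.leaf cE2334) (BT.leaf cE2335)) (BT.leaf cE2336)) (BT.node 2337 (BT.leaf cE2337) (BT.leaf cE2338))) (BT.node 2341 (BT.node 2340 (BT.node 2339 (BT.leaf cE2339) (BT.leaf cE2340)) (BT.leaf cE2341)) (BT.node 2342 (BT.leaf cE2342) (BT.leaf cE2343))))))) (BT.node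 2384 (BT.node 2364 (BT.node 2354 (BT.node 2349 (BT.node 2346 (BT.node 2345 (BT.node 2344 (BT.leaf cE2344) (BT.leaf cE2345)) (BT.leaf cE2346)) (BT.node 2348 (BT.node 2347 (BT.leaf cE2347) (BT.leaf cE2348)) (BT.leaf cE2349))) (BT.node 2352 (BT.node 2351 (BT.node 2350 (BT.leaf cE2350) (BT.leaf cE2351)) (BT.leaf cE2352)) (BT.node 2353 (BT.leaf cE2353) (BT.leaf cE2354)))) (BT.node 2359 (BT.node 2357 (BT.node 2356 (BT.node 2355 (BT.leaf cE2355) (BT.leaf cE2356)) (BT.leaf cE2357)) (BT.node 2358 (BT.leaf cE2358) (BT.leaf cE2359))) (BT.node 2362 (BT.node 2361 (BT.node 2360 (BT.leaf cE2360) (BT.leaf cE2361)) (BT.leaf cE2362)) (BT.node 2363 (BT.leaf cE2363) (BT.leaf cE2364))))) (BT.node 2374 (BT.node 2369 (BT.node 2367 (BT.node 2366 (BT.node 2365 (BT.leaf cE2365) (BT.leaf cE2366)) (BT.leaf cE2367)) (BT.node 2368 (BT.leaf cE2368) (BT.leaf cE2369))) (BT.node 2372 (BT.node 2371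 (BT.node 2370 (BT.leaf cE2370) (BT.leaf cE2371)) (BT.leaf cE2372)) (BT.node 2373 (BT.leaf cE2373) (BT.leaf cE2374)))) (BT.node 2379 (BT.node 2377 (BT.node 2376 (BT.node 2375 (BT.leaf cE2375) (BT.leaf cE2376)) (BT.leaf cE2377)) (BT.node 2378 (BT.leaf cE2378) (BT.leaf cE2379))) (BT.node 2382 (BT.node 2381 (BT.node 2380 (BT.leaf cE2380) (BT.leaf cE2381)) (BT.leaf cE2382)) (BT.node 2383 (BT.leaf cE2383) (BT.leaf cE2384)))))) (BT.node 2404 (BT.node 2394 (BT.node 2389 (BT.node 2387 (BT.node 2386 (BT.node 2385 (BT.leaf cE2385) (BT.leaf cE2386)) (BT.leaf cE2387)) (BT.node 2388 (BT.leaf cE2388) (BT.leaf cE2389))) (BT.node 2392 (BT.node 2391 (BT.node 2390 (BT.leaf cE2390) (BT.leaf cE2391)) (BT.leaf cE2392)) (BT.node 2393 (BT.leaf cE2393) (BT.leaf cE2394)))) (BT.node 2399 (BT.node 2397 (BT.node 2396 (BT.node 2395 (BT.leaf cE2395) (BT.leaf cE2396)) (BT.leaf cE2397)) (BT.node 2398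 (BT.leaf cE2398) (BT.leaf cE2399))) (BT.node 2402 (BT.node 2401 (BT.node 2400 (BT.leaf cE2400) (BT.leaf cE2401)) (BT.leaf cE2402)) (BT.node 2403 (BT.leaf cE2403) (BT.leaf cE2404))))) (BT.node 2414 (BT.node 2409 (BT.node 2407 (BT.node 2406 (BT.node 2405 (BT.leaf cE2405) (BT.leaf cE2406)) (BT.leaf cE2407)) (BT.node 2408 (BT.leaf cE2408) (BT.leaf cE2409))) (BT.node 2412 (BT.node 2411 (BT.node 2410 (BT.leaf cE2410) (BT.leaf cE2411)) (BT.leaf cE2412)) (BT.node 2413 (BT.leaf cE2413) (BT.leaf cE2414)))) (BT.node 2419 (BT.node 2417 (BT.node 2416 (BT.node 2415 (BT.leaf cE2415) (BT.leaf cE2416)) (BT.leaf cE2417)) (BT.node 2418 (BT.leaf cE2418) (BT.leaf cE2419))) (BT.node 2422 (BT.node 2421 (BT.node 2420 (BT.leaf cE2420) (BT.leaf cE2421)) (BT.leaf cE2422)) (BT.node 2423 (BT.leaf cE2423) (BT.leaf cE2424))))))))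
noncomputable def colET_15 : BT ℕ := (BT.node 2505 (BT.node 2465 (BT.node 2445 (BT.node 2435 (BT.node 2430 (BT.node 2427 (BT.node 2426 (BT.node 2425 (BT.leaf cE2425) (BT.leaf cE2426)) (BT.leaf cE2427)) (BT.node 2429 (BT.node 2428 (BT.leaf cE2428) (BT.leaf cE2429)) (BT.leaf cE2430))) (BT.node 2433 (BT.node 2432 (BT.node 2431 (BT.leaf cE2431) (BT.leaf cE2432)) (BT.leaf cE2433)) (BT.node 2434 (BT.leaf cE2434) (BT.leaf cE2435)))) (BT.node 2440 (BT.node 2438 (BT.node 2437 (BT.node 2436 (BT.leaf cE2436) (BT.leaf cE2437)) (BT.leaf cE2438)) (BT.node 2439 (BT.leaf cE2439) (BT.leaf cE2440))) (BT.node 2443 (BT.node 2442 (BT.node 2441 (BT.leaf cE2441) (BT.leaf cE2442)) (BT.leaf cE2443)) (BT.node 2444 (BT.leaf cE2444) (BT.leaf cE2445))))) (BT.node 2455 (BT.node 2450 (BT.node 2448 (BT.node 2447 (BT.node 2446 (BT.leaf cE2446) (BT.leaf cE2447)) (BT.leaf cE2448)) (BT.node 2449 (BT.leaf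 cE2449) (BT.leaf cE2450))) (BT.node 2453 (BT.node 2452 (BT.node 2451 (BT.leaf cE2451) (BT.leaf cE2452)) (BT.leaf cE2453)) (BT.node 2454 (BT.leaf cE2454) (BT.leaf cE2455)))) (BT.node 2460 (BT.node 2458 (BT.node 2457 (BT.node 2456 (BT.leaf cE2456) (BT.leaf cE2457)) (BT.leaf cE2458)) (BT.node 2459 (BT.leaf cE2459) (BT.leaf cE2460))) (BT.node 2463 (BT.node 2462 (BT.node 2461 (BT.leaf cE2461) (BT.leaf cE2462)) (BT.leaf cE2463)) (BT.node 2464 (BT.leaf cE2464) (BT.leaf cE2465)))))) (BT.node 2485 (BT.node 2475 (BT.node 2470 (BT.node 2468 (BT.node 2467 (BT.node 2466 (BT.leaf cE2466) (BT.leaf cE2467)) (BT.leaf cE2468)) (BT.node 2469 (BT.leaf cE2469) (BT.leaf cE2470))) (BT.node 2473 (BT.node 2472 (BT.node 2471 (BT.leaf cE2471) (BT.leaf cE2472)) (BT.leaf cE2473)) (BT.node 2474 (BT.leaf cE2474) (BT.leaf cE2475)))) (BT.node 2480 (BT.node 2478 (BT.node 2477 (BT.node 2476 (BT.leaf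 cE2476) (BT.leaf cE2477)) (BT.leaf cE2478)) (BT.node 2479 (BT.leaf cE2479) (BT.leaf cE2480))) (BT.node 2483 (BT.node 2482 (BT.node 2481 (BT.leaf cE2481) (BT.leaf cE2482)) (BT.leaf cE2483)) (BT.node 2484 (BT.leaf cE2484) (BT.leaf cE2485))))) (BT.node 2495 (BT.node 2490 (BT.node 2488 (BT.node 2487 (BT.node 2486 (BT.leaf cE2486) (BT.leaf cE2487)) (BT.leaf cE2488)) (BT.node 2489 (BT.leaf cE2489) (BT.leaf cE2490))) (BT.node 2493 (BT.node 2492 (BT.node 2491 (BT.leaf cE2491) (BT.leaf cE2492)) (BT.leaf cE2493)) (BT.node 2494 (BT.leaf cE2494) (BT.leaf cE2495)))) (BT.node 2500 (BT.node 2498 (BT.node 2497 (BT.node 2496 (BT.leaf cE2496) (BT.leaf cE2497)) (BT.leaf cE2498)) (BT.node 2499 (BT.leaf cE2499) (BT.leaf cE2500))) (BT.node 2503 (BT.node 2502 (BT.node 2501 (BT.leaf cE2501) (BT.leaf cE2502)) (BT.leaf cE2503)) (BT.node 2504 (BT.leaf cE2504) (BT.leaf cE2505))))))) (BT.node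 2545 (BT.node 2525 (BT.node 2515 (BT.node 2510 (BT.node 2508 (BT.node 2507 (BT.node 2506 (BT.leaf cE2506) (BT.leaf cE2507)) (BT.leaf cE2508)) (BT.node 2509 (BT.leaf cE2509) (BT.leaf cE2510))) (BT.node 2513 (BT.node 2512 (BT.node 2511 (BT.leaf cE2511) (BT.leaf cE2512)) (BT.leaf cE2513)) (BT.node 2514 (BT.leaf cE2514) (BT.leaf cE2515)))) (BT.node 2520 (BT.node 2518 (BT.node 2517 (BT.node 2516 (BT.leaf cE2516) (BT.leaf cE2517)) (BT.leaf cE2518)) (BT.node 2519 (BT.leaf cE2519) (BT.leaf cE2520))) (BT.node 2523 (BT.node 2522 (BT.node 2521 (BT.leaf cE2521) (BT.leaf cE2522)) (BT.leaf cE2523)) (BT.node 2524 (BT.leaf cE2524) (BT.leaf cE2525))))) (BT.node 2535 (BT.node 2530 (BT.node 2528 (BT.node 2527 (BT.node 2526 (BT.leaf cE2526) (BT.leaf cE2527)) (BT.leaf cE2528)) (BT.node 2529 (BT.leaf cE2529) (BT.leaf cE2530))) (BT.node 2533 (BT.node 2532 (BT.node 2531 (BT.leaf cE2531) (BT.leaf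 cE2532)) (BT.leaf cE2533)) (BT.node 2534 (BT.leaf cE2534) (BT.leaf cE2535)))) (BT.node 2540 (BT.node 2538 (BT.node 2537 (BT.node 2536 (BT.leaf cE2536) (BT.leaf cE2537)) (BT.leaf cE2538)) (BT.node 2539 (BT.leaf cE2539) (BT.leaf cE2540))) (BT.node 2543 (BT.node 2542 (BT.node 2541 (BT.leaf cE2541) (BT.leaf cE2542)) (BT.leaf cE2543)) (BT.node 2544 (BT.leaf cE2544) (BT.leaf cE2545)))))) (BT.node 2565 (BT.node 2555 (BT.node 2550 (BT.node 2548 (BT.node 2547 (BT.node 2546 (BT.leaf cE2546) (BT.leaf cE2547)) (BT.leaf cE2548)) (BT.node 2549 (BT.leaf cE2549) (BT.leaf cE2550))) (BT.node 2553 (BT.node 2552 (BT.node 2551 (BT.leaf cE2551) (BT.leaf cE2552)) (BT.leaf cE2553)) (BT.node 2554 (BT.leaf cE2554) (BT.leaf cE2555)))) (BT.node 2560 (BT.node 2558 (BT.node 2557 (BT.node 2556 (BT.leaf cE2556) (BT.leaf cE2557)) (BT.leaf cE2558)) (BT.node 2559 (BT.leaf cE2559) (BT.leaf cE2560)))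 (BT.node 2563 (BT.node 2562 (BT.node 2561 (BT.leaf cE2561) (BT.leaf cE2562)) (BT.leaf cE2563)) (BT.node 2564 (BT.leaf cE2564) (BT.leaf cE2565))))) (BT.node 2575 (BT.node 2570 (BT.node 2568 (BT.node 2567 (BT.node 2566 (BT.leaf cE2566) (BT.leaf cE2567)) (BT.leaf cE2568)) (BT.node 2569 (BT.leaf cE2569) (BT.leaf cE2570))) (BT.node 2573 (BT.node 2572 (BT.node 2571 (BT.leaf cE2571) (BT.leaf cE2572)) (BT.leaf cE2573)) (BT.node 2574 (BT.leaf cE2574) (BT.leaf cE2575)))) (BT.node 2580 (BT.node 2578 (BT.node 2577 (BT.node 2576 (BT.leaf cE2576) (BT.leaf cE2577)) (BT.leaf cE2578)) (BT.node 2579 (BT.leaf cE2579) (BT.leaf cE2580))) (BT.node 2583 (BT.node 2582 (BT.node 2581 (BT.leaf cE2581) (BT.leaf cE2582)) (BT.leaf cE2583)) (BT.node 2584 (BT.leaf cE2584) (BT.leaf cE2585))))))))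
noncomputable def colET_16 : BT ℕ := (BT.node 2666 (BT.node 2626 (BT.node 2606 (BT.node 2596 (BT.node 2591 (BT.node 2588 (BT.node 2587 (BT.node 2586 (BT.leaf cE2586) (BT.leaf cE2587)) (BT.leaf cE2588)) (BT.node 2590 (BT.node 2589 (BT.leaf cE2589) (BT.leaf cE2590)) (BT.leaf cE2591))) (BT.node 2594 (BT.node 2593 (BT.node 2592 (BT.leaf cE2592) (BT.leaf cE2593)) (BT.leaf cE2594)) (BT.node 2595 (BT.leaf cE2595) (BT.leaf cE2596)))) (BT.node 2601 (BT.node 2599 (BT.node 2598 (BT.node 2597 (BT.leaf cE2597) (BT.leaf cE2598)) (BT.leaf cE2599)) (BT.node 2600 (BT.leaf cE2600) (BT.leaf cE2601))) (BT.node 2604 (BT.node 2603 (BT.node 2602 (BT.leaf cE2602) (BT.leaf cE2603)) (BT.leaf cE2604)) (BT.node 2605 (BT.leaf cE2605) (BT.leaf cE2606))))) (BT.node 2616 (BT.node 2611 (BT.node 2609 (BT.node 2608 (BT.node 2607 (BT.leaf cE2607) (BT.leaf cE2608)) (BT.leaf cE2609)) (BT.node 2610 (BT.leaf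 cE2610) (BT.leaf cE2611))) (BT.node 2614 (BT.node 2613 (BT.node 2612 (BT.leaf cE2612) (BT.leaf cE2613)) (BT.leaf cE2614)) (BT.node 2615 (BT.leaf cE2615) (BT.leaf cE2616)))) (BT.node 2621 (BT.node 2619 (BT.node 2618 (BT.node 2617 (BT.leaf cE2617) (BT.leaf cE2618)) (BT.leaf cE2619)) (BT.node 2620 (BT.leaf cE2620) (BT.leaf cE2621))) (BT.node 2624 (BT.node 2623 (BT.node 2622 (BT.leaf cE2622) (BT.leaf cE2623)) (BT.leaf cE2624)) (BT.node 2625 (BT.leaf cE2625) (BT.leaf cE2626)))))) (BT.node 2646 (BT.node 2636 (BT.node 2631 (BT.node 2629 (BT.node 2628 (BT.node 2627 (BT.leaf cE2627) (BT.leaf cE2628)) (BT.leaf cE2629)) (BT.node 2630 (BT.leaf cE2630) (BT.leaf cE2631))) (BT.node 2634 (BT.node 2633 (BT.node 2632 (BT.leaf cE2632) (BT.leaf cE2633)) (BT.leaf cE2634)) (BT.node 2635 (BT.leaf cE2635) (BT.leaf cE2636)))) (BT.node 2641 (BT.node 2639 (BT.node 2638 (BT.node 2637 (BT.leaf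 cE2637) (BT.leaf cE2638)) (BT.leaf cE2639)) (BT.node 2640 (BT.leaf cE2640) (BT.leaf cE2641))) (BT.node 2644 (BT.node 2643 (BT.node 2642 (BT.leaf cE2642) (BT.leaf cE2643)) (BT.leaf cE2644)) (BT.node 2645 (BT.leaf cE2645) (BT.leaf cE2646))))) (BT.node 2656 (BT.node 2651 (BT.node 2649 (BT.node 2648 (BT.node 2647 (BT.leaf cE2647) (BT.leaf cE2648)) (BT.leaf cE2649)) (BT.node 2650 (BT.leaf cE2650) (BT.leaf cE2651))) (BT.node 2654 (BT.node 2653 (BT.node 2652 (BT.leaf cE2652) (BT.leaf cE2653)) (BT.leaf cE2654)) (BT.node 2655 (BT.leaf cE2655) (BT.leaf cE2656)))) (BT.node 2661 (BT.node 2659 (BT.node 2658 (BT.node 2657 (BT.leaf cE2657) (BT.leaf cE2658)) (BT.leaf cE2659)) (BT.node 2660 (BT.leaf cE2660) (BT.leaf cE2661))) (BT.node 2664 (BT.node 2663 (BT.node 2662 (BT.leaf cE2662) (BT.leaf cE2663)) (BT.leaf cE2664)) (BT.node 2665 (BT.leaf cE2665) (BT.leaf cE2666))))))) (BT.node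 2707 (BT.node 2687 (BT.node 2677 (BT.node 2672 (BT.node 2669 (BT.node 2668 (BT.node 2667 (BT.leaf cE2667) (BT.leaf cE2668)) (BT.leaf cE2669)) (BT.node 2671 (BT.node 2670 (BT.leaf cE2670) (BT.leaf cE2671)) (BT.leaf cE2672))) (BT.node 2675 (BT.node 2674 (BT.node 2673 (BT.leaf cE2673) (BT.leaf cE2674)) (BT.leaf cE2675)) (BT.node 2676 (BT.leaf cE2676) (BT.leaf cE2677)))) (BT.node 2682 (BT.node 2680 (BT.node 2679 (BT.node 2678 (BT.leaf cE2678) (BT.leaf cE2679)) (BT.leaf cE2680)) (BT.node 2681 (BT.leaf cE2681) (BT.leaf cE2682))) (BT.node 2685 (BT.node 2684 (BT.node 2683 (BT.leaf cE2683) (BT.leaf cE2684)) (BT.leaf cE2685)) (BT.node 2686 (BT.leaf cE2686) (BT.leaf cE2687))))) (BT.node 2697 (BT.node 2692 (BT.node 2690 (BT.node 2689 (BT.node 2688 (BT.leaf cE2688) (BT.leaf cE2689)) (BT.leaf cE2690)) (BT.node 2691 (BT.leaf cE2691) (BT.leaf cE2692))) (BT.node 2695 (BT.node 2694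 (BT.node 2693 (BT.leaf cE2693) (BT.leaf cE2694)) (BT.leaf cE2695)) (BT.node 2696 (BT.leaf cE2696) (BT.leaf cE2697)))) (BT.node 2702 (BT.node 2700 (BT.node 2699 (BT.node 2698 (BT.leaf cE2698) (BT.leaf cE2699)) (BT.leaf cE2700)) (BT.node 2701 (BT.leaf cE2701) (BT.leaf cE2702))) (BT.node 2705 (BT.node 2704 (BT.node 2703 (BT.leaf cE2703) (BT.leaf cE2704)) (BT.leaf cE2705)) (BT.node 2706 (BT.leaf cE2706) (BT.leaf cE2707)))))) (BT.node 2727 (BT.node 2717 (BT.node 2712 (BT.node 2710 (BT.node 2709 (BT.node 2708 (BT.leaf cE2708) (BT.leaf cE2709)) (BT.leaf cE2710)) (BT.node 2711 (BT.leaf cE2711) (BT.leaf cE2712))) (BT.node 2715 (BT.node 2714 (BT.node 2713 (BT.leaf cE2713) (BT.leaf cE2714)) (BT.leaf cE2715)) (BT.node 2716 (BT.leaf cE2716) (BT.leaf cE2717)))) (BT.node 2722 (BT.node 2720 (BT.node 2719 (BT.node 2718 (BT.leaf cE2718) (BT.leaf cE2719)) (BT.leaf cE2720)) (BT.node 2721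 (BT.leaf cE2721) (BT.leaf cE2722))) (BT.node 2725 (BT.node 2724 (BT.node 2723 (BT.leaf cE2723) (BT.leaf cE2724)) (BT.leaf cE2725)) (BT.node 2726 (BT.leaf cE2726) (BT.leaf cE2727))))) (BT.node 2737 (BT.node 2732 (BT.node 2730 (BT.node 2729 (BT.node 2728 (BT.leaf cE2728) (BT.leaf cE2729)) (BT.leaf cE2730)) (BT.node 2731 (BT.leaf cE2731) (BT.leaf cE2732))) (BT.node 2735 (BT.node 2734 (BT.node 2733 (BT.leaf cE2733) (BT.leaf cE2734)) (BT.leaf cE2735)) (BT.node 2736 (BT.leaf cE2736) (BT.leaf cE2737)))) (BT.node 2742 (BT.node 2740 (BT.node 2739 (BT.node 2738 (BT.leaf cE2738) (BT.leaf cE2739)) (BT.leaf cE2740)) (BT.node 2741 (BT.leaf cE2741) (BT.leaf cE2742))) (BT.node 2745 (BT.node 2744 (BT.node 2743 (BT.leaf cE2743) (BT.leaf cE2744)) (BT.leaf cE2745)) (BT.node 2746 (BT.leaf cE2746) (BT.leaf cE2747))))))))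
noncomputable def colET_17 : BT ℕ := (BT.node 2828 (BT.node 2788 (BT.node 2768 (BT.node 2758 (BT.node 2753 (BT.node 2750 (BT.node 2749 (BT.node 2748 (BT.leaf cE2748) (BT.leaf cE2749)) (BT.leaf cE2750)) (BT.node 2752 (BT.node 2751 (BT.leaf cE2751) (BT.leaf cE2752)) (BT.leaf cE2753))) (BT.node 2756 (BT.node 2755 (BT.node 2754 (BT.leaf cE2754) (BT.leaf cE2755)) (BT.leaf cE2756)) (BT.node 2757 (BT.leaf cE2757) (BT.leaf cE2758)))) (BT.node 2763 (BT.node 2761 (BT.node 2760 (BT.node 2759 (BT.leaf cE2759) (BT.leaf cE2760)) (BT.leaf cE2761)) (BT.node 2762 (BT.leaf cE2762) (BT.leaf cE2763))) (BT.node 2766 (BT.node 2765 (BT.node 2764 (BT.leaf cE2764) (BT.leaf cE2765)) (BT.leaf cE2766)) (BT.node 2767 (BT.leaf cE2767) (BT.leaf cE2768))))) (BT.node 2778 (BT.node 2773 (BT.node 2771 (BT.node 2770 (BT.node 2769 (BT.leaf cE2769) (BT.leaf cE2770)) (BT.leaf cE2771)) (BT.node 2772 (BT.leaf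 cE2772) (BT.leaf cE2773))) (BT.node 2776 (BT.node 2775 (BT.node 2774 (BT.leaf cE2774) (BT.leaf cE2775)) (BT.leaf cE2776)) (BT.node 2777 (BT.leaf cE2777) (BT.leaf cE2778)))) (BT.node 2783 (BT.node 2781 (BT.node 2780 (BT.node 2779 (BT.leaf cE2779) (BT.leaf cE2780)) (BT.leaf cE2781)) (BT.node 2782 (BT.leaf cE2782) (BT.leaf cE2783))) (BT.node 2786 (BT.node 2785 (BT.node 2784 (BT.leaf cE2784) (BT.leaf cE2785)) (BT.leaf cE2786)) (BT.node 2787 (BT.leaf cE2787) (BT.leaf cE2788)))))) (BT.node 2808 (BT.node 2798 (BT.node 2793 (BT.node 2791 (BT.node 2790 (BT.node 2789 (BT.leaf cE2789) (BT.leaf cE2790)) (BT.leaf cE2791)) (BT.node 2792 (BT.leaf cE2792) (BT.leaf cE2793))) (BT.node 2796 (BT.node 2795 (BT.node 2794 (BT.leaf cE2794) (BT.leaf cE2795)) (BT.leaf cE2796)) (BT.node 2797 (BT.leaf cE2797) (BT.leaf cE2798)))) (BT.node 2803 (BT.node 2801 (BT.node 2800 (BT.node 2799 (BT.leaf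 cE2799) (BT.leaf cE2800)) (BT.leaf cE2801)) (BT.node 2802 (BT.leaf cE2802) (BT.leaf cE2803))) (BT.node 2806 (BT.node 2805 (BT.node 2804 (BT.leaf cE2804) (BT.leaf cE2805)) (BT.leaf cE2806)) (BT.node 2807 (BT.leaf cE2807) (BT.leaf cE2808))))) (BT.node 2818 (BT.node 2813 (BT.node 2811 (BT.node 2810 (BT.node 2809 (BT.leaf cE2809) (BT.leaf cE2810)) (BT.leaf cE2811)) (BT.node 2812 (BT.leaf cE2812) (BT.leaf cE2813))) (BT.node 2816 (BT.node 2815 (BT.node 2814 (BT.leaf cE2814) (BT.leaf cE2815)) (BT.leaf cE2816)) (BT.node 2817 (BT.leaf cE2817) (BT.leaf cE2818)))) (BT.node 2823 (BT.node 2821 (BT.node 2820 (BT.node 2819 (BT.leaf cE2819) (BT.leaf cE2820)) (BT.leaf cE2821)) (BT.node 2822 (BT.leaf cE2822) (BT.leaf cE2823))) (BT.node 2826 (BT.node 2825 (BT.node 2824 (BT.leaf cE2824) (BT.leaf cE2825)) (BT.leaf cE2826)) (BT.node 2827 (BT.leaf cE2827) (BT.leaf cE2828))))))) (BT.node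 2869 (BT.node 2849 (BT.node 2839 (BT.node 2834 (BT.node 2831 (BT.node 2830 (BT.node 2829 (BT.leaf cE2829) (BT.leaf cE2830)) (BT.leaf cE2831)) (BT.node 2833 (BT.node 2832 (BT.leaf cE2832) (BT.leaf cE2833)) (BT.leaf cE2834))) (BT.node 2837 (BT.node 2836 (BT.node 2835 (BT.leaf cE2835) (BT.leaf cE2836)) (BT.leaf cE2837)) (BT.node 2838 (BT.leaf cE2838) (BT.leaf cE2839)))) (BT.node 2844 (BT.node 2842 (BT.node 2841 (BT.node 2840 (BT.leaf cE2840) (BT.leaf cE2841)) (BT.leaf cE2842)) (BT.node 2843 (BT.leaf cE2843) (BT.leaf cE2844))) (BT.node 2847 (BT.node 2846 (BT.node 2845 (BT.leaf cE2845) (BT.leaf cE2846)) (BT.leaf cE2847)) (BT.node 2848 (BT.leaf cE2848) (BT.leaf cE2849))))) (BT.node 2859 (BT.node 2854 (BT.node 2852 (BT.node 2851 (BT.node 2850 (BT.leaf cE2850) (BT.leaf cE2851)) (BT.leaf cE2852)) (BT.node 2853 (BT.leaf cE2853) (BT.leaf cE2854))) (BT.node 2857 (BT.node 2856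 (BT.node 2855 (BT.leaf cE2855) (BT.leaf cE2856)) (BT.leaf cE2857)) (BT.node 2858 (BT.leaf cE2858) (BT.leaf cE2859)))) (BT.node 2864 (BT.node 2862 (BT.node 2861 (BT.node 2860 (BT.leaf cE2860) (BT.leaf cE2861)) (BT.leaf cE2862)) (BT.node 2863 (BT.leaf cE2863) (BT.leaf cE2864))) (BT.node 2867 (BT.node 2866 (BT.node 2865 (BT.leaf cE2865) (BT.leaf cE2866)) (BT.leaf cE2867)) (BT.node 2868 (BT.leaf cE2868) (BT.leaf cE2869)))))) (BT.node 2889 (BT.node 2879 (BT.node 2874 (BT.node 2872 (BT.node 2871 (BT.node 2870 (BT.leaf cE2870) (BT.leaf cE2871)) (BT.leaf cE2872)) (BT.node 2873 (BT.leaf cE2873) (BT.leaf cE2874))) (BT.node 2877 (BT.node 2876 (BT.node 2875 (BT.leaf cE2875) (BT.leaf cE2876)) (BT.leaf cE2877)) (BT.node 2878 (BT.leaf cE2878) (BT.leaf cE2879)))) (BT.node 2884 (BT.node 2882 (BT.node 2881 (BT.node 2880 (BT.leaf cE2880) (BT.leaf cE2881)) (BT.leaf cE2882)) (BT.node 2883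 (BT.leaf cE2883) (BT.leaf cE2884))) (BT.node 2887 (BT.node 2886 (BT.node 2885 (BT.leaf cE2885) (BT.leaf cE2886)) (BT.leaf cE2887)) (BT.node 2888 (BT.leaf cE2888) (BT.leaf cE2889))))) (BT.node 2899 (BT.node 2894 (BT.node 2892 (BT.node 2891 (BT.node 2890 (BT.leaf cE2890) (BT.leaf cE2891)) (BT.leaf cE2892)) (BT.node 2893 (BT.leaf cE2893) (BT.leaf cE2894))) (BT.node 2897 (BT.node 2896 (BT.node 2895 (BT.leaf cE2895) (BT.leaf cE2896)) (BT.leaf cE2897)) (BT.node 2898 (BT.leaf cE2898) (BT.leaf cE2899)))) (BT.node 2904 (BT.node 2902 (BT.node 2901 (BT.node 2900 (BT.leaf cE2900) (BT.leaf cE2901)) (BT.leaf cE2902)) (BT.node 2903 (BT.leaf cE2903) (BT.leaf cE2904))) (BT.node 2907 (BT.node 2906 (BT.node 2905 (BT.leaf cE2905) (BT.leaf cE2906)) (BT.leaf cE2907)) (BT.node 2908 (BT.leaf cE2908) (BT.leaf cE2909))))))))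
noncomputable def colET_18 : BT ℕ := (BT.node 2990 (BT.node 2950 (BT.node 2930 (BT.node 2920 (BT.node 2915 (BT.node 2912 (BT.node 2911 (BT.node 2910 (BT.leaf cE2910) (BT.leaf cE2911)) (BT.leaf cE2912)) (BT.node 2914 (BT.node 2913 (BT.leaf cE2913) (BT.leaf cE2914)) (BT.leaf cE2915))) (BT.node 2918 (BT.node 2917 (BT.node 2916 (BT.leaf cE2916) (BT.leaf cE2917)) (BT.leaf cE2918)) (BT.node 2919 (BT.leaf cE2919) (BT.leaf cE2920)))) (BT.node 2925 (BT.node 2923 (BT.node 2922 (BT.node 2921 (BT.leaf cE2921) (BT.leaf cE2922)) (BT.leaf cE2923)) (BT.node 2924 (BT.leaf cE2924) (BT.leaf cE2925))) (BT.node 2928 (BT.node 2927 (BT.node 2926 (BT.leaf cE2926) (BT.leaf cE2927)) (BT.leaf cE2928)) (BT.node 2929 (BT.leaf cE2929) (BT.leaf cE2930))))) (BT.node 2940 (BT.node 2935 (BT.node 2933 (BT.node 2932 (BT.node 2931 (BT.leaf cE2931) (BT.leaf cE2932)) (BT.leaf cE2933)) (BT.node 2934 (BT.leaf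 cE2934) (BT.leaf cE2935))) (BT.node 2938 (BT.node 2937 (BT.node 2936 (BT.leaf cE2936) (BT.leaf cE2937)) (BT.leaf cE2938)) (BT.node 2939 (BT.leaf cE2939) (BT.leaf cE2940)))) (BT.node 2945 (BT.node 2943 (BT.node 2942 (BT.node 2941 (BT.leaf cE2941) (BT.leaf cE2942)) (BT.leaf cE2943)) (BT.node 2944 (BT.leaf cE2944) (BT.leaf cE2945))) (BT.node 2948 (BT.node 2947 (BT.node 2946 (BT.leaf cE2946) (BT.leaf cE2947)) (BT.leaf cE2948)) (BT.node 2949 (BT.leaf cE2949) (BT.leaf cE2950)))))) (BT.node 2970 (BT.node 2960 (BT.node 2955 (BT.node 2953 (BT.node 2952 (BT.node 2951 (BT.leaf cE2951) (BT.leaf cE2952)) (BT.leaf cE2953)) (BT.node 2954 (BT.leaf cE2954) (BT.leaf cE2955))) (BT.node 2958 (BT.node 2957 (BT.node 2956 (BT.leaf cE2956) (BT.leaf cE2957)) (BT.leaf cE2958)) (BT.node 2959 (BT.leaf cE2959) (BT.leaf cE2960)))) (BT.node 2965 (BT.node 2963 (BT.node 2962 (BT.node 2961 (BT.leaf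 cE2961) (BT.leaf cE2962)) (BT.leaf cE2963)) (BT.node 2964 (BT.leaf cE2964) (BT.leaf cE2965))) (BT.node 2968 (BT.node 2967 (BT.node 2966 (BT.leaf cE2966) (BT.leaf cE2967)) (BT.leaf cE2968)) (BT.node 2969 (BT.leaf cE2969) (BT.leaf cE2970))))) (BT.node 2980 (BT.node 2975 (BT.node 2973 (BT.node 2972 (BT.node 2971 (BT.leaf cE2971) (BT.leaf cE2972)) (BT.leaf cE2973)) (BT.node 2974 (BT.leaf cE2974) (BT.leaf cE2975))) (BT.node 2978 (BT.node 2977 (BT.node 2976 (BT.leaf cE2976) (BT.leaf cE2977)) (BT.leaf cE2978)) (BT.node 2979 (BT.leaf cE2979) (BT.leaf cE2980)))) (BT.node 2985 (BT.node 2983 (BT.node 2982 (BT.node 2981 (BT.leaf cE2981) (BT.leaf cE2982)) (BT.leaf cE2983)) (BT.node 2984 (BT.leaf cE2984) (BT.leaf cE2985))) (BT.node 2988 (BT.node 2987 (BT.node 2986 (BT.leaf cE2986) (BT.leaf cE2987)) (BT.leaf cE2988)) (BT.node 2989 (BT.leaf cE2989) (BT.leaf cE2990))))))) (BT.node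 3031 (BT.node 3011 (BT.node 3001 (BT.node 2996 (BT.node 2993 (BT.node 2992 (BT.node 2991 (BT.leaf cE2991) (BT.leaf cE2992)) (BT.leaf cE2993)) (BT.node 2995 (BT.node 2994 (BT.leaf cE2994) (BT.leaf cE2995)) (BT.leaf cE2996))) (BT.node 2999 (BT.node 2998 (BT.node 2997 (BT.leaf cE2997) (BT.leaf cE2998)) (BT.leaf cE2999)) (BT.node 3000 (BT.leaf cE3000) (BT.leaf cE3001)))) (BT.node 3006 (BT.node 3004 (BT.node 3003 (BT.node 3002 (BT.leaf cE3002) (BT.leaf cE3003)) (BT.leaf cE3004)) (BT.node 3005 (BT.leaf cE3005) (BT.leaf cE3006))) (BT.node 3009 (BT.node 3008 (BT.node 3007 (BT.leaf cE3007) (BT.leaf cE3008)) (BT.leaf cE3009)) (BT.node 3010 (BT.leaf cE3010) (BT.leaf cE3011))))) (BT.node 3021 (BT.node 3016 (BT.node 3014 (BT.node 3013 (BT.node 3012 (BT.leaf cE3012) (BT.leaf cE3013)) (BT.leaf cE3014)) (BT.node 3015 (BT.leaf cE3015) (BT.leaf cE3016))) (BT.node 3019 (BT.node 3018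 (BT.node 3017 (BT.leaf cE3017) (BT.leaf cE3018)) (BT.leaf cE3019)) (BT.node 3020 (BT.leaf cE3020) (BT.leaf cE3021)))) (BT.node 3026 (BT.node 3024 (BT.node 3023 (BT.node 3022 (BT.leaf cE3022) (BT.leaf cE3023)) (BT.leaf cE3024)) (BT.node 3025 (BT.leaf cE3025) (BT.leaf cE3026))) (BT.node 3029 (BT.node 3028 (BT.node 3027 (BT.leaf cE3027) (BT.leaf cE3028)) (BT.leaf cE3029)) (BT.node 3030 (BT.leaf cE3030) (BT.leaf cE3031)))))) (BT.node 3051 (BT.node 3041 (BT.node 3036 (BT.node 3034 (BT.node 3033 (BT.node 3032 (BT.leaf cE3032) (BT.leaf cE3033)) (BT.leaf cE3034)) (BT.node 3035 (BT.leaf cE3035) (BT.leaf cE3036))) (BT.node 3039 (BT.node 3038 (BT.node 3037 (BT.leaf cE3037) (BT.leaf cE3038)) (BT.leaf cE3039)) (BT.node 3040 (BT.leaf cE3040) (BT.leaf cE3041)))) (BT.node 3046 (BT.node 3044 (BT.node 3043 (BT.node 3042 (BT.leaf cE3042) (BT.leaf cE3043)) (BT.leaf cE3044)) (BT.node 3045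 (BT.leaf cE3045) (BT.leaf cE3046))) (BT.node 3049 (BT.node 3048 (BT.node 3047 (BT.leaf cE3047) (BT.leaf cE3048)) (BT.leaf cE3049)) (BT.node 3050 (BT.leaf cE3050) (BT.leaf cE3051))))) (BT.node 3061 (BT.node 3056 (BT.node 3054 (BT.node 3053 (BT.node 3052 (BT.leaf cE3052) (BT.leaf cE3053)) (BT.leaf cE3054)) (BT.node 3055 (BT.leaf cE3055) (BT.leaf cE3056))) (BT.node 3059 (BT.node 3058 (BT.node 3057 (BT.leaf cE3057) (BT.leaf cE3058)) (BT.leaf cE3059)) (BT.node 3060 (BT.leaf cE3060) (BT.leaf cE3061)))) (BT.node 3066 (BT.node 3064 (BT.node 3063 (BT.node 3062 (BT.leaf cE3062) (BT.leaf cE3063)) (BT.leaf cE3064)) (BT.node 3065 (BT.leaf cE3065) (BT.leaf cE3066))) (BT.node 3069 (BT.node 3068 (BT.node 3067 (BT.leaf cE3067) (BT.leaf cE3068)) (BT.leaf cE3069)) (BT.node 3070 (BT.leaf cE3070) (BT.leaf cE3071))))))))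
noncomputable def colET_19 : BT ℕ := (BT.node 3152 (BT.node 3112 (BT.node 3092 (BT.node 3082 (BT.node 3077 (BT.node 3074 (BT.node 3073 (BT.node 3072 (BT.leaf cE3072) (BT.leaf cE3073)) (BT.leaf cE3074)) (BT.node 3076 (BT.node 3075 (BT.leaf cE3075) (BT.leaf cE3076)) (BT.leaf cE3077))) (BT.node 3080 (BT.node 3079 (BT.node 3078 (BT.leaf cE3078) (BT.leaf cE3079)) (BT.leaf cE3080)) (BT.node 3081 (BT.leaf cE3081) (BT.leaf cE3082)))) (BT.node 3087 (BT.node 3085 (BT.node 3084 (BT.node 3083 (BT.leaf cE3083) (BT.leaf cE3084)) (BT.leaf cE3085)) (BT.node 3086 (BT.leaf cE3086) (BT.leaf cE3087))) (BT.node 3090 (BT.node 3089 (BT.node 3088 (BT.leaf cE3088) (BT.leaf cE3089)) (BT.leaf cE3090)) (BT.node 3091 (BT.leaf cE3091) (BT.leaf cE3092))))) (BT.node 3102 (BT.node 3097 (BT.node 3095 (BT.node 3094 (BT.node 3093 (BT.leaf cE3093) (BT.leaf cE3094)) (BT.leaf cE3095)) (BT.node 3096 (BT.leaf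 cE3096) (BT.leaf cE3097))) (BT.node 3100 (BT.node 3099 (BT.node 3098 (BT.leaf cE3098) (BT.leaf cE3099)) (BT.leaf cE3100)) (BT.node 3101 (BT.leaf cE3101) (BT.leaf cE3102)))) (BT.node 3107 (BT.node 3105 (BT.node 3104 (BT.node 3103 (BT.leaf cE3103) (BT.leaf cE3104)) (BT.leaf cE3105)) (BT.node 3106 (BT.leaf cE3106) (BT.leaf cE3107))) (BT.node 3110 (BT.node 3109 (BT.node 3108 (BT.leaf cE3108) (BT.leaf cE3109)) (BT.leaf cE3110)) (BT.node 3111 (BT.leaf cE3111) (BT.leaf cE3112)))))) (BT.node 3132 (BT.node 3122 (BT.node 3117 (BT.node 3115 (BT.node 3114 (BT.node 3113 (BT.leaf cE3113) (BT.leaf cE3114)) (BT.leaf cE3115)) (BT.node 3116 (BT.leaf cE3116) (BT.leaf cE3117))) (BT.node 3120 (BT.node 3119 (BT.node 3118 (BT.leaf cE3118) (BT.leaf cE3119)) (BT.leaf cE3120)) (BT.node 3121 (BT.leaf cE3121) (BT.leaf cE3122)))) (BT.node 3127 (BT.node 3125 (BT.node 3124 (BT.node 3123 (BT.leaf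 cE3123) (BT.leaf cE3124)) (BT.leaf cE3125)) (BT.node 3126 (BT.leaf cE3126) (BT.leaf cE3127))) (BT.node 3130 (BT.node 3129 (BT.node 3128 (BT.leaf cE3128) (BT.leaf cE3129)) (BT.leaf cE3130)) (BT.node 3131 (BT.leaf cE3131) (BT.leaf cE3132))))) (BT.node 3142 (BT.node 3137 (BT.node 3135 (BT.node 3134 (BT.node 3133 (BT.leaf cE3133) (BT.leaf cE3134)) (BT.leaf cE3135)) (BT.node 3136 (BT.leaf cE3136) (BT.leaf cE3137))) (BT.node 3140 (BT.node 3139 (BT.node 3138 (BT.leaf cE3138) (BT.leaf cE3139)) (BT.leaf cE3140)) (BT.node 3141 (BT.leaf cE3141) (BT.leaf cE3142)))) (BT.node 3147 (BT.node 3145 (BT.node 3144 (BT.node 3143 (BT.leaf cE3143) (BT.leaf cE3144)) (BT.leaf cE3145)) (BT.node 3146 (BT.leaf cE3146) (BT.leaf cE3147))) (BT.node 3150 (BT.node 3149 (BT.node 3148 (BT.leaf cE3148) (BT.leaf cE3149)) (BT.leaf cE3150)) (BT.node 3151 (BT.leaf cE3151) (BT.leaf cE3152))))))) (BT.node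 3192 (BT.node 3172 (BT.node 3162 (BT.node 3157 (BT.node 3155 (BT.node 3154 (BT.node 3153 (BT.leaf cE3153) (BT.leaf cE3154)) (BT.leaf cE3155)) (BT.node 3156 (BT.leaf cE3156) (BT.leaf cE3157))) (BT.node 3160 (BT.node 3159 (BT.node 3158 (BT.leaf cE3158) (BT.leaf cE3159)) (BT.leaf cE3160)) (BT.node 3161 (BT.leaf cE3161) (BT.leaf cE3162)))) (BT.node 3167 (BT.node 3165 (BT.node 3164 (BT.node 3163 (BT.leaf cE3163) (BT.leaf cE3164)) (BT.leaf cE3165)) (BT.node 3166 (BT.leaf cE3166) (BT.leaf cE3167))) (BT.node 3170 (BT.node 3169 (BT.node 3168 (BT.leaf cE3168) (BT.leaf cE3169)) (BT.leaf cE3170)) (BT.node 3171 (BT.leaf cE3171) (BT.leaf cE3172))))) (BT.node 3182 (BT.node 3177 (BT.node 3175 (BT.node 3174 (BT.node 3173 (BT.leaf cE3173) (BT.leaf cE3174)) (BT.leaf cE3175)) (BT.node 3176 (BT.leaf cE3176) (BT.leaf cE3177))) (BT.node 3180 (BT.node 3179 (BT.node 3178 (BT.leaf cE3178) (BT.leaf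 cE3179)) (BT.leaf cE3180)) (BT.node 3181 (BT.leaf cE3181) (BT.leaf cE3182)))) (BT.node 3187 (BT.node 3185 (BT.node 3184 (BT.node 3183 (BT.leaf cE3183) (BT.leaf cE3184)) (BT.leaf cE3185)) (BT.node 3186 (BT.leaf cE3186) (BT.leaf cE3187))) (BT.node 3190 (BT.node 3189 (BT.node 3188 (BT.leaf cE3188) (BT.leaf cE3189)) (BT.leaf cE3190)) (BT.node 3191 (BT.leaf cE3191) (BT.leaf cE3192)))))) (BT.node 3212 (BT.node 3202 (BT.node 3197 (BT.node 3195 (BT.node 3194 (BT.node 3193 (BT.leaf cE3193) (BT.leaf cE3194)) (BT.leaf cE3195)) (BT.node 3196 (BT.leaf cE3196) (BT.leaf cE3197))) (BT.node 3200 (BT.node 3199 (BT.node 3198 (BT.leaf cE3198) (BT.leaf cE3199)) (BT.leaf cE3200)) (BT.node 3201 (BT.leaf cE3201) (BT.leaf cE3202)))) (BT.node 3207 (BT.node 3205 (BT.node 3204 (BT.node 3203 (BT.leaf cE3203) (BT.leaf cE3204)) (BT.leaf cE3205)) (BT.node 3206 (BT.leaf cE3206) (BT.leaf cE3207)))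 (BT.node 3210 (BT.node 3209 (BT.node 3208 (BT.leaf cE3208) (BT.leaf cE3209)) (BT.leaf cE3210)) (BT.node 3211 (BT.leaf cE3211) (BT.leaf cE3212))))) (BT.node 3222 (BT.node 3217 (BT.node 3215 (BT.node 3214 (BT.node 3213 (BT.leaf cE3213) (BT.leaf cE3214)) (BT.leaf cE3215)) (BT.node 3216 (BT.leaf cE3216) (BT.leaf cE3217))) (BT.node 3220 (BT.node 3219 (BT.node 3218 (BT.leaf cE3218) (BT.leaf cE3219)) (BT.leaf cE3220)) (BT.node 3221 (BT.leaf cE3221) (BT.leaf cE3222)))) (BT.node 3227 (BT.node 3225 (BT.node 3224 (BT.node 3223 (BT.leaf cE3223) (BT.leaf cE3224)) (BT.leaf cE3225)) (BT.node 3226 (BT.leaf cE3226) (BT.leaf cE3227))) (BT.node 3230 (BT.node 3229 (BT.node 3228 (BT.leaf cE3228) (BT.leaf cE3229)) (BT.leaf cE3230)) (BT.node 3231 (BT.leaf cE3231) (BT.leaf cE3232))))))))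
noncomputable def colET_20 : BT ℕ := (BT.node 3313 (BT.node 3273 (BT.node 3253 (BT.node 3243 (BT.node 3238 (BT.node 3235 (BT.node 3234 (BT.node 3233 (BT.leaf cE3233) (BT.leaf cE3234)) (BT.leaf cE3235)) (BT.node 3237 (BT.node 3236 (BT.leaf cE3236) (BT.leaf cE3237)) (BT.leaf cE3238))) (BT.node 3241 (BT.node 3240 (BT.node 3239 (BT.leaf cE3239) (BT.leaf cE3240)) (BT.leaf cE3241)) (BT.node 3242 (BT.leaf cE3242) (BT.leaf cE3243)))) (BT.node 3248 (BT.node 3246 (BT.node 3245 (BT.node 3244 (BT.leaf cE3244) (BT.leaf cE3245)) (BT.leaf cE3246)) (BT.node 3247 (BT.leaf cE3247) (BT.leaf cE3248))) (BT.node 3251 (BT.node 3250 (BT.node 3249 (BT.leaf cE3249) (BT.leaf cE3250)) (BT.leaf cE3251)) (BT.node 3252 (BT.leaf cE3252) (BT.leaf cE3253))))) (BT.node 3263 (BT.node 3258 (BT.node 3256 (BT.node 3255 (BT.node 3254 (BT.leaf cE3254) (BT.leaf cE3255)) (BT.leaf cE3256)) (BT.node 3257 (BT.leaf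 cE3257) (BT.leaf cE3258))) (BT.node 3261 (BT.node 3260 (BT.node 3259 (BT.leaf cE3259) (BT.leaf cE3260)) (BT.leaf cE3261)) (BT.node 3262 (BT.leaf cE3262) (BT.leaf cE3263)))) (BT.node 3268 (BT.node 3266 (BT.node 3265 (BT.node 3264 (BT.leaf cE3264) (BT.leaf cE3265)) (BT.leaf cE3266)) (BT.node 3267 (BT.leaf cE3267) (BT.leaf cE3268))) (BT.node 3271 (BT.node 3270 (BT.node 3269 (BT.leaf cE3269) (BT.leaf cE3270)) (BT.leaf cE3271)) (BT.node 3272 (BT.leaf cE3272) (BT.leaf cE3273)))))) (BT.node 3293 (BT.node 3283 (BT.node 3278 (BT.node 3276 (BT.node 3275 (BT.node 3274 (BT.leaf cE3274) (BT.leaf cE3275)) (BT.leaf cE3276)) (BT.node 3277 (BT.leaf cE3277) (BT.leaf cE3278))) (BT.node 3281 (BT.node 3280 (BT.node 3279 (BT.leaf cE3279) (BT.leaf cE3280)) (BT.leaf cE3281)) (BT.node 3282 (BT.leaf cE3282) (BT.leaf cE3283)))) (BT.node 3288 (BT.node 3286 (BT.node 3285 (BT.node 3284 (BT.leaf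 cE3284) (BT.leaf cE3285)) (BT.leaf cE3286)) (BT.node 3287 (BT.leaf cE3287) (BT.leaf cE3288))) (BT.node 3291 (BT.node 3290 (BT.node 3289 (BT.leaf cE3289) (BT.leaf cE3290)) (BT.leaf cE3291)) (BT.node 3292 (BT.leaf cE3292) (BT.leaf cE3293))))) (BT.node 3303 (BT.node 3298 (BT.node 3296 (BT.node 3295 (BT.node 3294 (BT.leaf cE3294) (BT.leaf cE3295)) (BT.leaf cE3296)) (BT.node 3297 (BT.leaf cE3297) (BT.leaf cE3298))) (BT.node 3301 (BT.node 3300 (BT.node 3299 (BT.leaf cE3299) (BT.leaf cE3300)) (BT.leaf cE3301)) (BT.node 3302 (BT.leaf cE3302) (BT.leaf cE3303)))) (BT.node 3308 (BT.node 3306 (BT.node 3305 (BT.node 3304 (BT.leaf cE3304) (BT.leaf cE3305)) (BT.leaf cE3306)) (BT.node 3307 (BT.leaf cE3307) (BT.leaf cE3308))) (BT.node 3311 (BT.node 3310 (BT.node 3309 (BT.leaf cE3309) (BT.leaf cE3310)) (BT.leaf cE3311)) (BT.node 3312 (BT.leaf cE3312) (BT.leaf cE3313))))))) (BT.node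 3354 (BT.node 3334 (BT.node 3324 (BT.node 3319 (BT.node 3316 (BT.node 3315 (BT.node 3314 (BT.leaf cE3314) (BT.leaf cE3315)) (BT.leaf cE3316)) (BT.node 3318 (BT.node 3317 (BT.leaf cE3317) (BT.leaf cE3318)) (BT.leaf cE3319))) (BT.node 3322 (BT.node 3321 (BT.node 3320 (BT.leaf cE3320) (BT.leaf cE3321)) (BT.leaf cE3322)) (BT.node 3323 (BT.leaf cE3323) (BT.leaf cE3324)))) (BT.node 3329 (BT.node 3327 (BT.node 3326 (BT.node 3325 (BT.leaf cE3325) (BT.leaf cE3326)) (BT.leaf cE3327)) (BT.node 3328 (BT.leaf cE3328) (BT.leaf cE3329))) (BT.node 3332 (BT.node 3331 (BT.node 3330 (BT.leaf cE3330) (BT.leaf cE3331)) (BT.leaf cE3332)) (BT.node 3333 (BT.leaf cE3333) (BT.leaf cE3334))))) (BT.node 3344 (BT.node 3339 (BT.node 3337 (BT.node 3336 (BT.node 3335 (BT.leaf cE3335) (BT.leaf cE3336)) (BT.leaf cE3337)) (BT.node 3338 (BT.leaf cE3338) (BT.leaf cE3339))) (BT.node 3342 (BT.node 3341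 (BT.node 3340 (BT.leaf cE3340) (BT.leaf cE3341)) (BT.leaf cE3342)) (BT.node 3343 (BT.leaf cE3343) (BT.leaf cE3344)))) (BT.node 3349 (BT.node 3347 (BT.node 3346 (BT.node 3345 (BT.leaf cE3345) (BT.leaf cE3346)) (BT.leaf cE3347)) (BT.node 3348 (BT.leaf cE3348) (BT.leaf cE3349))) (BT.node 3352 (BT.node 3351 (BT.node 3350 (BT.leaf cE3350) (BT.leaf cE3351)) (BT.leaf cE3352)) (BT.node 3353 (BT.leaf cE3353) (BT.leaf cE3354)))))) (BT.node 3374 (BT.node 3364 (BT.node 3359 (BT.node 3357 (BT.node 3356 (BT.node 3355 (BT.leaf cE3355) (BT.leaf cE3356)) (BT.leaf cE3357)) (BT.node 3358 (BT.leaf cE3358) (BT.leaf cE3359))) (BT.node 3362 (BT.node 3361 (BT.node 3360 (BT.leaf cE3360) (BT.leaf cE3361)) (BT.leaf cE3362)) (BT.node 3363 (BT.leaf cE3363) (BT.leaf cE3364)))) (BT.node 3369 (BT.node 3367 (BT.node 3366 (BT.node 3365 (BT.leaf cE3365) (BT.leaf cE3366)) (BT.leaf cE3367)) (BT.node 3368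 (BT.leaf cE3368) (BT.leaf cE3369))) (BT.node 3372 (BT.node 3371 (BT.node 3370 (BT.leaf cE3370) (BT.leaf cE3371)) (BT.leaf cE3372)) (BT.node 3373 (BT.leaf cE3373) (BT.leaf cE3374))))) (BT.node 3384 (BT.node 3379 (BT.node 3377 (BT.node 3376 (BT.node 3375 (BT.leaf cE3375) (BT.leaf cE3376)) (BT.leaf cE3377)) (BT.node 3378 (BT.leaf cE3378) (BT.leaf cE3379))) (BT.node 3382 (BT.node 3381 (BT.node 3380 (BT.leaf cE3380) (BT.leaf cE3381)) (BT.leaf cE3382)) (BT.node 3383 (BT.leaf cE3383) (BT.leaf cE3384)))) (BT.node 3389 (BT.node 3387 (BT.node 3386 (BT.node 3385 (BT.leaf cE3385) (BT.leaf cE3386)) (BT.leaf cE3387)) (BT.node 3388 (BT.leaf cE3388) (BT.leaf cE3389))) (BT.node 3392 (BT.node 3391 (BT.node 3390 (BT.leaf cE3390) (BT.leaf cE3391)) (BT.leaf cE3392)) (BT.node 3393 (BT.leaf cE3393) (BT.leaf cE3394))))))))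
noncomputable def colET_21 : BT ℕ := (BT.node 3475 (BT.node 3435 (BT.node 3415 (BT.node 3405 (BT.node 3400 (BT.node 3397 (BT.node 3396 (BT.node 3395 (BT.leaf cE3395) (BT.leaf cE3396)) (BT.leaf cE3397)) (BT.node 3399 (BT.node 3398 (BT.leaf cE3398) (BT.leaf cE3399)) (BT.leaf cE3400))) (BT.node 3403 (BT.node 3402 (BT.node 3401 (BT.leaf cE3401) (BT.leaf cE3402)) (BT.leaf cE3403)) (BT.node 3404 (BT.leaf cE3404) (BT.leaf cE3405)))) (BT.node 3410 (BT.node 3408 (BT.node 3407 (BT.node 3406 (BT.leaf cE3406) (BT.leaf cE3407)) (BT.leaf cE3408)) (BT.node 3409 (BT.leaf cE3409) (BT.leaf cE3410))) (BT.node 3413 (BT.node 3412 (BT.node 3411 (BT.leaf cE3411) (BT.leaf cE3412)) (BT.leaf cE3413)) (BT.node 3414 (BT.leaf cE3414) (BT.leaf cE3415))))) (BT.node 3425 (BT.node 3420 (BT.node 3418 (BT.node 3417 (BT.node 3416 (BT.leaf cE3416) (BT.leaf cE3417)) (BT.leaf cE3418)) (BT.node 3419 (BT.leaf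 cE3419) (BT.leaf cE3420))) (BT.node 3423 (BT.node 3422 (BT.node 3421 (BT.leaf cE3421) (BT.leaf cE3422)) (BT.leaf cE3423)) (BT.node 3424 (BT.leaf cE3424) (BT.leaf cE3425)))) (BT.node 3430 (BT.node 3428 (BT.node 3427 (BT.node 3426 (BT.leaf cE3426) (BT.leaf cE3427)) (BT.leaf cE3428)) (BT.node 3429 (BT.leaf cE3429) (BT.leaf cE3430))) (BT.node 3433 (BT.node 3432 (BT.node 3431 (BT.leaf cE3431) (BT.leaf cE3432)) (BT.leaf cE3433)) (BT.node 3434 (BT.leaf cE3434) (BT.leaf cE3435)))))) (BT.node 3455 (BT.node 3445 (BT.node 3440 (BT.node 3438 (BT.node 3437 (BT.node 3436 (BT.leaf cE3436) (BT.leaf cE3437)) (BT.leaf cE3438)) (BT.node 3439 (BT.leaf cE3439) (BT.leaf cE3440))) (BT.node 3443 (BT.node 3442 (BT.node 3441 (BT.leaf cE3441) (BT.leaf cE3442)) (BT.leaf cE3443)) (BT.node 3444 (BT.leaf cE3444) (BT.leaf cE3445)))) (BT.node 3450 (BT.node 3448 (BT.node 3447 (BT.node 3446 (BT.leaf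 cE3446) (BT.leaf cE3447)) (BT.leaf cE3448)) (BT.node 3449 (BT.leaf cE3449) (BT.leaf cE3450))) (BT.node 3453 (BT.node 3452 (BT.node 3451 (BT.leaf cE3451) (BT.leaf cE3452)) (BT.leaf cE3453)) (BT.node 3454 (BT.leaf cE3454) (BT.leaf cE3455))))) (BT.node 3465 (BT.node 3460 (BT.node 3458 (BT.node 3457 (BT.node 3456 (BT.leaf cE3456) (BT.leaf cE3457)) (BT.leaf cE3458)) (BT.node 3459 (BT.leaf cE3459) (BT.leaf cE3460))) (BT.node 3463 (BT.node 3462 (BT.node 3461 (BT.leaf cE3461) (BT.leaf cE3462)) (BT.leaf cE3463)) (BT.node 3464 (BT.leaf cE3464) (BT.leaf cE3465)))) (BT.node 3470 (BT.node 3468 (BT.node 3467 (BT.node 3466 (BT.leaf cE3466) (BT.leaf cE3467)) (BT.leaf cE3468)) (BT.node 3469 (BT.leaf cE3469) (BT.leaf cE3470))) (BT.node 3473 (BT.node 3472 (BT.node 3471 (BT.leaf cE3471) (BT.leaf cE3472)) (BT.leaf cE3473)) (BT.node 3474 (BT.leaf cE3474) (BT.leaf cE3475))))))) (BT.node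 3515 (BT.node 3495 (BT.node 3485 (BT.node 3480 (BT.node 3478 (BT.node 3477 (BT.node 3476 (BT.leaf cE3476) (BT.leaf cE3477)) (BT.leaf cE3478)) (BT.node 3479 (BT.leaf cE3479) (BT.leaf cE3480))) (BT.node 3483 (BT.node 3482 (BT.node 3481 (BT.leaf cE3481) (BT.leaf cE3482)) (BT.leaf cE3483)) (BT.node 3484 (BT.leaf cE3484) (BT.leaf cE3485)))) (BT.node 3490 (BT.node 3488 (BT.node 3487 (BT.node 3486 (BT.leaf cE3486) (BT.leaf cE3487)) (BT.leaf cE3488)) (BT.node 3489 (BT.leaf cE3489) (BT.leaf cE3490))) (BT.node 3493 (BT.node 3492 (BT.node 3491 (BT.leaf cE3491) (BT.leaf cE3492)) (BT.leaf cE3493)) (BT.node 3494 (BT.leaf cE3494) (BT.leaf cE3495))))) (BT.node 3505 (BT.node 3500 (BT.node 3498 (BT.node 3497 (BT.node 3496 (BT.leaf cE3496) (BT.leaf cE3497)) (BT.leaf cE3498)) (BT.node 3499 (BT.leaf cE3499) (BT.leaf cE3500))) (BT.node 3503 (BT.node 3502 (BT.node 3501 (BT.leaf cE3501) (BT.leaf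 cE3502)) (BT.leaf cE3503)) (BT.node 3504 (BT.leaf cE3504) (BT.leaf cE3505)))) (BT.node 3510 (BT.node 3508 (BT.node 3507 (BT.node 3506 (BT.leaf cE3506) (BT.leaf cE3507)) (BT.leaf cE3508)) (BT.node 3509 (BT.leaf cE3509) (BT.leaf cE3510))) (BT.node 3513 (BT.node 3512 (BT.node 3511 (BT.leaf cE3511) (BT.leaf cE3512)) (BT.leaf cE3513)) (BT.node 3514 (BT.leaf cE3514) (BT.leaf cE3515)))))) (BT.node 3535 (BT.node 3525 (BT.node 3520 (BT.node 3518 (BT.node 3517 (BT.node 3516 (BT.leaf cE3516) (BT.leaf cE3517)) (BT.leaf cE3518)) (BT.node 3519 (BT.leaf cE3519) (BT.leaf cE3520))) (BT.node 3523 (BT.node 3522 (BT.node 3521 (BT.leaf cE3521) (BT.leaf cE3522)) (BT.leaf cE3523)) (BT.node 3524 (BT.leaf cE3524) (BT.leaf cE3525)))) (BT.node 3530 (BT.node 3528 (BT.node 3527 (BT.node 3526 (BT.leaf cE3526) (BT.leaf cE3527)) (BT.leaf cE3528)) (BT.node 3529 (BT.leaf cE3529) (BT.leaf cE3530)))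 (BT.node 3533 (BT.node 3532 (BT.node 3531 (BT.leaf cE3531) (BT.leaf cE3532)) (BT.leaf cE3533)) (BT.node 3534 (BT.leaf cE3534) (BT.leaf cE3535))))) (BT.node 3545 (BT.node 3540 (BT.node 3538 (BT.node 3537 (BT.node 3536 (BT.leaf cE3536) (BT.leaf cE3537)) (BT.leaf cE3538)) (BT.node 3539 (BT.leaf cE3539) (BT.leaf cE3540))) (BT.node 3543 (BT.node 3542 (BT.node 3541 (BT.leaf cE3541) (BT.leaf cE3542)) (BT.leaf cE3543)) (BT.node 3544 (BT.leaf cE3544) (BT.leaf cE3545)))) (BT.node 3550 (BT.node 3548 (BT.node 3547 (BT.node 3546 (BT.leaf cE3546) (BT.leaf cE3547)) (BT.leaf cE3548)) (BT.node 3549 (BT.leaf cE3549) (BT.leaf cE3550))) (BT.node 3553 (BT.node 3552 (BT.node 3551 (BT.leaf cE3551) (BT.leaf cE3552)) (BT.leaf cE3553)) (BT.node 3554 (BT.leaf cE3554) (BT.leaf cE3555))))))))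
noncomputable def colET_22 : BT ℕ := (BT.node 3636 (BT.node 3596 (BT.node 3576 (BT.node 3566 (BT.node 3561 (BT.node 3558 (BT.node 3557 (BT.node 3556 (BT.leaf cE3556) (BT.leaf cE3557)) (BT.leaf cE3558)) (BT.node 3560 (BT.node 3559 (BT.leaf cE3559) (BT.leaf cE3560)) (BT.leaf cE3561))) (BT.node 3564 (BT.node 3563 (BT.node 3562 (BT.leaf cE3562) (BT.leaf cE3563)) (BT.leaf cE3564)) (BT.node 3565 (BT.leaf cE3565) (BT.leaf cE3566)))) (BT.node 3571 (BT.node 3569 (BT.node 3568 (BT.node 3567 (BT.leaf cE3567) (BT.leaf cE3568)) (BT.leaf cE3569)) (BT.node 3570 (BT.leaf cE3570) (BT.leaf cE3571))) (BT.node 3574 (BT.node 3573 (BT.node 3572 (BT.leaf cE3572) (BT.leaf cE3573)) (BT.leaf cE3574)) (BT.node 3575 (BT.leaf cE3575) (BT.leaf cE3576))))) (BT.node 3586 (BT.node 3581 (BT.node 3579 (BT.node 3578 (BT.node 3577 (BT.leaf cE3577) (BT.leaf cE3578)) (BT.leaf cE3579)) (BT.node 3580 (BT.leaf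 cE3580) (BT.leaf cE3581))) (BT.node 3584 (BT.node 3583 (BT.node 3582 (BT.leaf cE3582) (BT.leaf cE3583)) (BT.leaf cE3584)) (BT.node 3585 (BT.leaf cE3585) (BT.leaf cE3586)))) (BT.node 3591 (BT.node 3589 (BT.node 3588 (BT.node 3587 (BT.leaf cE3587) (BT.leaf cE3588)) (BT.leaf cE3589)) (BT.node 3590 (BT.leaf cE3590) (BT.leaf cE3591))) (BT.node 3594 (BT.node 3593 (BT.node 3592 (BT.leaf cE3592) (BT.leaf cE3593)) (BT.leaf cE3594)) (BT.node 3595 (BT.leaf cE3595) (BT.leaf cE3596)))))) (BT.node 3616 (BT.node 3606 (BT.node 3601 (BT.node 3599 (BT.node 3598 (BT.node 3597 (BT.leaf cE3597) (BT.leaf cE3598)) (BT.leaf cE3599)) (BT.node 3600 (BT.leaf cE3600) (BT.leaf cE3601))) (BT.node 3604 (BT.node 3603 (BT.node 3602 (BT.leaf cE3602) (BT.leaf cE3603)) (BT.leaf cE3604)) (BT.node 3605 (BT.leaf cE3605) (BT.leaf cE3606)))) (BT.node 3611 (BT.node 3609 (BT.node 3608 (BT.node 3607 (BT.leaf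 cE3607) (BT.leaf cE3608)) (BT.leaf cE3609)) (BT.node 3610 (BT.leaf cE3610) (BT.leaf cE3611))) (BT.node 3614 (BT.node 3613 (BT.node 3612 (BT.leaf cE3612) (BT.leaf cE3613)) (BT.leaf cE3614)) (BT.node 3615 (BT.leaf cE3615) (BT.leaf cE3616))))) (BT.node 3626 (BT.node 3621 (BT.node 3619 (BT.node 3618 (BT.node 3617 (BT.leaf cE3617) (BT.leaf cE3618)) (BT.leaf cE3619)) (BT.node 3620 (BT.leaf cE3620) (BT.leaf cE3621))) (BT.node 3624 (BT.node 3623 (BT.node 3622 (BT.leaf cE3622) (BT.leaf cE3623)) (BT.leaf cE3624)) (BT.node 3625 (BT.leaf cE3625) (BT.leaf cE3626)))) (BT.node 3631 (BT.node 3629 (BT.node 3628 (BT.node 3627 (BT.leaf cE3627) (BT.leaf cE3628)) (BT.leaf cE3629)) (BT.node 3630 (BT.leaf cE3630) (BT.leaf cE3631))) (BT.node 3634 (BT.node 3633 (BT.node 3632 (BT.leaf cE3632) (BT.leaf cE3633)) (BT.leaf cE3634)) (BT.node 3635 (BT.leaf cE3635) (BT.leaf cE3636))))))) (BT.node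 3677 (BT.node 3657 (BT.node 3647 (BT.node 3642 (BT.node 3639 (BT.node 3638 (BT.node 3637 (BT.leaf cE3637) (BT.leaf cE3638)) (BT.leaf cE3639)) (BT.node 3641 (BT.node 3640 (BT.leaf cE3640) (BT.leaf cE3641)) (BT.leaf cE3642))) (BT.node 3645 (BT.node 3644 (BT.node 3643 (BT.leaf cE3643) (BT.leaf cE3644)) (BT.leaf cE3645)) (BT.node 3646 (BT.leaf cE3646) (BT.leaf cE3647)))) (BT.node 3652 (BT.node 3650 (BT.node 3649 (BT.node 3648 (BT.leaf cE3648) (BT.leaf cE3649)) (BT.leaf cE3650)) (BT.node 3651 (BT.leaf cE3651) (BT.leaf cE3652))) (BT.node 3655 (BT.node 3654 (BT.node 3653 (BT.leaf cE3653) (BT.leaf cE3654)) (BT.leaf cE3655)) (BT.node 3656 (BT.leaf cE3656) (BT.leaf cE3657))))) (BT.node 3667 (BT.node 3662 (BT.node 3660 (BT.node 3659 (BT.node 3658 (BT.leaf cE3658) (BT.leaf cE3659)) (BT.leaf cE3660)) (BT.node 3661 (BT.leaf cE3661) (BT.leaf cE3662))) (BT.node 3665 (BT.node 3664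 (BT.node 3663 (BT.leaf cE3663) (BT.leaf cE3664)) (BT.leaf cE3665)) (BT.node 3666 (BT.leaf cE3666) (BT.leaf cE3667)))) (BT.node 3672 (BT.node 3670 (BT.node 3669 (BT.node 3668 (BT.leaf cE3668) (BT.leaf cE3669)) (BT.leaf cE3670)) (BT.node 3671 (BT.leaf cE3671) (BT.leaf cE3672))) (BT.node 3675 (BT.node 3674 (BT.node 3673 (BT.leaf cE3673) (BT.leaf cE3674)) (BT.leaf cE3675)) (BT.node 3676 (BT.leaf cE3676) (BT.leaf cE3677)))))) (BT.node 3697 (BT.node 3687 (BT.node 3682 (BT.node 3680 (BT.node 3679 (BT.node 3678 (BT.leaf cE3678) (BT.leaf cE3679)) (BT.leaf cE3680)) (BT.node 3681 (BT.leaf cE3681) (BT.leaf cE3682))) (BT.node 3685 (BT.node 3684 (BT.node 3683 (BT.leaf cE3683) (BT.leaf cE3684)) (BT.leaf cE3685)) (BT.node 3686 (BT.leaf cE3686) (BT.leaf cE3687)))) (BT.node 3692 (BT.node 3690 (BT.node 3689 (BT.node 3688 (BT.leaf cE3688) (BT.leaf cE3689)) (BT.leaf cE3690)) (BT.node 3691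 (BT.leaf cE3691) (BT.leaf cE3692))) (BT.node 3695 (BT.node 3694 (BT.node 3693 (BT.leaf cE3693) (BT.leaf cE3694)) (BT.leaf cE3695)) (BT.node 3696 (BT.leaf cE3696) (BT.leaf cE3697))))) (BT.node 3707 (BT.node 3702 (BT.node 3700 (BT.node 3699 (BT.node 3698 (BT.leaf cE3698) (BT.leaf cE3699)) (BT.leaf cE3700)) (BT.node 3701 (BT.leaf cE3701) (BT.leaf cE3702))) (BT.node 3705 (BT.node 3704 (BT.node 3703 (BT.leaf cE3703) (BT.leaf cE3704)) (BT.leaf cE3705)) (BT.node 3706 (BT.leaf cE3706) (BT.leaf cE3707)))) (BT.node 3712 (BT.node 3710 (BT.node 3709 (BT.node 3708 (BT.leaf cE3708) (BT.leaf cE3709)) (BT.leaf cE3710)) (BT.node 3711 (BT.leaf cE3711) (BT.leaf cE3712))) (BT.node 3715 (BT.node 3714 (BT.node 3713 (BT.leaf cE3713) (BT.leaf cE3714)) (BT.leaf cE3715)) (BT.node 3716 (BT.leaf cE3716) (BT.leaf cE3717))))))))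
noncomputable def colET_23 : BT ℕ := (BT.node 3798 (BT.node 3758 (BT.node 3738 (BT.node 3728 (BT.node 3723 (BT.node 3720 (BT.node 3719 (BT.node 3718 (BT.leaf cE3718) (BT.leaf cE3719)) (BT.leaf cE3720)) (BT.node 3722 (BT.node 3721 (BT.leaf cE3721) (BT.leaf cE3722)) (BT.leaf cE3723))) (BT.node 3726 (BT.node 3725 (BT.node 3724 (BT.leaf cE3724) (BT.leaf cE3725)) (BT.leaf cE3726)) (BT.node 3727 (BT.leaf cE3727) (BT.leaf cE3728)))) (BT.node 3733 (BT.node 3731 (BT.node 3730 (BT.node 3729 (BT.leaf cE3729) (BT.leaf cE3730)) (BT.leaf cE3731)) (BT.node 3732 (BT.leaf cE3732) (BT.leaf cE3733))) (BT.node 3736 (BT.node 3735 (BT.node 3734 (BT.leaf cE3734) (BT.leaf cE3735)) (BT.leaf cE3736)) (BT.node 3737 (BT.leaf cE3737) (BT.leaf cE3738))))) (BT.node 3748 (BT.node 3743 (BT.node 3741 (BT.node 3740 (BT.node 3739 (BT.leaf cE3739) (BT.leaf cE3740)) (BT.leaf cE3741)) (BT.node 3742 (BT.leaf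 cE3742) (BT.leaf cE3743))) (BT.node 3746 (BT.node 3745 (BT.node 3744 (BT.leaf cE3744) (BT.leaf cE3745)) (BT.leaf cE3746)) (BT.node 3747 (BT.leaf cE3747) (BT.leaf cE3748)))) (BT.node 3753 (BT.node 3751 (BT.node 3750 (BT.node 3749 (BT.leaf cE3749) (BT.leaf cE3750)) (BT.leaf cE3751)) (BT.node 3752 (BT.leaf cE3752) (BT.leaf cE3753))) (BT.node 3756 (BT.node 3755 (BT.node 3754 (BT.leaf cE3754) (BT.leaf cE3755)) (BT.leaf cE3756)) (BT.node 3757 (BT.leaf cE3757) (BT.leaf cE3758)))))) (BT.node 3778 (BT.node 3768 (BT.node 3763 (BT.node 3761 (BT.node 3760 (BT.node 3759 (BT.leaf cE3759) (BT.leaf cE3760)) (BT.leaf cE3761)) (BT.node 3762 (BT.leaf cE3762) (BT.leaf cE3763))) (BT.node 3766 (BT.node 3765 (BT.node 3764 (BT.leaf cE3764) (BT.leaf cE3765)) (BT.leaf cE3766)) (BT.node 3767 (BT.leaf cE3767) (BT.leaf cE3768)))) (BT.node 3773 (BT.node 3771 (BT.node 3770 (BT.node 3769 (BT.leaf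 cE3769) (BT.leaf cE3770)) (BT.leaf cE3771)) (BT.node 3772 (BT.leaf cE3772) (BT.leaf cE3773))) (BT.node 3776 (BT.node 3775 (BT.node 3774 (BT.leaf cE3774) (BT.leaf cE3775)) (BT.leaf cE3776)) (BT.node 3777 (BT.leaf cE3777) (BT.leaf cE3778))))) (BT.node 3788 (BT.node 3783 (BT.node 3781 (BT.node 3780 (BT.node 3779 (BT.leaf cE3779) (BT.leaf cE3780)) (BT.leaf cE3781)) (BT.node 3782 (BT.leaf cE3782) (BT.leaf cE3783))) (BT.node 3786 (BT.node 3785 (BT.node 3784 (BT.leaf cE3784) (BT.leaf cE3785)) (BT.leaf cE3786)) (BT.node 3787 (BT.leaf cE3787) (BT.leaf cE3788)))) (BT.node 3793 (BT.node 3791 (BT.node 3790 (BT.node 3789 (BT.leaf cE3789) (BT.leaf cE3790)) (BT.leaf cE3791)) (BT.node 3792 (BT.leaf cE3792) (BT.leaf cE3793))) (BT.node 3796 (BT.node 3795 (BT.node 3794 (BT.leaf cE3794) (BT.leaf cE3795)) (BT.leaf cE3796)) (BT.node 3797 (BT.leaf cE3797) (BT.leaf cE3798))))))) (BT.node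 3838 (BT.node 3818 (BT.node 3808 (BT.node 3803 (BT.node 3801 (BT.node 3800 (BT.node 3799 (BT.leaf cE3799) (BT.leaf cE3800)) (BT.leaf cE3801)) (BT.node 3802 (BT.leaf cE3802) (BT.leaf cE3803))) (BT.node 3806 (BT.node 3805 (BT.node 3804 (BT.leaf cE3804) (BT.leaf cE3805)) (BT.leaf cE3806)) (BT.node 3807 (BT.leaf cE3807) (BT.leaf cE3808)))) (BT.node 3813 (BT.node 3811 (BT.node 3810 (BT.node 3809 (BT.leaf cE3809) (BT.leaf cE3810)) (BT.leaf cE3811)) (BT.node 3812 (BT.leaf cE3812) (BT.leaf cE3813))) (BT.node 3816 (BT.node 3815 (BT.node 3814 (BT.leaf cE3814) (BT.leaf cE3815)) (BT.leaf cE3816)) (BT.node 3817 (BT.leaf cE3817) (BT.leaf cE3818))))) (BT.node 3828 (BT.node 3823 (BT.node 3821 (BT.node 3820 (BT.node 3819 (BT.leaf cE3819) (BT.leaf cE3820)) (BT.leaf cE3821)) (BT.node 3822 (BT.leaf cE3822) (BT.leaf cE3823))) (BT.node 3826 (BT.node 3825 (BT.node 3824 (BT.leaf cE3824) (BT.leaf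 cE3825)) (BT.leaf cE3826)) (BT.node 3827 (BT.leaf cE3827) (BT.leaf cE3828)))) (BT.node 3833 (BT.node 3831 (BT.node 3830 (BT.node 3829 (BT.leaf cE3829) (BT.leaf cE3830)) (BT.leaf cE3831)) (BT.node 3832 (BT.leaf cE3832) (BT.leaf cE3833))) (BT.node 3836 (BT.node 3835 (BT.node 3834 (BT.leaf cE3834) (BT.leaf cE3835)) (BT.leaf cE3836)) (BT.node 3837 (BT.leaf cE3837) (BT.leaf cE3838)))))) (BT.node 3858 (BT.node 3848 (BT.node 3843 (BT.node 3841 (BT.node 3840 (BT.node 3839 (BT.leaf cE3839) (BT.leaf cE3840)) (BT.leaf cE3841)) (BT.node 3842 (BT.leaf cE3842) (BT.leaf cE3843))) (BT.node 3846 (BT.node 3845 (BT.node 3844 (BT.leaf cE3844) (BT.leaf cE3845)) (BT.leaf cE3846)) (BT.node 3847 (BT.leaf cE3847) (BT.leaf cE3848)))) (BT.node 3853 (BT.node 3851 (BT.node 3850 (BT.node 3849 (BT.leaf cE3849) (BT.leaf cE3850)) (BT.leaf cE3851)) (BT.node 3852 (BT.leaf cE3852) (BT.leaf cE3853)))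 (BT.node 3856 (BT.node 3855 (BT.node 3854 (BT.leaf cE3854) (BT.leaf cE3855)) (BT.leaf cE3856)) (BT.node 3857 (BT.leaf cE3857) (BT.leaf cE3858))))) (BT.node 3868 (BT.node 3863 (BT.node 3861 (BT.node 3860 (BT.node 3859 (BT.leaf cE3859) (BT.leaf cE3860)) (BT.leaf cE3861)) (BT.node 3862 (BT.leaf cE3862) (BT.leaf cE3863))) (BT.node 3866 (BT.node 3865 (BT.node 3864 (BT.leaf cE3864) (BT.leaf cE3865)) (BT.leaf cE3866)) (BT.node 3867 (BT.leaf cE3867) (BT.leaf cE3868)))) (BT.node 3873 (BT.node 3871 (BT.node 3870 (BT.node 3869 (BT.leaf cE3869) (BT.leaf cE3870)) (BT.leaf cE3871)) (BT.node 3872 (BT.leaf cE3872) (BT.leaf cE3873))) (BT.node 3876 (BT.node 3875 (BT.node 3874 (BT.leaf cE3874) (BT.leaf cE3875)) (BT.leaf cE3876)) (BT.node 3877 (BT.leaf cE3877) (BT.leaf cE3878))))))))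
noncomputable def colET_24 : BT ℕ := (BT.node 3959 (BT.node 3919 (BT.node 3899 (BT.node 3889 (BT.node 3884 (BT.node 3881 (BT.node 3880 (BT.node 3879 (BT.leaf cE3879) (BT.leaf cE3880)) (BT.leaf cE3881)) (BT.node 3883 (BT.node 3882 (BT.leaf cE3882) (BT.leaf cE3883)) (BT.leaf cE3884))) (BT.node 3887 (BT.node 3886 (BT.node 3885 (BT.leaf cE3885) (BT.leaf cE3886)) (BT.leaf cE3887)) (BT.node 3888 (BT.leaf cE3888) (BT.leaf cE3889)))) (BT.node 3894 (BT.node 3892 (BT.node 3891 (BT.node 3890 (BT.leaf cE3890) (BT.leaf cE3891)) (BT.leaf cE3892)) (BT.node 3893 (BT.leaf cE3893) (BT.leaf cE3894))) (BT.node 3897 (BT.node 3896 (BT.node 3895 (BT.leaf cE3895) (BT.leaf cE3896)) (BT.leaf cE3897)) (BT.node 3898 (BT.leaf cE3898) (BT.leaf cE3899))))) (BT.node 3909 (BT.node 3904 (BT.node 3902 (BT.node 3901 (BT.node 3900 (BT.leaf cE3900) (BT.leaf cE3901)) (BT.leaf cE3902)) (BT.node 3903 (BT.leaf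 cE3903) (BT.leaf cE3904))) (BT.node 3907 (BT.node 3906 (BT.node 3905 (BT.leaf cE3905) (BT.leaf cE3906)) (BT.leaf cE3907)) (BT.node 3908 (BT.leaf cE3908) (BT.leaf cE3909)))) (BT.node 3914 (BT.node 3912 (BT.node 3911 (BT.node 3910 (BT.leaf cE3910) (BT.leaf cE3911)) (BT.leaf cE3912)) (BT.node 3913 (BT.leaf cE3913) (BT.leaf cE3914))) (BT.node 3917 (BT.node 3916 (BT.node 3915 (BT.leaf cE3915) (BT.leaf cE3916)) (BT.leaf cE3917)) (BT.node 3918 (BT.leaf cE3918) (BT.leaf cE3919)))))) (BT.node 3939 (BT.node 3929 (BT.node 3924 (BT.node 3922 (BT.node 3921 (BT.node 3920 (BT.leaf cE3920) (BT.leaf cE3921)) (BT.leaf cE3922)) (BT.node 3923 (BT.leaf cE3923) (BT.leaf cE3924))) (BT.node 3927 (BT.node 3926 (BT.node 3925 (BT.leaf cE3925) (BT.leaf cE3926)) (BT.leaf cE3927)) (BT.node 3928 (BT.leaf cE3928) (BT.leaf cE3929)))) (BT.node 3934 (BT.node 3932 (BT.node 3931 (BT.node 3930 (BT.leaf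 cE3930) (BT.leaf cE3931)) (BT.leaf cE3932)) (BT.node 3933 (BT.leaf cE3933) (BT.leaf cE3934))) (BT.node 3937 (BT.node 3936 (BT.node 3935 (BT.leaf cE3935) (BT.leaf cE3936)) (BT.leaf cE3937)) (BT.node 3938 (BT.leaf cE3938) (BT.leaf cE3939))))) (BT.node 3949 (BT.node 3944 (BT.node 3942 (BT.node 3941 (BT.node 3940 (BT.leaf cE3940) (BT.leaf cE3941)) (BT.leaf cE3942)) (BT.node 3943 (BT.leaf cE3943) (BT.leaf cE3944))) (BT.node 3947 (BT.node 3946 (BT.node 3945 (BT.leaf cE3945) (BT.leaf cE3946)) (BT.leaf cE3947)) (BT.node 3948 (BT.leaf cE3948) (BT.leaf cE3949)))) (BT.node 3954 (BT.node 3952 (BT.node 3951 (BT.node 3950 (BT.leaf cE3950) (BT.leaf cE3951)) (BT.leaf cE3952)) (BT.node 3953 (BT.leaf cE3953) (BT.leaf cE3954))) (BT.node 3957 (BT.node 3956 (BT.node 3955 (BT.leaf cE3955) (BT.leaf cE3956)) (BT.leaf cE3957)) (BT.node 3958 (BT.leaf cE3958) (BT.leaf cE3959))))))) (BT.node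 4000 (BT.node 3980 (BT.node 3970 (BT.node 3965 (BT.node 3962 (BT.node 3961 (BT.node 3960 (BT.leaf cE3960) (BT.leaf cE3961)) (BT.leaf cE3962)) (BT.node 3964 (BT.node 3963 (BT.leaf cE3963) (BT.leaf cE3964)) (BT.leaf cE3965))) (BT.node 3968 (BT.node 3967 (BT.node 3966 (BT.leaf cE3966) (BT.leaf cE3967)) (BT.leaf cE3968)) (BT.node 3969 (BT.leaf cE3969) (BT.leaf cE3970)))) (BT.node 3975 (BT.node 3973 (BT.node 3972 (BT.node 3971 (BT.leaf cE3971) (BT.leaf cE3972)) (BT.leaf cE3973)) (BT.node 3974 (BT.leaf cE3974) (BT.leaf cE3975))) (BT.node 3978 (BT.node 3977 (BT.node 3976 (BT.leaf cE3976) (BT.leaf cE3977)) (BT.leaf cE3978)) (BT.node 3979 (BT.leaf cE3979) (BT.leaf cE3980))))) (BT.node 3990 (BT.node 3985 (BT.node 3983 (BT.node 3982 (BT.node 3981 (BT.leaf cE3981) (BT.leaf cE3982)) (BT.leaf cE3983)) (BT.node 3984 (BT.leaf cE3984) (BT.leaf cE3985))) (BT.node 3988 (BT.node 3987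 (BT.node 3986 (BT.leaf cE3986) (BT.leaf cE3987)) (BT.leaf cE3988)) (BT.node 3989 (BT.leaf cE3989) (BT.leaf cE3990)))) (BT.node 3995 (BT.node 3993 (BT.node 3992 (BT.node 3991 (BT.leaf cE3991) (BT.leaf cE3992)) (BT.leaf cE3993)) (BT.node 3994 (BT.leaf cE3994) (BT.leaf cE3995))) (BT.node 3998 (BT.node 3997 (BT.node 3996 (BT.leaf cE3996) (BT.leaf cE3997)) (BT.leaf cE3998)) (BT.node 3999 (BT.leaf cE3999) (BT.leaf cE4000)))))) (BT.node 4020 (BT.node 4010 (BT.node 4005 (BT.node 4003 (BT.node 4002 (BT.node 4001 (BT.leaf cE4001) (BT.leaf cE4002)) (BT.leaf cE4003)) (BT.node 4004 (BT.leaf cE4004) (BT.leaf cE4005))) (BT.node 4008 (BT.node 4007 (BT.node 4006 (BT.leaf cE4006) (BT.leaf cE4007)) (BT.leaf cE4008)) (BT.node 4009 (BT.leaf cE4009) (BT.leaf cE4010)))) (BT.node 4015 (BT.node 4013 (BT.node 4012 (BT.node 4011 (BT.leaf cE4011) (BT.leaf cE4012)) (BT.leaf cE4013)) (BT.node 4014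 (BT.leaf cE4014) (BT.leaf cE4015))) (BT.node 4018 (BT.node 4017 (BT.node 4016 (BT.leaf cE4016) (BT.leaf cE4017)) (BT.leaf cE4018)) (BT.node 4019 (BT.leaf cE4019) (BT.leaf cE4020))))) (BT.node 4030 (BT.node 4025 (BT.node 4023 (BT.node 4022 (BT.node 4021 (BT.leaf cE4021) (BT.leaf cE4022)) (BT.leaf cE4023)) (BT.node 4024 (BT.leaf cE4024) (BT.leaf cE4025))) (BT.node 4028 (BT.node 4027 (BT.node 4026 (BT.leaf cE4026) (BT.leaf cE4027)) (BT.leaf cE4028)) (BT.node 4029 (BT.leaf cE4029) (BT.leaf cE4030)))) (BT.node 4035 (BT.node 4033 (BT.node 4032 (BT.node 4031 (BT.leaf cE4031) (BT.leaf cE4032)) (BT.leaf cE4033)) (BT.node 4034 (BT.leaf cE4034) (BT.leaf cE4035))) (BT.node 4038 (BT.node 4037 (BT.node 4036 (BT.leaf cE4036) (BT.leaf cE4037)) (BT.leaf cE4038)) (BT.node 4039 (BT.leaf cE4039) (BT.leaf cE4040))))))))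
noncomputable def colET_25 : BT ℕ := (BT.node 4121 (BT.node 4081 (BT.node 4061 (BT.node 4051 (BT.node 4046 (BT.node 4043 (BT.node 4042 (BT.node 4041 (BT.leaf cE4041) (BT.leaf cE4042)) (BT.leaf cE4043)) (BT.node 4045 (BT.node 4044 (BT.leaf cE4044) (BT.leaf cE4045)) (BT.leaf cE4046))) (BT.node 4049 (BT.node 4048 (BT.node 4047 (BT.leaf cE4047) (BT.leaf cE4048)) (BT.leaf cE4049)) (BT.node 4050 (BT.leaf cE4050) (BT.leaf cE4051)))) (BT.node 4056 (BT.node 4054 (BT.node 4053 (BT.node 4052 (BT.leaf cE4052) (BT.leaf cE4053)) (BT.leaf cE4054)) (BT.node 4055 (BT.leaf cE4055) (BT.leaf cE4056))) (BT.node 4059 (BT.node 4058 (BT.node 4057 (BT.leaf cE4057) (BT.leaf cE4058)) (BT.leaf cE4059)) (BT.node 4060 (BT.leaf cE4060) (BT.leaf cE4061))))) (BT.node 4071 (BT.node 4066 (BT.node 4064 (BT.node 4063 (BT.node 4062 (BT.leaf cE4062) (BT.leaf cE4063)) (BT.leaf cE4064)) (BT.node 4065 (BT.leaf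 cE4065) (BT.leaf cE4066))) (BT.node 4069 (BT.node 4068 (BT.node 4067 (BT.leaf cE4067) (BT.leaf cE4068)) (BT.leaf cE4069)) (BT.node 4070 (BT.leaf cE4070) (BT.leaf cE4071)))) (BT.node 4076 (BT.node 4074 (BT.node 4073 (BT.node 4072 (BT.leaf cE4072) (BT.leaf cE4073)) (BT.leaf cE4074)) (BT.node 4075 (BT.leaf cE4075) (BT.leaf cE4076))) (BT.node 4079 (BT.node 4078 (BT.node 4077 (BT.leaf cE4077) (BT.leaf cE4078)) (BT.leaf cE4079)) (BT.node 4080 (BT.leaf cE4080) (BT.leaf cE4081)))))) (BT.node 4101 (BT.node 4091 (BT.node 4086 (BT.node 4084 (BT.node 4083 (BT.node 4082 (BT.leaf cE4082) (BT.leaf cE4083)) (BT.leaf cE4084)) (BT.node 4085 (BT.leaf cE4085) (BT.leaf cE4086))) (BT.node 4089 (BT.node 4088 (BT.node 4087 (BT.leaf cE4087) (BT.leaf cE4088)) (BT.leaf cE4089)) (BT.node 4090 (BT.leaf cE4090) (BT.leaf cE4091)))) (BT.node 4096 (BT.node 4094 (BT.node 4093 (BT.node 4092 (BT.leaf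 cE4092) (BT.leaf cE4093)) (BT.leaf cE4094)) (BT.node 4095 (BT.leaf cE4095) (BT.leaf cE4096))) (BT.node 4099 (BT.node 4098 (BT.node 4097 (BT.leaf cE4097) (BT.leaf cE4098)) (BT.leaf cE4099)) (BT.node 4100 (BT.leaf cE4100) (BT.leaf cE4101))))) (BT.node 4111 (BT.node 4106 (BT.node 4104 (BT.node 4103 (BT.node 4102 (BT.leaf cE4102) (BT.leaf cE4103)) (BT.leaf cE4104)) (BT.node 4105 (BT.leaf cE4105) (BT.leaf cE4106))) (BT.node 4109 (BT.node 4108 (BT.node 4107 (BT.leaf cE4107) (BT.leaf cE4108)) (BT.leaf cE4109)) (BT.node 4110 (BT.leaf cE4110) (BT.leaf cE4111)))) (BT.node 4116 (BT.node 4114 (BT.node 4113 (BT.node 4112 (BT.leaf cE4112) (BT.leaf cE4113)) (BT.leaf cE4114)) (BT.node 4115 (BT.leaf cE4115) (BT.leaf cE4116))) (BT.node 4119 (BT.node 4118 (BT.node 4117 (BT.leaf cE4117) (BT.leaf cE4118)) (BT.leaf cE4119)) (BT.node 4120 (BT.leaf cE4120) (BT.leaf cE4121))))))) (BT.node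 4161 (BT.node 4141 (BT.node 4131 (BT.node 4126 (BT.node 4124 (BT.node 4123 (BT.node 4122 (BT.leaf cE4122) (BT.leaf cE4123)) (BT.leaf cE4124)) (BT.node 4125 (BT.leaf cE4125) (BT.leaf cE4126))) (BT.node 4129 (BT.node 4128 (BT.node 4127 (BT.leaf cE4127) (BT.leaf cE4128)) (BT.leaf cE4129)) (BT.node 4130 (BT.leaf cE4130) (BT.leaf cE4131)))) (BT.node 4136 (BT.node 4134 (BT.node 4133 (BT.node 4132 (BT.leaf cE4132) (BT.leaf cE4133)) (BT.leaf cE4134)) (BT.node 4135 (BT.leaf cE4135) (BT.leaf cE4136))) (BT.node 4139 (BT.node 4138 (BT.node 4137 (BT.leaf cE4137) (BT.leaf cE4138)) (BT.leaf cE4139)) (BT.node 4140 (BT.leaf cE4140) (BT.leaf cE4141))))) (BT.node 4151 (BT.node 4146 (BT.node 4144 (BT.node 4143 (BT.node 4142 (BT.leaf cE4142) (BT.leaf cE4143)) (BT.leaf cE4144)) (BT.node 4145 (BT.leaf cE4145) (BT.leaf cE4146))) (BT.node 4149 (BT.node 4148 (BT.node 4147 (BT.leaf cE4147) (BT.leaf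 cE4148)) (BT.leaf cE4149)) (BT.node 4150 (BT.leaf cE4150) (BT.leaf cE4151)))) (BT.node 4156 (BT.node 4154 (BT.node 4153 (BT.node 4152 (BT.leaf cE4152) (BT.leaf cE4153)) (BT.leaf cE4154)) (BT.node 4155 (BT.leaf cE4155) (BT.leaf cE4156))) (BT.node 4159 (BT.node 4158 (BT.node 4157 (BT.leaf cE4157) (BT.leaf cE4158)) (BT.leaf cE4159)) (BT.node 4160 (BT.leaf cE4160) (BT.leaf cE4161)))))) (BT.node 4181 (BT.node 4171 (BT.node 4166 (BT.node 4164 (BT.node 4163 (BT.node 4162 (BT.leaf cE4162) (BT.leaf cE4163)) (BT.leaf cE4164)) (BT.node 4165 (BT.leaf cE4165) (BT.leaf cE4166))) (BT.node 4169 (BT.node 4168 (BT.node 4167 (BT.leaf cE4167) (BT.leaf cE4168)) (BT.leaf cE4169)) (BT.node 4170 (BT.leaf cE4170) (BT.leaf cE4171)))) (BT.node 4176 (BT.node 4174 (BT.node 4173 (BT.node 4172 (BT.leaf cE4172) (BT.leaf cE4173)) (BT.leaf cE4174)) (BT.node 4175 (BT.leaf cE4175) (BT.leaf cE4176)))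 (BT.node 4179 (BT.node 4178 (BT.node 4177 (BT.leaf cE4177) (BT.leaf cE4178)) (BT.leaf cE4179)) (BT.node 4180 (BT.leaf cE4180) (BT.leaf cE4181))))) (BT.node 4191 (BT.node 4186 (BT.node 4184 (BT.node 4183 (BT.node 4182 (BT.leaf cE4182) (BT.leaf cE4183)) (BT.leaf cE4184)) (BT.node 4185 (BT.leaf cE4185) (BT.leaf cE4186))) (BT.node 4189 (BT.node 4188 (BT.node 4187 (BT.leaf cE4187) (BT.leaf cE4188)) (BT.leaf cE4189)) (BT.node 4190 (BT.leaf cE4190) (BT.leaf cE4191)))) (BT.node 4196 (BT.node 4194 (BT.node 4193 (BT.node 4192 (BT.leaf cE4192) (BT.leaf cE4193)) (BT.leaf cE4194)) (BT.node 4195 (BT.leaf cE4195) (BT.leaf cE4196))) (BT.node 4199 (BT.node 4198 (BT.node 4197 (BT.leaf cE4197) (BT.leaf cE4198)) (BT.leaf cE4199)) (BT.node 4200 (BT.leaf cE4200) (BT.leaf cE4201))))))))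
noncomputable def colET_26 : BT ℕ := (BT.node 4282 (BT.node 4242 (BT.node 4222 (BT.node 4212 (BT.node 4207 (BT.node 4204 (BT.node 4203 (BT.node 4202 (BT.leaf cE4202) (BT.leaf cE4203)) (BT.leaf cE4204)) (BT.node 4206 (BT.node 4205 (BT.leaf cE4205) (BT.leaf cE4206)) (BT.leaf cE4207))) (BT.node 4210 (BT.node 4209 (BT.node 4208 (BT.leaf cE4208) (BT.leaf cE4209)) (BT.leaf cE4210)) (BT.node 4211 (BT.leaf cE4211) (BT.leaf cE4212)))) (BT.node 4217 (BT.node 4215 (BT.node 4214 (BT.node 4213 (BT.leaf cE4213) (BT.leaf cE4214)) (BT.leaf cE4215)) (BT.node 4216 (BT.leaf cE4216) (BT.leaf cE4217))) (BT.node 4220 (BT.node 4219 (BT.node 4218 (BT.leaf cE4218) (BT.leaf cE4219)) (BT.leaf cE4220)) (BT.node 4221 (BT.leaf cE4221) (BT.leaf cE4222))))) (BT.node 4232 (BT.node 4227 (BT.node 4225 (BT.node 4224 (BT.node 4223 (BT.leaf cE4223) (BT.leaf cE4224)) (BT.leaf cE4225)) (BT.node 4226 (BT.leaf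 cE4226) (BT.leaf cE4227))) (BT.node 4230 (BT.node 4229 (BT.node 4228 (BT.leaf cE4228) (BT.leaf cE4229)) (BT.leaf cE4230)) (BT.node 4231 (BT.leaf cE4231) (BT.leaf cE4232)))) (BT.node 4237 (BT.node 4235 (BT.node 4234 (BT.node 4233 (BT.leaf cE4233) (BT.leaf cE4234)) (BT.leaf cE4235)) (BT.node 4236 (BT.leaf cE4236) (BT.leaf cE4237))) (BT.node 4240 (BT.node 4239 (BT.node 4238 (BT.leaf cE4238) (BT.leaf cE4239)) (BT.leaf cE4240)) (BT.node 4241 (BT.leaf cE4241) (BT.leaf cE4242)))))) (BT.node 4262 (BT.node 4252 (BT.node 4247 (BT.node 4245 (BT.node 4244 (BT.node 4243 (BT.leaf cE4243) (BT.leaf cE4244)) (BT.leaf cE4245)) (BT.node 4246 (BT.leaf cE4246) (BT.leaf cE4247))) (BT.node 4250 (BT.node 4249 (BT.node 4248 (BT.leaf cE4248) (BT.leaf cE4249)) (BT.leaf cE4250)) (BT.node 4251 (BT.leaf cE4251) (BT.leaf cE4252)))) (BT.node 4257 (BT.node 4255 (BT.node 4254 (BT.node 4253 (BT.leaf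 cE4253) (BT.leaf cE4254)) (BT.leaf cE4255)) (BT.node 4256 (BT.leaf cE4256) (BT.leaf cE4257))) (BT.node 4260 (BT.node 4259 (BT.node 4258 (BT.leaf cE4258) (BT.leaf cE4259)) (BT.leaf cE4260)) (BT.node 4261 (BT.leaf cE4261) (BT.leaf cE4262))))) (BT.node 4272 (BT.node 4267 (BT.node 4265 (BT.node 4264 (BT.node 4263 (BT.leaf cE4263) (BT.leaf cE4264)) (BT.leaf cE4265)) (BT.node 4266 (BT.leaf cE4266) (BT.leaf cE4267))) (BT.node 4270 (BT.node 4269 (BT.node 4268 (BT.leaf cE4268) (BT.leaf cE4269)) (BT.leaf cE4270)) (BT.node 4271 (BT.leaf cE4271) (BT.leaf cE4272)))) (BT.node 4277 (BT.node 4275 (BT.node 4274 (BT.node 4273 (BT.leaf cE4273) (BT.leaf cE4274)) (BT.leaf cE4275)) (BT.node 4276 (BT.leaf cE4276) (BT.leaf cE4277))) (BT.node 4280 (BT.node 4279 (BT.node 4278 (BT.leaf cE4278) (BT.leaf cE4279)) (BT.leaf cE4280)) (BT.node 4281 (BT.leaf cE4281) (BT.leaf cE4282))))))) (BT.node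 4323 (BT.node 4303 (BT.node 4293 (BT.node 4288 (BT.node 4285 (BT.node 4284 (BT.node 4283 (BT.leaf cE4283) (BT.leaf cE4284)) (BT.leaf cE4285)) (BT.node 4287 (BT.node 4286 (BT.leaf cE4286) (BT.leaf cE4287)) (BT.leaf cE4288))) (BT.node 4291 (BT.node 4290 (BT.node 4289 (BT.leaf cE4289) (BT.leaf cE4290)) (BT.leaf cE4291)) (BT.node 4292 (BT.leaf cE4292) (BT.leaf cE4293)))) (BT.node 4298 (BT.node 4296 (BT.node 4295 (BT.node 4294 (BT.leaf cE4294) (BT.leaf cE4295)) (BT.leaf cE4296)) (BT.node 4297 (BT.leaf cE4297) (BT.leaf cE4298))) (BT.node 4301 (BT.node 4300 (BT.node 4299 (BT.leaf cE4299) (BT.leaf cE4300)) (BT.leaf cE4301)) (BT.node 4302 (BT.leaf cE4302) (BT.leaf cE4303))))) (BT.node 4313 (BT.node 4308 (BT.node 4306 (BT.node 4305 (BT.node 4304 (BT.leaf cE4304) (BT.leaf cE4305)) (BT.leaf cE4306)) (BT.node 4307 (BT.leaf cE4307) (BT.leaf cE4308))) (BT.node 4311 (BT.node 4310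 (BT.node 4309 (BT.leaf cE4309) (BT.leaf cE4310)) (BT.leaf cE4311)) (BT.node 4312 (BT.leaf cE4312) (BT.leaf cE4313)))) (BT.node 4318 (BT.node 4316 (BT.node 4315 (BT.node 4314 (BT.leaf cE4314) (BT.leaf cE4315)) (BT.leaf cE4316)) (BT.node 4317 (BT.leaf cE4317) (BT.leaf cE4318))) (BT.node 4321 (BT.node 4320 (BT.node 4319 (BT.leaf cE4319) (BT.leaf cE4320)) (BT.leaf cE4321)) (BT.node 4322 (BT.leaf cE4322) (BT.leaf cE4323)))))) (BT.node 4343 (BT.node 4333 (BT.node 4328 (BT.node 4326 (BT.node 4325 (BT.node 4324 (BT.leaf cE4324) (BT.leaf cE4325)) (BT.leaf cE4326)) (BT.node 4327 (BT.leaf cE4327) (BT.leaf cE4328))) (BT.node 4331 (BT.node 4330 (BT.node 4329 (BT.leaf cE4329) (BT.leaf cE4330)) (BT.leaf cE4331)) (BT.node 4332 (BT.leaf cE4332) (BT.leaf cE4333)))) (BT.node 4338 (BT.node 4336 (BT.node 4335 (BT.node 4334 (BT.leaf cE4334) (BT.leaf cE4335)) (BT.leaf cE4336)) (BT.node 4337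 (BT.leaf cE4337) (BT.leaf cE4338))) (BT.node 4341 (BT.node 4340 (BT.node 4339 (BT.leaf cE4339) (BT.leaf cE4340)) (BT.leaf cE4341)) (BT.node 4342 (BT.leaf cE4342) (BT.leaf cE4343))))) (BT.node 4353 (BT.node 4348 (BT.node 4346 (BT.node 4345 (BT.node 4344 (BT.leaf cE4344) (BT.leaf cE4345)) (BT.leaf cE4346)) (BT.node 4347 (BT.leaf cE4347) (BT.leaf cE4348))) (BT.node 4351 (BT.node 4350 (BT.node 4349 (BT.leaf cE4349) (BT.leaf cE4350)) (BT.leaf cE4351)) (BT.node 4352 (BT.leaf cE4352) (BT.leaf cE4353)))) (BT.node 4358 (BT.node 4356 (BT.node 4355 (BT.node 4354 (BT.leaf cE4354) (BT.leaf cE4355)) (BT.leaf cE4356)) (BT.node 4357 (BT.leaf cE4357) (BT.leaf cE4358))) (BT.node 4361 (BT.node 4360 (BT.node 4359 (BT.leaf cE4359) (BT.leaf cE4360)) (BT.leaf cE4361)) (BT.node 4362 (BT.leaf cE4362) (BT.leaf cE4363))))))))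
noncomputable def colET_27 : BT ℕ := (BT.node 4444 (BT.node 4404 (BT.node 4384 (BT.node 4374 (BT.node 4369 (BT.node 4366 (BT.node 4365 (BT.node 4364 (BT.leaf cE4364) (BT.leaf cE4365)) (BT.leaf cE4366)) (BT.node 4368 (BT.node 4367 (BT.leaf cE4367) (BT.leaf cE4368)) (BT.leaf cE4369))) (BT.node 4372 (BT.node 4371 (BT.node 4370 (BT.leaf cE4370) (BT.leaf cE4371)) (BT.leaf cE4372)) (BT.node 4373 (BT.leaf cE4373) (BT.leaf cE4374)))) (BT.node 4379 (BT.node 4377 (BT.node 4376 (BT.node 4375 (BT.leaf cE4375) (BT.leaf cE4376)) (BT.leaf cE4377)) (BT.node 4378 (BT.leaf cE4378) (BT.leaf cE4379))) (BT.node 4382 (BT.node 4381 (BT.node 4380 (BT.leaf cE4380) (BT.leaf cE4381)) (BT.leaf cE4382)) (BT.node 4383 (BT.leaf cE4383) (BT.leaf cE4384))))) (BT.node 4394 (BT.node 4389 (BT.node 4387 (BT.node 4386 (BT.node 4385 (BT.leaf cE4385) (BT.leaf cE4386)) (BT.leaf cE4387)) (BT.node 4388 (BT.leaf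 cE4388) (BT.leaf cE4389))) (BT.node 4392 (BT.node 4391 (BT.node 4390 (BT.leaf cE4390) (BT.leaf cE4391)) (BT.leaf cE4392)) (BT.node 4393 (BT.leaf cE4393) (BT.leaf cE4394)))) (BT.node 4399 (BT.node 4397 (BT.node 4396 (BT.node 4395 (BT.leaf cE4395) (BT.leaf cE4396)) (BT.leaf cE4397)) (BT.node 4398 (BT.leaf cE4398) (BT.leaf cE4399))) (BT.node 4402 (BT.node 4401 (BT.node 4400 (BT.leaf cE4400) (BT.leaf cE4401)) (BT.leaf cE4402)) (BT.node 4403 (BT.leaf cE4403) (BT.leaf cE4404)))))) (BT.node 4424 (BT.node 4414 (BT.node 4409 (BT.node 4407 (BT.node 4406 (BT.node 4405 (BT.leaf cE4405) (BT.leaf cE4406)) (BT.leaf cE4407)) (BT.node 4408 (BT.leaf cE4408) (BT.leaf cE4409))) (BT.node 4412 (BT.node 4411 (BT.node 4410 (BT.leaf cE4410) (BT.leaf cE4411)) (BT.leaf cE4412)) (BT.node 4413 (BT.leaf cE4413) (BT.leaf cE4414)))) (BT.node 4419 (BT.node 4417 (BT.node 4416 (BT.node 4415 (BT.leaf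 cE4415) (BT.leaf cE4416)) (BT.leaf cE4417)) (BT.node 4418 (BT.leaf cE4418) (BT.leaf cE4419))) (BT.node 4422 (BT.node 4421 (BT.node 4420 (BT.leaf cE4420) (BT.leaf cE4421)) (BT.leaf cE4422)) (BT.node 4423 (BT.leaf cE4423) (BT.leaf cE4424))))) (BT.node 4434 (BT.node 4429 (BT.node 4427 (BT.node 4426 (BT.node 4425 (BT.leaf cE4425) (BT.leaf cE4426)) (BT.leaf cE4427)) (BT.node 4428 (BT.leaf cE4428) (BT.leaf cE4429))) (BT.node 4432 (BT.node 4431 (BT.node 4430 (BT.leaf cE4430) (BT.leaf cE4431)) (BT.leaf cE4432)) (BT.node 4433 (BT.leaf cE4433) (BT.leaf cE4434)))) (BT.node 4439 (BT.node 4437 (BT.node 4436 (BT.node 4435 (BT.leaf cE4435) (BT.leaf cE4436)) (BT.leaf cE4437)) (BT.node 4438 (BT.leaf cE4438) (BT.leaf cE4439))) (BT.node 4442 (BT.node 4441 (BT.node 4440 (BT.leaf cE4440) (BT.leaf cE4441)) (BT.leaf cE4442)) (BT.node 4443 (BT.leaf cE4443) (BT.leaf cE4444))))))) (BT.node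 4484 (BT.node 4464 (BT.node 4454 (BT.node 4449 (BT.node 4447 (BT.node 4446 (BT.node 4445 (BT.leaf cE4445) (BT.leaf cE4446)) (BT.leaf cE4447)) (BT.node 4448 (BT.leaf cE4448) (BT.leaf cE4449))) (BT.node 4452 (BT.node 4451 (BT.node 4450 (BT.leaf cE4450) (BT.leaf cE4451)) (BT.leaf cE4452)) (BT.node 4453 (BT.leaf cE4453) (BT.leaf cE4454)))) (BT.node 4459 (BT.node 4457 (BT.node 4456 (BT.node 4455 (BT.leaf cE4455) (BT.leaf cE4456)) (BT.leaf cE4457)) (BT.node 4458 (BT.leaf cE4458) (BT.leaf cE4459))) (BT.node 4462 (BT.node 4461 (BT.node 4460 (BT.leaf cE4460) (BT.leaf cE4461)) (BT.leaf cE4462)) (BT.node 4463 (BT.leaf cE4463) (BT.leaf cE4464))))) (BT.node 4474 (BT.node 4469 (BT.node 4467 (BT.node 4466 (BT.node 4465 (BT.leaf cE4465) (BT.leaf cE4466)) (BT.leaf cE4467)) (BT.node 4468 (BT.leaf cE4468) (BT.leaf cE4469))) (BT.node 4472 (BT.node 4471 (BT.node 4470 (BT.leaf cE4470) (BT.leaf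 cE4471)) (BT.leaf cE4472)) (BT.node 4473 (BT.leaf cE4473) (BT.leaf cE4474)))) (BT.node 4479 (BT.node 4477 (BT.node 4476 (BT.node 4475 (BT.leaf cE4475) (BT.leaf cE4476)) (BT.leaf cE4477)) (BT.node 4478 (BT.leaf cE4478) (BT.leaf cE4479))) (BT.node 4482 (BT.node 4481 (BT.node 4480 (BT.leaf cE4480) (BT.leaf cE4481)) (BT.leaf cE4482)) (BT.node 4483 (BT.leaf cE4483) (BT.leaf cE4484)))))) (BT.node 4504 (BT.node 4494 (BT.node 4489 (BT.node 4487 (BT.node 4486 (BT.node 4485 (BT.leaf cE4485) (BT.leaf cE4486)) (BT.leaf cE4487)) (BT.node 4488 (BT.leaf cE4488) (BT.leaf cE4489))) (BT.node 4492 (BT.node 4491 (BT.node 4490 (BT.leaf cE4490) (BT.leaf cE4491)) (BT.leaf cE4492)) (BT.node 4493 (BT.leaf cE4493) (BT.leaf cE4494)))) (BT.node 4499 (BT.node 4497 (BT.node 4496 (BT.node 4495 (BT.leaf cE4495) (BT.leaf cE4496)) (BT.leaf cE4497)) (BT.node 4498 (BT.leaf cE4498) (BT.leaf cE4499)))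 (BT.node 4502 (BT.node 4501 (BT.node 4500 (BT.leaf cE4500) (BT.leaf cE4501)) (BT.leaf cE4502)) (BT.node 4503 (BT.leaf cE4503) (BT.leaf cE4504))))) (BT.node 4514 (BT.node 4509 (BT.node 4507 (BT.node 4506 (BT.node 4505 (BT.leaf cE4505) (BT.leaf cE4506)) (BT.leaf cE4507)) (BT.node 4508 (BT.leaf cE4508) (BT.leaf cE4509))) (BT.node 4512 (BT.node 4511 (BT.node 4510 (BT.leaf cE4510) (BT.leaf cE4511)) (BT.leaf cE4512)) (BT.node 4513 (BT.leaf cE4513) (BT.leaf cE4514)))) (BT.node 4519 (BT.node 4517 (BT.node 4516 (BT.node 4515 (BT.leaf cE4515) (BT.leaf cE4516)) (BT.leaf cE4517)) (BT.node 4518 (BT.leaf cE4518) (BT.leaf cE4519))) (BT.node 4522 (BT.node 4521 (BT.node 4520 (BT.leaf cE4520) (BT.leaf cE4521)) (BT.leaf cE4522)) (BT.node 4523 (BT.leaf cE4523) (BT.leaf cE4524))))))))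
noncomputable def colET_28 : BT ℕ := (BT.node 4605 (BT.node 4565 (BT.node 4545 (BT.node 4535 (BT.node 4530 (BT.node 4527 (BT.node 4526 (BT.node 4525 (BT.leaf cE4525) (BT.leaf cE4526)) (BT.leaf cE4527)) (BT.node 4529 (BT.node 4528 (BT.leaf cE4528) (BT.leaf cE4529)) (BT.leaf cE4530))) (BT.node 4533 (BT.node 4532 (BT.node 4531 (BT.leaf cE4531) (BT.leaf cE4532)) (BT.leaf cE4533)) (BT.node 4534 (BT.leaf cE4534) (BT.leaf cE4535)))) (BT.node 4540 (BT.node 4538 (BT.node 4537 (BT.node 4536 (BT.leaf cE4536) (BT.leaf cE4537)) (BT.leaf cE4538)) (BT.node 4539 (BT.leaf cE4539) (BT.leaf cE4540))) (BT.node 4543 (BT.node 4542 (BT.node 4541 (BT.leaf cE4541) (BT.leaf cE4542)) (BT.leaf cE4543)) (BT.node 4544 (BT.leaf cE4544) (BT.leaf cE4545))))) (BT.node 4555 (BT.node 4550 (BT.node 4548 (BT.node 4547 (BT.node 4546 (BT.leaf cE4546) (BT.leaf cE4547)) (BT.leaf cE4548)) (BT.node 4549 (BT.leaf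 cE4549) (BT.leaf cE4550))) (BT.node 4553 (BT.node 4552 (BT.node 4551 (BT.leaf cE4551) (BT.leaf cE4552)) (BT.leaf cE4553)) (BT.node 4554 (BT.leaf cE4554) (BT.leaf cE4555)))) (BT.node 4560 (BT.node 4558 (BT.node 4557 (BT.node 4556 (BT.leaf cE4556) (BT.leaf cE4557)) (BT.leaf cE4558)) (BT.node 4559 (BT.leaf cE4559) (BT.leaf cE4560))) (BT.node 4563 (BT.node 4562 (BT.node 4561 (BT.leaf cE4561) (BT.leaf cE4562)) (BT.leaf cE4563)) (BT.node 4564 (BT.leaf cE4564) (BT.leaf cE4565)))))) (BT.node 4585 (BT.node 4575 (BT.node 4570 (BT.node 4568 (BT.node 4567 (BT.node 4566 (BT.leaf cE4566) (BT.leaf cE4567)) (BT.leaf cE4568)) (BT.node 4569 (BT.leaf cE4569) (BT.leaf cE4570))) (BT.node 4573 (BT.node 4572 (BT.node 4571 (BT.leaf cE4571) (BT.leaf cE4572)) (BT.leaf cE4573)) (BT.node 4574 (BT.leaf cE4574) (BT.leaf cE4575)))) (BT.node 4580 (BT.node 4578 (BT.node 4577 (BT.node 4576 (BT.leaf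 cE4576) (BT.leaf cE4577)) (BT.leaf cE4578)) (BT.node 4579 (BT.leaf cE4579) (BT.leaf cE4580))) (BT.node 4583 (BT.node 4582 (BT.node 4581 (BT.leaf cE4581) (BT.leaf cE4582)) (BT.leaf cE4583)) (BT.node 4584 (BT.leaf cE4584) (BT.leaf cE4585))))) (BT.node 4595 (BT.node 4590 (BT.node 4588 (BT.node 4587 (BT.node 4586 (BT.leaf cE4586) (BT.leaf cE4587)) (BT.leaf cE4588)) (BT.node 4589 (BT.leaf cE4589) (BT.leaf cE4590))) (BT.node 4593 (BT.node 4592 (BT.node 4591 (BT.leaf cE4591) (BT.leaf cE4592)) (BT.leaf cE4593)) (BT.node 4594 (BT.leaf cE4594) (BT.leaf cE4595)))) (BT.node 4600 (BT.node 4598 (BT.node 4597 (BT.node 4596 (BT.leaf cE4596) (BT.leaf cE4597)) (BT.leaf cE4598)) (BT.node 4599 (BT.leaf cE4599) (BT.leaf cE4600))) (BT.node 4603 (BT.node 4602 (BT.node 4601 (BT.leaf cE4601) (BT.leaf cE4602)) (BT.leaf cE4603)) (BT.node 4604 (BT.leaf cE4604) (BT.leaf cE4605))))))) (BT.node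 4646 (BT.node 4626 (BT.node 4616 (BT.node 4611 (BT.node 4608 (BT.node 4607 (BT.node 4606 (BT.leaf cE4606) (BT.leaf cE4607)) (BT.leaf cE4608)) (BT.node 4610 (BT.node 4609 (BT.leaf cE4609) (BT.leaf cE4610)) (BT.leaf cE4611))) (BT.node 4614 (BT.node 4613 (BT.node 4612 (BT.leaf cE4612) (BT.leaf cE4613)) (BT.leaf cE4614)) (BT.node 4615 (BT.leaf cE4615) (BT.leaf cE4616)))) (BT.node 4621 (BT.node 4619 (BT.node 4618 (BT.node 4617 (BT.leaf cE4617) (BT.leaf cE4618)) (BT.leaf cE4619)) (BT.node 4620 (BT.leaf cE4620) (BT.leaf cE4621))) (BT.node 4624 (BT.node 4623 (BT.node 4622 (BT.leaf cE4622) (BT.leaf cE4623)) (BT.leaf cE4624)) (BT.node 4625 (BT.leaf cE4625) (BT.leaf cE4626))))) (BT.node 4636 (BT.node 4631 (BT.node 4629 (BT.node 4628 (BT.node 4627 (BT.leaf cE4627) (BT.leaf cE4628)) (BT.leaf cE4629)) (BT.node 4630 (BT.leaf cE4630) (BT.leaf cE4631))) (BT.node 4634 (BT.node 4633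 (BT.node 4632 (BT.leaf cE4632) (BT.leaf cE4633)) (BT.leaf cE4634)) (BT.node 4635 (BT.leaf cE4635) (BT.leaf cE4636)))) (BT.node 4641 (BT.node 4639 (BT.node 4638 (BT.node 4637 (BT.leaf cE4637) (BT.leaf cE4638)) (BT.leaf cE4639)) (BT.node 4640 (BT.leaf cE4640) (BT.leaf cE4641))) (BT.node 4644 (BT.node 4643 (BT.node 4642 (BT.leaf cE4642) (BT.leaf cE4643)) (BT.leaf cE4644)) (BT.node 4645 (BT.leaf cE4645) (BT.leaf cE4646)))))) (BT.node 4666 (BT.node 4656 (BT.node 4651 (BT.node 4649 (BT.node 4648 (BT.node 4647 (BT.leaf cE4647) (BT.leaf cE4648)) (BT.leaf cE4649)) (BT.node 4650 (BT.leaf cE4650) (BT.leaf cE4651))) (BT.node 4654 (BT.node 4653 (BT.node 4652 (BT.leaf cE4652) (BT.leaf cE4653)) (BT.leaf cE4654)) (BT.node 4655 (BT.leaf cE4655) (BT.leaf cE4656)))) (BT.node 4661 (BT.node 4659 (BT.node 4658 (BT.node 4657 (BT.leaf cE4657) (BT.leaf cE4658)) (BT.leaf cE4659)) (BT.node 4660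 (BT.leaf cE4660) (BT.leaf cE4661))) (BT.node 4664 (BT.node 4663 (BT.node 4662 (BT.leaf cE4662) (BT.leaf cE4663)) (BT.leaf cE4664)) (BT.node 4665 (BT.leaf cE4665) (BT.leaf cE4666))))) (BT.node 4676 (BT.node 4671 (BT.node 4669 (BT.node 4668 (BT.node 4667 (BT.leaf cE4667) (BT.leaf cE4668)) (BT.leaf cE4669)) (BT.node 4670 (BT.leaf cE4670) (BT.leaf cE4671))) (BT.node 4674 (BT.node 4673 (BT.node 4672 (BT.leaf cE4672) (BT.leaf cE4673)) (BT.leaf cE4674)) (BT.node 4675 (BT.leaf cE4675) (BT.leaf cE4676)))) (BT.node 4681 (BT.node 4679 (BT.node 4678 (BT.node 4677 (BT.leaf cE4677) (BT.leaf cE4678)) (BT.leaf cE4679)) (BT.node 4680 (BT.leaf cE4680) (BT.leaf cE4681))) (BT.node 4684 (BT.node 4683 (BT.node 4682 (BT.leaf cE4682) (BT.leaf cE4683)) (BT.leaf cE4684)) (BT.node 4685 (BT.leaf cE4685) (BT.leaf cE4686))))))))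
noncomputable def colET_29 : BT ℕ := (BT.node 4767 (BT.node 4727 (BT.node 4707 (BT.node 4697 (BT.node 4692 (BT.node 4689 (BT.node 4688 (BT.node 4687 (BT.leaf cE4687) (BT.leaf cE4688)) (BT.leaf cE4689)) (BT.node 4691 (BT.node 4690 (BT.leaf cE4690) (BT.leaf cE4691)) (BT.leaf cE4692))) (BT.node 4695 (BT.node 4694 (BT.node 4693 (BT.leaf cE4693) (BT.leaf cE4694)) (BT.leaf cE4695)) (BT.node 4696 (BT.leaf cE4696) (BT.leaf cE4697)))) (BT.node 4702 (BT.node 4700 (BT.node 4699 (BT.node 4698 (BT.leaf cE4698) (BT.leaf cE4699)) (BT.leaf cE4700)) (BT.node 4701 (BT.leaf cE4701) (BT.leaf cE4702))) (BT.node 4705 (BT.node 4704 (BT.node 4703 (BT.leaf cE4703) (BT.leaf cE4704)) (BT.leaf cE4705)) (BT.node 4706 (BT.leaf cE4706) (BT.leaf cE4707))))) (BT.node 4717 (BT.node 4712 (BT.node 4710 (BT.node 4709 (BT.node 4708 (BT.leaf cE4708) (BT.leaf cE4709)) (BT.leaf cE4710)) (BT.node 4711 (BT.leaf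 cE4711) (BT.leaf cE4712))) (BT.node 4715 (BT.node 4714 (BT.node 4713 (BT.leaf cE4713) (BT.leaf cE4714)) (BT.leaf cE4715)) (BT.node 4716 (BT.leaf cE4716) (BT.leaf cE4717)))) (BT.node 4722 (BT.node 4720 (BT.node 4719 (BT.node 4718 (BT.leaf cE4718) (BT.leaf cE4719)) (BT.leaf cE4720)) (BT.node 4721 (BT.leaf cE4721) (BT.leaf cE4722))) (BT.node 4725 (BT.node 4724 (BT.node 4723 (BT.leaf cE4723) (BT.leaf cE4724)) (BT.leaf cE4725)) (BT.node 4726 (BT.leaf cE4726) (BT.leaf cE4727)))))) (BT.node 4747 (BT.node 4737 (BT.node 4732 (BT.node 4730 (BT.node 4729 (BT.node 4728 (BT.leaf cE4728) (BT.leaf cE4729)) (BT.leaf cE4730)) (BT.node 4731 (BT.leaf cE4731) (BT.leaf cE4732))) (BT.node 4735 (BT.node 4734 (BT.node 4733 (BT.leaf cE4733) (BT.leaf cE4734)) (BT.leaf cE4735)) (BT.node 4736 (BT.leaf cE4736) (BT.leaf cE4737)))) (BT.node 4742 (BT.node 4740 (BT.node 4739 (BT.node 4738 (BT.leaf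 cE4738) (BT.leaf cE4739)) (BT.leaf cE4740)) (BT.node 4741 (BT.leaf cE4741) (BT.leaf cE4742))) (BT.node 4745 (BT.node 4744 (BT.node 4743 (BT.leaf cE4743) (BT.leaf cE4744)) (BT.leaf cE4745)) (BT.node 4746 (BT.leaf cE4746) (BT.leaf cE4747))))) (BT.node 4757 (BT.node 4752 (BT.node 4750 (BT.node 4749 (BT.node 4748 (BT.leaf cE4748) (BT.leaf cE4749)) (BT.leaf cE4750)) (BT.node 4751 (BT.leaf cE4751) (BT.leaf cE4752))) (BT.node 4755 (BT.node 4754 (BT.node 4753 (BT.leaf cE4753) (BT.leaf cE4754)) (BT.leaf cE4755)) (BT.node 4756 (BT.leaf cE4756) (BT.leaf cE4757)))) (BT.node 4762 (BT.node 4760 (BT.node 4759 (BT.node 4758 (BT.leaf cE4758) (BT.leaf cE4759)) (BT.leaf cE4760)) (BT.node 4761 (BT.leaf cE4761) (BT.leaf cE4762))) (BT.node 4765 (BT.node 4764 (BT.node 4763 (BT.leaf cE4763) (BT.leaf cE4764)) (BT.leaf cE4765)) (BT.node 4766 (BT.leaf cE4766) (BT.leaf cE4767))))))) (BT.node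 4807 (BT.node 4787 (BT.node 4777 (BT.node 4772 (BT.node 4770 (BT.node 4769 (BT.node 4768 (BT.leaf cE4768) (BT.leaf cE4769)) (BT.leaf cE4770)) (BT.node 4771 (BT.leaf cE4771) (BT.leaf cE4772))) (BT.node 4775 (BT.node 4774 (BT.node 4773 (BT.leaf cE4773) (BT.leaf cE4774)) (BT.leaf cE4775)) (BT.node 4776 (BT.leaf cE4776) (BT.leaf cE4777)))) (BT.node 4782 (BT.node 4780 (BT.node 4779 (BT.node 4778 (BT.leaf cE4778) (BT.leaf cE4779)) (BT.leaf cE4780)) (BT.node 4781 (BT.leaf cE4781) (BT.leaf cE4782))) (BT.node 4785 (BT.node 4784 (BT.node 4783 (BT.leaf cE4783) (BT.leaf cE4784)) (BT.leaf cE4785)) (BT.node 4786 (BT.leaf cE4786) (BT.leaf cE4787))))) (BT.node 4797 (BT.node 4792 (BT.node 4790 (BT.node 4789 (BT.node 4788 (BT.leaf cE4788) (BT.leaf cE4789)) (BT.leaf cE4790)) (BT.node 4791 (BT.leaf cE4791) (BT.leaf cE4792))) (BT.node 4795 (BT.node 4794 (BT.node 4793 (BT.leaf cE4793) (BT.leaf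 cE4794)) (BT.leaf cE4795)) (BT.node 4796 (BT.leaf cE4796) (BT.leaf cE4797)))) (BT.node 4802 (BT.node 4800 (BT.node 4799 (BT.node 4798 (BT.leaf cE4798) (BT.leaf cE4799)) (BT.leaf cE4800)) (BT.node 4801 (BT.leaf cE4801) (BT.leaf cE4802))) (BT.node 4805 (BT.node 4804 (BT.node 4803 (BT.leaf cE4803) (BT.leaf cE4804)) (BT.leaf cE4805)) (BT.node 4806 (BT.leaf cE4806) (BT.leaf cE4807)))))) (BT.node 4827 (BT.node 4817 (BT.node 4812 (BT.node 4810 (BT.node 4809 (BT.node 4808 (BT.leaf cE4808) (BT.leaf cE4809)) (BT.leaf cE4810)) (BT.node 4811 (BT.leaf cE4811) (BT.leaf cE4812))) (BT.node 4815 (BT.node 4814 (BT.node 4813 (BT.leaf cE4813) (BT.leaf cE4814)) (BT.leaf cE4815)) (BT.node 4816 (BT.leaf cE4816) (BT.leaf cE4817)))) (BT.node 4822 (BT.node 4820 (BT.node 4819 (BT.node 4818 (BT.leaf cE4818) (BT.leaf cE4819)) (BT.leaf cE4820)) (BT.node 4821 (BT.leaf cE4821) (BT.leaf cE4822)))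 (BT.node 4825 (BT.node 4824 (BT.node 4823 (BT.leaf cE4823) (BT.leaf cE4824)) (BT.leaf cE4825)) (BT.node 4826 (BT.leaf cE4826) (BT.leaf cE4827))))) (BT.node 4837 (BT.node 4832 (BT.node 4830 (BT.node 4829 (BT.node 4828 (BT.leaf cE4828) (BT.leaf cE4829)) (BT.leaf cE4830)) (BT.node 4831 (BT.leaf cE4831) (BT.leaf cE4832))) (BT.node 4835 (BT.node 4834 (BT.node 4833 (BT.leaf cE4833) (BT.leaf cE4834)) (BT.leaf cE4835)) (BT.node 4836 (BT.leaf cE4836) (BT.leaf cE4837)))) (BT.node 4842 (BT.node 4840 (BT.node 4839 (BT.node 4838 (BT.leaf cE4838) (BT.leaf cE4839)) (BT.leaf cE4840)) (BT.node 4841 (BT.leaf cE4841) (BT.leaf cE4842))) (BT.node 4845 (BT.node 4844 (BT.node 4843 (BT.leaf cE4843) (BT.leaf cE4844)) (BT.leaf cE4845)) (BT.node 4846 (BT.leaf cE4846) (BT.leaf cE4847))))))))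
noncomputable def colET_30 : BT ℕ := (BT.node 4928 (BT.node 4888 (BT.node 4868 (BT.node 4858 (BT.node 4853 (BT.node 4850 (BT.node 4849 (BT.node 4848 (BT.leaf cE4848) (BT.leaf cE4849)) (BT.leaf cE4850)) (BT.node 4852 (BT.node 4851 (BT.leaf cE4851) (BT.leaf cE4852)) (BT.leaf cE4853))) (BT.node 4856 (BT.node 4855 (BT.node 4854 (BT.leaf cE4854) (BT.leaf cE4855)) (BT.leaf cE4856)) (BT.node 4857 (BT.leaf cE4857) (BT.leaf cE4858)))) (BT.node 4863 (BT.node 4861 (BT.node 4860 (BT.node 4859 (BT.leaf cE4859) (BT.leaf cE4860)) (BT.leaf cE4861)) (BT.node 4862 (BT.leaf cE4862) (BT.leaf cE4863))) (BT.node 4866 (BT.node 4865 (BT.node 4864 (BT.leaf cE4864) (BT.leaf cE4865)) (BT.leaf cE4866)) (BT.node 4867 (BT.leaf cE4867) (BT.leaf cE4868))))) (BT.node 4878 (BT.node 4873 (BT.node 4871 (BT.node 4870 (BT.node 4869 (BT.leaf cE4869) (BT.leaf cE4870)) (BT.leaf cE4871)) (BT.node 4872 (BT.leaf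 cE4872) (BT.leaf cE4873))) (BT.node 4876 (BT.node 4875 (BT.node 4874 (BT.leaf cE4874) (BT.leaf cE4875)) (BT.leaf cE4876)) (BT.node 4877 (BT.leaf cE4877) (BT.leaf cE4878)))) (BT.node 4883 (BT.node 4881 (BT.node 4880 (BT.node 4879 (BT.leaf cE4879) (BT.leaf cE4880)) (BT.leaf cE4881)) (BT.node 4882 (BT.leaf cE4882) (BT.leaf cE4883))) (BT.node 4886 (BT.node 4885 (BT.node 4884 (BT.leaf cE4884) (BT.leaf cE4885)) (BT.leaf cE4886)) (BT.node 4887 (BT.leaf cE4887) (BT.leaf cE4888)))))) (BT.node 4908 (BT.node 4898 (BT.node 4893 (BT.node 4891 (BT.node 4890 (BT.node 4889 (BT.leaf cE4889) (BT.leaf cE4890)) (BT.leaf cE4891)) (BT.node 4892 (BT.leaf cE4892) (BT.leaf cE4893))) (BT.node 4896 (BT.node 4895 (BT.node 4894 (BT.leaf cE4894) (BT.leaf cE4895)) (BT.leaf cE4896)) (BT.node 4897 (BT.leaf cE4897) (BT.leaf cE4898)))) (BT.node 4903 (BT.node 4901 (BT.node 4900 (BT.node 4899 (BT.leaf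 cE4899) (BT.leaf cE4900)) (BT.leaf cE4901)) (BT.node 4902 (BT.leaf cE4902) (BT.leaf cE4903))) (BT.node 4906 (BT.node 4905 (BT.node 4904 (BT.leaf cE4904) (BT.leaf cE4905)) (BT.leaf cE4906)) (BT.node 4907 (BT.leaf cE4907) (BT.leaf cE4908))))) (BT.node 4918 (BT.node 4913 (BT.node 4911 (BT.node 4910 (BT.node 4909 (BT.leaf cE4909) (BT.leaf cE4910)) (BT.leaf cE4911)) (BT.node 4912 (BT.leaf cE4912) (BT.leaf cE4913))) (BT.node 4916 (BT.node 4915 (BT.node 4914 (BT.leaf cE4914) (BT.leaf cE4915)) (BT.leaf cE4916)) (BT.node 4917 (BT.leaf cE4917) (BT.leaf cE4918)))) (BT.node 4923 (BT.node 4921 (BT.node 4920 (BT.node 4919 (BT.leaf cE4919) (BT.leaf cE4920)) (BT.leaf cE4921)) (BT.node 4922 (BT.leaf cE4922) (BT.leaf cE4923))) (BT.node 4926 (BT.node 4925 (BT.node 4924 (BT.leaf cE4924) (BT.leaf cE4925)) (BT.leaf cE4926)) (BT.node 4927 (BT.leaf cE4927) (BT.leaf cE4928))))))) (BT.node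 4969 (BT.node 4949 (BT.node 4939 (BT.node 4934 (BT.node 4931 (BT.node 4930 (BT.node 4929 (BT.leaf cE4929) (BT.leaf cE4930)) (BT.leaf cE4931)) (BT.node 4933 (BT.node 4932 (BT.leaf cE4932) (BT.leaf cE4933)) (BT.leaf cE4934))) (BT.node 4937 (BT.node 4936 (BT.node 4935 (BT.leaf cE4935) (BT.leaf cE4936)) (BT.leaf cE4937)) (BT.node 4938 (BT.leaf cE4938) (BT.leaf cE4939)))) (BT.node 4944 (BT.node 4942 (BT.node 4941 (BT.node 4940 (BT.leaf cE4940) (BT.leaf cE4941)) (BT.leaf cE4942)) (BT.node 4943 (BT.leaf cE4943) (BT.leaf cE4944))) (BT.node 4947 (BT.node 4946 (BT.node 4945 (BT.leaf cE4945) (BT.leaf cE4946)) (BT.leaf cE4947)) (BT.node 4948 (BT.leaf cE4948) (BT.leaf cE4949))))) (BT.node 4959 (BT.node 4954 (BT.node 4952 (BT.node 4951 (BT.node 4950 (BT.leaf cE4950) (BT.leaf cE4951)) (BT.leaf cE4952)) (BT.node 4953 (BT.leaf cE4953) (BT.leaf cE4954))) (BT.node 4957 (BT.node 4956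 (BT.node 4955 (BT.leaf cE4955) (BT.leaf cE4956)) (BT.leaf cE4957)) (BT.node 4958 (BT.leaf cE4958) (BT.leaf cE4959)))) (BT.node 4964 (BT.node 4962 (BT.node 4961 (BT.node 4960 (BT.leaf cE4960) (BT.leaf cE4961)) (BT.leaf cE4962)) (BT.node 4963 (BT.leaf cE4963) (BT.leaf cE4964))) (BT.node 4967 (BT.node 4966 (BT.node 4965 (BT.leaf cE4965) (BT.leaf cE4966)) (BT.leaf cE4967)) (BT.node 4968 (BT.leaf cE4968) (BT.leaf cE4969)))))) (BT.node 4989 (BT.node 4979 (BT.node 4974 (BT.node 4972 (BT.node 4971 (BT.node 4970 (BT.leaf cE4970) (BT.leaf cE4971)) (BT.leaf cE4972)) (BT.node 4973 (BT.leaf cE4973) (BT.leaf cE4974))) (BT.node 4977 (BT.node 4976 (BT.node 4975 (BT.leaf cE4975) (BT.leaf cE4976)) (BT.leaf cE4977)) (BT.node 4978 (BT.leaf cE4978) (BT.leaf cE4979)))) (BT.node 4984 (BT.node 4982 (BT.node 4981 (BT.node 4980 (BT.leaf cE4980) (BT.leaf cE4981)) (BT.leaf cE4982)) (BT.node 4983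 (BT.leaf cE4983) (BT.leaf cE4984))) (BT.node 4987 (BT.node 4986 (BT.node 4985 (BT.leaf cE4985) (BT.leaf cE4986)) (BT.leaf cE4987)) (BT.node 4988 (BT.leaf cE4988) (BT.leaf cE4989))))) (BT.node 4999 (BT.node 4994 (BT.node 4992 (BT.node 4991 (BT.node 4990 (BT.leaf cE4990) (BT.leaf cE4991)) (BT.leaf cE4992)) (BT.node 4993 (BT.leaf cE4993) (BT.leaf cE4994))) (BT.node 4997 (BT.node 4996 (BT.node 4995 (BT.leaf cE4995) (BT.leaf cE4996)) (BT.leaf cE4997)) (BT.node 4998 (BT.leaf cE4998) (BT.leaf cE4999)))) (BT.node 5004 (BT.node 5002 (BT.node 5001 (BT.node 5000 (BT.leaf cE5000) (BT.leaf cE5001)) (BT.leaf cE5002)) (BT.node 5003 (BT.leaf cE5003) (BT.leaf cE5004))) (BT.node 5007 (BT.node 5006 (BT.node 5005 (BT.leaf cE5005) (BT.leaf cE5006)) (BT.leaf cE5007)) (BT.node 5008 (BT.leaf cE5008) (BT.leaf cE5009))))))))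
noncomputable def colET_31 : BT ℕ := (BT.node 5090 (BT.node 5050 (BT.node 5030 (BT.node 5020 (BT.node 5015 (BT.node 5012 (BT.node 5011 (BT.node 5010 (BT.leaf cE5010) (BT.leaf cE5011)) (BT.leaf cE5012)) (BT.node 5014 (BT.node 5013 (BT.leaf cE5013) (BT.leaf cE5014)) (BT.leaf cE5015))) (BT.node 5018 (BT.node 5017 (BT.node 5016 (BT.leaf cE5016) (BT.leaf cE5017)) (BT.leaf cE5018)) (BT.node 5019 (BT.leaf cE5019) (BT.leaf cE5020)))) (BT.node 5025 (BT.node 5023 (BT.node 5022 (BT.node 5021 (BT.leaf cE5021) (BT.leaf cE5022)) (BT.leaf cE5023)) (BT.node 5024 (BT.leaf cE5024) (BT.leaf cE5025))) (BT.node 5028 (BT.node 5027 (BT.node 5026 (BT.leaf cE5026) (BT.leaf cE5027)) (BT.leaf cE5028)) (BT.node 5029 (BT.leaf cE5029) (BT.leaf cE5030))))) (BT.node 5040 (BT.node 5035 (BT.node 5033 (BT.node 5032 (BT.node 5031 (BT.leaf cE5031) (BT.leaf cE5032)) (BT.leaf cE5033)) (BT.node 5034 (BT.leaf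 cE5034) (BT.leaf cE5035))) (BT.node 5038 (BT.node 5037 (BT.node 5036 (BT.leaf cE5036) (BT.leaf cE5037)) (BT.leaf cE5038)) (BT.node 5039 (BT.leaf cE5039) (BT.leaf cE5040)))) (BT.node 5045 (BT.node 5043 (BT.node 5042 (BT.node 5041 (BT.leaf cE5041) (BT.leaf cE5042)) (BT.leaf cE5043)) (BT.node 5044 (BT.leaf cE5044) (BT.leaf cE5045))) (BT.node 5048 (BT.node 5047 (BT.node 5046 (BT.leaf cE5046) (BT.leaf cE5047)) (BT.leaf cE5048)) (BT.node 5049 (BT.leaf cE5049) (BT.leaf cE5050)))))) (BT.node 5070 (BT.node 5060 (BT.node 5055 (BT.node 5053 (BT.node 5052 (BT.node 5051 (BT.leaf cE5051) (BT.leaf cE5052)) (BT.leaf cE5053)) (BT.node 5054 (BT.leaf cE5054) (BT.leaf cE5055))) (BT.node 5058 (BT.node 5057 (BT.node 5056 (BT.leaf cE5056) (BT.leaf cE5057)) (BT.leaf cE5058)) (BT.node 5059 (BT.leaf cE5059) (BT.leaf cE5060)))) (BT.node 5065 (BT.node 5063 (BT.node 5062 (BT.node 5061 (BT.leaf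 cE5061) (BT.leaf cE5062)) (BT.leaf cE5063)) (BT.node 5064 (BT.leaf cE5064) (BT.leaf cE5065))) (BT.node 5068 (BT.node 5067 (BT.node 5066 (BT.leaf cE5066) (BT.leaf cE5067)) (BT.leaf cE5068)) (BT.node 5069 (BT.leaf cE5069) (BT.leaf cE5070))))) (BT.node 5080 (BT.node 5075 (BT.node 5073 (BT.node 5072 (BT.node 5071 (BT.leaf cE5071) (BT.leaf cE5072)) (BT.leaf cE5073)) (BT.node 5074 (BT.leaf cE5074) (BT.leaf cE5075))) (BT.node 5078 (BT.node 5077 (BT.node 5076 (BT.leaf cE5076) (BT.leaf cE5077)) (BT.leaf cE5078)) (BT.node 5079 (BT.leaf cE5079) (BT.leaf cE5080)))) (BT.node 5085 (BT.node 5083 (BT.node 5082 (BT.node 5081 (BT.leaf cE5081) (BT.leaf cE5082)) (BT.leaf cE5083)) (BT.node 5084 (BT.leaf cE5084) (BT.leaf cE5085))) (BT.node 5088 (BT.node 5087 (BT.node 5086 (BT.leaf cE5086) (BT.leaf cE5087)) (BT.leaf cE5088)) (BT.node 5089 (BT.leaf cE5089) (BT.leaf cE5090))))))) (BT.node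 5130 (BT.node 5110 (BT.node 5100 (BT.node 5095 (BT.node 5093 (BT.node 5092 (BT.node 5091 (BT.leaf cE5091) (BT.leaf cE5092)) (BT.leaf cE5093)) (BT.node 5094 (BT.leaf cE5094) (BT.leaf cE5095))) (BT.node 5098 (BT.node 5097 (BT.node 5096 (BT.leaf cE5096) (BT.leaf cE5097)) (BT.leaf cE5098)) (BT.node 5099 (BT.leaf cE5099) (BT.leaf cE5100)))) (BT.node 5105 (BT.node 5103 (BT.node 5102 (BT.node 5101 (BT.leaf cE5101) (BT.leaf cE5102)) (BT.leaf cE5103)) (BT.node 5104 (BT.leaf cE5104) (BT.leaf cE5105))) (BT.node 5108 (BT.node 5107 (BT.node 5106 (BT.leaf cE5106) (BT.leaf cE5107)) (BT.leaf cE5108)) (BT.node 5109 (BT.leaf cE5109) (BT.leaf cE5110))))) (BT.node 5120 (BT.node 5115 (BT.node 5113 (BT.node 5112 (BT.node 5111 (BT.leaf cE5111) (BT.leaf cE5112)) (BT.leaf cE5113)) (BT.node 5114 (BT.leaf cE5114) (BT.leaf cE5115))) (BT.node 5118 (BT.node 5117 (BT.node 5116 (BT.leaf cE5116) (BT.leaf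 cE5117)) (BT.leaf cE5118)) (BT.node 5119 (BT.leaf cE5119) (BT.leaf cE5120)))) (BT.node 5125 (BT.node 5123 (BT.node 5122 (BT.node 5121 (BT.leaf cE5121) (BT.leaf cE5122)) (BT.leaf cE5123)) (BT.node 5124 (BT.leaf cE5124) (BT.leaf cE5125))) (BT.node 5128 (BT.node 5127 (BT.node 5126 (BT.leaf cE5126) (BT.leaf cE5127)) (BT.leaf cE5128)) (BT.node 5129 (BT.leaf cE5129) (BT.leaf cE5130)))))) (BT.node 5150 (BT.node 5140 (BT.node 5135 (BT.node 5133 (BT.node 5132 (BT.node 5131 (BT.leaf cE5131) (BT.leaf cE5132)) (BT.leaf cE5133)) (BT.node 5134 (BT.leaf cE5134) (BT.leaf cE5135))) (BT.node 5138 (BT.node 5137 (BT.node 5136 (BT.leaf cE5136) (BT.leaf cE5137)) (BT.leaf cE5138)) (BT.node 5139 (BT.leaf cE5139) (BT.leaf cE5140)))) (BT.node 5145 (BT.node 5143 (BT.node 5142 (BT.node 5141 (BT.leaf cE5141) (BT.leaf cE5142)) (BT.leaf cE5143)) (BT.node 5144 (BT.leaf cE5144) (BT.leaf cE5145)))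 (BT.node 5148 (BT.node 5147 (BT.node 5146 (BT.leaf cE5146) (BT.leaf cE5147)) (BT.leaf cE5148)) (BT.node 5149 (BT.leaf cE5149) (BT.leaf cE5150))))) (BT.node 5160 (BT.node 5155 (BT.node 5153 (BT.node 5152 (BT.node 5151 (BT.leaf cE5151) (BT.leaf cE5152)) (BT.leaf cE5153)) (BT.node 5154 (BT.leaf cE5154) (BT.leaf cE5155))) (BT.node 5158 (BT.node 5157 (BT.node 5156 (BT.leaf cE5156) (BT.leaf cE5157)) (BT.leaf cE5158)) (BT.node 5159 (BT.leaf cE5159) (BT.leaf cE5160)))) (BT.node 5165 (BT.node 5163 (BT.node 5162 (BT.node 5161 (BT.leaf cE5161) (BT.leaf cE5162)) (BT.leaf cE5163)) (BT.node 5164 (BT.leaf cE5164) (BT.leaf cE5165))) (BT.node 5168 (BT.node 5167 (BT.node 5166 (BT.leaf cE5166) (BT.leaf cE5167)) (BT.leaf cE5168)) (BT.node 5169 (BT.leaf cE5169) (BT.leaf cE5170))))))))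
noncomputable def colET_32 : BT ℕ := (BT.node 5251 (BT.node 5211 (BT.node 5191 (BT.node 5181 (BT.node 5176 (BT.node 5173 (BT.node 5172 (BT.node 5171 (BT.leaf cE5171) (BT.leaf cE5172)) (BT.leaf cE5173)) (BT.node 5175 (BT.node 5174 (BT.leaf cE5174) (BT.leaf cE5175)) (BT.leaf cE5176))) (BT.node 5179 (BT.node 5178 (BT.node 5177 (BT.leaf cE5177) (BT.leaf cE5178)) (BT.leaf cE5179)) (BT.node 5180 (BT.leaf cE5180) (BT.leaf cE5181)))) (BT.node 5186 (BT.node 5184 (BT.node 5183 (BT.node 5182 (BT.leaf cE5182) (BT.leaf cE5183)) (BT.leaf cE5184)) (BT.node 5185 (BT.leaf cE5185) (BT.leaf cE5186))) (BT.node 5189 (BT.node 5188 (BT.node 5187 (BT.leaf cE5187) (BT.leaf cE5188)) (BT.leaf cE5189)) (BT.node 5190 (BT.leaf cE5190) (BT.leaf cE5191))))) (BT.node 5201 (BT.node 5196 (BT.node 5194 (BT.node 5193 (BT.node 5192 (BT.leaf cE5192) (BT.leaf cE5193)) (BT.leaf cE5194)) (BT.node 5195 (BT.leaf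 cE5195) (BT.leaf cE5196))) (BT.node 5199 (BT.node 5198 (BT.node 5197 (BT.leaf cE5197) (BT.leaf cE5198)) (BT.leaf cE5199)) (BT.node 5200 (BT.leaf cE5200) (BT.leaf cE5201)))) (BT.node 5206 (BT.node 5204 (BT.node 5203 (BT.node 5202 (BT.leaf cE5202) (BT.leaf cE5203)) (BT.leaf cE5204)) (BT.node 5205 (BT.leaf cE5205) (BT.leaf cE5206))) (BT.node 5209 (BT.node 5208 (BT.node 5207 (BT.leaf cE5207) (BT.leaf cE5208)) (BT.leaf cE5209)) (BT.node 5210 (BT.leaf cE5210) (BT.leaf cE5211)))))) (BT.node 5231 (BT.node 5221 (BT.node 5216 (BT.node 5214 (BT.node 5213 (BT.node 5212 (BT.leaf cE5212) (BT.leaf cE5213)) (BT.leaf cE5214)) (BT.node 5215 (BT.leaf cE5215) (BT.leaf cE5216))) (BT.node 5219 (BT.node 5218 (BT.node 5217 (BT.leaf cE5217) (BT.leaf cE5218)) (BT.leaf cE5219)) (BT.node 5220 (BT.leaf cE5220) (BT.leaf cE5221)))) (BT.node 5226 (BT.node 5224 (BT.node 5223 (BT.node 5222 (BT.leaf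 cE5222) (BT.leaf cE5223)) (BT.leaf cE5224)) (BT.node 5225 (BT.leaf cE5225) (BT.leaf cE5226))) (BT.node 5229 (BT.node 5228 (BT.node 5227 (BT.leaf cE5227) (BT.leaf cE5228)) (BT.leaf cE5229)) (BT.node 5230 (BT.leaf cE5230) (BT.leaf cE5231))))) (BT.node 5241 (BT.node 5236 (BT.node 5234 (BT.node 5233 (BT.node 5232 (BT.leaf cE5232) (BT.leaf cE5233)) (BT.leaf cE5234)) (BT.node 5235 (BT.leaf cE5235) (BT.leaf cE5236))) (BT.node 5239 (BT.node 5238 (BT.node 5237 (BT.leaf cE5237) (BT.leaf cE5238)) (BT.leaf cE5239)) (BT.node 5240 (BT.leaf cE5240) (BT.leaf cE5241)))) (BT.node 5246 (BT.node 5244 (BT.node 5243 (BT.node 5242 (BT.leaf cE5242) (BT.leaf cE5243)) (BT.leaf cE5244)) (BT.node 5245 (BT.leaf cE5245) (BT.leaf cE5246))) (BT.node 5249 (BT.node 5248 (BT.node 5247 (BT.leaf cE5247) (BT.leaf cE5248)) (BT.leaf cE5249)) (BT.node 5250 (BT.leaf cE5250) (BT.leaf cE5251))))))) (BT.node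 5292 (BT.node 5272 (BT.node 5262 (BT.node 5257 (BT.node 5254 (BT.node 5253 (BT.node 5252 (BT.leaf cE5252) (BT.leaf cE5253)) (BT.leaf cE5254)) (BT.node 5256 (BT.node 5255 (BT.leaf cE5255) (BT.leaf cE5256)) (BT.leaf cE5257))) (BT.node 5260 (BT.node 5259 (BT.node 5258 (BT.leaf cE5258) (BT.leaf cE5259)) (BT.leaf cE5260)) (BT.node 5261 (BT.leaf cE5261) (BT.leaf cE5262)))) (BT.node 5267 (BT.node 5265 (BT.node 5264 (BT.node 5263 (BT.leaf cE5263) (BT.leaf cE5264)) (BT.leaf cE5265)) (BT.node 5266 (BT.leaf cE5266) (BT.leaf cE5267))) (BT.node 5270 (BT.node 5269 (BT.node 5268 (BT.leaf cE5268) (BT.leaf cE5269)) (BT.leaf cE5270)) (BT.node 5271 (BT.leaf cE5271) (BT.leaf cE5272))))) (BT.node 5282 (BT.node 5277 (BT.node 5275 (BT.node 5274 (BT.node 5273 (BT.leaf cE5273) (BT.leaf cE5274)) (BT.leaf cE5275)) (BT.node 5276 (BT.leaf cE5276) (BT.leaf cE5277))) (BT.node 5280 (BT.node 5279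 (BT.node 5278 (BT.leaf cE5278) (BT.leaf cE5279)) (BT.leaf cE5280)) (BT.node 5281 (BT.leaf cE5281) (BT.leaf cE5282)))) (BT.node 5287 (BT.node 5285 (BT.node 5284 (BT.node 5283 (BT.leaf cE5283) (BT.leaf cE5284)) (BT.leaf cE5285)) (BT.node 5286 (BT.leaf cE5286) (BT.leaf cE5287))) (BT.node 5290 (BT.node 5289 (BT.node 5288 (BT.leaf cE5288) (BT.leaf cE5289)) (BT.leaf cE5290)) (BT.node 5291 (BT.leaf cE5291) (BT.leaf cE5292)))))) (BT.node 5312 (BT.node 5302 (BT.node 5297 (BT.node 5295 (BT.node 5294 (BT.node 5293 (BT.leaf cE5293) (BT.leaf cE5294)) (BT.leaf cE5295)) (BT.node 5296 (BT.leaf cE5296) (BT.leaf cE5297))) (BT.node 5300 (BT.node 5299 (BT.node 5298 (BT.leaf cE5298) (BT.leaf cE5299)) (BT.leaf cE5300)) (BT.node 5301 (BT.leaf cE5301) (BT.leaf cE5302)))) (BT.node 5307 (BT.node 5305 (BT.node 5304 (BT.node 5303 (BT.leaf cE5303) (BT.leaf cE5304)) (BT.leaf cE5305)) (BT.node 5306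 (BT.leaf cE5306) (BT.leaf cE5307))) (BT.node 5310 (BT.node 5309 (BT.node 5308 (BT.leaf cE5308) (BT.leaf cE5309)) (BT.leaf cE5310)) (BT.node 5311 (BT.leaf cE5311) (BT.leaf cE5312))))) (BT.node 5322 (BT.node 5317 (BT.node 5315 (BT.node 5314 (BT.node 5313 (BT.leaf cE5313) (BT.leaf cE5314)) (BT.leaf cE5315)) (BT.node 5316 (BT.leaf cE5316) (BT.leaf cE5317))) (BT.node 5320 (BT.node 5319 (BT.node 5318 (BT.leaf cE5318) (BT.leaf cE5319)) (BT.leaf cE5320)) (BT.node 5321 (BT.leaf cE5321) (BT.leaf cE5322)))) (BT.node 5327 (BT.node 5325 (BT.node 5324 (BT.node 5323 (BT.leaf cE5323) (BT.leaf cE5324)) (BT.leaf cE5325)) (BT.node 5326 (BT.leaf cE5326) (BT.leaf cE5327))) (BT.node 5330 (BT.node 5329 (BT.node 5328 (BT.leaf cE5328) (BT.leaf cE5329)) (BT.leaf cE5330)) (BT.node 5331 (BT.leaf cE5331) (BT.leaf cE5332))))))))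
noncomputable def colET_33 : BT ℕ := (BT.node 5413 (BT.node 5373 (BT.node 5353 (BT.node 5343 (BT.node 5338 (BT.node 5335 (BT.node 5334 (BT.node 5333 (BT.leaf cE5333) (BT.leaf cE5334)) (BT.leaf cE5335)) (BT.node 5337 (BT.node 5336 (BT.leaf cE5336) (BT.leaf cE5337)) (BT.leaf cE5338))) (BT.node 5341 (BT.node 5340 (BT.node 5339 (BT.leaf cE5339) (BT.leaf cE5340)) (BT.leaf cE5341)) (BT.node 5342 (BT.leaf cE5342) (BT.leaf cE5343)))) (BT.node 5348 (BT.node 5346 (BT.node 5345 (BT.node 5344 (BT.leaf cE5344) (BT.leaf cE5345)) (BT.leaf cE5346)) (BT.node 5347 (BT.leaf cE5347) (BT.leaf cE5348))) (BT.node 5351 (BT.node 5350 (BT.node 5349 (BT.leaf cE5349) (BT.leaf cE5350)) (BT.leaf cE5351)) (BT.node 5352 (BT.leaf cE5352) (BT.leaf cE5353))))) (BT.node 5363 (BT.node 5358 (BT.node 5356 (BT.node 5355 (BT.node 5354 (BT.leaf cE5354) (BT.leaf cE5355)) (BT.leaf cE5356)) (BT.node 5357 (BT.leaf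 cE5357) (BT.leaf cE5358))) (BT.node 5361 (BT.node 5360 (BT.node 5359 (BT.leaf cE5359) (BT.leaf cE5360)) (BT.leaf cE5361)) (BT.node 5362 (BT.leaf cE5362) (BT.leaf cE5363)))) (BT.node 5368 (BT.node 5366 (BT.node 5365 (BT.node 5364 (BT.leaf cE5364) (BT.leaf cE5365)) (BT.leaf cE5366)) (BT.node 5367 (BT.leaf cE5367) (BT.leaf cE5368))) (BT.node 5371 (BT.node 5370 (BT.node 5369 (BT.leaf cE5369) (BT.leaf cE5370)) (BT.leaf cE5371)) (BT.node 5372 (BT.leaf cE5372) (BT.leaf cE5373)))))) (BT.node 5393 (BT.node 5383 (BT.node 5378 (BT.node 5376 (BT.node 5375 (BT.node 5374 (BT.leaf cE5374) (BT.leaf cE5375)) (BT.leaf cE5376)) (BT.node 5377 (BT.leaf cE5377) (BT.leaf cE5378))) (BT.node 5381 (BT.node 5380 (BT.node 5379 (BT.leaf cE5379) (BT.leaf cE5380)) (BT.leaf cE5381)) (BT.node 5382 (BT.leaf cE5382) (BT.leaf cE5383)))) (BT.node 5388 (BT.node 5386 (BT.node 5385 (BT.node 5384 (BT.leaf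 cE5384) (BT.leaf cE5385)) (BT.leaf cE5386)) (BT.node 5387 (BT.leaf cE5387) (BT.leaf cE5388))) (BT.node 5391 (BT.node 5390 (BT.node 5389 (BT.leaf cE5389) (BT.leaf cE5390)) (BT.leaf cE5391)) (BT.node 5392 (BT.leaf cE5392) (BT.leaf cE5393))))) (BT.node 5403 (BT.node 5398 (BT.node 5396 (BT.node 5395 (BT.node 5394 (BT.leaf cE5394) (BT.leaf cE5395)) (BT.leaf cE5396)) (BT.node 5397 (BT.leaf cE5397) (BT.leaf cE5398))) (BT.node 5401 (BT.node 5400 (BT.node 5399 (BT.leaf cE5399) (BT.leaf cE5400)) (BT.leaf cE5401)) (BT.node 5402 (BT.leaf cE5402) (BT.leaf cE5403)))) (BT.node 5408 (BT.node 5406 (BT.node 5405 (BT.node 5404 (BT.leaf cE5404) (BT.leaf cE5405)) (BT.leaf cE5406)) (BT.node 5407 (BT.leaf cE5407) (BT.leaf cE5408))) (BT.node 5411 (BT.node 5410 (BT.node 5409 (BT.leaf cE5409) (BT.leaf cE5410)) (BT.leaf cE5411)) (BT.node 5412 (BT.leaf cE5412) (BT.leaf cE5413))))))) (BT.node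 5454 (BT.node 5434 (BT.node 5424 (BT.node 5419 (BT.node 5416 (BT.node 5415 (BT.node 5414 (BT.leaf cE5414) (BT.leaf cE5415)) (BT.leaf cE5416)) (BT.node 5418 (BT.node 5417 (BT.leaf cE5417) (BT.leaf cE5418)) (BT.leaf cE5419))) (BT.node 5422 (BT.node 5421 (BT.node 5420 (BT.leaf cE5420) (BT.leaf cE5421)) (BT.leaf cE5422)) (BT.node 5423 (BT.leaf cE5423) (BT.leaf cE5424)))) (BT.node 5429 (BT.node 5427 (BT.node 5426 (BT.node 5425 (BT.leaf cE5425) (BT.leaf cE5426)) (BT.leaf cE5427)) (BT.node 5428 (BT.leaf cE5428) (BT.leaf cE5429))) (BT.node 5432 (BT.node 5431 (BT.node 5430 (BT.leaf cE5430) (BT.leaf cE5431)) (BT.leaf cE5432)) (BT.node 5433 (BT.leaf cE5433) (BT.leaf cE5434))))) (BT.node 5444 (BT.node 5439 (BT.node 5437 (BT.node 5436 (BT.node 5435 (BT.leaf cE5435) (BT.leaf cE5436)) (BT.leaf cE5437)) (BT.node 5438 (BT.leaf cE5438) (BT.leaf cE5439))) (BT.node 5442 (BT.node 5441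 (BT.node 5440 (BT.leaf cE5440) (BT.leaf cE5441)) (BT.leaf cE5442)) (BT.node 5443 (BT.leaf cE5443) (BT.leaf cE5444)))) (BT.node 5449 (BT.node 5447 (BT.node 5446 (BT.node 5445 (BT.leaf cE5445) (BT.leaf cE5446)) (BT.leaf cE5447)) (BT.node 5448 (BT.leaf cE5448) (BT.leaf cE5449))) (BT.node 5452 (BT.node 5451 (BT.node 5450 (BT.leaf cE5450) (BT.leaf cE5451)) (BT.leaf cE5452)) (BT.node 5453 (BT.leaf cE5453) (BT.leaf cE5454)))))) (BT.node 5474 (BT.node 5464 (BT.node 5459 (BT.node 5457 (BT.node 5456 (BT.node 5455 (BT.leaf cE5455) (BT.leaf cE5456)) (BT.leaf cE5457)) (BT.node 5458 (BT.leaf cE5458) (BT.leaf cE5459))) (BT.node 5462 (BT.node 5461 (BT.node 5460 (BT.leaf cE5460) (BT.leaf cE5461)) (BT.leaf cE5462)) (BT.node 5463 (BT.leaf cE5463) (BT.leaf cE5464)))) (BT.node 5469 (BT.node 5467 (BT.node 5466 (BT.node 5465 (BT.leaf cE5465) (BT.leaf cE5466)) (BT.leaf cE5467)) (BT.node 5468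 (BT.leaf cE5468) (BT.leaf cE5469))) (BT.node 5472 (BT.node 5471 (BT.node 5470 (BT.leaf cE5470) (BT.leaf cE5471)) (BT.leaf cE5472)) (BT.node 5473 (BT.leaf cE5473) (BT.leaf cE5474))))) (BT.node 5484 (BT.node 5479 (BT.node 5477 (BT.node 5476 (BT.node 5475 (BT.leaf cE5475) (BT.leaf cE5476)) (BT.leaf cE5477)) (BT.node 5478 (BT.leaf cE5478) (BT.leaf cE5479))) (BT.node 5482 (BT.node 5481 (BT.node 5480 (BT.leaf cE5480) (BT.leaf cE5481)) (BT.leaf cE5482)) (BT.node 5483 (BT.leaf cE5483) (BT.leaf cE5484)))) (BT.node 5489 (BT.node 5487 (BT.node 5486 (BT.node 5485 (BT.leaf cE5485) (BT.leaf cE5486)) (BT.leaf cE5487)) (BT.node 5488 (BT.leaf cE5488) (BT.leaf cE5489))) (BT.node 5492 (BT.node 5491 (BT.node 5490 (BT.leaf cE5490) (BT.leaf cE5491)) (BT.leaf cE5492)) (BT.node 5493 (BT.leaf cE5493) (BT.leaf cE5494))))))))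
noncomputable def colET_34 : BT ℕ := (BT.node 5575 (BT.node 5535 (BT.node 5515 (BT.node 5505 (BT.node 5500 (BT.node 5497 (BT.node 5496 (BT.node 5495 (BT.leaf cE5495) (BT.leaf cE5496)) (BT.leaf cE5497)) (BT.node 5499 (BT.node 5498 (BT.leaf cE5498) (BT.leaf cE5499)) (BT.leaf cE5500))) (BT.node 5503 (BT.node 5502 (BT.node 5501 (BT.leaf cE5501) (BT.leaf cE5502)) (BT.leaf cE5503)) (BT.node 5504 (BT.leaf cE5504) (BT.leaf cE5505)))) (BT.node 5510 (BT.node 5508 (BT.node 5507 (BT.node 5506 (BT.leaf cE5506) (BT.leaf cE5507)) (BT.leaf cE5508)) (BT.node 5509 (BT.leaf cE5509) (BT.leaf cE5510))) (BT.node 5513 (BT.node 5512 (BT.node 5511 (BT.leaf cE5511) (BT.leaf cE5512)) (BT.leaf cE5513)) (BT.node 5514 (BT.leaf cE5514) (BT.leaf cE5515))))) (BT.node 5525 (BT.node 5520 (BT.node 5518 (BT.node 5517 (BT.node 5516 (BT.leaf cE5516) (BT.leaf cE5517)) (BT.leaf cE5518)) (BT.node 5519 (BT.leaf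 cE5519) (BT.leaf cE5520))) (BT.node 5523 (BT.node 5522 (BT.node 5521 (BT.leaf cE5521) (BT.leaf cE5522)) (BT.leaf cE5523)) (BT.node 5524 (BT.leaf cE5524) (BT.leaf cE5525)))) (BT.node 5530 (BT.node 5528 (BT.node 5527 (BT.node 5526 (BT.leaf cE5526) (BT.leaf cE5527)) (BT.leaf cE5528)) (BT.node 5529 (BT.leaf cE5529) (BT.leaf cE5530))) (BT.node 5533 (BT.node 5532 (BT.node 5531 (BT.leaf cE5531) (BT.leaf cE5532)) (BT.leaf cE5533)) (BT.node 5534 (BT.leaf cE5534) (BT.leaf cE5535)))))) (BT.node 5555 (BT.node 5545 (BT.node 5540 (BT.node 5538 (BT.node 5537 (BT.node 5536 (BT.leaf cE5536) (BT.leaf cE5537)) (BT.leaf cE5538)) (BT.node 5539 (BT.leaf cE5539) (BT.leaf cE5540))) (BT.node 5543 (BT.node 5542 (BT.node 5541 (BT.leaf cE5541) (BT.leaf cE5542)) (BT.leaf cE5543)) (BT.node 5544 (BT.leaf cE5544) (BT.leaf cE5545)))) (BT.node 5550 (BT.node 5548 (BT.node 5547 (BT.node 5546 (BT.leaf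 cE5546) (BT.leaf cE5547)) (BT.leaf cE5548)) (BT.node 5549 (BT.leaf cE5549) (BT.leaf cE5550))) (BT.node 5553 (BT.node 5552 (BT.node 5551 (BT.leaf cE5551) (BT.leaf cE5552)) (BT.leaf cE5553)) (BT.node 5554 (BT.leaf cE5554) (BT.leaf cE5555))))) (BT.node 5565 (BT.node 5560 (BT.node 5558 (BT.node 5557 (BT.node 5556 (BT.leaf cE5556) (BT.leaf cE5557)) (BT.leaf cE5558)) (BT.node 5559 (BT.leaf cE5559) (BT.leaf cE5560))) (BT.node 5563 (BT.node 5562 (BT.node 5561 (BT.leaf cE5561) (BT.leaf cE5562)) (BT.leaf cE5563)) (BT.node 5564 (BT.leaf cE5564) (BT.leaf cE5565)))) (BT.node 5570 (BT.node 5568 (BT.node 5567 (BT.node 5566 (BT.leaf cE5566) (BT.leaf cE5567)) (BT.leaf cE5568)) (BT.node 5569 (BT.leaf cE5569) (BT.leaf cE5570))) (BT.node 5573 (BT.node 5572 (BT.node 5571 (BT.leaf cE5571) (BT.leaf cE5572)) (BT.leaf cE5573)) (BT.node 5574 (BT.leaf cE5574) (BT.leaf cE5575))))))) (BT.node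 5616 (BT.node 5596 (BT.node 5586 (BT.node 5581 (BT.node 5578 (BT.node 5577 (BT.node 5576 (BT.leaf cE5576) (BT.leaf cE5577)) (BT.leaf cE5578)) (BT.node 5580 (BT.node 5579 (BT.leaf cE5579) (BT.leaf cE5580)) (BT.leaf cE5581))) (BT.node 5584 (BT.node 5583 (BT.node 5582 (BT.leaf cE5582) (BT.leaf cE5583)) (BT.leaf cE5584)) (BT.node 5585 (BT.leaf cE5585) (BT.leaf cE5586)))) (BT.node 5591 (BT.node 5589 (BT.node 5588 (BT.node 5587 (BT.leaf cE5587) (BT.leaf cE5588)) (BT.leaf cE5589)) (BT.node 5590 (BT.leaf cE5590) (BT.leaf cE5591))) (BT.node 5594 (BT.node 5593 (BT.node 5592 (BT.leaf cE5592) (BT.leaf cE5593)) (BT.leaf cE5594)) (BT.node 5595 (BT.leaf cE5595) (BT.leaf cE5596))))) (BT.node 5606 (BT.node 5601 (BT.node 5599 (BT.node 5598 (BT.node 5597 (BT.leaf cE5597) (BT.leaf cE5598)) (BT.leaf cE5599)) (BT.node 5600 (BT.leaf cE5600) (BT.leaf cE5601))) (BT.node 5604 (BT.node 5603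 (BT.node 5602 (BT.leaf cE5602) (BT.leaf cE5603)) (BT.leaf cE5604)) (BT.node 5605 (BT.leaf cE5605) (BT.leaf cE5606)))) (BT.node 5611 (BT.node 5609 (BT.node 5608 (BT.node 5607 (BT.leaf cE5607) (BT.leaf cE5608)) (BT.leaf cE5609)) (BT.node 5610 (BT.leaf cE5610) (BT.leaf cE5611))) (BT.node 5614 (BT.node 5613 (BT.node 5612 (BT.leaf cE5612) (BT.leaf cE5613)) (BT.leaf cE5614)) (BT.node 5615 (BT.leaf cE5615) (BT.leaf cE5616)))))) (BT.node 5636 (BT.node 5626 (BT.node 5621 (BT.node 5619 (BT.node 5618 (BT.node 5617 (BT.leaf cE5617) (BT.leaf cE5618)) (BT.leaf cE5619)) (BT.node 5620 (BT.leaf cE5620) (BT.leaf cE5621))) (BT.node 5624 (BT.node 5623 (BT.node 5622 (BT.leaf cE5622) (BT.leaf cE5623)) (BT.leaf cE5624)) (BT.node 5625 (BT.leaf cE5625) (BT.leaf cE5626)))) (BT.node 5631 (BT.node 5629 (BT.node 5628 (BT.node 5627 (BT.leaf cE5627) (BT.leaf cE5628)) (BT.leaf cE5629)) (BT.node 5630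 (BT.leaf cE5630) (BT.leaf cE5631))) (BT.node 5634 (BT.node 5633 (BT.node 5632 (BT.leaf cE5632) (BT.leaf cE5633)) (BT.leaf cE5634)) (BT.node 5635 (BT.leaf cE5635) (BT.leaf cE5636))))) (BT.node 5646 (BT.node 5641 (BT.node 5639 (BT.node 5638 (BT.node 5637 (BT.leaf cE5637) (BT.leaf cE5638)) (BT.leaf cE5639)) (BT.node 5640 (BT.leaf cE5640) (BT.leaf cE5641))) (BT.node 5644 (BT.node 5643 (BT.node 5642 (BT.leaf cE5642) (BT.leaf cE5643)) (BT.leaf cE5644)) (BT.node 5645 (BT.leaf cE5645) (BT.leaf cE5646)))) (BT.node 5651 (BT.node 5649 (BT.node 5648 (BT.node 5647 (BT.leaf cE5647) (BT.leaf cE5648)) (BT.leaf cE5649)) (BT.node 5650 (BT.leaf cE5650) (BT.leaf cE5651))) (BT.node 5654 (BT.node 5653 (BT.node 5652 (BT.leaf cE5652) (BT.leaf cE5653)) (BT.leaf cE5654)) (BT.node 5655 (BT.leaf cE5655) (BT.leaf cE5656))))))))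
noncomputable def colET_35 : BT ℕ := (BT.node 5737 (BT.node 5697 (BT.node 5677 (BT.node 5667 (BT.node 5662 (BT.node 5659 (BT.node 5658 (BT.node 5657 (BT.leaf cE5657) (BT.leaf cE5658)) (BT.leaf cE5659)) (BT.node 5661 (BT.node 5660 (BT.leaf cE5660) (BT.leaf cE5661)) (BT.leaf cE5662))) (BT.node 5665 (BT.node 5664 (BT.node 5663 (BT.leaf cE5663) (BT.leaf cE5664)) (BT.leaf cE5665)) (BT.node 5666 (BT.leaf cE5666) (BT.leaf cE5667)))) (BT.node 5672 (BT.node 5670 (BT.node 5669 (BT.node 5668 (BT.leaf cE5668) (BT.leaf cE5669)) (BT.leaf cE5670)) (BT.node 5671 (BT.leaf cE5671) (BT.leaf cE5672))) (BT.node 5675 (BT.node 5674 (BT.node 5673 (BT.leaf cE5673) (BT.leaf cE5674)) (BT.leaf cE5675)) (BT.node 5676 (BT.leaf cE5676) (BT.leaf cE5677))))) (BT.node 5687 (BT.node 5682 (BT.node 5680 (BT.node 5679 (BT.node 5678 (BT.leaf cE5678) (BT.leaf cE5679)) (BT.leaf cE5680)) (BT.node 5681 (BT.leaf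 cE5681) (BT.leaf cE5682))) (BT.node 5685 (BT.node 5684 (BT.node 5683 (BT.leaf cE5683) (BT.leaf cE5684)) (BT.leaf cE5685)) (BT.node 5686 (BT.leaf cE5686) (BT.leaf cE5687)))) (BT.node 5692 (BT.node 5690 (BT.node 5689 (BT.node 5688 (BT.leaf cE5688) (BT.leaf cE5689)) (BT.leaf cE5690)) (BT.node 5691 (BT.leaf cE5691) (BT.leaf cE5692))) (BT.node 5695 (BT.node 5694 (BT.node 5693 (BT.leaf cE5693) (BT.leaf cE5694)) (BT.leaf cE5695)) (BT.node 5696 (BT.leaf cE5696) (BT.leaf cE5697)))))) (BT.node 5717 (BT.node 5707 (BT.node 5702 (BT.node 5700 (BT.node 5699 (BT.node 5698 (BT.leaf cE5698) (BT.leaf cE5699)) (BT.leaf cE5700)) (BT.node 5701 (BT.leaf cE5701) (BT.leaf cE5702))) (BT.node 5705 (BT.node 5704 (BT.node 5703 (BT.leaf cE5703) (BT.leaf cE5704)) (BT.leaf cE5705)) (BT.node 5706 (BT.leaf cE5706) (BT.leaf cE5707)))) (BT.node 5712 (BT.node 5710 (BT.node 5709 (BT.node 5708 (BT.leaf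 cE5708) (BT.leaf cE5709)) (BT.leaf cE5710)) (BT.node 5711 (BT.leaf cE5711) (BT.leaf cE5712))) (BT.node 5715 (BT.node 5714 (BT.node 5713 (BT.leaf cE5713) (BT.leaf cE5714)) (BT.leaf cE5715)) (BT.node 5716 (BT.leaf cE5716) (BT.leaf cE5717))))) (BT.node 5727 (BT.node 5722 (BT.node 5720 (BT.node 5719 (BT.node 5718 (BT.leaf cE5718) (BT.leaf cE5719)) (BT.leaf cE5720)) (BT.node 5721 (BT.leaf cE5721) (BT.leaf cE5722))) (BT.node 5725 (BT.node 5724 (BT.node 5723 (BT.leaf cE5723) (BT.leaf cE5724)) (BT.leaf cE5725)) (BT.node 5726 (BT.leaf cE5726) (BT.leaf cE5727)))) (BT.node 5732 (BT.node 5730 (BT.node 5729 (BT.node 5728 (BT.leaf cE5728) (BT.leaf cE5729)) (BT.leaf cE5730)) (BT.node 5731 (BT.leaf cE5731) (BT.leaf cE5732))) (BT.node 5735 (BT.node 5734 (BT.node 5733 (BT.leaf cE5733) (BT.leaf cE5734)) (BT.leaf cE5735)) (BT.node 5736 (BT.leaf cE5736) (BT.leaf cE5737))))))) (BT.node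 5777 (BT.node 5757 (BT.node 5747 (BT.node 5742 (BT.node 5740 (BT.node 5739 (BT.node 5738 (BT.leaf cE5738) (BT.leaf cE5739)) (BT.leaf cE5740)) (BT.node 5741 (BT.leaf cE5741) (BT.leaf cE5742))) (BT.node 5745 (BT.node 5744 (BT.node 5743 (BT.leaf cE5743) (BT.leaf cE5744)) (BT.leaf cE5745)) (BT.node 5746 (BT.leaf cE5746) (BT.leaf cE5747)))) (BT.node 5752 (BT.node 5750 (BT.node 5749 (BT.node 5748 (BT.leaf cE5748) (BT.leaf cE5749)) (BT.leaf cE5750)) (BT.node 5751 (BT.leaf cE5751) (BT.leaf cE5752))) (BT.node 5755 (BT.node 5754 (BT.node 5753 (BT.leaf cE5753) (BT.leaf cE5754)) (BT.leaf cE5755)) (BT.node 5756 (BT.leaf cE5756) (BT.leaf cE5757))))) (BT.node 5767 (BT.node 5762 (BT.node 5760 (BT.node 5759 (BT.node 5758 (BT.leaf cE5758) (BT.leaf cE5759)) (BT.leaf cE5760)) (BT.node 5761 (BT.leaf cE5761) (BT.leaf cE5762))) (BT.node 5765 (BT.node 5764 (BT.node 5763 (BT.leaf cE5763) (BT.leaf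 cE5764)) (BT.leaf cE5765)) (BT.node 5766 (BT.leaf cE5766) (BT.leaf cE5767)))) (BT.node 5772 (BT.node 5770 (BT.node 5769 (BT.node 5768 (BT.leaf cE5768) (BT.leaf cE5769)) (BT.leaf cE5770)) (BT.node 5771 (BT.leaf cE5771) (BT.leaf cE5772))) (BT.node 5775 (BT.node 5774 (BT.node 5773 (BT.leaf cE5773) (BT.leaf cE5774)) (BT.leaf cE5775)) (BT.node 5776 (BT.leaf cE5776) (BT.leaf cE5777)))))) (BT.node 5797 (BT.node 5787 (BT.node 5782 (BT.node 5780 (BT.node 5779 (BT.node 5778 (BT.leaf cE5778) (BT.leaf cE5779)) (BT.leaf cE5780)) (BT.node 5781 (BT.leaf cE5781) (BT.leaf cE5782))) (BT.node 5785 (BT.node 5784 (BT.node 5783 (BT.leaf cE5783) (BT.leaf cE5784)) (BT.leaf cE5785)) (BT.node 5786 (BT.leaf cE5786) (BT.leaf cE5787)))) (BT.node 5792 (BT.node 5790 (BT.node 5789 (BT.node 5788 (BT.leaf cE5788) (BT.leaf cE5789)) (BT.leaf cE5790)) (BT.node 5791 (BT.leaf cE5791) (BT.leaf cE5792)))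 (BT.node 5795 (BT.node 5794 (BT.node 5793 (BT.leaf cE5793) (BT.leaf cE5794)) (BT.leaf cE5795)) (BT.node 5796 (BT.leaf cE5796) (BT.leaf cE5797))))) (BT.node 5807 (BT.node 5802 (BT.node 5800 (BT.node 5799 (BT.node 5798 (BT.leaf cE5798) (BT.leaf cE5799)) (BT.leaf cE5800)) (BT.node 5801 (BT.leaf cE5801) (BT.leaf cE5802))) (BT.node 5805 (BT.node 5804 (BT.node 5803 (BT.leaf cE5803) (BT.leaf cE5804)) (BT.leaf cE5805)) (BT.node 5806 (BT.leaf cE5806) (BT.leaf cE5807)))) (BT.node 5812 (BT.node 5810 (BT.node 5809 (BT.node 5808 (BT.leaf cE5808) (BT.leaf cE5809)) (BT.leaf cE5810)) (BT.node 5811 (BT.leaf cE5811) (BT.leaf cE5812))) (BT.node 5815 (BT.node 5814 (BT.node 5813 (BT.leaf cE5813) (BT.leaf cE5814)) (BT.leaf cE5815)) (BT.node 5816 (BT.leaf cE5816) (BT.leaf cE5817))))))))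
noncomputable def colET_36 : BT ℕ := (BT.node 5898 (BT.node 5858 (BT.node 5838 (BT.node 5828 (BT.node 5823 (BT.node 5820 (BT.node 5819 (BT.node 5818 (BT.leaf cE5818) (BT.leaf cE5819)) (BT.leaf cE5820)) (BT.node 5822 (BT.node 5821 (BT.leaf cE5821) (BT.leaf cE5822)) (BT.leaf cE5823))) (BT.node 5826 (BT.node 5825 (BT.node 5824 (BT.leaf cE5824) (BT.leaf cE5825)) (BT.leaf cE5826)) (BT.node 5827 (BT.leaf cE5827) (BT.leaf cE5828)))) (BT.node 5833 (BT.node 5831 (BT.node 5830 (BT.node 5829 (BT.leaf cE5829) (BT.leaf cE5830)) (BT.leaf cE5831)) (BT.node 5832 (BT.leaf cE5832) (BT.leaf cE5833))) (BT.node 5836 (BT.node 5835 (BT.node 5834 (BT.leaf cE5834) (BT.leaf cE5835)) (BT.leaf cE5836)) (BT.node 5837 (BT.leaf cE5837) (BT.leaf cE5838))))) (BT.node 5848 (BT.node 5843 (BT.node 5841 (BT.node 5840 (BT.node 5839 (BT.leaf cE5839) (BT.leaf cE5840)) (BT.leaf cE5841)) (BT.node 5842 (BT.leaf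 cE5842) (BT.leaf cE5843))) (BT.node 5846 (BT.node 5845 (BT.node 5844 (BT.leaf cE5844) (BT.leaf cE5845)) (BT.leaf cE5846)) (BT.node 5847 (BT.leaf cE5847) (BT.leaf cE5848)))) (BT.node 5853 (BT.node 5851 (BT.node 5850 (BT.node 5849 (BT.leaf cE5849) (BT.leaf cE5850)) (BT.leaf cE5851)) (BT.node 5852 (BT.leaf cE5852) (BT.leaf cE5853))) (BT.node 5856 (BT.node 5855 (BT.node 5854 (BT.leaf cE5854) (BT.leaf cE5855)) (BT.leaf cE5856)) (BT.node 5857 (BT.leaf cE5857) (BT.leaf cE5858)))))) (BT.node 5878 (BT.node 5868 (BT.node 5863 (BT.node 5861 (BT.node 5860 (BT.node 5859 (BT.leaf cE5859) (BT.leaf cE5860)) (BT.leaf cE5861)) (BT.node 5862 (BT.leaf cE5862) (BT.leaf cE5863))) (BT.node 5866 (BT.node 5865 (BT.node 5864 (BT.leaf cE5864) (BT.leaf cE5865)) (BT.leaf cE5866)) (BT.node 5867 (BT.leaf cE5867) (BT.leaf cE5868)))) (BT.node 5873 (BT.node 5871 (BT.node 5870 (BT.node 5869 (BT.leaf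 cE5869) (BT.leaf cE5870)) (BT.leaf cE5871)) (BT.node 5872 (BT.leaf cE5872) (BT.leaf cE5873))) (BT.node 5876 (BT.node 5875 (BT.node 5874 (BT.leaf cE5874) (BT.leaf cE5875)) (BT.leaf cE5876)) (BT.node 5877 (BT.leaf cE5877) (BT.leaf cE5878))))) (BT.node 5888 (BT.node 5883 (BT.node 5881 (BT.node 5880 (BT.node 5879 (BT.leaf cE5879) (BT.leaf cE5880)) (BT.leaf cE5881)) (BT.node 5882 (BT.leaf cE5882) (BT.leaf cE5883))) (BT.node 5886 (BT.node 5885 (BT.node 5884 (BT.leaf cE5884) (BT.leaf cE5885)) (BT.leaf cE5886)) (BT.node 5887 (BT.leaf cE5887) (BT.leaf cE5888)))) (BT.node 5893 (BT.node 5891 (BT.node 5890 (BT.node 5889 (BT.leaf cE5889) (BT.leaf cE5890)) (BT.leaf cE5891)) (BT.node 5892 (BT.leaf cE5892) (BT.leaf cE5893))) (BT.node 5896 (BT.node 5895 (BT.node 5894 (BT.leaf cE5894) (BT.leaf cE5895)) (BT.leaf cE5896)) (BT.node 5897 (BT.leaf cE5897) (BT.leaf cE5898))))))) (BT.node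 5939 (BT.node 5919 (BT.node 5909 (BT.node 5904 (BT.node 5901 (BT.node 5900 (BT.node 5899 (BT.leaf cE5899) (BT.leaf cE5900)) (BT.leaf cE5901)) (BT.node 5903 (BT.node 5902 (BT.leaf cE5902) (BT.leaf cE5903)) (BT.leaf cE5904))) (BT.node 5907 (BT.node 5906 (BT.node 5905 (BT.leaf cE5905) (BT.leaf cE5906)) (BT.leaf cE5907)) (BT.node 5908 (BT.leaf cE5908) (BT.leaf cE5909)))) (BT.node 5914 (BT.node 5912 (BT.node 5911 (BT.node 5910 (BT.leaf cE5910) (BT.leaf cE5911)) (BT.leaf cE5912)) (BT.node 5913 (BT.leaf cE5913) (BT.leaf cE5914))) (BT.node 5917 (BT.node 5916 (BT.node 5915 (BT.leaf cE5915) (BT.leaf cE5916)) (BT.leaf cE5917)) (BT.node 5918 (BT.leaf cE5918) (BT.leaf cE5919))))) (BT.node 5929 (BT.node 5924 (BT.node 5922 (BT.node 5921 (BT.node 5920 (BT.leaf cE5920) (BT.leaf cE5921)) (BT.leaf cE5922)) (BT.node 5923 (BT.leaf cE5923) (BT.leaf cE5924))) (BT.node 5927 (BT.node 5926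 (BT.node 5925 (BT.leaf cE5925) (BT.leaf cE5926)) (BT.leaf cE5927)) (BT.node 5928 (BT.leaf cE5928) (BT.leaf cE5929)))) (BT.node 5934 (BT.node 5932 (BT.node 5931 (BT.node 5930 (BT.leaf cE5930) (BT.leaf cE5931)) (BT.leaf cE5932)) (BT.node 5933 (BT.leaf cE5933) (BT.leaf cE5934))) (BT.node 5937 (BT.node 5936 (BT.node 5935 (BT.leaf cE5935) (BT.leaf cE5936)) (BT.leaf cE5937)) (BT.node 5938 (BT.leaf cE5938) (BT.leaf cE5939)))))) (BT.node 5959 (BT.node 5949 (BT.node 5944 (BT.node 5942 (BT.node 5941 (BT.node 5940 (BT.leaf cE5940) (BT.leaf cE5941)) (BT.leaf cE5942)) (BT.node 5943 (BT.leaf cE5943) (BT.leaf cE5944))) (BT.node 5947 (BT.node 5946 (BT.node 5945 (BT.leaf cE5945) (BT.leaf cE5946)) (BT.leaf cE5947)) (BT.node 5948 (BT.leaf cE5948) (BT.leaf cE5949)))) (BT.node 5954 (BT.node 5952 (BT.node 5951 (BT.node 5950 (BT.leaf cE5950) (BT.leaf cE5951)) (BT.leaf cE5952)) (BT.node 5953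 (BT.leaf cE5953) (BT.leaf cE5954))) (BT.node 5957 (BT.node 5956 (BT.node 5955 (BT.leaf cE5955) (BT.leaf cE5956)) (BT.leaf cE5957)) (BT.node 5958 (BT.leaf cE5958) (BT.leaf cE5959))))) (BT.node 5969 (BT.node 5964 (BT.node 5962 (BT.node 5961 (BT.node 5960 (BT.leaf cE5960) (BT.leaf cE5961)) (BT.leaf cE5962)) (BT.node 5963 (BT.leaf cE5963) (BT.leaf cE5964))) (BT.node 5967 (BT.node 5966 (BT.node 5965 (BT.leaf cE5965) (BT.leaf cE5966)) (BT.leaf cE5967)) (BT.node 5968 (BT.leaf cE5968) (BT.leaf cE5969)))) (BT.node 5974 (BT.node 5972 (BT.node 5971 (BT.node 5970 (BT.leaf cE5970) (BT.leaf cE5971)) (BT.leaf cE5972)) (BT.node 5973 (BT.leaf cE5973) (BT.leaf cE5974))) (BT.node 5977 (BT.node 5976 (BT.node 5975 (BT.leaf cE5975) (BT.leaf cE5976)) (BT.leaf cE5977)) (BT.node 5978 (BT.leaf cE5978) (BT.leaf cE5979))))))))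
noncomputable def colET_37 : BT ℕ := (BT.node 6060 (BT.node 6020 (BT.node 6000 (BT.node 5990 (BT.node 5985 (BT.node 5982 (BT.node 5981 (BT.node 5980 (BT.leaf cE5980) (BT.leaf cE5981)) (BT.leaf cE5982)) (BT.node 5984 (BT.node 5983 (BT.leaf cE5983) (BT.leaf cE5984)) (BT.leaf cE5985))) (BT.node 5988 (BT.node 5987 (BT.node 5986 (BT.leaf cE5986) (BT.leaf cE5987)) (BT.leaf cE5988)) (BT.node 5989 (BT.leaf cE5989) (BT.leaf cE5990)))) (BT.node 5995 (BT.node 5993 (BT.node 5992 (BT.node 5991 (BT.leaf cE5991) (BT.leaf cE5992)) (BT.leaf cE5993)) (BT.node 5994 (BT.leaf cE5994) (BT.leaf cE5995))) (BT.node 5998 (BT.node 5997 (BT.node 5996 (BT.leaf cE5996) (BT.leaf cE5997)) (BT.leaf cE5998)) (BT.node 5999 (BT.leaf cE5999) (BT.leaf cE6000))))) (BT.node 6010 (BT.node 6005 (BT.node 6003 (BT.node 6002 (BT.node 6001 (BT.leaf cE6001) (BT.leaf cE6002)) (BT.leaf cE6003)) (BT.node 6004 (BT.leaf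 cE6004) (BT.leaf cE6005))) (BT.node 6008 (BT.node 6007 (BT.node 6006 (BT.leaf cE6006) (BT.leaf cE6007)) (BT.leaf cE6008)) (BT.node 6009 (BT.leaf cE6009) (BT.leaf cE6010)))) (BT.node 6015 (BT.node 6013 (BT.node 6012 (BT.node 6011 (BT.leaf cE6011) (BT.leaf cE6012)) (BT.leaf cE6013)) (BT.node 6014 (BT.leaf cE6014) (BT.leaf cE6015))) (BT.node 6018 (BT.node 6017 (BT.node 6016 (BT.leaf cE6016) (BT.leaf cE6017)) (BT.leaf cE6018)) (BT.node 6019 (BT.leaf cE6019) (BT.leaf cE6020)))))) (BT.node 6040 (BT.node 6030 (BT.node 6025 (BT.node 6023 (BT.node 6022 (BT.node 6021 (BT.leaf cE6021) (BT.leaf cE6022)) (BT.leaf cE6023)) (BT.node 6024 (BT.leaf cE6024) (BT.leaf cE6025))) (BT.node 6028 (BT.node 6027 (BT.node 6026 (BT.leaf cE6026) (BT.leaf cE6027)) (BT.leaf cE6028)) (BT.node 6029 (BT.leaf cE6029) (BT.leaf cE6030)))) (BT.node 6035 (BT.node 6033 (BT.node 6032 (BT.node 6031 (BT.leaf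 cE6031) (BT.leaf cE6032)) (BT.leaf cE6033)) (BT.node 6034 (BT.leaf cE6034) (BT.leaf cE6035))) (BT.node 6038 (BT.node 6037 (BT.node 6036 (BT.leaf cE6036) (BT.leaf cE6037)) (BT.leaf cE6038)) (BT.node 6039 (BT.leaf cE6039) (BT.leaf cE6040))))) (BT.node 6050 (BT.node 6045 (BT.node 6043 (BT.node 6042 (BT.node 6041 (BT.leaf cE6041) (BT.leaf cE6042)) (BT.leaf cE6043)) (BT.node 6044 (BT.leaf cE6044) (BT.leaf cE6045))) (BT.node 6048 (BT.node 6047 (BT.node 6046 (BT.leaf cE6046) (BT.leaf cE6047)) (BT.leaf cE6048)) (BT.node 6049 (BT.leaf cE6049) (BT.leaf cE6050)))) (BT.node 6055 (BT.node 6053 (BT.node 6052 (BT.node 6051 (BT.leaf cE6051) (BT.leaf cE6052)) (BT.leaf cE6053)) (BT.node 6054 (BT.leaf cE6054) (BT.leaf cE6055))) (BT.node 6058 (BT.node 6057 (BT.node 6056 (BT.leaf cE6056) (BT.leaf cE6057)) (BT.leaf cE6058)) (BT.node 6059 (BT.leaf cE6059) (BT.leaf cE6060))))))) (BT.node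 6100 (BT.node 6080 (BT.node 6070 (BT.node 6065 (BT.node 6063 (BT.node 6062 (BT.node 6061 (BT.leaf cE6061) (BT.leaf cE6062)) (BT.leaf cE6063)) (BT.node 6064 (BT.leaf cE6064) (BT.leaf cE6065))) (BT.node 6068 (BT.node 6067 (BT.node 6066 (BT.leaf cE6066) (BT.leaf cE6067)) (BT.leaf cE6068)) (BT.node 6069 (BT.leaf cE6069) (BT.leaf cE6070)))) (BT.node 6075 (BT.node 6073 (BT.node 6072 (BT.node 6071 (BT.leaf cE6071) (BT.leaf cE6072)) (BT.leaf cE6073)) (BT.node 6074 (BT.leaf cE6074) (BT.leaf cE6075))) (BT.node 6078 (BT.node 6077 (BT.node 6076 (BT.leaf cE6076) (BT.leaf cE6077)) (BT.leaf cE6078)) (BT.node 6079 (BT.leaf cE6079) (BT.leaf cE6080))))) (BT.node 6090 (BT.node 6085 (BT.node 6083 (BT.node 6082 (BT.node 6081 (BT.leaf cE6081) (BT.leaf cE6082)) (BT.leaf cE6083)) (BT.node 6084 (BT.leaf cE6084) (BT.leaf cE6085))) (BT.node 6088 (BT.node 6087 (BT.node 6086 (BT.leaf cE6086) (BT.leaf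 cE6087)) (BT.leaf cE6088)) (BT.node 6089 (BT.leaf cE6089) (BT.leaf cE6090)))) (BT.node 6095 (BT.node 6093 (BT.node 6092 (BT.node 6091 (BT.leaf cE6091) (BT.leaf cE6092)) (BT.leaf cE6093)) (BT.node 6094 (BT.leaf cE6094) (BT.leaf cE6095))) (BT.node 6098 (BT.node 6097 (BT.node 6096 (BT.leaf cE6096) (BT.leaf cE6097)) (BT.leaf cE6098)) (BT.node 6099 (BT.leaf cE6099) (BT.leaf cE6100)))))) (BT.node 6120 (BT.node 6110 (BT.node 6105 (BT.node 6103 (BT.node 6102 (BT.node 6101 (BT.leaf cE6101) (BT.leaf cE6102)) (BT.leaf cE6103)) (BT.node 6104 (BT.leaf cE6104) (BT.leaf cE6105))) (BT.node 6108 (BT.node 6107 (BT.node 6106 (BT.leaf cE6106) (BT.leaf cE6107)) (BT.leaf cE6108)) (BT.node 6109 (BT.leaf cE6109) (BT.leaf cE6110)))) (BT.node 6115 (BT.node 6113 (BT.node 6112 (BT.node 6111 (BT.leaf cE6111) (BT.leaf cE6112)) (BT.leaf cE6113)) (BT.node 6114 (BT.leaf cE6114) (BT.leaf cE6115)))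 (BT.node 6118 (BT.node 6117 (BT.node 6116 (BT.leaf cE6116) (BT.leaf cE6117)) (BT.leaf cE6118)) (BT.node 6119 (BT.leaf cE6119) (BT.leaf cE6120))))) (BT.node 6130 (BT.node 6125 (BT.node 6123 (BT.node 6122 (BT.node 6121 (BT.leaf cE6121) (BT.leaf cE6122)) (BT.leaf cE6123)) (BT.node 6124 (BT.leaf cE6124) (BT.leaf cE6125))) (BT.node 6128 (BT.node 6127 (BT.node 6126 (BT.leaf cE6126) (BT.leaf cE6127)) (BT.leaf cE6128)) (BT.node 6129 (BT.leaf cE6129) (BT.leaf cE6130)))) (BT.node 6135 (BT.node 6133 (BT.node 6132 (BT.node 6131 (BT.leaf cE6131) (BT.leaf cE6132)) (BT.leaf cE6133)) (BT.node 6134 (BT.leaf cE6134) (BT.leaf cE6135))) (BT.node 6138 (BT.node 6137 (BT.node 6136 (BT.leaf cE6136) (BT.leaf cE6137)) (BT.leaf cE6138)) (BT.node 6139 (BT.leaf cE6139) (BT.leaf cE6140))))))))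
noncomputable def colET_38 : BT ℕ := (BT.node 6221 (BT.node 6181 (BT.node 6161 (BT.node 6151 (BT.node 6146 (BT.node 6143 (BT.node 6142 (BT.node 6141 (BT.leaf cE6141) (BT.leaf cE6142)) (BT.leaf cE6143)) (BT.node 6145 (BT.node 6144 (BT.leaf cE6144) (BT.leaf cE6145)) (BT.leaf cE6146))) (BT.node 6149 (BT.node 6148 (BT.node 6147 (BT.leaf cE6147) (BT.leaf cE6148)) (BT.leaf cE6149)) (BT.node 6150 (BT.leaf cE6150) (BT.leaf cE6151)))) (BT.node 6156 (BT.node 6154 (BT.node 6153 (BT.node 6152 (BT.leaf cE6152) (BT.leaf cE6153)) (BT.leaf cE6154)) (BT.node 6155 (BT.leaf cE6155) (BT.leaf cE6156))) (BT.node 6159 (BT.node 6158 (BT.node 6157 (BT.leaf cE6157) (BT.leaf cE6158)) (BT.leaf cE6159)) (BT.node 6160 (BT.leaf cE6160) (BT.leaf cE6161))))) (BT.node 6171 (BT.node 6166 (BT.node 6164 (BT.node 6163 (BT.node 6162 (BT.leaf cE6162) (BT.leaf cE6163)) (BT.leaf cE6164)) (BT.node 6165 (BT.leaf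 cE6165) (BT.leaf cE6166))) (BT.node 6169 (BT.node 6168 (BT.node 6167 (BT.leaf cE6167) (BT.leaf cE6168)) (BT.leaf cE6169)) (BT.node 6170 (BT.leaf cE6170) (BT.leaf cE6171)))) (BT.node 6176 (BT.node 6174 (BT.node 6173 (BT.node 6172 (BT.leaf cE6172) (BT.leaf cE6173)) (BT.leaf cE6174)) (BT.node 6175 (BT.leaf cE6175) (BT.leaf cE6176))) (BT.node 6179 (BT.node 6178 (BT.node 6177 (BT.leaf cE6177) (BT.leaf cE6178)) (BT.leaf cE6179)) (BT.node 6180 (BT.leaf cE6180) (BT.leaf cE6181)))))) (BT.node 6201 (BT.node 6191 (BT.node 6186 (BT.node 6184 (BT.node 6183 (BT.node 6182 (BT.leaf cE6182) (BT.leaf cE6183)) (BT.leaf cE6184)) (BT.node 6185 (BT.leaf cE6185) (BT.leaf cE6186))) (BT.node 6189 (BT.node 6188 (BT.node 6187 (BT.leaf cE6187) (BT.leaf cE6188)) (BT.leaf cE6189)) (BT.node 6190 (BT.leaf cE6190) (BT.leaf cE6191)))) (BT.node 6196 (BT.node 6194 (BT.node 6193 (BT.node 6192 (BT.leaf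 cE6192) (BT.leaf cE6193)) (BT.leaf cE6194)) (BT.node 6195 (BT.leaf cE6195) (BT.leaf cE6196))) (BT.node 6199 (BT.node 6198 (BT.node 6197 (BT.leaf cE6197) (BT.leaf cE6198)) (BT.leaf cE6199)) (BT.node 6200 (BT.leaf cE6200) (BT.leaf cE6201))))) (BT.node 6211 (BT.node 6206 (BT.node 6204 (BT.node 6203 (BT.node 6202 (BT.leaf cE6202) (BT.leaf cE6203)) (BT.leaf cE6204)) (BT.node 6205 (BT.leaf cE6205) (BT.leaf cE6206))) (BT.node 6209 (BT.node 6208 (BT.node 6207 (BT.leaf cE6207) (BT.leaf cE6208)) (BT.leaf cE6209)) (BT.node 6210 (BT.leaf cE6210) (BT.leaf cE6211)))) (BT.node 6216 (BT.node 6214 (BT.node 6213 (BT.node 6212 (BT.leaf cE6212) (BT.leaf cE6213)) (BT.leaf cE6214)) (BT.node 6215 (BT.leaf cE6215) (BT.leaf cE6216))) (BT.node 6219 (BT.node 6218 (BT.node 6217 (BT.leaf cE6217) (BT.leaf cE6218)) (BT.leaf cE6219)) (BT.node 6220 (BT.leaf cE6220) (BT.leaf cE6221))))))) (BT.node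 6262 (BT.node 6242 (BT.node 6232 (BT.node 6227 (BT.node 6224 (BT.node 6223 (BT.node 6222 (BT.leaf cE6222) (BT.leaf cE6223)) (BT.leaf cE6224)) (BT.node 6226 (BT.node 6225 (BT.leaf cE6225) (BT.leaf cE6226)) (BT.leaf cE6227))) (BT.node 6230 (BT.node 6229 (BT.node 6228 (BT.leaf cE6228) (BT.leaf cE6229)) (BT.leaf cE6230)) (BT.node 6231 (BT.leaf cE6231) (BT.leaf cE6232)))) (BT.node 6237 (BT.node 6235 (BT.node 6234 (BT.node 6233 (BT.leaf cE6233) (BT.leaf cE6234)) (BT.leaf cE6235)) (BT.node 6236 (BT.leaf cE6236) (BT.leaf cE6237))) (BT.node 6240 (BT.node 6239 (BT.node 6238 (BT.leaf cE6238) (BT.leaf cE6239)) (BT.leaf cE6240)) (BT.node 6241 (BT.leaf cE6241) (BT.leaf cE6242))))) (BT.node 6252 (BT.node 6247 (BT.node 6245 (BT.node 6244 (BT.node 6243 (BT.leaf cE6243) (BT.leaf cE6244)) (BT.leaf cE6245)) (BT.node 6246 (BT.leaf cE6246) (BT.leaf cE6247))) (BT.node 6250 (BT.node 6249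 (BT.node 6248 (BT.leaf cE6248) (BT.leaf cE6249)) (BT.leaf cE6250)) (BT.node 6251 (BT.leaf cE6251) (BT.leaf cE6252)))) (BT.node 6257 (BT.node 6255 (BT.node 6254 (BT.node 6253 (BT.leaf cE6253) (BT.leaf cE6254)) (BT.leaf cE6255)) (BT.node 6256 (BT.leaf cE6256) (BT.leaf cE6257))) (BT.node 6260 (BT.node 6259 (BT.node 6258 (BT.leaf cE6258) (BT.leaf cE6259)) (BT.leaf cE6260)) (BT.node 6261 (BT.leaf cE6261) (BT.leaf cE6262)))))) (BT.node 6282 (BT.node 6272 (BT.node 6267 (BT.node 6265 (BT.node 6264 (BT.node 6263 (BT.leaf cE6263) (BT.leaf cE6264)) (BT.leaf cE6265)) (BT.node 6266 (BT.leaf cE6266) (BT.leaf cE6267))) (BT.node 6270 (BT.node 6269 (BT.node 6268 (BT.leaf cE6268) (BT.leaf cE6269)) (BT.leaf cE6270)) (BT.node 6271 (BT.leaf cE6271) (BT.leaf cE6272)))) (BT.node 6277 (BT.node 6275 (BT.node 6274 (BT.node 6273 (BT.leaf cE6273) (BT.leaf cE6274)) (BT.leaf cE6275)) (BT.node 6276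 (BT.leaf cE6276) (BT.leaf cE6277))) (BT.node 6280 (BT.node 6279 (BT.node 6278 (BT.leaf cE6278) (BT.leaf cE6279)) (BT.leaf cE6280)) (BT.node 6281 (BT.leaf cE6281) (BT.leaf cE6282))))) (BT.node 6292 (BT.node 6287 (BT.node 6285 (BT.node 6284 (BT.node 6283 (BT.leaf cE6283) (BT.leaf cE6284)) (BT.leaf cE6285)) (BT.node 6286 (BT.leaf cE6286) (BT.leaf cE6287))) (BT.node 6290 (BT.node 6289 (BT.node 6288 (BT.leaf cE6288) (BT.leaf cE6289)) (BT.leaf cE6290)) (BT.node 6291 (BT.leaf cE6291) (BT.leaf cE6292)))) (BT.node 6297 (BT.node 6295 (BT.node 6294 (BT.node 6293 (BT.leaf cE6293) (BT.leaf cE6294)) (BT.leaf cE6295)) (BT.node 6296 (BT.leaf cE6296) (BT.leaf cE6297))) (BT.node 6300 (BT.node 6299 (BT.node 6298 (BT.leaf cE6298) (BT.leaf cE6299)) (BT.leaf cE6300)) (BT.node 6301 (BT.leaf cE6301) (BT.leaf cE6302))))))))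
noncomputable def colET_39 : BT ℕ := (BT.node 6383 (BT.node 6343 (BT.node 6323 (BT.node 6313 (BT.node 6308 (BT.node 6305 (BT.node 6304 (BT.node 6303 (BT.leaf cE6303) (BT.leaf cE6304)) (BT.leaf cE6305)) (BT.node 6307 (BT.node 6306 (BT.leaf cE6306) (BT.leaf cE6307)) (BT.leaf cE6308))) (BT.node 6311 (BT.node 6310 (BT.node 6309 (BT.leaf cE6309) (BT.leaf cE6310)) (BT.leaf cE6311)) (BT.node 6312 (BT.leaf cE6312) (BT.leaf cE6313)))) (BT.node 6318 (BT.node 6316 (BT.node 6315 (BT.node 6314 (BT.leaf cE6314) (BT.leaf cE6315)) (BT.leaf cE6316)) (BT.node 6317 (BT.leaf cE6317) (BT.leaf cE6318))) (BT.node 6321 (BT.node 6320 (BT.node 6319 (BT.leaf cE6319) (BT.leaf cE6320)) (BT.leaf cE6321)) (BT.node 6322 (BT.leaf cE6322) (BT.leaf cE6323))))) (BT.node 6333 (BT.node 6328 (BT.node 6326 (BT.node 6325 (BT.node 6324 (BT.leaf cE6324) (BT.leaf cE6325)) (BT.leaf cE6326)) (BT.node 6327 (BT.leaf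 cE6327) (BT.leaf cE6328))) (BT.node 6331 (BT.node 6330 (BT.node 6329 (BT.leaf cE6329) (BT.leaf cE6330)) (BT.leaf cE6331)) (BT.node 6332 (BT.leaf cE6332) (BT.leaf cE6333)))) (BT.node 6338 (BT.node 6336 (BT.node 6335 (BT.node 6334 (BT.leaf cE6334) (BT.leaf cE6335)) (BT.leaf cE6336)) (BT.node 6337 (BT.leaf cE6337) (BT.leaf cE6338))) (BT.node 6341 (BT.node 6340 (BT.node 6339 (BT.leaf cE6339) (BT.leaf cE6340)) (BT.leaf cE6341)) (BT.node 6342 (BT.leaf cE6342) (BT.leaf cE6343)))))) (BT.node 6363 (BT.node 6353 (BT.node 6348 (BT.node 6346 (BT.node 6345 (BT.node 6344 (BT.leaf cE6344) (BT.leaf cE6345)) (BT.leaf cE6346)) (BT.node 6347 (BT.leaf cE6347) (BT.leaf cE6348))) (BT.node 6351 (BT.node 6350 (BT.node 6349 (BT.leaf cE6349) (BT.leaf cE6350)) (BT.leaf cE6351)) (BT.node 6352 (BT.leaf cE6352) (BT.leaf cE6353)))) (BT.node 6358 (BT.node 6356 (BT.node 6355 (BT.node 6354 (BT.leaf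 cE6354) (BT.leaf cE6355)) (BT.leaf cE6356)) (BT.node 6357 (BT.leaf cE6357) (BT.leaf cE6358))) (BT.node 6361 (BT.node 6360 (BT.node 6359 (BT.leaf cE6359) (BT.leaf cE6360)) (BT.leaf cE6361)) (BT.node 6362 (BT.leaf cE6362) (BT.leaf cE6363))))) (BT.node 6373 (BT.node 6368 (BT.node 6366 (BT.node 6365 (BT.node 6364 (BT.leaf cE6364) (BT.leaf cE6365)) (BT.leaf cE6366)) (BT.node 6367 (BT.leaf cE6367) (BT.leaf cE6368))) (BT.node 6371 (BT.node 6370 (BT.node 6369 (BT.leaf cE6369) (BT.leaf cE6370)) (BT.leaf cE6371)) (BT.node 6372 (BT.leaf cE6372) (BT.leaf cE6373)))) (BT.node 6378 (BT.node 6376 (BT.node 6375 (BT.node 6374 (BT.leaf cE6374) (BT.leaf cE6375)) (BT.leaf cE6376)) (BT.node 6377 (BT.leaf cE6377) (BT.leaf cE6378))) (BT.node 6381 (BT.node 6380 (BT.node 6379 (BT.leaf cE6379) (BT.leaf cE6380)) (BT.leaf cE6381)) (BT.node 6382 (BT.leaf cE6382) (BT.leaf cE6383))))))) (BT.node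 6423 (BT.node 6403 (BT.node 6393 (BT.node 6388 (BT.node 6386 (BT.node 6385 (BT.node 6384 (BT.leaf cE6384) (BT.leaf cE6385)) (BT.leaf cE6386)) (BT.node 6387 (BT.leaf cE6387) (BT.leaf cE6388))) (BT.node 6391 (BT.node 6390 (BT.node 6389 (BT.leaf cE6389) (BT.leaf cE6390)) (BT.leaf cE6391)) (BT.node 6392 (BT.leaf cE6392) (BT.leaf cE6393)))) (BT.node 6398 (BT.node 6396 (BT.node 6395 (BT.node 6394 (BT.leaf cE6394) (BT.leaf cE6395)) (BT.leaf cE6396)) (BT.node 6397 (BT.leaf cE6397) (BT.leaf cE6398))) (BT.node 6401 (BT.node 6400 (BT.node 6399 (BT.leaf cE6399) (BT.leaf cE6400)) (BT.leaf cE6401)) (BT.node 6402 (BT.leaf cE6402) (BT.leaf cE6403))))) (BT.node 6413 (BT.node 6408 (BT.node 6406 (BT.node 6405 (BT.node 6404 (BT.leaf cE6404) (BT.leaf cE6405)) (BT.leaf cE6406)) (BT.node 6407 (BT.leaf cE6407) (BT.leaf cE6408))) (BT.node 6411 (BT.node 6410 (BT.node 6409 (BT.leaf cE6409) (BT.leaf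 cE6410)) (BT.leaf cE6411)) (BT.node 6412 (BT.leaf cE6412) (BT.leaf cE6413)))) (BT.node 6418 (BT.node 6416 (BT.node 6415 (BT.node 6414 (BT.leaf cE6414) (BT.leaf cE6415)) (BT.leaf cE6416)) (BT.node 6417 (BT.leaf cE6417) (BT.leaf cE6418))) (BT.node 6421 (BT.node 6420 (BT.node 6419 (BT.leaf cE6419) (BT.leaf cE6420)) (BT.leaf cE6421)) (BT.node 6422 (BT.leaf cE6422) (BT.leaf cE6423)))))) (BT.node 6443 (BT.node 6433 (BT.node 6428 (BT.node 6426 (BT.node 6425 (BT.node 6424 (BT.leaf cE6424) (BT.leaf cE6425)) (BT.leaf cE6426)) (BT.node 6427 (BT.leaf cE6427) (BT.leaf cE6428))) (BT.node 6431 (BT.node 6430 (BT.node 6429 (BT.leaf cE6429) (BT.leaf cE6430)) (BT.leaf cE6431)) (BT.node 6432 (BT.leaf cE6432) (BT.leaf cE6433)))) (BT.node 6438 (BT.node 6436 (BT.node 6435 (BT.node 6434 (BT.leaf cE6434) (BT.leaf cE6435)) (BT.leaf cE6436)) (BT.node 6437 (BT.leaf cE6437) (BT.leaf cE6438)))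 (BT.node 6441 (BT.node 6440 (BT.node 6439 (BT.leaf cE6439) (BT.leaf cE6440)) (BT.leaf cE6441)) (BT.node 6442 (BT.leaf cE6442) (BT.leaf cE6443))))) (BT.node 6453 (BT.node 6448 (BT.node 6446 (BT.node 6445 (BT.node 6444 (BT.leaf cE6444) (BT.leaf cE6445)) (BT.leaf cE6446)) (BT.node 6447 (BT.leaf cE6447) (BT.leaf cE6448))) (BT.node 6451 (BT.node 6450 (BT.node 6449 (BT.leaf cE6449) (BT.leaf cE6450)) (BT.leaf cE6451)) (BT.node 6452 (BT.leaf cE6452) (BT.leaf cE6453)))) (BT.node 6458 (BT.node 6456 (BT.node 6455 (BT.node 6454 (BT.leaf cE6454) (BT.leaf cE6455)) (BT.leaf cE6456)) (BT.node 6457 (BT.leaf cE6457) (BT.leaf cE6458))) (BT.node 6461 (BT.node 6460 (BT.node 6459 (BT.leaf cE6459) (BT.leaf cE6460)) (BT.leaf cE6461)) (BT.node 6462 (BT.leaf cE6462) (BT.leaf cE6463))))))))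
noncomputable def colET_40 : BT ℕ := (BT.node 6544 (BT.node 6504 (BT.node 6484 (BT.node 6474 (BT.node 6469 (BT.node 6466 (BT.node 6465 (BT.node 6464 (BT.leaf cE6464) (BT.leaf cE6465)) (BT.leaf cE6466)) (BT.node 6468 (BT.node 6467 (BT.leaf cE6467) (BT.leaf cE6468)) (BT.leaf cE6469))) (BT.node 6472 (BT.node 6471 (BT.node 6470 (BT.leaf cE6470) (BT.leaf cE6471)) (BT.leaf cE6472)) (BT.node 6473 (BT.leaf cE6473) (BT.leaf cE6474)))) (BT.node 6479 (BT.node 6477 (BT.node 6476 (BT.node 6475 (BT.leaf cE6475) (BT.leaf cE6476)) (BT.leaf cE6477)) (BT.node 6478 (BT.leaf cE6478) (BT.leaf cE6479))) (BT.node 6482 (BT.node 6481 (BT.node 6480 (BT.leaf cE6480) (BT.leaf cE6481)) (BT.leaf cE6482)) (BT.node 6483 (BT.leaf cE6483) (BT.leaf cE6484))))) (BT.node 6494 (BT.node 6489 (BT.node 6487 (BT.node 6486 (BT.node 6485 (BT.leaf cE6485) (BT.leaf cE6486)) (BT.leaf cE6487)) (BT.node 6488 (BT.leaf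 cE6488) (BT.leaf cE6489))) (BT.node 6492 (BT.node 6491 (BT.node 6490 (BT.leaf cE6490) (BT.leaf cE6491)) (BT.leaf cE6492)) (BT.node 6493 (BT.leaf cE6493) (BT.leaf cE6494)))) (BT.node 6499 (BT.node 6497 (BT.node 6496 (BT.node 6495 (BT.leaf cE6495) (BT.leaf cE6496)) (BT.leaf cE6497)) (BT.node 6498 (BT.leaf cE6498) (BT.leaf cE6499))) (BT.node 6502 (BT.node 6501 (BT.node 6500 (BT.leaf cE6500) (BT.leaf cE6501)) (BT.leaf cE6502)) (BT.node 6503 (BT.leaf cE6503) (BT.leaf cE6504)))))) (BT.node 6524 (BT.node 6514 (BT.node 6509 (BT.node 6507 (BT.node 6506 (BT.node 6505 (BT.leaf cE6505) (BT.leaf cE6506)) (BT.leaf cE6507)) (BT.node 6508 (BT.leaf cE6508) (BT.leaf cE6509))) (BT.node 6512 (BT.node 6511 (BT.node 6510 (BT.leaf cE6510) (BT.leaf cE6511)) (BT.leaf cE6512)) (BT.node 6513 (BT.leaf cE6513) (BT.leaf cE6514)))) (BT.node 6519 (BT.node 6517 (BT.node 6516 (BT.node 6515 (BT.leaf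 cE6515) (BT.leaf cE6516)) (BT.leaf cE6517)) (BT.node 6518 (BT.leaf cE6518) (BT.leaf cE6519))) (BT.node 6522 (BT.node 6521 (BT.node 6520 (BT.leaf cE6520) (BT.leaf cE6521)) (BT.leaf cE6522)) (BT.node 6523 (BT.leaf cE6523) (BT.leaf cE6524))))) (BT.node 6534 (BT.node 6529 (BT.node 6527 (BT.node 6526 (BT.node 6525 (BT.leaf cE6525) (BT.leaf cE6526)) (BT.leaf cE6527)) (BT.node 6528 (BT.leaf cE6528) (BT.leaf cE6529))) (BT.node 6532 (BT.node 6531 (BT.node 6530 (BT.leaf cE6530) (BT.leaf cE6531)) (BT.leaf cE6532)) (BT.node 6533 (BT.leaf cE6533) (BT.leaf cE6534)))) (BT.node 6539 (BT.node 6537 (BT.node 6536 (BT.node 6535 (BT.leaf cE6535) (BT.leaf cE6536)) (BT.leaf cE6537)) (BT.node 6538 (BT.leaf cE6538) (BT.leaf cE6539))) (BT.node 6542 (BT.node 6541 (BT.node 6540 (BT.leaf cE6540) (BT.leaf cE6541)) (BT.leaf cE6542)) (BT.node 6543 (BT.leaf cE6543) (BT.leaf cE6544))))))) (BT.node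 6585 (BT.node 6565 (BT.node 6555 (BT.node 6550 (BT.node 6547 (BT.node 6546 (BT.node 6545 (BT.leaf cE6545) (BT.leaf cE6546)) (BT.leaf cE6547)) (BT.node 6549 (BT.node 6548 (BT.leaf cE6548) (BT.leaf cE6549)) (BT.leaf cE6550))) (BT.node 6553 (BT.node 6552 (BT.node 6551 (BT.leaf cE6551) (BT.leaf cE6552)) (BT.leaf cE6553)) (BT.node 6554 (BT.leaf cE6554) (BT.leaf cE6555)))) (BT.node 6560 (BT.node 6558 (BT.node 6557 (BT.node 6556 (BT.leaf cE6556) (BT.leaf cE6557)) (BT.leaf cE6558)) (BT.node 6559 (BT.leaf cE6559) (BT.leaf cE6560))) (BT.node 6563 (BT.node 6562 (BT.node 6561 (BT.leaf cE6561) (BT.leaf cE6562)) (BT.leaf cE6563)) (BT.node 6564 (BT.leaf cE6564) (BT.leaf cE6565))))) (BT.node 6575 (BT.node 6570 (BT.node 6568 (BT.node 6567 (BT.node 6566 (BT.leaf cE6566) (BT.leaf cE6567)) (BT.leaf cE6568)) (BT.node 6569 (BT.leaf cE6569) (BT.leaf cE6570))) (BT.node 6573 (BT.node 6572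 (BT.node 6571 (BT.leaf cE6571) (BT.leaf cE6572)) (BT.leaf cE6573)) (BT.node 6574 (BT.leaf cE6574) (BT.leaf cE6575)))) (BT.node 6580 (BT.node 6578 (BT.node 6577 (BT.node 6576 (BT.leaf cE6576) (BT.leaf cE6577)) (BT.leaf cE6578)) (BT.node 6579 (BT.leaf cE6579) (BT.leaf cE6580))) (BT.node 6583 (BT.node 6582 (BT.node 6581 (BT.leaf cE6581) (BT.leaf cE6582)) (BT.leaf cE6583)) (BT.node 6584 (BT.leaf cE6584) (BT.leaf cE6585)))))) (BT.node 6605 (BT.node 6595 (BT.node 6590 (BT.node 6588 (BT.node 6587 (BT.node 6586 (BT.leaf cE6586) (BT.leaf cE6587)) (BT.leaf cE6588)) (BT.node 6589 (BT.leaf cE6589) (BT.leaf cE6590))) (BT.node 6593 (BT.node 6592 (BT.node 6591 (BT.leaf cE6591) (BT.leaf cE6592)) (BT.leaf cE6593)) (BT.node 6594 (BT.leaf cE6594) (BT.leaf cE6595)))) (BT.node 6600 (BT.node 6598 (BT.node 6597 (BT.node 6596 (BT.leaf cE6596) (BT.leaf cE6597)) (BT.leaf cE6598)) (BT.node 6599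 (BT.leaf cE6599) (BT.leaf cE6600))) (BT.node 6603 (BT.node 6602 (BT.node 6601 (BT.leaf cE6601) (BT.leaf cE6602)) (BT.leaf cE6603)) (BT.node 6604 (BT.leaf cE6604) (BT.leaf cE6605))))) (BT.node 6615 (BT.node 6610 (BT.node 6608 (BT.node 6607 (BT.node 6606 (BT.leaf cE6606) (BT.leaf cE6607)) (BT.leaf cE6608)) (BT.node 6609 (BT.leaf cE6609) (BT.leaf cE6610))) (BT.node 6613 (BT.node 6612 (BT.node 6611 (BT.leaf cE6611) (BT.leaf cE6612)) (BT.leaf cE6613)) (BT.node 6614 (BT.leaf cE6614) (BT.leaf cE6615)))) (BT.node 6620 (BT.node 6618 (BT.node 6617 (BT.node 6616 (BT.leaf cE6616) (BT.leaf cE6617)) (BT.leaf cE6618)) (BT.node 6619 (BT.leaf cE6619) (BT.leaf cE6620))) (BT.node 6623 (BT.node 6622 (BT.node 6621 (BT.leaf cE6621) (BT.leaf cE6622)) (BT.leaf cE6623)) (BT.node 6624 (BT.leaf cE6624) (BT.leaf cE6625))))))))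
noncomputable def colET_41 : BT ℕ := (BT.node 6706 (BT.node 6666 (BT.node 6646 (BT.node 6636 (BT.node 6631 (BT.node 6628 (BT.node 6627 (BT.node 6626 (BT.leaf cE6626) (BT.leaf cE6627)) (BT.leaf cE6628)) (BT.node 6630 (BT.node 6629 (BT.leaf cE6629) (BT.leaf cE6630)) (BT.leaf cE6631))) (BT.node 6634 (BT.node 6633 (BT.node 6632 (BT.leaf cE6632) (BT.leaf cE6633)) (BT.leaf cE6634)) (BT.node 6635 (BT.leaf cE6635) (BT.leaf cE6636)))) (BT.node 6641 (BT.node 6639 (BT.node 6638 (BT.node 6637 (BT.leaf cE6637) (BT.leaf cE6638)) (BT.leaf cE6639)) (BT.node 6640 (BT.leaf cE6640) (BT.leaf cE6641))) (BT.node 6644 (BT.node 6643 (BT.node 6642 (BT.leaf cE6642) (BT.leaf cE6643)) (BT.leaf cE6644)) (BT.node 6645 (BT.leaf cE6645) (BT.leaf cE6646))))) (BT.node 6656 (BT.node 6651 (BT.node 6649 (BT.node 6648 (BT.node 6647 (BT.leaf cE6647) (BT.leaf cE6648)) (BT.leaf cE6649)) (BT.node 6650 (BT.leaf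 cE6650) (BT.leaf cE6651))) (BT.node 6654 (BT.node 6653 (BT.node 6652 (BT.leaf cE6652) (BT.leaf cE6653)) (BT.leaf cE6654)) (BT.node 6655 (BT.leaf cE6655) (BT.leaf cE6656)))) (BT.node 6661 (BT.node 6659 (BT.node 6658 (BT.node 6657 (BT.leaf cE6657) (BT.leaf cE6658)) (BT.leaf cE6659)) (BT.node 6660 (BT.leaf cE6660) (BT.leaf cE6661))) (BT.node 6664 (BT.node 6663 (BT.node 6662 (BT.leaf cE6662) (BT.leaf cE6663)) (BT.leaf cE6664)) (BT.node 6665 (BT.leaf cE6665) (BT.leaf cE6666)))))) (BT.node 6686 (BT.node 6676 (BT.node 6671 (BT.node 6669 (BT.node 6668 (BT.node 6667 (BT.leaf cE6667) (BT.leaf cE6668)) (BT.leaf cE6669)) (BT.node 6670 (BT.leaf cE6670) (BT.leaf cE6671))) (BT.node 6674 (BT.node 6673 (BT.node 6672 (BT.leaf cE6672) (BT.leaf cE6673)) (BT.leaf cE6674)) (BT.node 6675 (BT.leaf cE6675) (BT.leaf cE6676)))) (BT.node 6681 (BT.node 6679 (BT.node 6678 (BT.node 6677 (BT.leaf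 cE6677) (BT.leaf cE6678)) (BT.leaf cE6679)) (BT.node 6680 (BT.leaf cE6680) (BT.leaf cE6681))) (BT.node 6684 (BT.node 6683 (BT.node 6682 (BT.leaf cE6682) (BT.leaf cE6683)) (BT.leaf cE6684)) (BT.node 6685 (BT.leaf cE6685) (BT.leaf cE6686))))) (BT.node 6696 (BT.node 6691 (BT.node 6689 (BT.node 6688 (BT.node 6687 (BT.leaf cE6687) (BT.leaf cE6688)) (BT.leaf cE6689)) (BT.node 6690 (BT.leaf cE6690) (BT.leaf cE6691))) (BT.node 6694 (BT.node 6693 (BT.node 6692 (BT.leaf cE6692) (BT.leaf cE6693)) (BT.leaf cE6694)) (BT.node 6695 (BT.leaf cE6695) (BT.leaf cE6696)))) (BT.node 6701 (BT.node 6699 (BT.node 6698 (BT.node 6697 (BT.leaf cE6697) (BT.leaf cE6698)) (BT.leaf cE6699)) (BT.node 6700 (BT.leaf cE6700) (BT.leaf cE6701))) (BT.node 6704 (BT.node 6703 (BT.node 6702 (BT.leaf cE6702) (BT.leaf cE6703)) (BT.leaf cE6704)) (BT.node 6705 (BT.leaf cE6705) (BT.leaf cE6706))))))) (BT.node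 6747 (BT.node 6727 (BT.node 6717 (BT.node 6712 (BT.node 6709 (BT.node 6708 (BT.node 6707 (BT.leaf cE6707) (BT.leaf cE6708)) (BT.leaf cE6709)) (BT.node 6711 (BT.node 6710 (BT.leaf cE6710) (BT.leaf cE6711)) (BT.leaf cE6712))) (BT.node 6715 (BT.node 6714 (BT.node 6713 (BT.leaf cE6713) (BT.leaf cE6714)) (BT.leaf cE6715)) (BT.node 6716 (BT.leaf cE6716) (BT.leaf cE6717)))) (BT.node 6722 (BT.node 6720 (BT.node 6719 (BT.node 6718 (BT.leaf cE6718) (BT.leaf cE6719)) (BT.leaf cE6720)) (BT.node 6721 (BT.leaf cE6721) (BT.leaf cE6722))) (BT.node 6725 (BT.node 6724 (BT.node 6723 (BT.leaf cE6723) (BT.leaf cE6724)) (BT.leaf cE6725)) (BT.node 6726 (BT.leaf cE6726) (BT.leaf cE6727))))) (BT.node 6737 (BT.node 6732 (BT.node 6730 (BT.node 6729 (BT.node 6728 (BT.leaf cE6728) (BT.leaf cE6729)) (BT.leaf cE6730)) (BT.node 6731 (BT.leaf cE6731) (BT.leaf cE6732))) (BT.node 6735 (BT.node 6734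 (BT.node 6733 (BT.leaf cE6733) (BT.leaf cE6734)) (BT.leaf cE6735)) (BT.node 6736 (BT.leaf cE6736) (BT.leaf cE6737)))) (BT.node 6742 (BT.node 6740 (BT.node 6739 (BT.node 6738 (BT.leaf cE6738) (BT.leaf cE6739)) (BT.leaf cE6740)) (BT.node 6741 (BT.leaf cE6741) (BT.leaf cE6742))) (BT.node 6745 (BT.node 6744 (BT.node 6743 (BT.leaf cE6743) (BT.leaf cE6744)) (BT.leaf cE6745)) (BT.node 6746 (BT.leaf cE6746) (BT.leaf cE6747)))))) (BT.node 6767 (BT.node 6757 (BT.node 6752 (BT.node 6750 (BT.node 6749 (BT.node 6748 (BT.leaf cE6748) (BT.leaf cE6749)) (BT.leaf cE6750)) (BT.node 6751 (BT.leaf cE6751) (BT.leaf cE6752))) (BT.node 6755 (BT.node 6754 (BT.node 6753 (BT.leaf cE6753) (BT.leaf cE6754)) (BT.leaf cE6755)) (BT.node 6756 (BT.leaf cE6756) (BT.leaf cE6757)))) (BT.node 6762 (BT.node 6760 (BT.node 6759 (BT.node 6758 (BT.leaf cE6758) (BT.leaf cE6759)) (BT.leaf cE6760)) (BT.node 6761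 (BT.leaf cE6761) (BT.leaf cE6762))) (BT.node 6765 (BT.node 6764 (BT.node 6763 (BT.leaf cE6763) (BT.leaf cE6764)) (BT.leaf cE6765)) (BT.node 6766 (BT.leaf cE6766) (BT.leaf cE6767))))) (BT.node 6777 (BT.node 6772 (BT.node 6770 (BT.node 6769 (BT.node 6768 (BT.leaf cE6768) (BT.leaf cE6769)) (BT.leaf cE6770)) (BT.node 6771 (BT.leaf cE6771) (BT.leaf cE6772))) (BT.node 6775 (BT.node 6774 (BT.node 6773 (BT.leaf cE6773) (BT.leaf cE6774)) (BT.leaf cE6775)) (BT.node 6776 (BT.leaf cE6776) (BT.leaf cE6777)))) (BT.node 6782 (BT.node 6780 (BT.node 6779 (BT.node 6778 (BT.leaf cE6778) (BT.leaf cE6779)) (BT.leaf cE6780)) (BT.node 6781 (BT.leaf cE6781) (BT.leaf cE6782))) (BT.node 6785 (BT.node 6784 (BT.node 6783 (BT.leaf cE6783) (BT.leaf cE6784)) (BT.leaf cE6785)) (BT.node 6786 (BT.leaf cE6786) (BT.leaf cE6787))))))))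
noncomputable def colET_42 : BT ℕ := (BT.node 6868 (BT.node 6828 (BT.node 6808 (BT.node 6798 (BT.node 6793 (BT.node 6790 (BT.node 6789 (BT.node 6788 (BT.leaf cE6788) (BT.leaf cE6789)) (BT.leaf cE6790)) (BT.node 6792 (BT.node 6791 (BT.leaf cE6791) (BT.leaf cE6792)) (BT.leaf cE6793))) (BT.node 6796 (BT.node 6795 (BT.node 6794 (BT.leaf cE6794) (BT.leaf cE6795)) (BT.leaf cE6796)) (BT.node 6797 (BT.leaf cE6797) (BT.leaf cE6798)))) (BT.node 6803 (BT.node 6801 (BT.node 6800 (BT.node 6799 (BT.leaf cE6799) (BT.leaf cE6800)) (BT.leaf cE6801)) (BT.node 6802 (BT.leaf cE6802) (BT.leaf cE6803))) (BT.node 6806 (BT.node 6805 (BT.node 6804 (BT.leaf cE6804) (BT.leaf cE6805)) (BT.leaf cE6806)) (BT.node 6807 (BT.leaf cE6807) (BT.leaf cE6808))))) (BT.node 6818 (BT.node 6813 (BT.node 6811 (BT.node 6810 (BT.node 6809 (BT.leaf cE6809) (BT.leaf cE6810)) (BT.leaf cE6811)) (BT.node 6812 (BT.leaf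 cE6812) (BT.leaf cE6813))) (BT.node 6816 (BT.node 6815 (BT.node 6814 (BT.leaf cE6814) (BT.leaf cE6815)) (BT.leaf cE6816)) (BT.node 6817 (BT.leaf cE6817) (BT.leaf cE6818)))) (BT.node 6823 (BT.node 6821 (BT.node 6820 (BT.node 6819 (BT.leaf cE6819) (BT.leaf cE6820)) (BT.leaf cE6821)) (BT.node 6822 (BT.leaf cE6822) (BT.leaf cE6823))) (BT.node 6826 (BT.node 6825 (BT.node 6824 (BT.leaf cE6824) (BT.leaf cE6825)) (BT.leaf cE6826)) (BT.node 6827 (BT.leaf cE6827) (BT.leaf cE6828)))))) (BT.node 6848 (BT.node 6838 (BT.node 6833 (BT.node 6831 (BT.node 6830 (BT.node 6829 (BT.leaf cE6829) (BT.leaf cE6830)) (BT.leaf cE6831)) (BT.node 6832 (BT.leaf cE6832) (BT.leaf cE6833))) (BT.node 6836 (BT.node 6835 (BT.node 6834 (BT.leaf cE6834) (BT.leaf cE6835)) (BT.leaf cE6836)) (BT.node 6837 (BT.leaf cE6837) (BT.leaf cE6838)))) (BT.node 6843 (BT.node 6841 (BT.node 6840 (BT.node 6839 (BT.leaf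 cE6839) (BT.leaf cE6840)) (BT.leaf cE6841)) (BT.node 6842 (BT.leaf cE6842) (BT.leaf cE6843))) (BT.node 6846 (BT.node 6845 (BT.node 6844 (BT.leaf cE6844) (BT.leaf cE6845)) (BT.leaf cE6846)) (BT.node 6847 (BT.leaf cE6847) (BT.leaf cE6848))))) (BT.node 6858 (BT.node 6853 (BT.node 6851 (BT.node 6850 (BT.node 6849 (BT.leaf cE6849) (BT.leaf cE6850)) (BT.leaf cE6851)) (BT.node 6852 (BT.leaf cE6852) (BT.leaf cE6853))) (BT.node 6856 (BT.node 6855 (BT.node 6854 (BT.leaf cE6854) (BT.leaf cE6855)) (BT.leaf cE6856)) (BT.node 6857 (BT.leaf cE6857) (BT.leaf cE6858)))) (BT.node 6863 (BT.node 6861 (BT.node 6860 (BT.node 6859 (BT.leaf cE6859) (BT.leaf cE6860)) (BT.leaf cE6861)) (BT.node 6862 (BT.leaf cE6862) (BT.leaf cE6863))) (BT.node 6866 (BT.node 6865 (BT.node 6864 (BT.leaf cE6864) (BT.leaf cE6865)) (BT.leaf cE6866)) (BT.node 6867 (BT.leaf cE6867) (BT.leaf cE6868))))))) (BT.node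 6909 (BT.node 6889 (BT.node 6879 (BT.node 6874 (BT.node 6871 (BT.node 6870 (BT.node 6869 (BT.leaf cE6869) (BT.leaf cE6870)) (BT.leaf cE6871)) (BT.node 6873 (BT.node 6872 (BT.leaf cE6872) (BT.leaf cE6873)) (BT.leaf cE6874))) (BT.node 6877 (BT.node 6876 (BT.node 6875 (BT.leaf cE6875) (BT.leaf cE6876)) (BT.leaf cE6877)) (BT.node 6878 (BT.leaf cE6878) (BT.leaf cE6879)))) (BT.node 6884 (BT.node 6882 (BT.node 6881 (BT.node 6880 (BT.leaf cE6880) (BT.leaf cE6881)) (BT.leaf cE6882)) (BT.node 6883 (BT.leaf cE6883) (BT.leaf cE6884))) (BT.node 6887 (BT.node 6886 (BT.node 6885 (BT.leaf cE6885) (BT.leaf cE6886)) (BT.leaf cE6887)) (BT.node 6888 (BT.leaf cE6888) (BT.leaf cE6889))))) (BT.node 6899 (BT.node 6894 (BT.node 6892 (BT.node 6891 (BT.node 6890 (BT.leaf cE6890) (BT.leaf cE6891)) (BT.leaf cE6892)) (BT.node 6893 (BT.leaf cE6893) (BT.leaf cE6894))) (BT.node 6897 (BT.node 6896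 (BT.node 6895 (BT.leaf cE6895) (BT.leaf cE6896)) (BT.leaf cE6897)) (BT.node 6898 (BT.leaf cE6898) (BT.leaf cE6899)))) (BT.node 6904 (BT.node 6902 (BT.node 6901 (BT.node 6900 (BT.leaf cE6900) (BT.leaf cE6901)) (BT.leaf cE6902)) (BT.node 6903 (BT.leaf cE6903) (BT.leaf cE6904))) (BT.node 6907 (BT.node 6906 (BT.node 6905 (BT.leaf cE6905) (BT.leaf cE6906)) (BT.leaf cE6907)) (BT.node 6908 (BT.leaf cE6908) (BT.leaf cE6909)))))) (BT.node 6929 (BT.node 6919 (BT.node 6914 (BT.node 6912 (BT.node 6911 (BT.node 6910 (BT.leaf cE6910) (BT.leaf cE6911)) (BT.leaf cE6912)) (BT.node 6913 (BT.leaf cE6913) (BT.leaf cE6914))) (BT.node 6917 (BT.node 6916 (BT.node 6915 (BT.leaf cE6915) (BT.leaf cE6916)) (BT.leaf cE6917)) (BT.node 6918 (BT.leaf cE6918) (BT.leaf cE6919)))) (BT.node 6924 (BT.node 6922 (BT.node 6921 (BT.node 6920 (BT.leaf cE6920) (BT.leaf cE6921)) (BT.leaf cE6922)) (BT.node 6923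 (BT.leaf cE6923) (BT.leaf cE6924))) (BT.node 6927 (BT.node 6926 (BT.node 6925 (BT.leaf cE6925) (BT.leaf cE6926)) (BT.leaf cE6927)) (BT.node 6928 (BT.leaf cE6928) (BT.leaf cE6929))))) (BT.node 6939 (BT.node 6934 (BT.node 6932 (BT.node 6931 (BT.node 6930 (BT.leaf cE6930) (BT.leaf cE6931)) (BT.leaf cE6932)) (BT.node 6933 (BT.leaf cE6933) (BT.leaf cE6934))) (BT.node 6937 (BT.node 6936 (BT.node 6935 (BT.leaf cE6935) (BT.leaf cE6936)) (BT.leaf cE6937)) (BT.node 6938 (BT.leaf cE6938) (BT.leaf cE6939)))) (BT.node 6944 (BT.node 6942 (BT.node 6941 (BT.node 6940 (BT.leaf cE6940) (BT.leaf cE6941)) (BT.leaf cE6942)) (BT.node 6943 (BT.leaf cE6943) (BT.leaf cE6944))) (BT.node 6947 (BT.node 6946 (BT.node 6945 (BT.leaf cE6945) (BT.leaf cE6946)) (BT.leaf cE6947)) (BT.node 6948 (BT.leaf cE6948) (BT.leaf cE6949))))))))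
noncomputable def colET_43 : BT ℕ := (BT.node 7030 (BT.node 6990 (BT.node 6970 (BT.node 6960 (BT.node 6955 (BT.node 6952 (BT.node 6951 (BT.node 6950 (BT.leaf cE6950) (BT.leaf cE6951)) (BT.leaf cE6952)) (BT.node 6954 (BT.node 6953 (BT.leaf cE6953) (BT.leaf cE6954)) (BT.leaf cE6955))) (BT.node 6958 (BT.node 6957 (BT.node 6956 (BT.leaf cE6956) (BT.leaf cE6957)) (BT.leaf cE6958)) (BT.node 6959 (BT.leaf cE6959) (BT.leaf cE6960)))) (BT.node 6965 (BT.node 6963 (BT.node 6962 (BT.node 6961 (BT.leaf cE6961) (BT.leaf cE6962)) (BT.leaf cE6963)) (BT.node 6964 (BT.leaf cE6964) (BT.leaf cE6965))) (BT.node 6968 (BT.node 6967 (BT.node 6966 (BT.leaf cE6966) (BT.leaf cE6967)) (BT.leaf cE6968)) (BT.node 6969 (BT.leaf cE6969) (BT.leaf cE6970))))) (BT.node 6980 (BT.node 6975 (BT.node 6973 (BT.node 6972 (BT.node 6971 (BT.leaf cE6971) (BT.leaf cE6972)) (BT.leaf cE6973)) (BT.node 6974 (BT.leaf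 cE6974) (BT.leaf cE6975))) (BT.node 6978 (BT.node 6977 (BT.node 6976 (BT.leaf cE6976) (BT.leaf cE6977)) (BT.leaf cE6978)) (BT.node 6979 (BT.leaf cE6979) (BT.leaf cE6980)))) (BT.node 6985 (BT.node 6983 (BT.node 6982 (BT.node 6981 (BT.leaf cE6981) (BT.leaf cE6982)) (BT.leaf cE6983)) (BT.node 6984 (BT.leaf cE6984) (BT.leaf cE6985))) (BT.node 6988 (BT.node 6987 (BT.node 6986 (BT.leaf cE6986) (BT.leaf cE6987)) (BT.leaf cE6988)) (BT.node 6989 (BT.leaf cE6989) (BT.leaf cE6990)))))) (BT.node 7010 (BT.node 7000 (BT.node 6995 (BT.node 6993 (BT.node 6992 (BT.node 6991 (BT.leaf cE6991) (BT.leaf cE6992)) (BT.leaf cE6993)) (BT.node 6994 (BT.leaf cE6994) (BT.leaf cE6995))) (BT.node 6998 (BT.node 6997 (BT.node 6996 (BT.leaf cE6996) (BT.leaf cE6997)) (BT.leaf cE6998)) (BT.node 6999 (BT.leaf cE6999) (BT.leaf cE7000)))) (BT.node 7005 (BT.node 7003 (BT.node 7002 (BT.node 7001 (BT.leaf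 cE7001) (BT.leaf cE7002)) (BT.leaf cE7003)) (BT.node 7004 (BT.leaf cE7004) (BT.leaf cE7005))) (BT.node 7008 (BT.node 7007 (BT.node 7006 (BT.leaf cE7006) (BT.leaf cE7007)) (BT.leaf cE7008)) (BT.node 7009 (BT.leaf cE7009) (BT.leaf cE7010))))) (BT.node 7020 (BT.node 7015 (BT.node 7013 (BT.node 7012 (BT.node 7011 (BT.leaf cE7011) (BT.leaf cE7012)) (BT.leaf cE7013)) (BT.node 7014 (BT.leaf cE7014) (BT.leaf cE7015))) (BT.node 7018 (BT.node 7017 (BT.node 7016 (BT.leaf cE7016) (BT.leaf cE7017)) (BT.leaf cE7018)) (BT.node 7019 (BT.leaf cE7019) (BT.leaf cE7020)))) (BT.node 7025 (BT.node 7023 (BT.node 7022 (BT.node 7021 (BT.leaf cE7021) (BT.leaf cE7022)) (BT.leaf cE7023)) (BT.node 7024 (BT.leaf cE7024) (BT.leaf cE7025))) (BT.node 7028 (BT.node 7027 (BT.node 7026 (BT.leaf cE7026) (BT.leaf cE7027)) (BT.leaf cE7028)) (BT.node 7029 (BT.leaf cE7029) (BT.leaf cE7030))))))) (BT.node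 7070 (BT.node 7050 (BT.node 7040 (BT.node 7035 (BT.node 7033 (BT.node 7032 (BT.node 7031 (BT.leaf cE7031) (BT.leaf cE7032)) (BT.leaf cE7033)) (BT.node 7034 (BT.leaf cE7034) (BT.leaf cE7035))) (BT.node 7038 (BT.node 7037 (BT.node 7036 (BT.leaf cE7036) (BT.leaf cE7037)) (BT.leaf cE7038)) (BT.node 7039 (BT.leaf cE7039) (BT.leaf cE7040)))) (BT.node 7045 (BT.node 7043 (BT.node 7042 (BT.node 7041 (BT.leaf cE7041) (BT.leaf cE7042)) (BT.leaf cE7043)) (BT.node 7044 (BT.leaf cE7044) (BT.leaf cE7045))) (BT.node 7048 (BT.node 7047 (BT.node 7046 (BT.leaf cE7046) (BT.leaf cE7047)) (BT.leaf cE7048)) (BT.node 7049 (BT.leaf cE7049) (BT.leaf cE7050))))) (BT.node 7060 (BT.node 7055 (BT.node 7053 (BT.node 7052 (BT.node 7051 (BT.leaf cE7051) (BT.leaf cE7052)) (BT.leaf cE7053)) (BT.node 7054 (BT.leaf cE7054) (BT.leaf cE7055))) (BT.node 7058 (BT.node 7057 (BT.node 7056 (BT.leaf cE7056) (BT.leaf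 cE7057)) (BT.leaf cE7058)) (BT.node 7059 (BT.leaf cE7059) (BT.leaf cE7060)))) (BT.node 7065 (BT.node 7063 (BT.node 7062 (BT.node 7061 (BT.leaf cE7061) (BT.leaf cE7062)) (BT.leaf cE7063)) (BT.node 7064 (BT.leaf cE7064) (BT.leaf cE7065))) (BT.node 7068 (BT.node 7067 (BT.node 7066 (BT.leaf cE7066) (BT.leaf cE7067)) (BT.leaf cE7068)) (BT.node 7069 (BT.leaf cE7069) (BT.leaf cE7070)))))) (BT.node 7090 (BT.node 7080 (BT.node 7075 (BT.node 7073 (BT.node 7072 (BT.node 7071 (BT.leaf cE7071) (BT.leaf cE7072)) (BT.leaf cE7073)) (BT.node 7074 (BT.leaf cE7074) (BT.leaf cE7075))) (BT.node 7078 (BT.node 7077 (BT.node 7076 (BT.leaf cE7076) (BT.leaf cE7077)) (BT.leaf cE7078)) (BT.node 7079 (BT.leaf cE7079) (BT.leaf cE7080)))) (BT.node 7085 (BT.node 7083 (BT.node 7082 (BT.node 7081 (BT.leaf cE7081) (BT.leaf cE7082)) (BT.leaf cE7083)) (BT.node 7084 (BT.leaf cE7084) (BT.leaf cE7085)))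 (BT.node 7088 (BT.node 7087 (BT.node 7086 (BT.leaf cE7086) (BT.leaf cE7087)) (BT.leaf cE7088)) (BT.node 7089 (BT.leaf cE7089) (BT.leaf cE7090))))) (BT.node 7100 (BT.node 7095 (BT.node 7093 (BT.node 7092 (BT.node 7091 (BT.leaf cE7091) (BT.leaf cE7092)) (BT.leaf cE7093)) (BT.node 7094 (BT.leaf cE7094) (BT.leaf cE7095))) (BT.node 7098 (BT.node 7097 (BT.node 7096 (BT.leaf cE7096) (BT.leaf cE7097)) (BT.leaf cE7098)) (BT.node 7099 (BT.leaf cE7099) (BT.leaf cE7100)))) (BT.node 7105 (BT.node 7103 (BT.node 7102 (BT.node 7101 (BT.leaf cE7101) (BT.leaf cE7102)) (BT.leaf cE7103)) (BT.node 7104 (BT.leaf cE7104) (BT.leaf cE7105))) (BT.node 7108 (BT.node 7107 (BT.node 7106 (BT.leaf cE7106) (BT.leaf cE7107)) (BT.leaf cE7108)) (BT.node 7109 (BT.leaf cE7109) (BT.leaf cE7110))))))))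
noncomputable def colET_44 : BT ℕ := (BT.node 7191 (BT.node 7151 (BT.node 7131 (BT.node 7121 (BT.node 7116 (BT.node 7113 (BT.node 7112 (BT.node 7111 (BT.leaf cE7111) (BT.leaf cE7112)) (BT.leaf cE7113)) (BT.node 7115 (BT.node 7114 (BT.leaf cE7114) (BT.leaf cE7115)) (BT.leaf cE7116))) (BT.node 7119 (BT.node 7118 (BT.node 7117 (BT.leaf cE7117) (BT.leaf cE7118)) (BT.leaf cE7119)) (BT.node 7120 (BT.leaf cE7120) (BT.leaf cE7121)))) (BT.node 7126 (BT.node 7124 (BT.node 7123 (BT.node 7122 (BT.leaf cE7122) (BT.leaf cE7123)) (BT.leaf cE7124)) (BT.node 7125 (BT.leaf cE7125) (BT.leaf cE7126))) (BT.node 7129 (BT.node 7128 (BT.node 7127 (BT.leaf cE7127) (BT.leaf cE7128)) (BT.leaf cE7129)) (BT.node 7130 (BT.leaf cE7130) (BT.leaf cE7131))))) (BT.node 7141 (BT.node 7136 (BT.node 7134 (BT.node 7133 (BT.node 7132 (BT.leaf cE7132) (BT.leaf cE7133)) (BT.leaf cE7134)) (BT.node 7135 (BT.leaf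 cE7135) (BT.leaf cE7136))) (BT.node 7139 (BT.node 7138 (BT.node 7137 (BT.leaf cE7137) (BT.leaf cE7138)) (BT.leaf cE7139)) (BT.node 7140 (BT.leaf cE7140) (BT.leaf cE7141)))) (BT.node 7146 (BT.node 7144 (BT.node 7143 (BT.node 7142 (BT.leaf cE7142) (BT.leaf cE7143)) (BT.leaf cE7144)) (BT.node 7145 (BT.leaf cE7145) (BT.leaf cE7146))) (BT.node 7149 (BT.node 7148 (BT.node 7147 (BT.leaf cE7147) (BT.leaf cE7148)) (BT.leaf cE7149)) (BT.node 7150 (BT.leaf cE7150) (BT.leaf cE7151)))))) (BT.node 7171 (BT.node 7161 (BT.node 7156 (BT.node 7154 (BT.node 7153 (BT.node 7152 (BT.leaf cE7152) (BT.leaf cE7153)) (BT.leaf cE7154)) (BT.node 7155 (BT.leaf cE7155) (BT.leaf cE7156))) (BT.node 7159 (BT.node 7158 (BT.node 7157 (BT.leaf cE7157) (BT.leaf cE7158)) (BT.leaf cE7159)) (BT.node 7160 (BT.leaf cE7160) (BT.leaf cE7161)))) (BT.node 7166 (BT.node 7164 (BT.node 7163 (BT.node 7162 (BT.leaf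 cE7162) (BT.leaf cE7163)) (BT.leaf cE7164)) (BT.node 7165 (BT.leaf cE7165) (BT.leaf cE7166))) (BT.node 7169 (BT.node 7168 (BT.node 7167 (BT.leaf cE7167) (BT.leaf cE7168)) (BT.leaf cE7169)) (BT.node 7170 (BT.leaf cE7170) (BT.leaf cE7171))))) (BT.node 7181 (BT.node 7176 (BT.node 7174 (BT.node 7173 (BT.node 7172 (BT.leaf cE7172) (BT.leaf cE7173)) (BT.leaf cE7174)) (BT.node 7175 (BT.leaf cE7175) (BT.leaf cE7176))) (BT.node 7179 (BT.node 7178 (BT.node 7177 (BT.leaf cE7177) (BT.leaf cE7178)) (BT.leaf cE7179)) (BT.node 7180 (BT.leaf cE7180) (BT.leaf cE7181)))) (BT.node 7186 (BT.node 7184 (BT.node 7183 (BT.node 7182 (BT.leaf cE7182) (BT.leaf cE7183)) (BT.leaf cE7184)) (BT.node 7185 (BT.leaf cE7185) (BT.leaf cE7186))) (BT.node 7189 (BT.node 7188 (BT.node 7187 (BT.leaf cE7187) (BT.leaf cE7188)) (BT.leaf cE7189)) (BT.node 7190 (BT.leaf cE7190) (BT.leaf cE7191))))))) (BT.node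 7232 (BT.node 7212 (BT.node 7202 (BT.node 7197 (BT.node 7194 (BT.node 7193 (BT.node 7192 (BT.leaf cE7192) (BT.leaf cE7193)) (BT.leaf cE7194)) (BT.node 7196 (BT.node 7195 (BT.leaf cE7195) (BT.leaf cE7196)) (BT.leaf cE7197))) (BT.node 7200 (BT.node 7199 (BT.node 7198 (BT.leaf cE7198) (BT.leaf cE7199)) (BT.leaf cE7200)) (BT.node 7201 (BT.leaf cE7201) (BT.leaf cE7202)))) (BT.node 7207 (BT.node 7205 (BT.node 7204 (BT.node 7203 (BT.leaf cE7203) (BT.leaf cE7204)) (BT.leaf cE7205)) (BT.node 7206 (BT.leaf cE7206) (BT.leaf cE7207))) (BT.node 7210 (BT.node 7209 (BT.node 7208 (BT.leaf cE7208) (BT.leaf cE7209)) (BT.leaf cE7210)) (BT.node 7211 (BT.leaf cE7211) (BT.leaf cE7212))))) (BT.node 7222 (BT.node 7217 (BT.node 7215 (BT.node 7214 (BT.node 7213 (BT.leaf cE7213) (BT.leaf cE7214)) (BT.leaf cE7215)) (BT.node 7216 (BT.leaf cE7216) (BT.leaf cE7217))) (BT.node 7220 (BT.node 7219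 (BT.node 7218 (BT.leaf cE7218) (BT.leaf cE7219)) (BT.leaf cE7220)) (BT.node 7221 (BT.leaf cE7221) (BT.leaf cE7222)))) (BT.node 7227 (BT.node 7225 (BT.node 7224 (BT.node 7223 (BT.leaf cE7223) (BT.leaf cE7224)) (BT.leaf cE7225)) (BT.node 7226 (BT.leaf cE7226) (BT.leaf cE7227))) (BT.node 7230 (BT.node 7229 (BT.node 7228 (BT.leaf cE7228) (BT.leaf cE7229)) (BT.leaf cE7230)) (BT.node 7231 (BT.leaf cE7231) (BT.leaf cE7232)))))) (BT.node 7252 (BT.node 7242 (BT.node 7237 (BT.node 7235 (BT.node 7234 (BT.node 7233 (BT.leaf cE7233) (BT.leaf cE7234)) (BT.leaf cE7235)) (BT.node 7236 (BT.leaf cE7236) (BT.leaf cE7237))) (BT.node 7240 (BT.node 7239 (BT.node 7238 (BT.leaf cE7238) (BT.leaf cE7239)) (BT.leaf cE7240)) (BT.node 7241 (BT.leaf cE7241) (BT.leaf cE7242)))) (BT.node 7247 (BT.node 7245 (BT.node 7244 (BT.node 7243 (BT.leaf cE7243) (BT.leaf cE7244)) (BT.leaf cE7245)) (BT.node 7246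 (BT.leaf cE7246) (BT.leaf cE7247))) (BT.node 7250 (BT.node 7249 (BT.node 7248 (BT.leaf cE7248) (BT.leaf cE7249)) (BT.leaf cE7250)) (BT.node 7251 (BT.leaf cE7251) (BT.leaf cE7252))))) (BT.node 7262 (BT.node 7257 (BT.node 7255 (BT.node 7254 (BT.node 7253 (BT.leaf cE7253) (BT.leaf cE7254)) (BT.leaf cE7255)) (BT.node 7256 (BT.leaf cE7256) (BT.leaf cE7257))) (BT.node 7260 (BT.node 7259 (BT.node 7258 (BT.leaf cE7258) (BT.leaf cE7259)) (BT.leaf cE7260)) (BT.node 7261 (BT.leaf cE7261) (BT.leaf cE7262)))) (BT.node 7267 (BT.node 7265 (BT.node 7264 (BT.node 7263 (BT.leaf cE7263) (BT.leaf cE7264)) (BT.leaf cE7265)) (BT.node 7266 (BT.leaf cE7266) (BT.leaf cE7267))) (BT.node 7270 (BT.node 7269 (BT.node 7268 (BT.leaf cE7268) (BT.leaf cE7269)) (BT.leaf cE7270)) (BT.node 7271 (BT.leaf cE7271) (BT.leaf cE7272))))))))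
noncomputable def colET_45 : BT ℕ := (BT.node 7353 (BT.node 7313 (BT.node 7293 (BT.node 7283 (BT.node 7278 (BT.node 7275 (BT.node 7274 (BT.node 7273 (BT.leaf cE7273) (BT.leaf cE7274)) (BT.leaf cE7275)) (BT.node 7277 (BT.node 7276 (BT.leaf cE7276) (BT.leaf cE7277)) (BT.leaf cE7278))) (BT.node 7281 (BT.node 7280 (BT.node 7279 (BT.leaf cE7279) (BT.leaf cE7280)) (BT.leaf cE7281)) (BT.node 7282 (BT.leaf cE7282) (BT.leaf cE7283)))) (BT.node 7288 (BT.node 7286 (BT.node 7285 (BT.node 7284 (BT.leaf cE7284) (BT.leaf cE7285)) (BT.leaf cE7286)) (BT.node 7287 (BT.leaf cE7287) (BT.leaf cE7288))) (BT.node 7291 (BT.node 7290 (BT.node 7289 (BT.leaf cE7289) (BT.leaf cE7290)) (BT.leaf cE7291)) (BT.node 7292 (BT.leaf cE7292) (BT.leaf cE7293))))) (BT.node 7303 (BT.node 7298 (BT.node 7296 (BT.node 7295 (BT.node 7294 (BT.leaf cE7294) (BT.leaf cE7295)) (BT.leaf cE7296)) (BT.node 7297 (BT.leaf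 cE7297) (BT.leaf cE7298))) (BT.node 7301 (BT.node 7300 (BT.node 7299 (BT.leaf cE7299) (BT.leaf cE7300)) (BT.leaf cE7301)) (BT.node 7302 (BT.leaf cE7302) (BT.leaf cE7303)))) (BT.node 7308 (BT.node 7306 (BT.node 7305 (BT.node 7304 (BT.leaf cE7304) (BT.leaf cE7305)) (BT.leaf cE7306)) (BT.node 7307 (BT.leaf cE7307) (BT.leaf cE7308))) (BT.node 7311 (BT.node 7310 (BT.node 7309 (BT.leaf cE7309) (BT.leaf cE7310)) (BT.leaf cE7311)) (BT.node 7312 (BT.leaf cE7312) (BT.leaf cE7313)))))) (BT.node 7333 (BT.node 7323 (BT.node 7318 (BT.node 7316 (BT.node 7315 (BT.node 7314 (BT.leaf cE7314) (BT.leaf cE7315)) (BT.leaf cE7316)) (BT.node 7317 (BT.leaf cE7317) (BT.leaf cE7318))) (BT.node 7321 (BT.node 7320 (BT.node 7319 (BT.leaf cE7319) (BT.leaf cE7320)) (BT.leaf cE7321)) (BT.node 7322 (BT.leaf cE7322) (BT.leaf cE7323)))) (BT.node 7328 (BT.node 7326 (BT.node 7325 (BT.node 7324 (BT.leaf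 cE7324) (BT.leaf cE7325)) (BT.leaf cE7326)) (BT.node 7327 (BT.leaf cE7327) (BT.leaf cE7328))) (BT.node 7331 (BT.node 7330 (BT.node 7329 (BT.leaf cE7329) (BT.leaf cE7330)) (BT.leaf cE7331)) (BT.node 7332 (BT.leaf cE7332) (BT.leaf cE7333))))) (BT.node 7343 (BT.node 7338 (BT.node 7336 (BT.node 7335 (BT.node 7334 (BT.leaf cE7334) (BT.leaf cE7335)) (BT.leaf cE7336)) (BT.node 7337 (BT.leaf cE7337) (BT.leaf cE7338))) (BT.node 7341 (BT.node 7340 (BT.node 7339 (BT.leaf cE7339) (BT.leaf cE7340)) (BT.leaf cE7341)) (BT.node 7342 (BT.leaf cE7342) (BT.leaf cE7343)))) (BT.node 7348 (BT.node 7346 (BT.node 7345 (BT.node 7344 (BT.leaf cE7344) (BT.leaf cE7345)) (BT.leaf cE7346)) (BT.node 7347 (BT.leaf cE7347) (BT.leaf cE7348))) (BT.node 7351 (BT.node 7350 (BT.node 7349 (BT.leaf cE7349) (BT.leaf cE7350)) (BT.leaf cE7351)) (BT.node 7352 (BT.leaf cE7352) (BT.leaf cE7353))))))) (BT.node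 7393 (BT.node 7373 (BT.node 7363 (BT.node 7358 (BT.node 7356 (BT.node 7355 (BT.node 7354 (BT.leaf cE7354) (BT.leaf cE7355)) (BT.leaf cE7356)) (BT.node 7357 (BT.leaf cE7357) (BT.leaf cE7358))) (BT.node 7361 (BT.node 7360 (BT.node 7359 (BT.leaf cE7359) (BT.leaf cE7360)) (BT.leaf cE7361)) (BT.node 7362 (BT.leaf cE7362) (BT.leaf cE7363)))) (BT.node 7368 (BT.node 7366 (BT.node 7365 (BT.node 7364 (BT.leaf cE7364) (BT.leaf cE7365)) (BT.leaf cE7366)) (BT.node 7367 (BT.leaf cE7367) (BT.leaf cE7368))) (BT.node 7371 (BT.node 7370 (BT.node 7369 (BT.leaf cE7369) (BT.leaf cE7370)) (BT.leaf cE7371)) (BT.node 7372 (BT.leaf cE7372) (BT.leaf cE7373))))) (BT.node 7383 (BT.node 7378 (BT.node 7376 (BT.node 7375 (BT.node 7374 (BT.leaf cE7374) (BT.leaf cE7375)) (BT.leaf cE7376)) (BT.node 7377 (BT.leaf cE7377) (BT.leaf cE7378))) (BT.node 7381 (BT.node 7380 (BT.node 7379 (BT.leaf cE7379) (BT.leaf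 cE7380)) (BT.leaf cE7381)) (BT.node 7382 (BT.leaf cE7382) (BT.leaf cE7383)))) (BT.node 7388 (BT.node 7386 (BT.node 7385 (BT.node 7384 (BT.leaf cE7384) (BT.leaf cE7385)) (BT.leaf cE7386)) (BT.node 7387 (BT.leaf cE7387) (BT.leaf cE7388))) (BT.node 7391 (BT.node 7390 (BT.node 7389 (BT.leaf cE7389) (BT.leaf cE7390)) (BT.leaf cE7391)) (BT.node 7392 (BT.leaf cE7392) (BT.leaf cE7393)))))) (BT.node 7413 (BT.node 7403 (BT.node 7398 (BT.node 7396 (BT.node 7395 (BT.node 7394 (BT.leaf cE7394) (BT.leaf cE7395)) (BT.leaf cE7396)) (BT.node 7397 (BT.leaf cE7397) (BT.leaf cE7398))) (BT.node 7401 (BT.node 7400 (BT.node 7399 (BT.leaf cE7399) (BT.leaf cE7400)) (BT.leaf cE7401)) (BT.node 7402 (BT.leaf cE7402) (BT.leaf cE7403)))) (BT.node 7408 (BT.node 7406 (BT.node 7405 (BT.node 7404 (BT.leaf cE7404) (BT.leaf cE7405)) (BT.leaf cE7406)) (BT.node 7407 (BT.leaf cE7407) (BT.leaf cE7408)))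 (BT.node 7411 (BT.node 7410 (BT.node 7409 (BT.leaf cE7409) (BT.leaf cE7410)) (BT.leaf cE7411)) (BT.node 7412 (BT.leaf cE7412) (BT.leaf cE7413))))) (BT.node 7423 (BT.node 7418 (BT.node 7416 (BT.node 7415 (BT.node 7414 (BT.leaf cE7414) (BT.leaf cE7415)) (BT.leaf cE7416)) (BT.node 7417 (BT.leaf cE7417) (BT.leaf cE7418))) (BT.node 7421 (BT.node 7420 (BT.node 7419 (BT.leaf cE7419) (BT.leaf cE7420)) (BT.leaf cE7421)) (BT.node 7422 (BT.leaf cE7422) (BT.leaf cE7423)))) (BT.node 7428 (BT.node 7426 (BT.node 7425 (BT.node 7424 (BT.leaf cE7424) (BT.leaf cE7425)) (BT.leaf cE7426)) (BT.node 7427 (BT.leaf cE7427) (BT.leaf cE7428))) (BT.node 7431 (BT.node 7430 (BT.node 7429 (BT.leaf cE7429) (BT.leaf cE7430)) (BT.leaf cE7431)) (BT.node 7432 (BT.leaf cE7432) (BT.leaf cE7433))))))))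
noncomputable def colET_46 : BT ℕ := (BT.node 7514 (BT.node 7474 (BT.node 7454 (BT.node 7444 (BT.node 7439 (BT.node 7436 (BT.node 7435 (BT.node 7434 (BT.leaf cE7434) (BT.leaf cE7435)) (BT.leaf cE7436)) (BT.node 7438 (BT.node 7437 (BT.leaf cE7437) (BT.leaf cE7438)) (BT.leaf cE7439))) (BT.node 7442 (BT.node 7441 (BT.node 7440 (BT.leaf cE7440) (BT.leaf cE7441)) (BT.leaf cE7442)) (BT.node 7443 (BT.leaf cE7443) (BT.leaf cE7444)))) (BT.node 7449 (BT.node 7447 (BT.node 7446 (BT.node 7445 (BT.leaf cE7445) (BT.leaf cE7446)) (BT.leaf cE7447)) (BT.node 7448 (BT.leaf cE7448) (BT.leaf cE7449))) (BT.node 7452 (BT.node 7451 (BT.node 7450 (BT.leaf cE7450) (BT.leaf cE7451)) (BT.leaf cE7452)) (BT.node 7453 (BT.leaf cE7453) (BT.leaf cE7454))))) (BT.node 7464 (BT.node 7459 (BT.node 7457 (BT.node 7456 (BT.node 7455 (BT.leaf cE7455) (BT.leaf cE7456)) (BT.leaf cE7457)) (BT.node 7458 (BT.leaf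 cE7458) (BT.leaf cE7459))) (BT.node 7462 (BT.node 7461 (BT.node 7460 (BT.leaf cE7460) (BT.leaf cE7461)) (BT.leaf cE7462)) (BT.node 7463 (BT.leaf cE7463) (BT.leaf cE7464)))) (BT.node 7469 (BT.node 7467 (BT.node 7466 (BT.node 7465 (BT.leaf cE7465) (BT.leaf cE7466)) (BT.leaf cE7467)) (BT.node 7468 (BT.leaf cE7468) (BT.leaf cE7469))) (BT.node 7472 (BT.node 7471 (BT.node 7470 (BT.leaf cE7470) (BT.leaf cE7471)) (BT.leaf cE7472)) (BT.node 7473 (BT.leaf cE7473) (BT.leaf cE7474)))))) (BT.node 7494 (BT.node 7484 (BT.node 7479 (BT.node 7477 (BT.node 7476 (BT.node 7475 (BT.leaf cE7475) (BT.leaf cE7476)) (BT.leaf cE7477)) (BT.node 7478 (BT.leaf cE7478) (BT.leaf cE7479))) (BT.node 7482 (BT.node 7481 (BT.node 7480 (BT.leaf cE7480) (BT.leaf cE7481)) (BT.leaf cE7482)) (BT.node 7483 (BT.leaf cE7483) (BT.leaf cE7484)))) (BT.node 7489 (BT.node 7487 (BT.node 7486 (BT.node 7485 (BT.leaf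 cE7485) (BT.leaf cE7486)) (BT.leaf cE7487)) (BT.node 7488 (BT.leaf cE7488) (BT.leaf cE7489))) (BT.node 7492 (BT.node 7491 (BT.node 7490 (BT.leaf cE7490) (BT.leaf cE7491)) (BT.leaf cE7492)) (BT.node 7493 (BT.leaf cE7493) (BT.leaf cE7494))))) (BT.node 7504 (BT.node 7499 (BT.node 7497 (BT.node 7496 (BT.node 7495 (BT.leaf cE7495) (BT.leaf cE7496)) (BT.leaf cE7497)) (BT.node 7498 (BT.leaf cE7498) (BT.leaf cE7499))) (BT.node 7502 (BT.node 7501 (BT.node 7500 (BT.leaf cE7500) (BT.leaf cE7501)) (BT.leaf cE7502)) (BT.node 7503 (BT.leaf cE7503) (BT.leaf cE7504)))) (BT.node 7509 (BT.node 7507 (BT.node 7506 (BT.node 7505 (BT.leaf cE7505) (BT.leaf cE7506)) (BT.leaf cE7507)) (BT.node 7508 (BT.leaf cE7508) (BT.leaf cE7509))) (BT.node 7512 (BT.node 7511 (BT.node 7510 (BT.leaf cE7510) (BT.leaf cE7511)) (BT.leaf cE7512)) (BT.node 7513 (BT.leaf cE7513) (BT.leaf cE7514))))))) (BT.node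 7555 (BT.node 7535 (BT.node 7525 (BT.node 7520 (BT.node 7517 (BT.node 7516 (BT.node 7515 (BT.leaf cE7515) (BT.leaf cE7516)) (BT.leaf cE7517)) (BT.node 7519 (BT.node 7518 (BT.leaf cE7518) (BT.leaf cE7519)) (BT.leaf cE7520))) (BT.node 7523 (BT.node 7522 (BT.node 7521 (BT.leaf cE7521) (BT.leaf cE7522)) (BT.leaf cE7523)) (BT.node 7524 (BT.leaf cE7524) (BT.leaf cE7525)))) (BT.node 7530 (BT.node 7528 (BT.node 7527 (BT.node 7526 (BT.leaf cE7526) (BT.leaf cE7527)) (BT.leaf cE7528)) (BT.node 7529 (BT.leaf cE7529) (BT.leaf cE7530))) (BT.node 7533 (BT.node 7532 (BT.node 7531 (BT.leaf cE7531) (BT.leaf cE7532)) (BT.leaf cE7533)) (BT.node 7534 (BT.leaf cE7534) (BT.leaf cE7535))))) (BT.node 7545 (BT.node 7540 (BT.node 7538 (BT.node 7537 (BT.node 7536 (BT.leaf cE7536) (BT.leaf cE7537)) (BT.leaf cE7538)) (BT.node 7539 (BT.leaf cE7539) (BT.leaf cE7540))) (BT.node 7543 (BT.node 7542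 (BT.node 7541 (BT.leaf cE7541) (BT.leaf cE7542)) (BT.leaf cE7543)) (BT.node 7544 (BT.leaf cE7544) (BT.leaf cE7545)))) (BT.node 7550 (BT.node 7548 (BT.node 7547 (BT.node 7546 (BT.leaf cE7546) (BT.leaf cE7547)) (BT.leaf cE7548)) (BT.node 7549 (BT.leaf cE7549) (BT.leaf cE7550))) (BT.node 7553 (BT.node 7552 (BT.node 7551 (BT.leaf cE7551) (BT.leaf cE7552)) (BT.leaf cE7553)) (BT.node 7554 (BT.leaf cE7554) (BT.leaf cE7555)))))) (BT.node 7575 (BT.node 7565 (BT.node 7560 (BT.node 7558 (BT.node 7557 (BT.node 7556 (BT.leaf cE7556) (BT.leaf cE7557)) (BT.leaf cE7558)) (BT.node 7559 (BT.leaf cE7559) (BT.leaf cE7560))) (BT.node 7563 (BT.node 7562 (BT.node 7561 (BT.leaf cE7561) (BT.leaf cE7562)) (BT.leaf cE7563)) (BT.node 7564 (BT.leaf cE7564) (BT.leaf cE7565)))) (BT.node 7570 (BT.node 7568 (BT.node 7567 (BT.node 7566 (BT.leaf cE7566) (BT.leaf cE7567)) (BT.leaf cE7568)) (BT.node 7569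 (BT.leaf cE7569) (BT.leaf cE7570))) (BT.node 7573 (BT.node 7572 (BT.node 7571 (BT.leaf cE7571) (BT.leaf cE7572)) (BT.leaf cE7573)) (BT.node 7574 (BT.leaf cE7574) (BT.leaf cE7575))))) (BT.node 7585 (BT.node 7580 (BT.node 7578 (BT.node 7577 (BT.node 7576 (BT.leaf cE7576) (BT.leaf cE7577)) (BT.leaf cE7578)) (BT.node 7579 (BT.leaf cE7579) (BT.leaf cE7580))) (BT.node 7583 (BT.node 7582 (BT.node 7581 (BT.leaf cE7581) (BT.leaf cE7582)) (BT.leaf cE7583)) (BT.node 7584 (BT.leaf cE7584) (BT.leaf cE7585)))) (BT.node 7590 (BT.node 7588 (BT.node 7587 (BT.node 7586 (BT.leaf cE7586) (BT.leaf cE7587)) (BT.leaf cE7588)) (BT.node 7589 (BT.leaf cE7589) (BT.leaf cE7590))) (BT.node 7593 (BT.node 7592 (BT.node 7591 (BT.leaf cE7591) (BT.leaf cE7592)) (BT.leaf cE7593)) (BT.node 7594 (BT.leaf cE7594) (BT.leaf cE7595))))))))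
noncomputable def colET_47 : BT ℕ := (BT.node 7676 (BT.node 7636 (BT.node 7616 (BT.node 7606 (BT.node 7601 (BT.node 7598 (BT.node 7597 (BT.node 7596 (BT.leaf cE7596) (BT.leaf cE7597)) (BT.leaf cE7598)) (BT.node 7600 (BT.node 7599 (BT.leaf cE7599) (BT.leaf cE7600)) (BT.leaf cE7601))) (BT.node 7604 (BT.node 7603 (BT.node 7602 (BT.leaf cE7602) (BT.leaf cE7603)) (BT.leaf cE7604)) (BT.node 7605 (BT.leaf cE7605) (BT.leaf cE7606)))) (BT.node 7611 (BT.node 7609 (BT.node 7608 (BT.node 7607 (BT.leaf cE7607) (BT.leaf cE7608)) (BT.leaf cE7609)) (BT.node 7610 (BT.leaf cE7610) (BT.leaf cE7611))) (BT.node 7614 (BT.node 7613 (BT.node 7612 (BT.leaf cE7612) (BT.leaf cE7613)) (BT.leaf cE7614)) (BT.node 7615 (BT.leaf cE7615) (BT.leaf cE7616))))) (BT.node 7626 (BT.node 7621 (BT.node 7619 (BT.node 7618 (BT.node 7617 (BT.leaf cE7617) (BT.leaf cE7618)) (BT.leaf cE7619)) (BT.node 7620 (BT.leaf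 cE7620) (BT.leaf cE7621))) (BT.node 7624 (BT.node 7623 (BT.node 7622 (BT.leaf cE7622) (BT.leaf cE7623)) (BT.leaf cE7624)) (BT.node 7625 (BT.leaf cE7625) (BT.leaf cE7626)))) (BT.node 7631 (BT.node 7629 (BT.node 7628 (BT.node 7627 (BT.leaf cE7627) (BT.leaf cE7628)) (BT.leaf cE7629)) (BT.node 7630 (BT.leaf cE7630) (BT.leaf cE7631))) (BT.node 7634 (BT.node 7633 (BT.node 7632 (BT.leaf cE7632) (BT.leaf cE7633)) (BT.leaf cE7634)) (BT.node 7635 (BT.leaf cE7635) (BT.leaf cE7636)))))) (BT.node 7656 (BT.node 7646 (BT.node 7641 (BT.node 7639 (BT.node 7638 (BT.node 7637 (BT.leaf cE7637) (BT.leaf cE7638)) (BT.leaf cE7639)) (BT.node 7640 (BT.leaf cE7640) (BT.leaf cE7641))) (BT.node 7644 (BT.node 7643 (BT.node 7642 (BT.leaf cE7642) (BT.leaf cE7643)) (BT.leaf cE7644)) (BT.node 7645 (BT.leaf cE7645) (BT.leaf cE7646)))) (BT.node 7651 (BT.node 7649 (BT.node 7648 (BT.node 7647 (BT.leaf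 cE7647) (BT.leaf cE7648)) (BT.leaf cE7649)) (BT.node 7650 (BT.leaf cE7650) (BT.leaf cE7651))) (BT.node 7654 (BT.node 7653 (BT.node 7652 (BT.leaf cE7652) (BT.leaf cE7653)) (BT.leaf cE7654)) (BT.node 7655 (BT.leaf cE7655) (BT.leaf cE7656))))) (BT.node 7666 (BT.node 7661 (BT.node 7659 (BT.node 7658 (BT.node 7657 (BT.leaf cE7657) (BT.leaf cE7658)) (BT.leaf cE7659)) (BT.node 7660 (BT.leaf cE7660) (BT.leaf cE7661))) (BT.node 7664 (BT.node 7663 (BT.node 7662 (BT.leaf cE7662) (BT.leaf cE7663)) (BT.leaf cE7664)) (BT.node 7665 (BT.leaf cE7665) (BT.leaf cE7666)))) (BT.node 7671 (BT.node 7669 (BT.node 7668 (BT.node 7667 (BT.leaf cE7667) (BT.leaf cE7668)) (BT.leaf cE7669)) (BT.node 7670 (BT.leaf cE7670) (BT.leaf cE7671))) (BT.node 7674 (BT.node 7673 (BT.node 7672 (BT.leaf cE7672) (BT.leaf cE7673)) (BT.leaf cE7674)) (BT.node 7675 (BT.leaf cE7675) (BT.leaf cE7676))))))) (BT.node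 7716 (BT.node 7696 (BT.node 7686 (BT.node 7681 (BT.node 7679 (BT.node 7678 (BT.node 7677 (BT.leaf cE7677) (BT.leaf cE7678)) (BT.leaf cE7679)) (BT.node 7680 (BT.leaf cE7680) (BT.leaf cE7681))) (BT.node 7684 (BT.node 7683 (BT.node 7682 (BT.leaf cE7682) (BT.leaf cE7683)) (BT.leaf cE7684)) (BT.node 7685 (BT.leaf cE7685) (BT.leaf cE7686)))) (BT.node 7691 (BT.node 7689 (BT.node 7688 (BT.node 7687 (BT.leaf cE7687) (BT.leaf cE7688)) (BT.leaf cE7689)) (BT.node 7690 (BT.leaf cE7690) (BT.leaf cE7691))) (BT.node 7694 (BT.node 7693 (BT.node 7692 (BT.leaf cE7692) (BT.leaf cE7693)) (BT.leaf cE7694)) (BT.node 7695 (BT.leaf cE7695) (BT.leaf cE7696))))) (BT.node 7706 (BT.node 7701 (BT.node 7699 (BT.node 7698 (BT.node 7697 (BT.leaf cE7697) (BT.leaf cE7698)) (BT.leaf cE7699)) (BT.node 7700 (BT.leaf cE7700) (BT.leaf cE7701))) (BT.node 7704 (BT.node 7703 (BT.node 7702 (BT.leaf cE7702) (BT.leaf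 cE7703)) (BT.leaf cE7704)) (BT.node 7705 (BT.leaf cE7705) (BT.leaf cE7706)))) (BT.node 7711 (BT.node 7709 (BT.node 7708 (BT.node 7707 (BT.leaf cE7707) (BT.leaf cE7708)) (BT.leaf cE7709)) (BT.node 7710 (BT.leaf cE7710) (BT.leaf cE7711))) (BT.node 7714 (BT.node 7713 (BT.node 7712 (BT.leaf cE7712) (BT.leaf cE7713)) (BT.leaf cE7714)) (BT.node 7715 (BT.leaf cE7715) (BT.leaf cE7716)))))) (BT.node 7736 (BT.node 7726 (BT.node 7721 (BT.node 7719 (BT.node 7718 (BT.node 7717 (BT.leaf cE7717) (BT.leaf cE7718)) (BT.leaf cE7719)) (BT.node 7720 (BT.leaf cE7720) (BT.leaf cE7721))) (BT.node 7724 (BT.node 7723 (BT.node 7722 (BT.leaf cE7722) (BT.leaf cE7723)) (BT.leaf cE7724)) (BT.node 7725 (BT.leaf cE7725) (BT.leaf cE7726)))) (BT.node 7731 (BT.node 7729 (BT.node 7728 (BT.node 7727 (BT.leaf cE7727) (BT.leaf cE7728)) (BT.leaf cE7729)) (BT.node 7730 (BT.leaf cE7730) (BT.leaf cE7731)))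 (BT.node 7734 (BT.node 7733 (BT.node 7732 (BT.leaf cE7732) (BT.leaf cE7733)) (BT.leaf cE7734)) (BT.node 7735 (BT.leaf cE7735) (BT.leaf cE7736))))) (BT.node 7746 (BT.node 7741 (BT.node 7739 (BT.node 7738 (BT.node 7737 (BT.leaf cE7737) (BT.leaf cE7738)) (BT.leaf cE7739)) (BT.node 7740 (BT.leaf cE7740) (BT.leaf cE7741))) (BT.node 7744 (BT.node 7743 (BT.node 7742 (BT.leaf cE7742) (BT.leaf cE7743)) (BT.leaf cE7744)) (BT.node 7745 (BT.leaf cE7745) (BT.leaf cE7746)))) (BT.node 7751 (BT.node 7749 (BT.node 7748 (BT.node 7747 (BT.leaf cE7747) (BT.leaf cE7748)) (BT.leaf cE7749)) (BT.node 7750 (BT.leaf cE7750) (BT.leaf cE7751))) (BT.node 7754 (BT.node 7753 (BT.node 7752 (BT.leaf cE7752) (BT.leaf cE7753)) (BT.leaf cE7754)) (BT.node 7755 (BT.leaf cE7755) (BT.leaf cE7756))))))))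
noncomputable def colET_48 : BT ℕ := (BT.node 7837 (BT.node 7797 (BT.node 7777 (BT.node 7767 (BT.node 7762 (BT.node 7759 (BT.node 7758 (BT.node 7757 (BT.leaf cE7757) (BT.leaf cE7758)) (BT.leaf cE7759)) (BT.node 7761 (BT.node 7760 (BT.leaf cE7760) (BT.leaf cE7761)) (BT.leaf cE7762))) (BT.node 7765 (BT.node 7764 (BT.node 7763 (BT.leaf cE7763) (BT.leaf cE7764)) (BT.leaf cE7765)) (BT.node 7766 (BT.leaf cE7766) (BT.leaf cE7767)))) (BT.node 7772 (BT.node 7770 (BT.node 7769 (BT.node 7768 (BT.leaf cE7768) (BT.leaf cE7769)) (BT.leaf cE7770)) (BT.node 7771 (BT.leaf cE7771) (BT.leaf cE7772))) (BT.node 7775 (BT.node 7774 (BT.node 7773 (BT.leaf cE7773) (BT.leaf cE7774)) (BT.leaf cE7775)) (BT.node 7776 (BT.leaf cE7776) (BT.leaf cE7777))))) (BT.node 7787 (BT.node 7782 (BT.node 7780 (BT.node 7779 (BT.node 7778 (BT.leaf cE7778) (BT.leaf cE7779)) (BT.leaf cE7780)) (BT.node 7781 (BT.leaf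 cE7781) (BT.leaf cE7782))) (BT.node 7785 (BT.node 7784 (BT.node 7783 (BT.leaf cE7783) (BT.leaf cE7784)) (BT.leaf cE7785)) (BT.node 7786 (BT.leaf cE7786) (BT.leaf cE7787)))) (BT.node 7792 (BT.node 7790 (BT.node 7789 (BT.node 7788 (BT.leaf cE7788) (BT.leaf cE7789)) (BT.leaf cE7790)) (BT.node 7791 (BT.leaf cE7791) (BT.leaf cE7792))) (BT.node 7795 (BT.node 7794 (BT.node 7793 (BT.leaf cE7793) (BT.leaf cE7794)) (BT.leaf cE7795)) (BT.node 7796 (BT.leaf cE7796) (BT.leaf cE7797)))))) (BT.node 7817 (BT.node 7807 (BT.node 7802 (BT.node 7800 (BT.node 7799 (BT.node 7798 (BT.leaf cE7798) (BT.leaf cE7799)) (BT.leaf cE7800)) (BT.node 7801 (BT.leaf cE7801) (BT.leaf cE7802))) (BT.node 7805 (BT.node 7804 (BT.node 7803 (BT.leaf cE7803) (BT.leaf cE7804)) (BT.leaf cE7805)) (BT.node 7806 (BT.leaf cE7806) (BT.leaf cE7807)))) (BT.node 7812 (BT.node 7810 (BT.node 7809 (BT.node 7808 (BT.leaf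 cE7808) (BT.leaf cE7809)) (BT.leaf cE7810)) (BT.node 7811 (BT.leaf cE7811) (BT.leaf cE7812))) (BT.node 7815 (BT.node 7814 (BT.node 7813 (BT.leaf cE7813) (BT.leaf cE7814)) (BT.leaf cE7815)) (BT.node 7816 (BT.leaf cE7816) (BT.leaf cE7817))))) (BT.node 7827 (BT.node 7822 (BT.node 7820 (BT.node 7819 (BT.node 7818 (BT.leaf cE7818) (BT.leaf cE7819)) (BT.leaf cE7820)) (BT.node 7821 (BT.leaf cE7821) (BT.leaf cE7822))) (BT.node 7825 (BT.node 7824 (BT.node 7823 (BT.leaf cE7823) (BT.leaf cE7824)) (BT.leaf cE7825)) (BT.node 7826 (BT.leaf cE7826) (BT.leaf cE7827)))) (BT.node 7832 (BT.node 7830 (BT.node 7829 (BT.node 7828 (BT.leaf cE7828) (BT.leaf cE7829)) (BT.leaf cE7830)) (BT.node 7831 (BT.leaf cE7831) (BT.leaf cE7832))) (BT.node 7835 (BT.node 7834 (BT.node 7833 (BT.leaf cE7833) (BT.leaf cE7834)) (BT.leaf cE7835)) (BT.node 7836 (BT.leaf cE7836) (BT.leaf cE7837))))))) (BT.node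 7878 (BT.node 7858 (BT.node 7848 (BT.node 7843 (BT.node 7840 (BT.node 7839 (BT.node 7838 (BT.leaf cE7838) (BT.leaf cE7839)) (BT.leaf cE7840)) (BT.node 7842 (BT.node 7841 (BT.leaf cE7841) (BT.leaf cE7842)) (BT.leaf cE7843))) (BT.node 7846 (BT.node 7845 (BT.node 7844 (BT.leaf cE7844) (BT.leaf cE7845)) (BT.leaf cE7846)) (BT.node 7847 (BT.leaf cE7847) (BT.leaf cE7848)))) (BT.node 7853 (BT.node 7851 (BT.node 7850 (BT.node 7849 (BT.leaf cE7849) (BT.leaf cE7850)) (BT.leaf cE7851)) (BT.node 7852 (BT.leaf cE7852) (BT.leaf cE7853))) (BT.node 7856 (BT.node 7855 (BT.node 7854 (BT.leaf cE7854) (BT.leaf cE7855)) (BT.leaf cE7856)) (BT.node 7857 (BT.leaf cE7857) (BT.leaf cE7858))))) (BT.node 7868 (BT.node 7863 (BT.node 7861 (BT.node 7860 (BT.node 7859 (BT.leaf cE7859) (BT.leaf cE7860)) (BT.leaf cE7861)) (BT.node 7862 (BT.leaf cE7862) (BT.leaf cE7863))) (BT.node 7866 (BT.node 7865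 (BT.node 7864 (BT.leaf cE7864) (BT.leaf cE7865)) (BT.leaf cE7866)) (BT.node 7867 (BT.leaf cE7867) (BT.leaf cE7868)))) (BT.node 7873 (BT.node 7871 (BT.node 7870 (BT.node 7869 (BT.leaf cE7869) (BT.leaf cE7870)) (BT.leaf cE7871)) (BT.node 7872 (BT.leaf cE7872) (BT.leaf cE7873))) (BT.node 7876 (BT.node 7875 (BT.node 7874 (BT.leaf cE7874) (BT.leaf cE7875)) (BT.leaf cE7876)) (BT.node 7877 (BT.leaf cE7877) (BT.leaf cE7878)))))) (BT.node 7898 (BT.node 7888 (BT.node 7883 (BT.node 7881 (BT.node 7880 (BT.node 7879 (BT.leaf cE7879) (BT.leaf cE7880)) (BT.leaf cE7881)) (BT.node 7882 (BT.leaf cE7882) (BT.leaf cE7883))) (BT.node 7886 (BT.node 7885 (BT.node 7884 (BT.leaf cE7884) (BT.leaf cE7885)) (BT.leaf cE7886)) (BT.node 7887 (BT.leaf cE7887) (BT.leaf cE7888)))) (BT.node 7893 (BT.node 7891 (BT.node 7890 (BT.node 7889 (BT.leaf cE7889) (BT.leaf cE7890)) (BT.leaf cE7891)) (BT.node 7892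 (BT.leaf cE7892) (BT.leaf cE7893))) (BT.node 7896 (BT.node 7895 (BT.node 7894 (BT.leaf cE7894) (BT.leaf cE7895)) (BT.leaf cE7896)) (BT.node 7897 (BT.leaf cE7897) (BT.leaf cE7898))))) (BT.node 7908 (BT.node 7903 (BT.node 7901 (BT.node 7900 (BT.node 7899 (BT.leaf cE7899) (BT.leaf cE7900)) (BT.leaf cE7901)) (BT.node 7902 (BT.leaf cE7902) (BT.leaf cE7903))) (BT.node 7906 (BT.node 7905 (BT.node 7904 (BT.leaf cE7904) (BT.leaf cE7905)) (BT.leaf cE7906)) (BT.node 7907 (BT.leaf cE7907) (BT.leaf cE7908)))) (BT.node 7913 (BT.node 7911 (BT.node 7910 (BT.node 7909 (BT.leaf cE7909) (BT.leaf cE7910)) (BT.leaf cE7911)) (BT.node 7912 (BT.leaf cE7912) (BT.leaf cE7913))) (BT.node 7916 (BT.node 7915 (BT.node 7914 (BT.leaf cE7914) (BT.leaf cE7915)) (BT.leaf cE7916)) (BT.node 7917 (BT.leaf cE7917) (BT.leaf cE7918))))))))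
noncomputable def colET_49 : BT ℕ := (BT.node 7999 (BT.node 7959 (BT.node 7939 (BT.node 7929 (BT.node 7924 (BT.node 7921 (BT.node 7920 (BT.node 7919 (BT.leaf cE7919) (BT.leaf cE7920)) (BT.leaf cE7921)) (BT.node 7923 (BT.node 7922 (BT.leaf cE7922) (BT.leaf cE7923)) (BT.leaf cE7924))) (BT.node 7927 (BT.node 7926 (BT.node 7925 (BT.leaf cE7925) (BT.leaf cE7926)) (BT.leaf cE7927)) (BT.node 7928 (BT.leaf cE7928) (BT.leaf cE7929)))) (BT.node 7934 (BT.node 7932 (BT.node 7931 (BT.node 7930 (BT.leaf cE7930) (BT.leaf cE7931)) (BT.leaf cE7932)) (BT.node 7933 (BT.leaf cE7933) (BT.leaf cE7934))) (BT.node 7937 (BT.node 7936 (BT.node 7935 (BT.leaf cE7935) (BT.leaf cE7936)) (BT.leaf cE7937)) (BT.node 7938 (BT.leaf cE7938) (BT.leaf cE7939))))) (BT.node 7949 (BT.node 7944 (BT.node 7942 (BT.node 7941 (BT.node 7940 (BT.leaf cE7940) (BT.leaf cE7941)) (BT.leaf cE7942)) (BT.node 7943 (BT.leaf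 cE7943) (BT.leaf cE7944))) (BT.node 7947 (BT.node 7946 (BT.node 7945 (BT.leaf cE7945) (BT.leaf cE7946)) (BT.leaf cE7947)) (BT.node 7948 (BT.leaf cE7948) (BT.leaf cE7949)))) (BT.node 7954 (BT.node 7952 (BT.node 7951 (BT.node 7950 (BT.leaf cE7950) (BT.leaf cE7951)) (BT.leaf cE7952)) (BT.node 7953 (BT.leaf cE7953) (BT.leaf cE7954))) (BT.node 7957 (BT.node 7956 (BT.node 7955 (BT.leaf cE7955) (BT.leaf cE7956)) (BT.leaf cE7957)) (BT.node 7958 (BT.leaf cE7958) (BT.leaf cE7959)))))) (BT.node 7979 (BT.node 7969 (BT.node 7964 (BT.node 7962 (BT.node 7961 (BT.node 7960 (BT.leaf cE7960) (BT.leaf cE7961)) (BT.leaf cE7962)) (BT.node 7963 (BT.leaf cE7963) (BT.leaf cE7964))) (BT.node 7967 (BT.node 7966 (BT.node 7965 (BT.leaf cE7965) (BT.leaf cE7966)) (BT.leaf cE7967)) (BT.node 7968 (BT.leaf cE7968) (BT.leaf cE7969)))) (BT.node 7974 (BT.node 7972 (BT.node 7971 (BT.node 7970 (BT.leaf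 cE7970) (BT.leaf cE7971)) (BT.leaf cE7972)) (BT.node 7973 (BT.leaf cE7973) (BT.leaf cE7974))) (BT.node 7977 (BT.node 7976 (BT.node 7975 (BT.leaf cE7975) (BT.leaf cE7976)) (BT.leaf cE7977)) (BT.node 7978 (BT.leaf cE7978) (BT.leaf cE7979))))) (BT.node 7989 (BT.node 7984 (BT.node 7982 (BT.node 7981 (BT.node 7980 (BT.leaf cE7980) (BT.leaf cE7981)) (BT.leaf cE7982)) (BT.node 7983 (BT.leaf cE7983) (BT.leaf cE7984))) (BT.node 7987 (BT.node 7986 (BT.node 7985 (BT.leaf cE7985) (BT.leaf cE7986)) (BT.leaf cE7987)) (BT.node 7988 (BT.leaf cE7988) (BT.leaf cE7989)))) (BT.node 7994 (BT.node 7992 (BT.node 7991 (BT.node 7990 (BT.leaf cE7990) (BT.leaf cE7991)) (BT.leaf cE7992)) (BT.node 7993 (BT.leaf cE7993) (BT.leaf cE7994))) (BT.node 7997 (BT.node 7996 (BT.node 7995 (BT.leaf cE7995) (BT.leaf cE7996)) (BT.leaf cE7997)) (BT.node 7998 (BT.leaf cE7998) (BT.leaf cE7999))))))) (BT.node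 8040 (BT.node 8020 (BT.node 8010 (BT.node 8005 (BT.node 8002 (BT.node 8001 (BT.node 8000 (BT.leaf cE8000) (BT.leaf cE8001)) (BT.leaf cE8002)) (BT.node 8004 (BT.node 8003 (BT.leaf cE8003) (BT.leaf cE8004)) (BT.leaf cE8005))) (BT.node 8008 (BT.node 8007 (BT.node 8006 (BT.leaf cE8006) (BT.leaf cE8007)) (BT.leaf cE8008)) (BT.node 8009 (BT.leaf cE8009) (BT.leaf cE8010)))) (BT.node 8015 (BT.node 8013 (BT.node 8012 (BT.node 8011 (BT.leaf cE8011) (BT.leaf cE8012)) (BT.leaf cE8013)) (BT.node 8014 (BT.leaf cE8014) (BT.leaf cE8015))) (BT.node 8018 (BT.node 8017 (BT.node 8016 (BT.leaf cE8016) (BT.leaf cE8017)) (BT.leaf cE8018)) (BT.node 8019 (BT.leaf cE8019) (BT.leaf cE8020))))) (BT.node 8030 (BT.node 8025 (BT.node 8023 (BT.node 8022 (BT.node 8021 (BT.leaf cE8021) (BT.leaf cE8022)) (BT.leaf cE8023)) (BT.node 8024 (BT.leaf cE8024) (BT.leaf cE8025))) (BT.node 8028 (BT.node 8027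 (BT.node 8026 (BT.leaf cE8026) (BT.leaf cE8027)) (BT.leaf cE8028)) (BT.node 8029 (BT.leaf cE8029) (BT.leaf cE8030)))) (BT.node 8035 (BT.node 8033 (BT.node 8032 (BT.node 8031 (BT.leaf cE8031) (BT.leaf cE8032)) (BT.leaf cE8033)) (BT.node 8034 (BT.leaf cE8034) (BT.leaf cE8035))) (BT.node 8038 (BT.node 8037 (BT.node 8036 (BT.leaf cE8036) (BT.leaf cE8037)) (BT.leaf cE8038)) (BT.node 8039 (BT.leaf cE8039) (BT.leaf cE8040)))))) (BT.node 8060 (BT.node 8050 (BT.node 8045 (BT.node 8043 (BT.node 8042 (BT.node 8041 (BT.leaf cE8041) (BT.leaf cE8042)) (BT.leaf cE8043)) (BT.node 8044 (BT.leaf cE8044) (BT.leaf cE8045))) (BT.node 8048 (BT.node 8047 (BT.node 8046 (BT.leaf cE8046) (BT.leaf cE8047)) (BT.leaf cE8048)) (BT.node 8049 (BT.leaf cE8049) (BT.leaf cE8050)))) (BT.node 8055 (BT.node 8053 (BT.node 8052 (BT.node 8051 (BT.leaf cE8051) (BT.leaf cE8052)) (BT.leaf cE8053)) (BT.node 8054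 (BT.leaf cE8054) (BT.leaf cE8055))) (BT.node 8058 (BT.node 8057 (BT.node 8056 (BT.leaf cE8056) (BT.leaf cE8057)) (BT.leaf cE8058)) (BT.node 8059 (BT.leaf cE8059) (BT.leaf cE8060))))) (BT.node 8070 (BT.node 8065 (BT.node 8063 (BT.node 8062 (BT.node 8061 (BT.leaf cE8061) (BT.leaf cE8062)) (BT.leaf cE8063)) (BT.node 8064 (BT.leaf cE8064) (BT.leaf cE8065))) (BT.node 8068 (BT.node 8067 (BT.node 8066 (BT.leaf cE8066) (BT.leaf cE8067)) (BT.leaf cE8068)) (BT.node 8069 (BT.leaf cE8069) (BT.leaf cE8070)))) (BT.node 8075 (BT.node 8073 (BT.node 8072 (BT.node 8071 (BT.leaf cE8071) (BT.leaf cE8072)) (BT.leaf cE8073)) (BT.node 8074 (BT.leaf cE8074) (BT.leaf cE8075))) (BT.node 8078 (BT.node 8077 (BT.node 8076 (BT.leaf cE8076) (BT.leaf cE8077)) (BT.leaf cE8078)) (BT.node 8079 (BT.leaf cE8079) (BT.leaf cE8080))))))))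
noncomputable def colET_50 : BT ℕ := (BT.node 8161 (BT.node 8121 (BT.node 8101 (BT.node 8091 (BT.node 8086 (BT.node 8083 (BT.node 8082 (BT.node 8081 (BT.leaf cE8081) (BT.leaf cE8082)) (BT.leaf cE8083)) (BT.node 8085 (BT.node 8084 (BT.leaf cE8084) (BT.leaf cE8085)) (BT.leaf cE8086))) (BT.node 8089 (BT.node 8088 (BT.node 8087 (BT.leaf cE8087) (BT.leaf cE8088)) (BT.leaf cE8089)) (BT.node 8090 (BT.leaf cE8090) (BT.leaf cE8091)))) (BT.node 8096 (BT.node 8094 (BT.node 8093 (BT.node 8092 (BT.leaf cE8092) (BT.leaf cE8093)) (BT.leaf cE8094)) (BT.node 8095 (BT.leaf cE8095) (BT.leaf cE8096))) (BT.node 8099 (BT.node 8098 (BT.node 8097 (BT.leaf cE8097) (BT.leaf cE8098)) (BT.leaf cE8099)) (BT.node 8100 (BT.leaf cE8100) (BT.leaf cE8101))))) (BT.node 8111 (BT.node 8106 (BT.node 8104 (BT.node 8103 (BT.node 8102 (BT.leaf cE8102) (BT.leaf cE8103)) (BT.leaf cE8104)) (BT.node 8105 (BT.leaf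 cE8105) (BT.leaf cE8106))) (BT.node 8109 (BT.node 8108 (BT.node 8107 (BT.leaf cE8107) (BT.leaf cE8108)) (BT.leaf cE8109)) (BT.node 8110 (BT.leaf cE8110) (BT.leaf cE8111)))) (BT.node 8116 (BT.node 8114 (BT.node 8113 (BT.node 8112 (BT.leaf cE8112) (BT.leaf cE8113)) (BT.leaf cE8114)) (BT.node 8115 (BT.leaf cE8115) (BT.leaf cE8116))) (BT.node 8119 (BT.node 8118 (BT.node 8117 (BT.leaf cE8117) (BT.leaf cE8118)) (BT.leaf cE8119)) (BT.node 8120 (BT.leaf cE8120) (BT.leaf cE8121)))))) (BT.node 8141 (BT.node 8131 (BT.node 8126 (BT.node 8124 (BT.node 8123 (BT.node 8122 (BT.leaf cE8122) (BT.leaf cE8123)) (BT.leaf cE8124)) (BT.node 8125 (BT.leaf cE8125) (BT.leaf cE8126))) (BT.node 8129 (BT.node 8128 (BT.node 8127 (BT.leaf cE8127) (BT.leaf cE8128)) (BT.leaf cE8129)) (BT.node 8130 (BT.leaf cE8130) (BT.leaf cE8131)))) (BT.node 8136 (BT.node 8134 (BT.node 8133 (BT.node 8132 (BT.leaf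 cE8132) (BT.leaf cE8133)) (BT.leaf cE8134)) (BT.node 8135 (BT.leaf cE8135) (BT.leaf cE8136))) (BT.node 8139 (BT.node 8138 (BT.node 8137 (BT.leaf cE8137) (BT.leaf cE8138)) (BT.leaf cE8139)) (BT.node 8140 (BT.leaf cE8140) (BT.leaf cE8141))))) (BT.node 8151 (BT.node 8146 (BT.node 8144 (BT.node 8143 (BT.node 8142 (BT.leaf cE8142) (BT.leaf cE8143)) (BT.leaf cE8144)) (BT.node 8145 (BT.leaf cE8145) (BT.leaf cE8146))) (BT.node 8149 (BT.node 8148 (BT.node 8147 (BT.leaf cE8147) (BT.leaf cE8148)) (BT.leaf cE8149)) (BT.node 8150 (BT.leaf cE8150) (BT.leaf cE8151)))) (BT.node 8156 (BT.node 8154 (BT.node 8153 (BT.node 8152 (BT.leaf cE8152) (BT.leaf cE8153)) (BT.leaf cE8154)) (BT.node 8155 (BT.leaf cE8155) (BT.leaf cE8156))) (BT.node 8159 (BT.node 8158 (BT.node 8157 (BT.leaf cE8157) (BT.leaf cE8158)) (BT.leaf cE8159)) (BT.node 8160 (BT.leaf cE8160) (BT.leaf cE8161))))))) (BT.node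 8202 (BT.node 8182 (BT.node 8172 (BT.node 8167 (BT.node 8164 (BT.node 8163 (BT.node 8162 (BT.leaf cE8162) (BT.leaf cE8163)) (BT.leaf cE8164)) (BT.node 8166 (BT.node 8165 (BT.leaf cE8165) (BT.leaf cE8166)) (BT.leaf cE8167))) (BT.node 8170 (BT.node 8169 (BT.node 8168 (BT.leaf cE8168) (BT.leaf cE8169)) (BT.leaf cE8170)) (BT.node 8171 (BT.leaf cE8171) (BT.leaf cE8172)))) (BT.node 8177 (BT.node 8175 (BT.node 8174 (BT.node 8173 (BT.leaf cE8173) (BT.leaf cE8174)) (BT.leaf cE8175)) (BT.node 8176 (BT.leaf cE8176) (BT.leaf cE8177))) (BT.node 8180 (BT.node 8179 (BT.node 8178 (BT.leaf cE8178) (BT.leaf cE8179)) (BT.leaf cE8180)) (BT.node 8181 (BT.leaf cE8181) (BT.leaf cE8182))))) (BT.node 8192 (BT.node 8187 (BT.node 8185 (BT.node 8184 (BT.node 8183 (BT.leaf cE8183) (BT.leaf cE8184)) (BT.leaf cE8185)) (BT.node 8186 (BT.leaf cE8186) (BT.leaf cE8187))) (BT.node 8190 (BT.node 8189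 (BT.node 8188 (BT.leaf cE8188) (BT.leaf cE8189)) (BT.leaf cE8190)) (BT.node 8191 (BT.leaf cE8191) (BT.leaf cE8192)))) (BT.node 8197 (BT.node 8195 (BT.node 8194 (BT.node 8193 (BT.leaf cE8193) (BT.leaf cE8194)) (BT.leaf cE8195)) (BT.node 8196 (BT.leaf cE8196) (BT.leaf cE8197))) (BT.node 8200 (BT.node 8199 (BT.node 8198 (BT.leaf cE8198) (BT.leaf cE8199)) (BT.leaf cE8200)) (BT.node 8201 (BT.leaf cE8201) (BT.leaf cE8202)))))) (BT.node 8222 (BT.node 8212 (BT.node 8207 (BT.node 8205 (BT.node 8204 (BT.node 8203 (BT.leaf cE8203) (BT.leaf cE8204)) (BT.leaf cE8205)) (BT.node 8206 (BT.leaf cE8206) (BT.leaf cE8207))) (BT.node 8210 (BT.node 8209 (BT.node 8208 (BT.leaf cE8208) (BT.leaf cE8209)) (BT.leaf cE8210)) (BT.node 8211 (BT.leaf cE8211) (BT.leaf cE8212)))) (BT.node 8217 (BT.node 8215 (BT.node 8214 (BT.node 8213 (BT.leaf cE8213) (BT.leaf cE8214)) (BT.leaf cE8215)) (BT.node 8216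 (BT.leaf cE8216) (BT.leaf cE8217))) (BT.node 8220 (BT.node 8219 (BT.node 8218 (BT.leaf cE8218) (BT.leaf cE8219)) (BT.leaf cE8220)) (BT.node 8221 (BT.leaf cE8221) (BT.leaf cE8222))))) (BT.node 8232 (BT.node 8227 (BT.node 8225 (BT.node 8224 (BT.node 8223 (BT.leaf cE8223) (BT.leaf cE8224)) (BT.leaf cE8225)) (BT.node 8226 (BT.leaf cE8226) (BT.leaf cE8227))) (BT.node 8230 (BT.node 8229 (BT.node 8228 (BT.leaf cE8228) (BT.leaf cE8229)) (BT.leaf cE8230)) (BT.node 8231 (BT.leaf cE8231) (BT.leaf cE8232)))) (BT.node 8237 (BT.node 8235 (BT.node 8234 (BT.node 8233 (BT.leaf cE8233) (BT.leaf cE8234)) (BT.leaf cE8235)) (BT.node 8236 (BT.leaf cE8236) (BT.leaf cE8237))) (BT.node 8240 (BT.node 8239 (BT.node 8238 (BT.leaf cE8238) (BT.leaf cE8239)) (BT.leaf cE8240)) (BT.node 8241 (BT.leaf cE8241) (BT.leaf cE8242))))))))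
noncomputable def colET_51 : BT ℕ := (BT.node 8323 (BT.node 8283 (BT.node 8263 (BT.node 8253 (BT.node 8248 (BT.node 8245 (BT.node 8244 (BT.node 8243 (BT.leaf cE8243) (BT.leaf cE8244)) (BT.leaf cE8245)) (BT.node 8247 (BT.node 8246 (BT.leaf cE8246) (BT.leaf cE8247)) (BT.leaf cE8248))) (BT.node 8251 (BT.node 8250 (BT.node 8249 (BT.leaf cE8249) (BT.leaf cE8250)) (BT.leaf cE8251)) (BT.node 8252 (BT.leaf cE8252) (BT.leaf cE8253)))) (BT.node 8258 (BT.node 8256 (BT.node 8255 (BT.node 8254 (BT.leaf cE8254) (BT.leaf cE8255)) (BT.leaf cE8256)) (BT.node 8257 (BT.leaf cE8257) (BT.leaf cE8258))) (BT.node 8261 (BT.node 8260 (BT.node 8259 (BT.leaf cE8259) (BT.leaf cE8260)) (BT.leaf cE8261)) (BT.node 8262 (BT.leaf cE8262) (BT.leaf cE8263))))) (BT.node 8273 (BT.node 8268 (BT.node 8266 (BT.node 8265 (BT.node 8264 (BT.leaf cE8264) (BT.leaf cE8265)) (BT.leaf cE8266)) (BT.node 8267 (BT.leaf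 cE8267) (BT.leaf cE8268))) (BT.node 8271 (BT.node 8270 (BT.node 8269 (BT.leaf cE8269) (BT.leaf cE8270)) (BT.leaf cE8271)) (BT.node 8272 (BT.leaf cE8272) (BT.leaf cE8273)))) (BT.node 8278 (BT.node 8276 (BT.node 8275 (BT.node 8274 (BT.leaf cE8274) (BT.leaf cE8275)) (BT.leaf cE8276)) (BT.node 8277 (BT.leaf cE8277) (BT.leaf cE8278))) (BT.node 8281 (BT.node 8280 (BT.node 8279 (BT.leaf cE8279) (BT.leaf cE8280)) (BT.leaf cE8281)) (BT.node 8282 (BT.leaf cE8282) (BT.leaf cE8283)))))) (BT.node 8303 (BT.node 8293 (BT.node 8288 (BT.node 8286 (BT.node 8285 (BT.node 8284 (BT.leaf cE8284) (BT.leaf cE8285)) (BT.leaf cE8286)) (BT.node 8287 (BT.leaf cE8287) (BT.leaf cE8288))) (BT.node 8291 (BT.node 8290 (BT.node 8289 (BT.leaf cE8289) (BT.leaf cE8290)) (BT.leaf cE8291)) (BT.node 8292 (BT.leaf cE8292) (BT.leaf cE8293)))) (BT.node 8298 (BT.node 8296 (BT.node 8295 (BT.node 8294 (BT.leaf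 cE8294) (BT.leaf cE8295)) (BT.leaf cE8296)) (BT.node 8297 (BT.leaf cE8297) (BT.leaf cE8298))) (BT.node 8301 (BT.node 8300 (BT.node 8299 (BT.leaf cE8299) (BT.leaf cE8300)) (BT.leaf cE8301)) (BT.node 8302 (BT.leaf cE8302) (BT.leaf cE8303))))) (BT.node 8313 (BT.node 8308 (BT.node 8306 (BT.node 8305 (BT.node 8304 (BT.leaf cE8304) (BT.leaf cE8305)) (BT.leaf cE8306)) (BT.node 8307 (BT.leaf cE8307) (BT.leaf cE8308))) (BT.node 8311 (BT.node 8310 (BT.node 8309 (BT.leaf cE8309) (BT.leaf cE8310)) (BT.leaf cE8311)) (BT.node 8312 (BT.leaf cE8312) (BT.leaf cE8313)))) (BT.node 8318 (BT.node 8316 (BT.node 8315 (BT.node 8314 (BT.leaf cE8314) (BT.leaf cE8315)) (BT.leaf cE8316)) (BT.node 8317 (BT.leaf cE8317) (BT.leaf cE8318))) (BT.node 8321 (BT.node 8320 (BT.node 8319 (BT.leaf cE8319) (BT.leaf cE8320)) (BT.leaf cE8321)) (BT.node 8322 (BT.leaf cE8322) (BT.leaf cE8323))))))) (BT.node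 8363 (BT.node 8343 (BT.node 8333 (BT.node 8328 (BT.node 8326 (BT.node 8325 (BT.node 8324 (BT.leaf cE8324) (BT.leaf cE8325)) (BT.leaf cE8326)) (BT.node 8327 (BT.leaf cE8327) (BT.leaf cE8328))) (BT.node 8331 (BT.node 8330 (BT.node 8329 (BT.leaf cE8329) (BT.leaf cE8330)) (BT.leaf cE8331)) (BT.node 8332 (BT.leaf cE8332) (BT.leaf cE8333)))) (BT.node 8338 (BT.node 8336 (BT.node 8335 (BT.node 8334 (BT.leaf cE8334) (BT.leaf cE8335)) (BT.leaf cE8336)) (BT.node 8337 (BT.leaf cE8337) (BT.leaf cE8338))) (BT.node 8341 (BT.node 8340 (BT.node 8339 (BT.leaf cE8339) (BT.leaf cE8340)) (BT.leaf cE8341)) (BT.node 8342 (BT.leaf cE8342) (BT.leaf cE8343))))) (BT.node 8353 (BT.node 8348 (BT.node 8346 (BT.node 8345 (BT.node 8344 (BT.leaf cE8344) (BT.leaf cE8345)) (BT.leaf cE8346)) (BT.node 8347 (BT.leaf cE8347) (BT.leaf cE8348))) (BT.node 8351 (BT.node 8350 (BT.node 8349 (BT.leaf cE8349) (BT.leaf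 cE8350)) (BT.leaf cE8351)) (BT.node 8352 (BT.leaf cE8352) (BT.leaf cE8353)))) (BT.node 8358 (BT.node 8356 (BT.node 8355 (BT.node 8354 (BT.leaf cE8354) (BT.leaf cE8355)) (BT.leaf cE8356)) (BT.node 8357 (BT.leaf cE8357) (BT.leaf cE8358))) (BT.node 8361 (BT.node 8360 (BT.node 8359 (BT.leaf cE8359) (BT.leaf cE8360)) (BT.leaf cE8361)) (BT.node 8362 (BT.leaf cE8362) (BT.leaf cE8363)))))) (BT.node 8383 (BT.node 8373 (BT.node 8368 (BT.node 8366 (BT.node 8365 (BT.node 8364 (BT.leaf cE8364) (BT.leaf cE8365)) (BT.leaf cE8366)) (BT.node 8367 (BT.leaf cE8367) (BT.leaf cE8368))) (BT.node 8371 (BT.node 8370 (BT.node 8369 (BT.leaf cE8369) (BT.leaf cE8370)) (BT.leaf cE8371)) (BT.node 8372 (BT.leaf cE8372) (BT.leaf cE8373)))) (BT.node 8378 (BT.node 8376 (BT.node 8375 (BT.node 8374 (BT.leaf cE8374) (BT.leaf cE8375)) (BT.leaf cE8376)) (BT.node 8377 (BT.leaf cE8377) (BT.leaf cE8378)))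 (BT.node 8381 (BT.node 8380 (BT.node 8379 (BT.leaf cE8379) (BT.leaf cE8380)) (BT.leaf cE8381)) (BT.node 8382 (BT.leaf cE8382) (BT.leaf cE8383))))) (BT.node 8393 (BT.node 8388 (BT.node 8386 (BT.node 8385 (BT.node 8384 (BT.leaf cE8384) (BT.leaf cE8385)) (BT.leaf cE8386)) (BT.node 8387 (BT.leaf cE8387) (BT.leaf cE8388))) (BT.node 8391 (BT.node 8390 (BT.node 8389 (BT.leaf cE8389) (BT.leaf cE8390)) (BT.leaf cE8391)) (BT.node 8392 (BT.leaf cE8392) (BT.leaf cE8393)))) (BT.node 8398 (BT.node 8396 (BT.node 8395 (BT.node 8394 (BT.leaf cE8394) (BT.leaf cE8395)) (BT.leaf cE8396)) (BT.node 8397 (BT.leaf cE8397) (BT.leaf cE8398))) (BT.node 8401 (BT.node 8400 (BT.node 8399 (BT.leaf cE8399) (BT.leaf cE8400)) (BT.leaf cE8401)) (BT.node 8402 (BT.leaf cE8402) (BT.leaf cE8403))))))))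
noncomputable def colET_52 : BT ℕ := (BT.node 8484 (BT.node 8444 (BT.node 8424 (BT.node 8414 (BT.node 8409 (BT.node 8406 (BT.node 8405 (BT.node 8404 (BT.leaf cE8404) (BT.leaf cE8405)) (BT.leaf cE8406)) (BT.node 8408 (BT.node 8407 (BT.leaf cE8407) (BT.leaf cE8408)) (BT.leaf cE8409))) (BT.node 8412 (BT.node 8411 (BT.node 8410 (BT.leaf cE8410) (BT.leaf cE8411)) (BT.leaf cE8412)) (BT.node 8413 (BT.leaf cE8413) (BT.leaf cE8414)))) (BT.node 8419 (BT.node 8417 (BT.node 8416 (BT.node 8415 (BT.leaf cE8415) (BT.leaf cE8416)) (BT.leaf cE8417)) (BT.node 8418 (BT.leaf cE8418) (BT.leaf cE8419))) (BT.node 8422 (BT.node 8421 (BT.node 8420 (BT.leaf cE8420) (BT.leaf cE8421)) (BT.leaf cE8422)) (BT.node 8423 (BT.leaf cE8423) (BT.leaf cE8424))))) (BT.node 8434 (BT.node 8429 (BT.node 8427 (BT.node 8426 (BT.node 8425 (BT.leaf cE8425) (BT.leaf cE8426)) (BT.leaf cE8427)) (BT.node 8428 (BT.leaf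 cE8428) (BT.leaf cE8429))) (BT.node 8432 (BT.node 8431 (BT.node 8430 (BT.leaf cE8430) (BT.leaf cE8431)) (BT.leaf cE8432)) (BT.node 8433 (BT.leaf cE8433) (BT.leaf cE8434)))) (BT.node 8439 (BT.node 8437 (BT.node 8436 (BT.node 8435 (BT.leaf cE8435) (BT.leaf cE8436)) (BT.leaf cE8437)) (BT.node 8438 (BT.leaf cE8438) (BT.leaf cE8439))) (BT.node 8442 (BT.node 8441 (BT.node 8440 (BT.leaf cE8440) (BT.leaf cE8441)) (BT.leaf cE8442)) (BT.node 8443 (BT.leaf cE8443) (BT.leaf cE8444)))))) (BT.node 8464 (BT.node 8454 (BT.node 8449 (BT.node 8447 (BT.node 8446 (BT.node 8445 (BT.leaf cE8445) (BT.leaf cE8446)) (BT.leaf cE8447)) (BT.node 8448 (BT.leaf cE8448) (BT.leaf cE8449))) (BT.node 8452 (BT.node 8451 (BT.node 8450 (BT.leaf cE8450) (BT.leaf cE8451)) (BT.leaf cE8452)) (BT.node 8453 (BT.leaf cE8453) (BT.leaf cE8454)))) (BT.node 8459 (BT.node 8457 (BT.node 8456 (BT.node 8455 (BT.leaf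 cE8455) (BT.leaf cE8456)) (BT.leaf cE8457)) (BT.node 8458 (BT.leaf cE8458) (BT.leaf cE8459))) (BT.node 8462 (BT.node 8461 (BT.node 8460 (BT.leaf cE8460) (BT.leaf cE8461)) (BT.leaf cE8462)) (BT.node 8463 (BT.leaf cE8463) (BT.leaf cE8464))))) (BT.node 8474 (BT.node 8469 (BT.node 8467 (BT.node 8466 (BT.node 8465 (BT.leaf cE8465) (BT.leaf cE8466)) (BT.leaf cE8467)) (BT.node 8468 (BT.leaf cE8468) (BT.leaf cE8469))) (BT.node 8472 (BT.node 8471 (BT.node 8470 (BT.leaf cE8470) (BT.leaf cE8471)) (BT.leaf cE8472)) (BT.node 8473 (BT.leaf cE8473) (BT.leaf cE8474)))) (BT.node 8479 (BT.node 8477 (BT.node 8476 (BT.node 8475 (BT.leaf cE8475) (BT.leaf cE8476)) (BT.leaf cE8477)) (BT.node 8478 (BT.leaf cE8478) (BT.leaf cE8479))) (BT.node 8482 (BT.node 8481 (BT.node 8480 (BT.leaf cE8480) (BT.leaf cE8481)) (BT.leaf cE8482)) (BT.node 8483 (BT.leaf cE8483) (BT.leaf cE8484))))))) (BT.node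 8525 (BT.node 8505 (BT.node 8495 (BT.node 8490 (BT.node 8487 (BT.node 8486 (BT.node 8485 (BT.leaf cE8485) (BT.leaf cE8486)) (BT.leaf cE8487)) (BT.node 8489 (BT.node 8488 (BT.leaf cE8488) (BT.leaf cE8489)) (BT.leaf cE8490))) (BT.node 8493 (BT.node 8492 (BT.node 8491 (BT.leaf cE8491) (BT.leaf cE8492)) (BT.leaf cE8493)) (BT.node 8494 (BT.leaf cE8494) (BT.leaf cE8495)))) (BT.node 8500 (BT.node 8498 (BT.node 8497 (BT.node 8496 (BT.leaf cE8496) (BT.leaf cE8497)) (BT.leaf cE8498)) (BT.node 8499 (BT.leaf cE8499) (BT.leaf cE8500))) (BT.node 8503 (BT.node 8502 (BT.node 8501 (BT.leaf cE8501) (BT.leaf cE8502)) (BT.leaf cE8503)) (BT.node 8504 (BT.leaf cE8504) (BT.leaf cE8505))))) (BT.node 8515 (BT.node 8510 (BT.node 8508 (BT.node 8507 (BT.node 8506 (BT.leaf cE8506) (BT.leaf cE8507)) (BT.leaf cE8508)) (BT.node 8509 (BT.leaf cE8509) (BT.leaf cE8510))) (BT.node 8513 (BT.node 8512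 (BT.node 8511 (BT.leaf cE8511) (BT.leaf cE8512)) (BT.leaf cE8513)) (BT.node 8514 (BT.leaf cE8514) (BT.leaf cE8515)))) (BT.node 8520 (BT.node 8518 (BT.node 8517 (BT.node 8516 (BT.leaf cE8516) (BT.leaf cE8517)) (BT.leaf cE8518)) (BT.node 8519 (BT.leaf cE8519) (BT.leaf cE8520))) (BT.node 8523 (BT.node 8522 (BT.node 8521 (BT.leaf cE8521) (BT.leaf cE8522)) (BT.leaf cE8523)) (BT.node 8524 (BT.leaf cE8524) (BT.leaf cE8525)))))) (BT.node 8545 (BT.node 8535 (BT.node 8530 (BT.node 8528 (BT.node 8527 (BT.node 8526 (BT.leaf cE8526) (BT.leaf cE8527)) (BT.leaf cE8528)) (BT.node 8529 (BT.leaf cE8529) (BT.leaf cE8530))) (BT.node 8533 (BT.node 8532 (BT.node 8531 (BT.leaf cE8531) (BT.leaf cE8532)) (BT.leaf cE8533)) (BT.node 8534 (BT.leaf cE8534) (BT.leaf cE8535)))) (BT.node 8540 (BT.node 8538 (BT.node 8537 (BT.node 8536 (BT.leaf cE8536) (BT.leaf cE8537)) (BT.leaf cE8538)) (BT.node 8539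 (BT.leaf cE8539) (BT.leaf cE8540))) (BT.node 8543 (BT.node 8542 (BT.node 8541 (BT.leaf cE8541) (BT.leaf cE8542)) (BT.leaf cE8543)) (BT.node 8544 (BT.leaf cE8544) (BT.leaf cE8545))))) (BT.node 8555 (BT.node 8550 (BT.node 8548 (BT.node 8547 (BT.node 8546 (BT.leaf cE8546) (BT.leaf cE8547)) (BT.leaf cE8548)) (BT.node 8549 (BT.leaf cE8549) (BT.leaf cE8550))) (BT.node 8553 (BT.node 8552 (BT.node 8551 (BT.leaf cE8551) (BT.leaf cE8552)) (BT.leaf cE8553)) (BT.node 8554 (BT.leaf cE8554) (BT.leaf cE8555)))) (BT.node 8560 (BT.node 8558 (BT.node 8557 (BT.node 8556 (BT.leaf cE8556) (BT.leaf cE8557)) (BT.leaf cE8558)) (BT.node 8559 (BT.leaf cE8559) (BT.leaf cE8560))) (BT.node 8563 (BT.node 8562 (BT.node 8561 (BT.leaf cE8561) (BT.leaf cE8562)) (BT.leaf cE8563)) (BT.node 8564 (BT.leaf cE8564) (BT.leaf cE8565))))))))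
noncomputable def colET_53 : BT ℕ := (BT.node 8646 (BT.node 8606 (BT.node 8586 (BT.node 8576 (BT.node 8571 (BT.node 8568 (BT.node 8567 (BT.node 8566 (BT.leaf cE8566) (BT.leaf cE8567)) (BT.leaf cE8568)) (BT.node 8570 (BT.node 8569 (BT.leaf cE8569) (BT.leaf cE8570)) (BT.leaf cE8571))) (BT.node 8574 (BT.node 8573 (BT.node 8572 (BT.leaf cE8572) (BT.leaf cE8573)) (BT.leaf cE8574)) (BT.node 8575 (BT.leaf cE8575) (BT.leaf cE8576)))) (BT.node 8581 (BT.node 8579 (BT.node 8578 (BT.node 8577 (BT.leaf cE8577) (BT.leaf cE8578)) (BT.leaf cE8579)) (BT.node 8580 (BT.leaf cE8580) (BT.leaf cE8581))) (BT.node 8584 (BT.node 8583 (BT.node 8582 (BT.leaf cE8582) (BT.leaf cE8583)) (BT.leaf cE8584)) (BT.node 8585 (BT.leaf cE8585) (BT.leaf cE8586))))) (BT.node 8596 (BT.node 8591 (BT.node 8589 (BT.node 8588 (BT.node 8587 (BT.leaf cE8587) (BT.leaf cE8588)) (BT.leaf cE8589)) (BT.node 8590 (BT.leaf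 cE8590) (BT.leaf cE8591))) (BT.node 8594 (BT.node 8593 (BT.node 8592 (BT.leaf cE8592) (BT.leaf cE8593)) (BT.leaf cE8594)) (BT.node 8595 (BT.leaf cE8595) (BT.leaf cE8596)))) (BT.node 8601 (BT.node 8599 (BT.node 8598 (BT.node 8597 (BT.leaf cE8597) (BT.leaf cE8598)) (BT.leaf cE8599)) (BT.node 8600 (BT.leaf cE8600) (BT.leaf cE8601))) (BT.node 8604 (BT.node 8603 (BT.node 8602 (BT.leaf cE8602) (BT.leaf cE8603)) (BT.leaf cE8604)) (BT.node 8605 (BT.leaf cE8605) (BT.leaf cE8606)))))) (BT.node 8626 (BT.node 8616 (BT.node 8611 (BT.node 8609 (BT.node 8608 (BT.node 8607 (BT.leaf cE8607) (BT.leaf cE8608)) (BT.leaf cE8609)) (BT.node 8610 (BT.leaf cE8610) (BT.leaf cE8611))) (BT.node 8614 (BT.node 8613 (BT.node 8612 (BT.leaf cE8612) (BT.leaf cE8613)) (BT.leaf cE8614)) (BT.node 8615 (BT.leaf cE8615) (BT.leaf cE8616)))) (BT.node 8621 (BT.node 8619 (BT.node 8618 (BT.node 8617 (BT.leaf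 cE8617) (BT.leaf cE8618)) (BT.leaf cE8619)) (BT.node 8620 (BT.leaf cE8620) (BT.leaf cE8621))) (BT.node 8624 (BT.node 8623 (BT.node 8622 (BT.leaf cE8622) (BT.leaf cE8623)) (BT.leaf cE8624)) (BT.node 8625 (BT.leaf cE8625) (BT.leaf cE8626))))) (BT.node 8636 (BT.node 8631 (BT.node 8629 (BT.node 8628 (BT.node 8627 (BT.leaf cE8627) (BT.leaf cE8628)) (BT.leaf cE8629)) (BT.node 8630 (BT.leaf cE8630) (BT.leaf cE8631))) (BT.node 8634 (BT.node 8633 (BT.node 8632 (BT.leaf cE8632) (BT.leaf cE8633)) (BT.leaf cE8634)) (BT.node 8635 (BT.leaf cE8635) (BT.leaf cE8636)))) (BT.node 8641 (BT.node 8639 (BT.node 8638 (BT.node 8637 (BT.leaf cE8637) (BT.leaf cE8638)) (BT.leaf cE8639)) (BT.node 8640 (BT.leaf cE8640) (BT.leaf cE8641))) (BT.node 8644 (BT.node 8643 (BT.node 8642 (BT.leaf cE8642) (BT.leaf cE8643)) (BT.leaf cE8644)) (BT.node 8645 (BT.leaf cE8645) (BT.leaf cE8646))))))) (BT.node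 8686 (BT.node 8666 (BT.node 8656 (BT.node 8651 (BT.node 8649 (BT.node 8648 (BT.node 8647 (BT.leaf cE8647) (BT.leaf cE8648)) (BT.leaf cE8649)) (BT.node 8650 (BT.leaf cE8650) (BT.leaf cE8651))) (BT.node 8654 (BT.node 8653 (BT.node 8652 (BT.leaf cE8652) (BT.leaf cE8653)) (BT.leaf cE8654)) (BT.node 8655 (BT.leaf cE8655) (BT.leaf cE8656)))) (BT.node 8661 (BT.node 8659 (BT.node 8658 (BT.node 8657 (BT.leaf cE8657) (BT.leaf cE8658)) (BT.leaf cE8659)) (BT.node 8660 (BT.leaf cE8660) (BT.leaf cE8661))) (BT.node 8664 (BT.node 8663 (BT.node 8662 (BT.leaf cE8662) (BT.leaf cE8663)) (BT.leaf cE8664)) (BT.node 8665 (BT.leaf cE8665) (BT.leaf cE8666))))) (BT.node 8676 (BT.node 8671 (BT.node 8669 (BT.node 8668 (BT.node 8667 (BT.leaf cE8667) (BT.leaf cE8668)) (BT.leaf cE8669)) (BT.node 8670 (BT.leaf cE8670) (BT.leaf cE8671))) (BT.node 8674 (BT.node 8673 (BT.node 8672 (BT.leaf cE8672) (BT.leaf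 cE8673)) (BT.leaf cE8674)) (BT.node 8675 (BT.leaf cE8675) (BT.leaf cE8676)))) (BT.node 8681 (BT.node 8679 (BT.node 8678 (BT.node 8677 (BT.leaf cE8677) (BT.leaf cE8678)) (BT.leaf cE8679)) (BT.node 8680 (BT.leaf cE8680) (BT.leaf cE8681))) (BT.node 8684 (BT.node 8683 (BT.node 8682 (BT.leaf cE8682) (BT.leaf cE8683)) (BT.leaf cE8684)) (BT.node 8685 (BT.leaf cE8685) (BT.leaf cE8686)))))) (BT.node 8706 (BT.node 8696 (BT.node 8691 (BT.node 8689 (BT.node 8688 (BT.node 8687 (BT.leaf cE8687) (BT.leaf cE8688)) (BT.leaf cE8689)) (BT.node 8690 (BT.leaf cE8690) (BT.leaf cE8691))) (BT.node 8694 (BT.node 8693 (BT.node 8692 (BT.leaf cE8692) (BT.leaf cE8693)) (BT.leaf cE8694)) (BT.node 8695 (BT.leaf cE8695) (BT.leaf cE8696)))) (BT.node 8701 (BT.node 8699 (BT.node 8698 (BT.node 8697 (BT.leaf cE8697) (BT.leaf cE8698)) (BT.leaf cE8699)) (BT.node 8700 (BT.leaf cE8700) (BT.leaf cE8701)))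 (BT.node 8704 (BT.node 8703 (BT.node 8702 (BT.leaf cE8702) (BT.leaf cE8703)) (BT.leaf cE8704)) (BT.node 8705 (BT.leaf cE8705) (BT.leaf cE8706))))) (BT.node 8716 (BT.node 8711 (BT.node 8709 (BT.node 8708 (BT.node 8707 (BT.leaf cE8707) (BT.leaf cE8708)) (BT.leaf cE8709)) (BT.node 8710 (BT.leaf cE8710) (BT.leaf cE8711))) (BT.node 8714 (BT.node 8713 (BT.node 8712 (BT.leaf cE8712) (BT.leaf cE8713)) (BT.leaf cE8714)) (BT.node 8715 (BT.leaf cE8715) (BT.leaf cE8716)))) (BT.node 8721 (BT.node 8719 (BT.node 8718 (BT.node 8717 (BT.leaf cE8717) (BT.leaf cE8718)) (BT.leaf cE8719)) (BT.node 8720 (BT.leaf cE8720) (BT.leaf cE8721))) (BT.node 8724 (BT.node 8723 (BT.node 8722 (BT.leaf cE8722) (BT.leaf cE8723)) (BT.leaf cE8724)) (BT.node 8725 (BT.leaf cE8725) (BT.leaf cE8726))))))))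
noncomputable def colET_54 : BT ℕ := (BT.node 8807 (BT.node 8767 (BT.node 8747 (BT.node 8737 (BT.node 8732 (BT.node 8729 (BT.node 8728 (BT.node 8727 (BT.leaf cE8727) (BT.leaf cE8728)) (BT.leaf cE8729)) (BT.node 8731 (BT.node 8730 (BT.leaf cE8730) (BT.leaf cE8731)) (BT.leaf cE8732))) (BT.node 8735 (BT.node 8734 (BT.node 8733 (BT.leaf cE8733) (BT.leaf cE8734)) (BT.leaf cE8735)) (BT.node 8736 (BT.leaf cE8736) (BT.leaf cE8737)))) (BT.node 8742 (BT.node 8740 (BT.node 8739 (BT.node 8738 (BT.leaf cE8738) (BT.leaf cE8739)) (BT.leaf cE8740)) (BT.node 8741 (BT.leaf cE8741) (BT.leaf cE8742))) (BT.node 8745 (BT.node 8744 (BT.node 8743 (BT.leaf cE8743) (BT.leaf cE8744)) (BT.leaf cE8745)) (BT.node 8746 (BT.leaf cE8746) (BT.leaf cE8747))))) (BT.node 8757 (BT.node 8752 (BT.node 8750 (BT.node 8749 (BT.node 8748 (BT.leaf cE8748) (BT.leaf cE8749)) (BT.leaf cE8750)) (BT.node 8751 (BT.leaf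 cE8751) (BT.leaf cE8752))) (BT.node 8755 (BT.node 8754 (BT.node 8753 (BT.leaf cE8753) (BT.leaf cE8754)) (BT.leaf cE8755)) (BT.node 8756 (BT.leaf cE8756) (BT.leaf cE8757)))) (BT.node 8762 (BT.node 8760 (BT.node 8759 (BT.node 8758 (BT.leaf cE8758) (BT.leaf cE8759)) (BT.leaf cE8760)) (BT.node 8761 (BT.leaf cE8761) (BT.leaf cE8762))) (BT.node 8765 (BT.node 8764 (BT.node 8763 (BT.leaf cE8763) (BT.leaf cE8764)) (BT.leaf cE8765)) (BT.node 8766 (BT.leaf cE8766) (BT.leaf cE8767)))))) (BT.node 8787 (BT.node 8777 (BT.node 8772 (BT.node 8770 (BT.node 8769 (BT.node 8768 (BT.leaf cE8768) (BT.leaf cE8769)) (BT.leaf cE8770)) (BT.node 8771 (BT.leaf cE8771) (BT.leaf cE8772))) (BT.node 8775 (BT.node 8774 (BT.node 8773 (BT.leaf cE8773) (BT.leaf cE8774)) (BT.leaf cE8775)) (BT.node 8776 (BT.leaf cE8776) (BT.leaf cE8777)))) (BT.node 8782 (BT.node 8780 (BT.node 8779 (BT.node 8778 (BT.leaf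 cE8778) (BT.leaf cE8779)) (BT.leaf cE8780)) (BT.node 8781 (BT.leaf cE8781) (BT.leaf cE8782))) (BT.node 8785 (BT.node 8784 (BT.node 8783 (BT.leaf cE8783) (BT.leaf cE8784)) (BT.leaf cE8785)) (BT.node 8786 (BT.leaf cE8786) (BT.leaf cE8787))))) (BT.node 8797 (BT.node 8792 (BT.node 8790 (BT.node 8789 (BT.node 8788 (BT.leaf cE8788) (BT.leaf cE8789)) (BT.leaf cE8790)) (BT.node 8791 (BT.leaf cE8791) (BT.leaf cE8792))) (BT.node 8795 (BT.node 8794 (BT.node 8793 (BT.leaf cE8793) (BT.leaf cE8794)) (BT.leaf cE8795)) (BT.node 8796 (BT.leaf cE8796) (BT.leaf cE8797)))) (BT.node 8802 (BT.node 8800 (BT.node 8799 (BT.node 8798 (BT.leaf cE8798) (BT.leaf cE8799)) (BT.leaf cE8800)) (BT.node 8801 (BT.leaf cE8801) (BT.leaf cE8802))) (BT.node 8805 (BT.node 8804 (BT.node 8803 (BT.leaf cE8803) (BT.leaf cE8804)) (BT.leaf cE8805)) (BT.node 8806 (BT.leaf cE8806) (BT.leaf cE8807))))))) (BT.node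 8848 (BT.node 8828 (BT.node 8818 (BT.node 8813 (BT.node 8810 (BT.node 8809 (BT.node 8808 (BT.leaf cE8808) (BT.leaf cE8809)) (BT.leaf cE8810)) (BT.node 8812 (BT.node 8811 (BT.leaf cE8811) (BT.leaf cE8812)) (BT.leaf cE8813))) (BT.node 8816 (BT.node 8815 (BT.node 8814 (BT.leaf cE8814) (BT.leaf cE8815)) (BT.leaf cE8816)) (BT.node 8817 (BT.leaf cE8817) (BT.leaf cE8818)))) (BT.node 8823 (BT.node 8821 (BT.node 8820 (BT.node 8819 (BT.leaf cE8819) (BT.leaf cE8820)) (BT.leaf cE8821)) (BT.node 8822 (BT.leaf cE8822) (BT.leaf cE8823))) (BT.node 8826 (BT.node 8825 (BT.node 8824 (BT.leaf cE8824) (BT.leaf cE8825)) (BT.leaf cE8826)) (BT.node 8827 (BT.leaf cE8827) (BT.leaf cE8828))))) (BT.node 8838 (BT.node 8833 (BT.node 8831 (BT.node 8830 (BT.node 8829 (BT.leaf cE8829) (BT.leaf cE8830)) (BT.leaf cE8831)) (BT.node 8832 (BT.leaf cE8832) (BT.leaf cE8833))) (BT.node 8836 (BT.node 8835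 (BT.node 8834 (BT.leaf cE8834) (BT.leaf cE8835)) (BT.leaf cE8836)) (BT.node 8837 (BT.leaf cE8837) (BT.leaf cE8838)))) (BT.node 8843 (BT.node 8841 (BT.node 8840 (BT.node 8839 (BT.leaf cE8839) (BT.leaf cE8840)) (BT.leaf cE8841)) (BT.node 8842 (BT.leaf cE8842) (BT.leaf cE8843))) (BT.node 8846 (BT.node 8845 (BT.node 8844 (BT.leaf cE8844) (BT.leaf cE8845)) (BT.leaf cE8846)) (BT.node 8847 (BT.leaf cE8847) (BT.leaf cE8848)))))) (BT.node 8868 (BT.node 8858 (BT.node 8853 (BT.node 8851 (BT.node 8850 (BT.node 8849 (BT.leaf cE8849) (BT.leaf cE8850)) (BT.leaf cE8851)) (BT.node 8852 (BT.leaf cE8852) (BT.leaf cE8853))) (BT.node 8856 (BT.node 8855 (BT.node 8854 (BT.leaf cE8854) (BT.leaf cE8855)) (BT.leaf cE8856)) (BT.node 8857 (BT.leaf cE8857) (BT.leaf cE8858)))) (BT.node 8863 (BT.node 8861 (BT.node 8860 (BT.node 8859 (BT.leaf cE8859) (BT.leaf cE8860)) (BT.leaf cE8861)) (BT.node 8862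 (BT.leaf cE8862) (BT.leaf cE8863))) (BT.node 8866 (BT.node 8865 (BT.node 8864 (BT.leaf cE8864) (BT.leaf cE8865)) (BT.leaf cE8866)) (BT.node 8867 (BT.leaf cE8867) (BT.leaf cE8868))))) (BT.node 8878 (BT.node 8873 (BT.node 8871 (BT.node 8870 (BT.node 8869 (BT.leaf cE8869) (BT.leaf cE8870)) (BT.leaf cE8871)) (BT.node 8872 (BT.leaf cE8872) (BT.leaf cE8873))) (BT.node 8876 (BT.node 8875 (BT.node 8874 (BT.leaf cE8874) (BT.leaf cE8875)) (BT.leaf cE8876)) (BT.node 8877 (BT.leaf cE8877) (BT.leaf cE8878)))) (BT.node 8883 (BT.node 8881 (BT.node 8880 (BT.node 8879 (BT.leaf cE8879) (BT.leaf cE8880)) (BT.leaf cE8881)) (BT.node 8882 (BT.leaf cE8882) (BT.leaf cE8883))) (BT.node 8886 (BT.node 8885 (BT.node 8884 (BT.leaf cE8884) (BT.leaf cE8885)) (BT.leaf cE8886)) (BT.node 8887 (BT.leaf cE8887) (BT.leaf cE8888))))))))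
noncomputable def colET_55 : BT ℕ := (BT.node 8969 (BT.node 8929 (BT.node 8909 (BT.node 8899 (BT.node 8894 (BT.node 8891 (BT.node 8890 (BT.node 8889 (BT.leaf cE8889) (BT.leaf cE8890)) (BT.leaf cE8891)) (BT.node 8893 (BT.node 8892 (BT.leaf cE8892) (BT.leaf cE8893)) (BT.leaf cE8894))) (BT.node 8897 (BT.node 8896 (BT.node 8895 (BT.leaf cE8895) (BT.leaf cE8896)) (BT.leaf cE8897)) (BT.node 8898 (BT.leaf cE8898) (BT.leaf cE8899)))) (BT.node 8904 (BT.node 8902 (BT.node 8901 (BT.node 8900 (BT.leaf cE8900) (BT.leaf cE8901)) (BT.leaf cE8902)) (BT.node 8903 (BT.leaf cE8903) (BT.leaf cE8904))) (BT.node 8907 (BT.node 8906 (BT.node 8905 (BT.leaf cE8905) (BT.leaf cE8906)) (BT.leaf cE8907)) (BT.node 8908 (BT.leaf cE8908) (BT.leaf cE8909))))) (BT.node 8919 (BT.node 8914 (BT.node 8912 (BT.node 8911 (BT.node 8910 (BT.leaf cE8910) (BT.leaf cE8911)) (BT.leaf cE8912)) (BT.node 8913 (BT.leaf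 cE8913) (BT.leaf cE8914))) (BT.node 8917 (BT.node 8916 (BT.node 8915 (BT.leaf cE8915) (BT.leaf cE8916)) (BT.leaf cE8917)) (BT.node 8918 (BT.leaf cE8918) (BT.leaf cE8919)))) (BT.node 8924 (BT.node 8922 (BT.node 8921 (BT.node 8920 (BT.leaf cE8920) (BT.leaf cE8921)) (BT.leaf cE8922)) (BT.node 8923 (BT.leaf cE8923) (BT.leaf cE8924))) (BT.node 8927 (BT.node 8926 (BT.node 8925 (BT.leaf cE8925) (BT.leaf cE8926)) (BT.leaf cE8927)) (BT.node 8928 (BT.leaf cE8928) (BT.leaf cE8929)))))) (BT.node 8949 (BT.node 8939 (BT.node 8934 (BT.node 8932 (BT.node 8931 (BT.node 8930 (BT.leaf cE8930) (BT.leaf cE8931)) (BT.leaf cE8932)) (BT.node 8933 (BT.leaf cE8933) (BT.leaf cE8934))) (BT.node 8937 (BT.node 8936 (BT.node 8935 (BT.leaf cE8935) (BT.leaf cE8936)) (BT.leaf cE8937)) (BT.node 8938 (BT.leaf cE8938) (BT.leaf cE8939)))) (BT.node 8944 (BT.node 8942 (BT.node 8941 (BT.node 8940 (BT.leaf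 cE8940) (BT.leaf cE8941)) (BT.leaf cE8942)) (BT.node 8943 (BT.leaf cE8943) (BT.leaf cE8944))) (BT.node 8947 (BT.node 8946 (BT.node 8945 (BT.leaf cE8945) (BT.leaf cE8946)) (BT.leaf cE8947)) (BT.node 8948 (BT.leaf cE8948) (BT.leaf cE8949))))) (BT.node 8959 (BT.node 8954 (BT.node 8952 (BT.node 8951 (BT.node 8950 (BT.leaf cE8950) (BT.leaf cE8951)) (BT.leaf cE8952)) (BT.node 8953 (BT.leaf cE8953) (BT.leaf cE8954))) (BT.node 8957 (BT.node 8956 (BT.node 8955 (BT.leaf cE8955) (BT.leaf cE8956)) (BT.leaf cE8957)) (BT.node 8958 (BT.leaf cE8958) (BT.leaf cE8959)))) (BT.node 8964 (BT.node 8962 (BT.node 8961 (BT.node 8960 (BT.leaf cE8960) (BT.leaf cE8961)) (BT.leaf cE8962)) (BT.node 8963 (BT.leaf cE8963) (BT.leaf cE8964))) (BT.node 8967 (BT.node 8966 (BT.node 8965 (BT.leaf cE8965) (BT.leaf cE8966)) (BT.leaf cE8967)) (BT.node 8968 (BT.leaf cE8968) (BT.leaf cE8969))))))) (BT.node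 9009 (BT.node 8989 (BT.node 8979 (BT.node 8974 (BT.node 8972 (BT.node 8971 (BT.node 8970 (BT.leaf cE8970) (BT.leaf cE8971)) (BT.leaf cE8972)) (BT.node 8973 (BT.leaf cE8973) (BT.leaf cE8974))) (BT.node 8977 (BT.node 8976 (BT.node 8975 (BT.leaf cE8975) (BT.leaf cE8976)) (BT.leaf cE8977)) (BT.node 8978 (BT.leaf cE8978) (BT.leaf cE8979)))) (BT.node 8984 (BT.node 8982 (BT.node 8981 (BT.node 8980 (BT.leaf cE8980) (BT.leaf cE8981)) (BT.leaf cE8982)) (BT.node 8983 (BT.leaf cE8983) (BT.leaf cE8984))) (BT.node 8987 (BT.node 8986 (BT.node 8985 (BT.leaf cE8985) (BT.leaf cE8986)) (BT.leaf cE8987)) (BT.node 8988 (BT.leaf cE8988) (BT.leaf cE8989))))) (BT.node 8999 (BT.node 8994 (BT.node 8992 (BT.node 8991 (BT.node 8990 (BT.leaf cE8990) (BT.leaf cE8991)) (BT.leaf cE8992)) (BT.node 8993 (BT.leaf cE8993) (BT.leaf cE8994))) (BT.node 8997 (BT.node 8996 (BT.node 8995 (BT.leaf cE8995) (BT.leaf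 cE8996)) (BT.leaf cE8997)) (BT.node 8998 (BT.leaf cE8998) (BT.leaf cE8999)))) (BT.node 9004 (BT.node 9002 (BT.node 9001 (BT.node 9000 (BT.leaf cE9000) (BT.leaf cE9001)) (BT.leaf cE9002)) (BT.node 9003 (BT.leaf cE9003) (BT.leaf cE9004))) (BT.node 9007 (BT.node 9006 (BT.node 9005 (BT.leaf cE9005) (BT.leaf cE9006)) (BT.leaf cE9007)) (BT.node 9008 (BT.leaf cE9008) (BT.leaf cE9009)))))) (BT.node 9029 (BT.node 9019 (BT.node 9014 (BT.node 9012 (BT.node 9011 (BT.node 9010 (BT.leaf cE9010) (BT.leaf cE9011)) (BT.leaf cE9012)) (BT.node 9013 (BT.leaf cE9013) (BT.leaf cE9014))) (BT.node 9017 (BT.node 9016 (BT.node 9015 (BT.leaf cE9015) (BT.leaf cE9016)) (BT.leaf cE9017)) (BT.node 9018 (BT.leaf cE9018) (BT.leaf cE9019)))) (BT.node 9024 (BT.node 9022 (BT.node 9021 (BT.node 9020 (BT.leaf cE9020) (BT.leaf cE9021)) (BT.leaf cE9022)) (BT.node 9023 (BT.leaf cE9023) (BT.leaf cE9024)))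 (BT.node 9027 (BT.node 9026 (BT.node 9025 (BT.leaf cE9025) (BT.leaf cE9026)) (BT.leaf cE9027)) (BT.node 9028 (BT.leaf cE9028) (BT.leaf cE9029))))) (BT.node 9039 (BT.node 9034 (BT.node 9032 (BT.node 9031 (BT.node 9030 (BT.leaf cE9030) (BT.leaf cE9031)) (BT.leaf cE9032)) (BT.node 9033 (BT.leaf cE9033) (BT.leaf cE9034))) (BT.node 9037 (BT.node 9036 (BT.node 9035 (BT.leaf cE9035) (BT.leaf cE9036)) (BT.leaf cE9037)) (BT.node 9038 (BT.leaf cE9038) (BT.leaf cE9039)))) (BT.node 9044 (BT.node 9042 (BT.node 9041 (BT.node 9040 (BT.leaf cE9040) (BT.leaf cE9041)) (BT.leaf cE9042)) (BT.node 9043 (BT.leaf cE9043) (BT.leaf cE9044))) (BT.node 9047 (BT.node 9046 (BT.node 9045 (BT.leaf cE9045) (BT.leaf cE9046)) (BT.leaf cE9047)) (BT.node 9048 (BT.leaf cE9048) (BT.leaf cE9049))))))))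
noncomputable def colET_56 : BT ℕ := (BT.node 9130 (BT.node 9090 (BT.node 9070 (BT.node 9060 (BT.node 9055 (BT.node 9052 (BT.node 9051 (BT.node 9050 (BT.leaf cE9050) (BT.leaf cE9051)) (BT.leaf cE9052)) (BT.node 9054 (BT.node 9053 (BT.leaf cE9053) (BT.leaf cE9054)) (BT.leaf cE9055))) (BT.node 9058 (BT.node 9057 (BT.node 9056 (BT.leaf cE9056) (BT.leaf cE9057)) (BT.leaf cE9058)) (BT.node 9059 (BT.leaf cE9059) (BT.leaf cE9060)))) (BT.node 9065 (BT.node 9063 (BT.node 9062 (BT.node 9061 (BT.leaf cE9061) (BT.leaf cE9062)) (BT.leaf cE9063)) (BT.node 9064 (BT.leaf cE9064) (BT.leaf cE9065))) (BT.node 9068 (BT.node 9067 (BT.node 9066 (BT.leaf cE9066) (BT.leaf cE9067)) (BT.leaf cE9068)) (BT.node 9069 (BT.leaf cE9069) (BT.leaf cE9070))))) (BT.node 9080 (BT.node 9075 (BT.node 9073 (BT.node 9072 (BT.node 9071 (BT.leaf cE9071) (BT.leaf cE9072)) (BT.leaf cE9073)) (BT.node 9074 (BT.leaf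 cE9074) (BT.leaf cE9075))) (BT.node 9078 (BT.node 9077 (BT.node 9076 (BT.leaf cE9076) (BT.leaf cE9077)) (BT.leaf cE9078)) (BT.node 9079 (BT.leaf cE9079) (BT.leaf cE9080)))) (BT.node 9085 (BT.node 9083 (BT.node 9082 (BT.node 9081 (BT.leaf cE9081) (BT.leaf cE9082)) (BT.leaf cE9083)) (BT.node 9084 (BT.leaf cE9084) (BT.leaf cE9085))) (BT.node 9088 (BT.node 9087 (BT.node 9086 (BT.leaf cE9086) (BT.leaf cE9087)) (BT.leaf cE9088)) (BT.node 9089 (BT.leaf cE9089) (BT.leaf cE9090)))))) (BT.node 9110 (BT.node 9100 (BT.node 9095 (BT.node 9093 (BT.node 9092 (BT.node 9091 (BT.leaf cE9091) (BT.leaf cE9092)) (BT.leaf cE9093)) (BT.node 9094 (BT.leaf cE9094) (BT.leaf cE9095))) (BT.node 9098 (BT.node 9097 (BT.node 9096 (BT.leaf cE9096) (BT.leaf cE9097)) (BT.leaf cE9098)) (BT.node 9099 (BT.leaf cE9099) (BT.leaf cE9100)))) (BT.node 9105 (BT.node 9103 (BT.node 9102 (BT.node 9101 (BT.leaf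 cE9101) (BT.leaf cE9102)) (BT.leaf cE9103)) (BT.node 9104 (BT.leaf cE9104) (BT.leaf cE9105))) (BT.node 9108 (BT.node 9107 (BT.node 9106 (BT.leaf cE9106) (BT.leaf cE9107)) (BT.leaf cE9108)) (BT.node 9109 (BT.leaf cE9109) (BT.leaf cE9110))))) (BT.node 9120 (BT.node 9115 (BT.node 9113 (BT.node 9112 (BT.node 9111 (BT.leaf cE9111) (BT.leaf cE9112)) (BT.leaf cE9113)) (BT.node 9114 (BT.leaf cE9114) (BT.leaf cE9115))) (BT.node 9118 (BT.node 9117 (BT.node 9116 (BT.leaf cE9116) (BT.leaf cE9117)) (BT.leaf cE9118)) (BT.node 9119 (BT.leaf cE9119) (BT.leaf cE9120)))) (BT.node 9125 (BT.node 9123 (BT.node 9122 (BT.node 9121 (BT.leaf cE9121) (BT.leaf cE9122)) (BT.leaf cE9123)) (BT.node 9124 (BT.leaf cE9124) (BT.leaf cE9125))) (BT.node 9128 (BT.node 9127 (BT.node 9126 (BT.leaf cE9126) (BT.leaf cE9127)) (BT.leaf cE9128)) (BT.node 9129 (BT.leaf cE9129) (BT.leaf cE9130))))))) (BT.node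 9171 (BT.node 9151 (BT.node 9141 (BT.node 9136 (BT.node 9133 (BT.node 9132 (BT.node 9131 (BT.leaf cE9131) (BT.leaf cE9132)) (BT.leaf cE9133)) (BT.node 9135 (BT.node 9134 (BT.leaf cE9134) (BT.leaf cE9135)) (BT.leaf cE9136))) (BT.node 9139 (BT.node 9138 (BT.node 9137 (BT.leaf cE9137) (BT.leaf cE9138)) (BT.leaf cE9139)) (BT.node 9140 (BT.leaf cE9140) (BT.leaf cE9141)))) (BT.node 9146 (BT.node 9144 (BT.node 9143 (BT.node 9142 (BT.leaf cE9142) (BT.leaf cE9143)) (BT.leaf cE9144)) (BT.node 9145 (BT.leaf cE9145) (BT.leaf cE9146))) (BT.node 9149 (BT.node 9148 (BT.node 9147 (BT.leaf cE9147) (BT.leaf cE9148)) (BT.leaf cE9149)) (BT.node 9150 (BT.leaf cE9150) (BT.leaf cE9151))))) (BT.node 9161 (BT.node 9156 (BT.node 9154 (BT.node 9153 (BT.node 9152 (BT.leaf cE9152) (BT.leaf cE9153)) (BT.leaf cE9154)) (BT.node 9155 (BT.leaf cE9155) (BT.leaf cE9156))) (BT.node 9159 (BT.node 9158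 (BT.node 9157 (BT.leaf cE9157) (BT.leaf cE9158)) (BT.leaf cE9159)) (BT.node 9160 (BT.leaf cE9160) (BT.leaf cE9161)))) (BT.node 9166 (BT.node 9164 (BT.node 9163 (BT.node 9162 (BT.leaf cE9162) (BT.leaf cE9163)) (BT.leaf cE9164)) (BT.node 9165 (BT.leaf cE9165) (BT.leaf cE9166))) (BT.node 9169 (BT.node 9168 (BT.node 9167 (BT.leaf cE9167) (BT.leaf cE9168)) (BT.leaf cE9169)) (BT.node 9170 (BT.leaf cE9170) (BT.leaf cE9171)))))) (BT.node 9191 (BT.node 9181 (BT.node 9176 (BT.node 9174 (BT.node 9173 (BT.node 9172 (BT.leaf cE9172) (BT.leaf cE9173)) (BT.leaf cE9174)) (BT.node 9175 (BT.leaf cE9175) (BT.leaf cE9176))) (BT.node 9179 (BT.node 9178 (BT.node 9177 (BT.leaf cE9177) (BT.leaf cE9178)) (BT.leaf cE9179)) (BT.node 9180 (BT.leaf cE9180) (BT.leaf cE9181)))) (BT.node 9186 (BT.node 9184 (BT.node 9183 (BT.node 9182 (BT.leaf cE9182) (BT.leaf cE9183)) (BT.leaf cE9184)) (BT.node 9185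 (BT.leaf cE9185) (BT.leaf cE9186))) (BT.node 9189 (BT.node 9188 (BT.node 9187 (BT.leaf cE9187) (BT.leaf cE9188)) (BT.leaf cE9189)) (BT.node 9190 (BT.leaf cE9190) (BT.leaf cE9191))))) (BT.node 9201 (BT.node 9196 (BT.node 9194 (BT.node 9193 (BT.node 9192 (BT.leaf cE9192) (BT.leaf cE9193)) (BT.leaf cE9194)) (BT.node 9195 (BT.leaf cE9195) (BT.leaf cE9196))) (BT.node 9199 (BT.node 9198 (BT.node 9197 (BT.leaf cE9197) (BT.leaf cE9198)) (BT.leaf cE9199)) (BT.node 9200 (BT.leaf cE9200) (BT.leaf cE9201)))) (BT.node 9206 (BT.node 9204 (BT.node 9203 (BT.node 9202 (BT.leaf cE9202) (BT.leaf cE9203)) (BT.leaf cE9204)) (BT.node 9205 (BT.leaf cE9205) (BT.leaf cE9206))) (BT.node 9209 (BT.node 9208 (BT.node 9207 (BT.leaf cE9207) (BT.leaf cE9208)) (BT.leaf cE9209)) (BT.node 9210 (BT.leaf cE9210) (BT.leaf cE9211))))))))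
noncomputable def colET_57 : BT ℕ := (BT.node 9292 (BT.node 9252 (BT.node 9232 (BT.node 9222 (BT.node 9217 (BT.node 9214 (BT.node 9213 (BT.node 9212 (BT.leaf cE9212) (BT.leaf cE9213)) (BT.leaf cE9214)) (BT.node 9216 (BT.node 9215 (BT.leaf cE9215) (BT.leaf cE9216)) (BT.leaf cE9217))) (BT.node 9220 (BT.node 9219 (BT.node 9218 (BT.leaf cE9218) (BT.leaf cE9219)) (BT.leaf cE9220)) (BT.node 9221 (BT.leaf cE9221) (BT.leaf cE9222)))) (BT.node 9227 (BT.node 9225 (BT.node 9224 (BT.node 9223 (BT.leaf cE9223) (BT.leaf cE9224)) (BT.leaf cE9225)) (BT.node 9226 (BT.leaf cE9226) (BT.leaf cE9227))) (BT.node 9230 (BT.node 9229 (BT.node 9228 (BT.leaf cE9228) (BT.leaf cE9229)) (BT.leaf cE9230)) (BT.node 9231 (BT.leaf cE9231) (BT.leaf cE9232))))) (BT.node 9242 (BT.node 9237 (BT.node 9235 (BT.node 9234 (BT.node 9233 (BT.leaf cE9233) (BT.leaf cE9234)) (BT.leaf cE9235)) (BT.node 9236 (BT.leaf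 cE9236) (BT.leaf cE9237))) (BT.node 9240 (BT.node 9239 (BT.node 9238 (BT.leaf cE9238) (BT.leaf cE9239)) (BT.leaf cE9240)) (BT.node 9241 (BT.leaf cE9241) (BT.leaf cE9242)))) (BT.node 9247 (BT.node 9245 (BT.node 9244 (BT.node 9243 (BT.leaf cE9243) (BT.leaf cE9244)) (BT.leaf cE9245)) (BT.node 9246 (BT.leaf cE9246) (BT.leaf cE9247))) (BT.node 9250 (BT.node 9249 (BT.node 9248 (BT.leaf cE9248) (BT.leaf cE9249)) (BT.leaf cE9250)) (BT.node 9251 (BT.leaf cE9251) (BT.leaf cE9252)))))) (BT.node 9272 (BT.node 9262 (BT.node 9257 (BT.node 9255 (BT.node 9254 (BT.node 9253 (BT.leaf cE9253) (BT.leaf cE9254)) (BT.leaf cE9255)) (BT.node 9256 (BT.leaf cE9256) (BT.leaf cE9257))) (BT.node 9260 (BT.node 9259 (BT.node 9258 (BT.leaf cE9258) (BT.leaf cE9259)) (BT.leaf cE9260)) (BT.node 9261 (BT.leaf cE9261) (BT.leaf cE9262)))) (BT.node 9267 (BT.node 9265 (BT.node 9264 (BT.node 9263 (BT.leaf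 cE9263) (BT.leaf cE9264)) (BT.leaf cE9265)) (BT.node 9266 (BT.leaf cE9266) (BT.leaf cE9267))) (BT.node 9270 (BT.node 9269 (BT.node 9268 (BT.leaf cE9268) (BT.leaf cE9269)) (BT.leaf cE9270)) (BT.node 9271 (BT.leaf cE9271) (BT.leaf cE9272))))) (BT.node 9282 (BT.node 9277 (BT.node 9275 (BT.node 9274 (BT.node 9273 (BT.leaf cE9273) (BT.leaf cE9274)) (BT.leaf cE9275)) (BT.node 9276 (BT.leaf cE9276) (BT.leaf cE9277))) (BT.node 9280 (BT.node 9279 (BT.node 9278 (BT.leaf cE9278) (BT.leaf cE9279)) (BT.leaf cE9280)) (BT.node 9281 (BT.leaf cE9281) (BT.leaf cE9282)))) (BT.node 9287 (BT.node 9285 (BT.node 9284 (BT.node 9283 (BT.leaf cE9283) (BT.leaf cE9284)) (BT.leaf cE9285)) (BT.node 9286 (BT.leaf cE9286) (BT.leaf cE9287))) (BT.node 9290 (BT.node 9289 (BT.node 9288 (BT.leaf cE9288) (BT.leaf cE9289)) (BT.leaf cE9290)) (BT.node 9291 (BT.leaf cE9291) (BT.leaf cE9292))))))) (BT.node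 9332 (BT.node 9312 (BT.node 9302 (BT.node 9297 (BT.node 9295 (BT.node 9294 (BT.node 9293 (BT.leaf cE9293) (BT.leaf cE9294)) (BT.leaf cE9295)) (BT.node 9296 (BT.leaf cE9296) (BT.leaf cE9297))) (BT.node 9300 (BT.node 9299 (BT.node 9298 (BT.leaf cE9298) (BT.leaf cE9299)) (BT.leaf cE9300)) (BT.node 9301 (BT.leaf cE9301) (BT.leaf cE9302)))) (BT.node 9307 (BT.node 9305 (BT.node 9304 (BT.node 9303 (BT.leaf cE9303) (BT.leaf cE9304)) (BT.leaf cE9305)) (BT.node 9306 (BT.leaf cE9306) (BT.leaf cE9307))) (BT.node 9310 (BT.node 9309 (BT.node 9308 (BT.leaf cE9308) (BT.leaf cE9309)) (BT.leaf cE9310)) (BT.node 9311 (BT.leaf cE9311) (BT.leaf cE9312))))) (BT.node 9322 (BT.node 9317 (BT.node 9315 (BT.node 9314 (BT.node 9313 (BT.leaf cE9313) (BT.leaf cE9314)) (BT.leaf cE9315)) (BT.node 9316 (BT.leaf cE9316) (BT.leaf cE9317))) (BT.node 9320 (BT.node 9319 (BT.node 9318 (BT.leaf cE9318) (BT.leaf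 cE9319)) (BT.leaf cE9320)) (BT.node 9321 (BT.leaf cE9321) (BT.leaf cE9322)))) (BT.node 9327 (BT.node 9325 (BT.node 9324 (BT.node 9323 (BT.leaf cE9323) (BT.leaf cE9324)) (BT.leaf cE9325)) (BT.node 9326 (BT.leaf cE9326) (BT.leaf cE9327))) (BT.node 9330 (BT.node 9329 (BT.node 9328 (BT.leaf cE9328) (BT.leaf cE9329)) (BT.leaf cE9330)) (BT.node 9331 (BT.leaf cE9331) (BT.leaf cE9332)))))) (BT.node 9352 (BT.node 9342 (BT.node 9337 (BT.node 9335 (BT.node 9334 (BT.node 9333 (BT.leaf cE9333) (BT.leaf cE9334)) (BT.leaf cE9335)) (BT.node 9336 (BT.leaf cE9336) (BT.leaf cE9337))) (BT.node 9340 (BT.node 9339 (BT.node 9338 (BT.leaf cE9338) (BT.leaf cE9339)) (BT.leaf cE9340)) (BT.node 9341 (BT.leaf cE9341) (BT.leaf cE9342)))) (BT.node 9347 (BT.node 9345 (BT.node 9344 (BT.node 9343 (BT.leaf cE9343) (BT.leaf cE9344)) (BT.leaf cE9345)) (BT.node 9346 (BT.leaf cE9346) (BT.leaf cE9347)))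 (BT.node 9350 (BT.node 9349 (BT.node 9348 (BT.leaf cE9348) (BT.leaf cE9349)) (BT.leaf cE9350)) (BT.node 9351 (BT.leaf cE9351) (BT.leaf cE9352))))) (BT.node 9362 (BT.node 9357 (BT.node 9355 (BT.node 9354 (BT.node 9353 (BT.leaf cE9353) (BT.leaf cE9354)) (BT.leaf cE9355)) (BT.node 9356 (BT.leaf cE9356) (BT.leaf cE9357))) (BT.node 9360 (BT.node 9359 (BT.node 9358 (BT.leaf cE9358) (BT.leaf cE9359)) (BT.leaf cE9360)) (BT.node 9361 (BT.leaf cE9361) (BT.leaf cE9362)))) (BT.node 9367 (BT.node 9365 (BT.node 9364 (BT.node 9363 (BT.leaf cE9363) (BT.leaf cE9364)) (BT.leaf cE9365)) (BT.node 9366 (BT.leaf cE9366) (BT.leaf cE9367))) (BT.node 9370 (BT.node 9369 (BT.node 9368 (BT.leaf cE9368) (BT.leaf cE9369)) (BT.leaf cE9370)) (BT.node 9371 (BT.leaf cE9371) (BT.leaf cE9372))))))))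
noncomputable def colET_58 : BT ℕ := (BT.node 9453 (BT.node 9413 (BT.node 9393 (BT.node 9383 (BT.node 9378 (BT.node 9375 (BT.node 9374 (BT.node 9373 (BT.leaf cE9373) (BT.leaf cE9374)) (BT.leaf cE9375)) (BT.node 9377 (BT.node 9376 (BT.leaf cE9376) (BT.leaf cE9377)) (BT.leaf cE9378))) (BT.node 9381 (BT.node 9380 (BT.node 9379 (BT.leaf cE9379) (BT.leaf cE9380)) (BT.leaf cE9381)) (BT.node 9382 (BT.leaf cE9382) (BT.leaf cE9383)))) (BT.node 9388 (BT.node 9386 (BT.node 9385 (BT.node 9384 (BT.leaf cE9384) (BT.leaf cE9385)) (BT.leaf cE9386)) (BT.node 9387 (BT.leaf cE9387) (BT.leaf cE9388))) (BT.node 9391 (BT.node 9390 (BT.node 9389 (BT.leaf cE9389) (BT.leaf cE9390)) (BT.leaf cE9391)) (BT.node 9392 (BT.leaf cE9392) (BT.leaf cE9393))))) (BT.node 9403 (BT.node 9398 (BT.node 9396 (BT.node 9395 (BT.node 9394 (BT.leaf cE9394) (BT.leaf cE9395)) (BT.leaf cE9396)) (BT.node 9397 (BT.leaf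 cE9397) (BT.leaf cE9398))) (BT.node 9401 (BT.node 9400 (BT.node 9399 (BT.leaf cE9399) (BT.leaf cE9400)) (BT.leaf cE9401)) (BT.node 9402 (BT.leaf cE9402) (BT.leaf cE9403)))) (BT.node 9408 (BT.node 9406 (BT.node 9405 (BT.node 9404 (BT.leaf cE9404) (BT.leaf cE9405)) (BT.leaf cE9406)) (BT.node 9407 (BT.leaf cE9407) (BT.leaf cE9408))) (BT.node 9411 (BT.node 9410 (BT.node 9409 (BT.leaf cE9409) (BT.leaf cE9410)) (BT.leaf cE9411)) (BT.node 9412 (BT.leaf cE9412) (BT.leaf cE9413)))))) (BT.node 9433 (BT.node 9423 (BT.node 9418 (BT.node 9416 (BT.node 9415 (BT.node 9414 (BT.leaf cE9414) (BT.leaf cE9415)) (BT.leaf cE9416)) (BT.node 9417 (BT.leaf cE9417) (BT.leaf cE9418))) (BT.node 9421 (BT.node 9420 (BT.node 9419 (BT.leaf cE9419) (BT.leaf cE9420)) (BT.leaf cE9421)) (BT.node 9422 (BT.leaf cE9422) (BT.leaf cE9423)))) (BT.node 9428 (BT.node 9426 (BT.node 9425 (BT.node 9424 (BT.leaf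 cE9424) (BT.leaf cE9425)) (BT.leaf cE9426)) (BT.node 9427 (BT.leaf cE9427) (BT.leaf cE9428))) (BT.node 9431 (BT.node 9430 (BT.node 9429 (BT.leaf cE9429) (BT.leaf cE9430)) (BT.leaf cE9431)) (BT.node 9432 (BT.leaf cE9432) (BT.leaf cE9433))))) (BT.node 9443 (BT.node 9438 (BT.node 9436 (BT.node 9435 (BT.node 9434 (BT.leaf cE9434) (BT.leaf cE9435)) (BT.leaf cE9436)) (BT.node 9437 (BT.leaf cE9437) (BT.leaf cE9438))) (BT.node 9441 (BT.node 9440 (BT.node 9439 (BT.leaf cE9439) (BT.leaf cE9440)) (BT.leaf cE9441)) (BT.node 9442 (BT.leaf cE9442) (BT.leaf cE9443)))) (BT.node 9448 (BT.node 9446 (BT.node 9445 (BT.node 9444 (BT.leaf cE9444) (BT.leaf cE9445)) (BT.leaf cE9446)) (BT.node 9447 (BT.leaf cE9447) (BT.leaf cE9448))) (BT.node 9451 (BT.node 9450 (BT.node 9449 (BT.leaf cE9449) (BT.leaf cE9450)) (BT.leaf cE9451)) (BT.node 9452 (BT.leaf cE9452) (BT.leaf cE9453))))))) (BT.node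 9494 (BT.node 9474 (BT.node 9464 (BT.node 9459 (BT.node 9456 (BT.node 9455 (BT.node 9454 (BT.leaf cE9454) (BT.leaf cE9455)) (BT.leaf cE9456)) (BT.node 9458 (BT.node 9457 (BT.leaf cE9457) (BT.leaf cE9458)) (BT.leaf cE9459))) (BT.node 9462 (BT.node 9461 (BT.node 9460 (BT.leaf cE9460) (BT.leaf cE9461)) (BT.leaf cE9462)) (BT.node 9463 (BT.leaf cE9463) (BT.leaf cE9464)))) (BT.node 9469 (BT.node 9467 (BT.node 9466 (BT.node 9465 (BT.leaf cE9465) (BT.leaf cE9466)) (BT.leaf cE9467)) (BT.node 9468 (BT.leaf cE9468) (BT.leaf cE9469))) (BT.node 9472 (BT.node 9471 (BT.node 9470 (BT.leaf cE9470) (BT.leaf cE9471)) (BT.leaf cE9472)) (BT.node 9473 (BT.leaf cE9473) (BT.leaf cE9474))))) (BT.node 9484 (BT.node 9479 (BT.node 9477 (BT.node 9476 (BT.node 9475 (BT.leaf cE9475) (BT.leaf cE9476)) (BT.leaf cE9477)) (BT.node 9478 (BT.leaf cE9478) (BT.leaf cE9479))) (BT.node 9482 (BT.node 9481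 (BT.node 9480 (BT.leaf cE9480) (BT.leaf cE9481)) (BT.leaf cE9482)) (BT.node 9483 (BT.leaf cE9483) (BT.leaf cE9484)))) (BT.node 9489 (BT.node 9487 (BT.node 9486 (BT.node 9485 (BT.leaf cE9485) (BT.leaf cE9486)) (BT.leaf cE9487)) (BT.node 9488 (BT.leaf cE9488) (BT.leaf cE9489))) (BT.node 9492 (BT.node 9491 (BT.node 9490 (BT.leaf cE9490) (BT.leaf cE9491)) (BT.leaf cE9492)) (BT.node 9493 (BT.leaf cE9493) (BT.leaf cE9494)))))) (BT.node 9514 (BT.node 9504 (BT.node 9499 (BT.node 9497 (BT.node 9496 (BT.node 9495 (BT.leaf cE9495) (BT.leaf cE9496)) (BT.leaf cE9497)) (BT.node 9498 (BT.leaf cE9498) (BT.leaf cE9499))) (BT.node 9502 (BT.node 9501 (BT.node 9500 (BT.leaf cE9500) (BT.leaf cE9501)) (BT.leaf cE9502)) (BT.node 9503 (BT.leaf cE9503) (BT.leaf cE9504)))) (BT.node 9509 (BT.node 9507 (BT.node 9506 (BT.node 9505 (BT.leaf cE9505) (BT.leaf cE9506)) (BT.leaf cE9507)) (BT.node 9508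 (BT.leaf cE9508) (BT.leaf cE9509))) (BT.node 9512 (BT.node 9511 (BT.node 9510 (BT.leaf cE9510) (BT.leaf cE9511)) (BT.leaf cE9512)) (BT.node 9513 (BT.leaf cE9513) (BT.leaf cE9514))))) (BT.node 9524 (BT.node 9519 (BT.node 9517 (BT.node 9516 (BT.node 9515 (BT.leaf cE9515) (BT.leaf cE9516)) (BT.leaf cE9517)) (BT.node 9518 (BT.leaf cE9518) (BT.leaf cE9519))) (BT.node 9522 (BT.node 9521 (BT.node 9520 (BT.leaf cE9520) (BT.leaf cE9521)) (BT.leaf cE9522)) (BT.node 9523 (BT.leaf cE9523) (BT.leaf cE9524)))) (BT.node 9529 (BT.node 9527 (BT.node 9526 (BT.node 9525 (BT.leaf cE9525) (BT.leaf cE9526)) (BT.leaf cE9527)) (BT.node 9528 (BT.leaf cE9528) (BT.leaf cE9529))) (BT.node 9532 (BT.node 9531 (BT.node 9530 (BT.leaf cE9530) (BT.leaf cE9531)) (BT.leaf cE9532)) (BT.node 9533 (BT.leaf cE9533) (BT.leaf cE9534))))))))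
noncomputable def colET_59 : BT ℕ := (BT.node 9615 (BT.node 9575 (BT.node 9555 (BT.node 9545 (BT.node 9540 (BT.node 9537 (BT.node 9536 (BT.node 9535 (BT.leaf cE9535) (BT.leaf cE9536)) (BT.leaf cE9537)) (BT.node 9539 (BT.node 9538 (BT.leaf cE9538) (BT.leaf cE9539)) (BT.leaf cE9540))) (BT.node 9543 (BT.node 9542 (BT.node 9541 (BT.leaf cE9541) (BT.leaf cE9542)) (BT.leaf cE9543)) (BT.node 9544 (BT.leaf cE9544) (BT.leaf cE9545)))) (BT.node 9550 (BT.node 9548 (BT.node 9547 (BT.node 9546 (BT.leaf cE9546) (BT.leaf cE9547)) (BT.leaf cE9548)) (BT.node 9549 (BT.leaf cE9549) (BT.leaf cE9550))) (BT.node 9553 (BT.node 9552 (BT.node 9551 (BT.leaf cE9551) (BT.leaf cE9552)) (BT.leaf cE9553)) (BT.node 9554 (BT.leaf cE9554) (BT.leaf cE9555))))) (BT.node 9565 (BT.node 9560 (BT.node 9558 (BT.node 9557 (BT.node 9556 (BT.leaf cE9556) (BT.leaf cE9557)) (BT.leaf cE9558)) (BT.node 9559 (BT.leaf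 cE9559) (BT.leaf cE9560))) (BT.node 9563 (BT.node 9562 (BT.node 9561 (BT.leaf cE9561) (BT.leaf cE9562)) (BT.leaf cE9563)) (BT.node 9564 (BT.leaf cE9564) (BT.leaf cE9565)))) (BT.node 9570 (BT.node 9568 (BT.node 9567 (BT.node 9566 (BT.leaf cE9566) (BT.leaf cE9567)) (BT.leaf cE9568)) (BT.node 9569 (BT.leaf cE9569) (BT.leaf cE9570))) (BT.node 9573 (BT.node 9572 (BT.node 9571 (BT.leaf cE9571) (BT.leaf cE9572)) (BT.leaf cE9573)) (BT.node 9574 (BT.leaf cE9574) (BT.leaf cE9575)))))) (BT.node 9595 (BT.node 9585 (BT.node 9580 (BT.node 9578 (BT.node 9577 (BT.node 9576 (BT.leaf cE9576) (BT.leaf cE9577)) (BT.leaf cE9578)) (BT.node 9579 (BT.leaf cE9579) (BT.leaf cE9580))) (BT.node 9583 (BT.node 9582 (BT.node 9581 (BT.leaf cE9581) (BT.leaf cE9582)) (BT.leaf cE9583)) (BT.node 9584 (BT.leaf cE9584) (BT.leaf cE9585)))) (BT.node 9590 (BT.node 9588 (BT.node 9587 (BT.node 9586 (BT.leaf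 cE9586) (BT.leaf cE9587)) (BT.leaf cE9588)) (BT.node 9589 (BT.leaf cE9589) (BT.leaf cE9590))) (BT.node 9593 (BT.node 9592 (BT.node 9591 (BT.leaf cE9591) (BT.leaf cE9592)) (BT.leaf cE9593)) (BT.node 9594 (BT.leaf cE9594) (BT.leaf cE9595))))) (BT.node 9605 (BT.node 9600 (BT.node 9598 (BT.node 9597 (BT.node 9596 (BT.leaf cE9596) (BT.leaf cE9597)) (BT.leaf cE9598)) (BT.node 9599 (BT.leaf cE9599) (BT.leaf cE9600))) (BT.node 9603 (BT.node 9602 (BT.node 9601 (BT.leaf cE9601) (BT.leaf cE9602)) (BT.leaf cE9603)) (BT.node 9604 (BT.leaf cE9604) (BT.leaf cE9605)))) (BT.node 9610 (BT.node 9608 (BT.node 9607 (BT.node 9606 (BT.leaf cE9606) (BT.leaf cE9607)) (BT.leaf cE9608)) (BT.node 9609 (BT.leaf cE9609) (BT.leaf cE9610))) (BT.node 9613 (BT.node 9612 (BT.node 9611 (BT.leaf cE9611) (BT.leaf cE9612)) (BT.leaf cE9613)) (BT.node 9614 (BT.leaf cE9614) (BT.leaf cE9615))))))) (BT.node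 9655 (BT.node 9635 (BT.node 9625 (BT.node 9620 (BT.node 9618 (BT.node 9617 (BT.node 9616 (BT.leaf cE9616) (BT.leaf cE9617)) (BT.leaf cE9618)) (BT.node 9619 (BT.leaf cE9619) (BT.leaf cE9620))) (BT.node 9623 (BT.node 9622 (BT.node 9621 (BT.leaf cE9621) (BT.leaf cE9622)) (BT.leaf cE9623)) (BT.node 9624 (BT.leaf cE9624) (BT.leaf cE9625)))) (BT.node 9630 (BT.node 9628 (BT.node 9627 (BT.node 9626 (BT.leaf cE9626) (BT.leaf cE9627)) (BT.leaf cE9628)) (BT.node 9629 (BT.leaf cE9629) (BT.leaf cE9630))) (BT.node 9633 (BT.node 9632 (BT.node 9631 (BT.leaf cE9631) (BT.leaf cE9632)) (BT.leaf cE9633)) (BT.node 9634 (BT.leaf cE9634) (BT.leaf cE9635))))) (BT.node 9645 (BT.node 9640 (BT.node 9638 (BT.node 9637 (BT.node 9636 (BT.leaf cE9636) (BT.leaf cE9637)) (BT.leaf cE9638)) (BT.node 9639 (BT.leaf cE9639) (BT.leaf cE9640))) (BT.node 9643 (BT.node 9642 (BT.node 9641 (BT.leaf cE9641) (BT.leaf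 cE9642)) (BT.leaf cE9643)) (BT.node 9644 (BT.leaf cE9644) (BT.leaf cE9645)))) (BT.node 9650 (BT.node 9648 (BT.node 9647 (BT.node 9646 (BT.leaf cE9646) (BT.leaf cE9647)) (BT.leaf cE9648)) (BT.node 9649 (BT.leaf cE9649) (BT.leaf cE9650))) (BT.node 9653 (BT.node 9652 (BT.node 9651 (BT.leaf cE9651) (BT.leaf cE9652)) (BT.leaf cE9653)) (BT.node 9654 (BT.leaf cE9654) (BT.leaf cE9655)))))) (BT.node 9675 (BT.node 9665 (BT.node 9660 (BT.node 9658 (BT.node 9657 (BT.node 9656 (BT.leaf cE9656) (BT.leaf cE9657)) (BT.leaf cE9658)) (BT.node 9659 (BT.leaf cE9659) (BT.leaf cE9660))) (BT.node 9663 (BT.node 9662 (BT.node 9661 (BT.leaf cE9661) (BT.leaf cE9662)) (BT.leaf cE9663)) (BT.node 9664 (BT.leaf cE9664) (BT.leaf cE9665)))) (BT.node 9670 (BT.node 9668 (BT.node 9667 (BT.node 9666 (BT.leaf cE9666) (BT.leaf cE9667)) (BT.leaf cE9668)) (BT.node 9669 (BT.leaf cE9669) (BT.leaf cE9670)))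 (BT.node 9673 (BT.node 9672 (BT.node 9671 (BT.leaf cE9671) (BT.leaf cE9672)) (BT.leaf cE9673)) (BT.node 9674 (BT.leaf cE9674) (BT.leaf cE9675))))) (BT.node 9685 (BT.node 9680 (BT.node 9678 (BT.node 9677 (BT.node 9676 (BT.leaf cE9676) (BT.leaf cE9677)) (BT.leaf cE9678)) (BT.node 9679 (BT.leaf cE9679) (BT.leaf cE9680))) (BT.node 9683 (BT.node 9682 (BT.node 9681 (BT.leaf cE9681) (BT.leaf cE9682)) (BT.leaf cE9683)) (BT.node 9684 (BT.leaf cE9684) (BT.leaf cE9685)))) (BT.node 9690 (BT.node 9688 (BT.node 9687 (BT.node 9686 (BT.leaf cE9686) (BT.leaf cE9687)) (BT.leaf cE9688)) (BT.node 9689 (BT.leaf cE9689) (BT.leaf cE9690))) (BT.node 9693 (BT.node 9692 (BT.node 9691 (BT.leaf cE9691) (BT.leaf cE9692)) (BT.leaf cE9693)) (BT.node 9694 (BT.leaf cE9694) (BT.leaf cE9695))))))))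
noncomputable def colET_60 : BT ℕ := (BT.node 9776 (BT.node 9736 (BT.node 9716 (BT.node 9706 (BT.node 9701 (BT.node 9698 (BT.node 9697 (BT.node 9696 (BT.leaf cE9696) (BT.leaf cE9697)) (BT.leaf cE9698)) (BT.node 9700 (BT.node 9699 (BT.leaf cE9699) (BT.leaf cE9700)) (BT.leaf cE9701))) (BT.node 9704 (BT.node 9703 (BT.node 9702 (BT.leaf cE9702) (BT.leaf cE9703)) (BT.leaf cE9704)) (BT.node 9705 (BT.leaf cE9705) (BT.leaf cE9706)))) (BT.node 9711 (BT.node 9709 (BT.node 9708 (BT.node 9707 (BT.leaf cE9707) (BT.leaf cE9708)) (BT.leaf cE9709)) (BT.node 9710 (BT.leaf cE9710) (BT.leaf cE9711))) (BT.node 9714 (BT.node 9713 (BT.node 9712 (BT.leaf cE9712) (BT.leaf cE9713)) (BT.leaf cE9714)) (BT.node 9715 (BT.leaf cE9715) (BT.leaf cE9716))))) (BT.node 9726 (BT.node 9721 (BT.node 9719 (BT.node 9718 (BT.node 9717 (BT.leaf cE9717) (BT.leaf cE9718)) (BT.leaf cE9719)) (BT.node 9720 (BT.leaf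 cE9720) (BT.leaf cE9721))) (BT.node 9724 (BT.node 9723 (BT.node 9722 (BT.leaf cE9722) (BT.leaf cE9723)) (BT.leaf cE9724)) (BT.node 9725 (BT.leaf cE9725) (BT.leaf cE9726)))) (BT.node 9731 (BT.node 9729 (BT.node 9728 (BT.node 9727 (BT.leaf cE9727) (BT.leaf cE9728)) (BT.leaf cE9729)) (BT.node 9730 (BT.leaf cE9730) (BT.leaf cE9731))) (BT.node 9734 (BT.node 9733 (BT.node 9732 (BT.leaf cE9732) (BT.leaf cE9733)) (BT.leaf cE9734)) (BT.node 9735 (BT.leaf cE9735) (BT.leaf cE9736)))))) (BT.node 9756 (BT.node 9746 (BT.node 9741 (BT.node 9739 (BT.node 9738 (BT.node 9737 (BT.leaf cE9737) (BT.leaf cE9738)) (BT.leaf cE9739)) (BT.node 9740 (BT.leaf cE9740) (BT.leaf cE9741))) (BT.node 9744 (BT.node 9743 (BT.node 9742 (BT.leaf cE9742) (BT.leaf cE9743)) (BT.leaf cE9744)) (BT.node 9745 (BT.leaf cE9745) (BT.leaf cE9746)))) (BT.node 9751 (BT.node 9749 (BT.node 9748 (BT.node 9747 (BT.leaf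 cE9747) (BT.leaf cE9748)) (BT.leaf cE9749)) (BT.node 9750 (BT.leaf cE9750) (BT.leaf cE9751))) (BT.node 9754 (BT.node 9753 (BT.node 9752 (BT.leaf cE9752) (BT.leaf cE9753)) (BT.leaf cE9754)) (BT.node 9755 (BT.leaf cE9755) (BT.leaf cE9756))))) (BT.node 9766 (BT.node 9761 (BT.node 9759 (BT.node 9758 (BT.node 9757 (BT.leaf cE9757) (BT.leaf cE9758)) (BT.leaf cE9759)) (BT.node 9760 (BT.leaf cE9760) (BT.leaf cE9761))) (BT.node 9764 (BT.node 9763 (BT.node 9762 (BT.leaf cE9762) (BT.leaf cE9763)) (BT.leaf cE9764)) (BT.node 9765 (BT.leaf cE9765) (BT.leaf cE9766)))) (BT.node 9771 (BT.node 9769 (BT.node 9768 (BT.node 9767 (BT.leaf cE9767) (BT.leaf cE9768)) (BT.leaf cE9769)) (BT.node 9770 (BT.leaf cE9770) (BT.leaf cE9771))) (BT.node 9774 (BT.node 9773 (BT.node 9772 (BT.leaf cE9772) (BT.leaf cE9773)) (BT.leaf cE9774)) (BT.node 9775 (BT.leaf cE9775) (BT.leaf cE9776))))))) (BT.node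 9817 (BT.node 9797 (BT.node 9787 (BT.node 9782 (BT.node 9779 (BT.node 9778 (BT.node 9777 (BT.leaf cE9777) (BT.leaf cE9778)) (BT.leaf cE9779)) (BT.node 9781 (BT.node 9780 (BT.leaf cE9780) (BT.leaf cE9781)) (BT.leaf cE9782))) (BT.node 9785 (BT.node 9784 (BT.node 9783 (BT.leaf cE9783) (BT.leaf cE9784)) (BT.leaf cE9785)) (BT.node 9786 (BT.leaf cE9786) (BT.leaf cE9787)))) (BT.node 9792 (BT.node 9790 (BT.node 9789 (BT.node 9788 (BT.leaf cE9788) (BT.leaf cE9789)) (BT.leaf cE9790)) (BT.node 9791 (BT.leaf cE9791) (BT.leaf cE9792))) (BT.node 9795 (BT.node 9794 (BT.node 9793 (BT.leaf cE9793) (BT.leaf cE9794)) (BT.leaf cE9795)) (BT.node 9796 (BT.leaf cE9796) (BT.leaf cE9797))))) (BT.node 9807 (BT.node 9802 (BT.node 9800 (BT.node 9799 (BT.node 9798 (BT.leaf cE9798) (BT.leaf cE9799)) (BT.leaf cE9800)) (BT.node 9801 (BT.leaf cE9801) (BT.leaf cE9802))) (BT.node 9805 (BT.node 9804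 (BT.node 9803 (BT.leaf cE9803) (BT.leaf cE9804)) (BT.leaf cE9805)) (BT.node 9806 (BT.leaf cE9806) (BT.leaf cE9807)))) (BT.node 9812 (BT.node 9810 (BT.node 9809 (BT.node 9808 (BT.leaf cE9808) (BT.leaf cE9809)) (BT.leaf cE9810)) (BT.node 9811 (BT.leaf cE9811) (BT.leaf cE9812))) (BT.node 9815 (BT.node 9814 (BT.node 9813 (BT.leaf cE9813) (BT.leaf cE9814)) (BT.leaf cE9815)) (BT.node 9816 (BT.leaf cE9816) (BT.leaf cE9817)))))) (BT.node 9837 (BT.node 9827 (BT.node 9822 (BT.node 9820 (BT.node 9819 (BT.node 9818 (BT.leaf cE9818) (BT.leaf cE9819)) (BT.leaf cE9820)) (BT.node 9821 (BT.leaf cE9821) (BT.leaf cE9822))) (BT.node 9825 (BT.node 9824 (BT.node 9823 (BT.leaf cE9823) (BT.leaf cE9824)) (BT.leaf cE9825)) (BT.node 9826 (BT.leaf cE9826) (BT.leaf cE9827)))) (BT.node 9832 (BT.node 9830 (BT.node 9829 (BT.node 9828 (BT.leaf cE9828) (BT.leaf cE9829)) (BT.leaf cE9830)) (BT.node 9831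 (BT.leaf cE9831) (BT.leaf cE9832))) (BT.node 9835 (BT.node 9834 (BT.node 9833 (BT.leaf cE9833) (BT.leaf cE9834)) (BT.leaf cE9835)) (BT.node 9836 (BT.leaf cE9836) (BT.leaf cE9837))))) (BT.node 9847 (BT.node 9842 (BT.node 9840 (BT.node 9839 (BT.node 9838 (BT.leaf cE9838) (BT.leaf cE9839)) (BT.leaf cE9840)) (BT.node 9841 (BT.leaf cE9841) (BT.leaf cE9842))) (BT.node 9845 (BT.node 9844 (BT.node 9843 (BT.leaf cE9843) (BT.leaf cE9844)) (BT.leaf cE9845)) (BT.node 9846 (BT.leaf cE9846) (BT.leaf cE9847)))) (BT.node 9852 (BT.node 9850 (BT.node 9849 (BT.node 9848 (BT.leaf cE9848) (BT.leaf cE9849)) (BT.leaf cE9850)) (BT.node 9851 (BT.leaf cE9851) (BT.leaf cE9852))) (BT.node 9855 (BT.node 9854 (BT.node 9853 (BT.leaf cE9853) (BT.leaf cE9854)) (BT.leaf cE9855)) (BT.node 9856 (BT.leaf cE9856) (BT.leaf cE9857))))))))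
noncomputable def colET_61 : BT ℕ := (BT.node 9938 (BT.node 9898 (BT.node 9878 (BT.node 9868 (BT.node 9863 (BT.node 9860 (BT.node 9859 (BT.node 9858 (BT.leaf cE9858) (BT.leaf cE9859)) (BT.leaf cE9860)) (BT.node 9862 (BT.node 9861 (BT.leaf cE9861) (BT.leaf cE9862)) (BT.leaf cE9863))) (BT.node 9866 (BT.node 9865 (BT.node 9864 (BT.leaf cE9864) (BT.leaf cE9865)) (BT.leaf cE9866)) (BT.node 9867 (BT.leaf cE9867) (BT.leaf cE9868)))) (BT.node 9873 (BT.node 9871 (BT.node 9870 (BT.node 9869 (BT.leaf cE9869) (BT.leaf cE9870)) (BT.leaf cE9871)) (BT.node 9872 (BT.leaf cE9872) (BT.leaf cE9873))) (BT.node 9876 (BT.node 9875 (BT.node 9874 (BT.leaf cE9874) (BT.leaf cE9875)) (BT.leaf cE9876)) (BT.node 9877 (BT.leaf cE9877) (BT.leaf cE9878))))) (BT.node 9888 (BT.node 9883 (BT.node 9881 (BT.node 9880 (BT.node 9879 (BT.leaf cE9879) (BT.leaf cE9880)) (BT.leaf cE9881)) (BT.node 9882 (BT.leaf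 cE9882) (BT.leaf cE9883))) (BT.node 9886 (BT.node 9885 (BT.node 9884 (BT.leaf cE9884) (BT.leaf cE9885)) (BT.leaf cE9886)) (BT.node 9887 (BT.leaf cE9887) (BT.leaf cE9888)))) (BT.node 9893 (BT.node 9891 (BT.node 9890 (BT.node 9889 (BT.leaf cE9889) (BT.leaf cE9890)) (BT.leaf cE9891)) (BT.node 9892 (BT.leaf cE9892) (BT.leaf cE9893))) (BT.node 9896 (BT.node 9895 (BT.node 9894 (BT.leaf cE9894) (BT.leaf cE9895)) (BT.leaf cE9896)) (BT.node 9897 (BT.leaf cE9897) (BT.leaf cE9898)))))) (BT.node 9918 (BT.node 9908 (BT.node 9903 (BT.node 9901 (BT.node 9900 (BT.node 9899 (BT.leaf cE9899) (BT.leaf cE9900)) (BT.leaf cE9901)) (BT.node 9902 (BT.leaf cE9902) (BT.leaf cE9903))) (BT.node 9906 (BT.node 9905 (BT.node 9904 (BT.leaf cE9904) (BT.leaf cE9905)) (BT.leaf cE9906)) (BT.node 9907 (BT.leaf cE9907) (BT.leaf cE9908)))) (BT.node 9913 (BT.node 9911 (BT.node 9910 (BT.node 9909 (BT.leaf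 cE9909) (BT.leaf cE9910)) (BT.leaf cE9911)) (BT.node 9912 (BT.leaf cE9912) (BT.leaf cE9913))) (BT.node 9916 (BT.node 9915 (BT.node 9914 (BT.leaf cE9914) (BT.leaf cE9915)) (BT.leaf cE9916)) (BT.node 9917 (BT.leaf cE9917) (BT.leaf cE9918))))) (BT.node 9928 (BT.node 9923 (BT.node 9921 (BT.node 9920 (BT.node 9919 (BT.leaf cE9919) (BT.leaf cE9920)) (BT.leaf cE9921)) (BT.node 9922 (BT.leaf cE9922) (BT.leaf cE9923))) (BT.node 9926 (BT.node 9925 (BT.node 9924 (BT.leaf cE9924) (BT.leaf cE9925)) (BT.leaf cE9926)) (BT.node 9927 (BT.leaf cE9927) (BT.leaf cE9928)))) (BT.node 9933 (BT.node 9931 (BT.node 9930 (BT.node 9929 (BT.leaf cE9929) (BT.leaf cE9930)) (BT.leaf cE9931)) (BT.node 9932 (BT.leaf cE9932) (BT.leaf cE9933))) (BT.node 9936 (BT.node 9935 (BT.node 9934 (BT.leaf cE9934) (BT.leaf cE9935)) (BT.leaf cE9936)) (BT.node 9937 (BT.leaf cE9937) (BT.leaf cE9938))))))) (BT.node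 9978 (BT.node 9958 (BT.node 9948 (BT.node 9943 (BT.node 9941 (BT.node 9940 (BT.node 9939 (BT.leaf cE9939) (BT.leaf cE9940)) (BT.leaf cE9941)) (BT.node 9942 (BT.leaf cE9942) (BT.leaf cE9943))) (BT.node 9946 (BT.node 9945 (BT.node 9944 (BT.leaf cE9944) (BT.leaf cE9945)) (BT.leaf cE9946)) (BT.node 9947 (BT.leaf cE9947) (BT.leaf cE9948)))) (BT.node 9953 (BT.node 9951 (BT.node 9950 (BT.node 9949 (BT.leaf cE9949) (BT.leaf cE9950)) (BT.leaf cE9951)) (BT.node 9952 (BT.leaf cE9952) (BT.leaf cE9953))) (BT.node 9956 (BT.node 9955 (BT.node 9954 (BT.leaf cE9954) (BT.leaf cE9955)) (BT.leaf cE9956)) (BT.node 9957 (BT.leaf cE9957) (BT.leaf cE9958))))) (BT.node 9968 (BT.node 9963 (BT.node 9961 (BT.node 9960 (BT.node 9959 (BT.leaf cE9959) (BT.leaf cE9960)) (BT.leaf cE9961)) (BT.node 9962 (BT.leaf cE9962) (BT.leaf cE9963))) (BT.node 9966 (BT.node 9965 (BT.node 9964 (BT.leaf cE9964) (BT.leaf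 cE9965)) (BT.leaf cE9966)) (BT.node 9967 (BT.leaf cE9967) (BT.leaf cE9968)))) (BT.node 9973 (BT.node 9971 (BT.node 9970 (BT.node 9969 (BT.leaf cE9969) (BT.leaf cE9970)) (BT.leaf cE9971)) (BT.node 9972 (BT.leaf cE9972) (BT.leaf cE9973))) (BT.node 9976 (BT.node 9975 (BT.node 9974 (BT.leaf cE9974) (BT.leaf cE9975)) (BT.leaf cE9976)) (BT.node 9977 (BT.leaf cE9977) (BT.leaf cE9978)))))) (BT.node 9998 (BT.node 9988 (BT.node 9983 (BT.node 9981 (BT.node 9980 (BT.node 9979 (BT.leaf cE9979) (BT.leaf cE9980)) (BT.leaf cE9981)) (BT.node 9982 (BT.leaf cE9982) (BT.leaf cE9983))) (BT.node 9986 (BT.node 9985 (BT.node 9984 (BT.leaf cE9984) (BT.leaf cE9985)) (BT.leaf cE9986)) (BT.node 9987 (BT.leaf cE9987) (BT.leaf cE9988)))) (BT.node 9993 (BT.node 9991 (BT.node 9990 (BT.node 9989 (BT.leaf cE9989) (BT.leaf cE9990)) (BT.leaf cE9991)) (BT.node 9992 (BT.leaf cE9992) (BT.leaf cE9993)))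 (BT.node 9996 (BT.node 9995 (BT.node 9994 (BT.leaf cE9994) (BT.leaf cE9995)) (BT.leaf cE9996)) (BT.node 9997 (BT.leaf cE9997) (BT.leaf cE9998))))) (BT.node 10008 (BT.node 10003 (BT.node 10001 (BT.node 10000 (BT.node 9999 (BT.leaf cE9999) (BT.leaf cE10000)) (BT.leaf cE10001)) (BT.node 10002 (BT.leaf cE10002) (BT.leaf cE10003))) (BT.node 10006 (BT.node 10005 (BT.node 10004 (BT.leaf cE10004) (BT.leaf cE10005)) (BT.leaf cE10006)) (BT.node 10007 (BT.leaf cE10007) (BT.leaf cE10008)))) (BT.node 10013 (BT.node 10011 (BT.node 10010 (BT.node 10009 (BT.leaf cE10009) (BT.leaf cE10010)) (BT.leaf cE10011)) (BT.node 10012 (BT.leaf cE10012) (BT.leaf cE10013))) (BT.node 10016 (BT.node 10015 (BT.node 10014 (BT.leaf cE10014) (BT.leaf cE10015)) (BT.leaf cE10016)) (BT.node 10017 (BT.leaf cE10017) (BT.leaf cE10018))))))))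
noncomputable def colET_62 : BT ℕ := (BT.node 10099 (BT.node 10059 (BT.node 10039 (BT.node 10029 (BT.node 10024 (BT.node 10021 (BT.node 10020 (BT.node 10019 (BT.leaf cE10019) (BT.leaf cE10020)) (BT.leaf cE10021)) (BT.node 10023 (BT.node 10022 (BT.leaf cE10022) (BT.leaf cE10023)) (BT.leaf cE10024))) (BT.node 10027 (BT.node 10026 (BT.node 10025 (BT.leaf cE10025) (BT.leaf cE10026)) (BT.leaf cE10027)) (BT.node 10028 (BT.leaf cE10028) (BT.leaf cE10029)))) (BT.node 10034 (BT.node 10032 (BT.node 10031 (BT.node 10030 (BT.leaf cE10030) (BT.leaf cE10031)) (BT.leaf cE10032)) (BT.node 10033 (BT.leaf cE10033) (BT.leaf cE10034))) (BT.node 10037 (BT.node 10036 (BT.node 10035 (BT.leaf cE10035) (BT.leaf cE10036)) (BT.leaf cE10037)) (BT.node 10038 (BT.leaf cE10038) (BT.leaf cE10039))))) (BT.node 10049 (BT.node 10044 (BT.node 10042 (BT.node 10041 (BT.node 10040 (BT.leaf cE10040) (BT.leaf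 cE10041)) (BT.leaf cE10042)) (BT.node 10043 (BT.leaf cE10043) (BT.leaf cE10044))) (BT.node 10047 (BT.node 10046 (BT.node 10045 (BT.leaf cE10045) (BT.leaf cE10046)) (BT.leaf cE10047)) (BT.node 10048 (BT.leaf cE10048) (BT.leaf cE10049)))) (BT.node 10054 (BT.node 10052 (BT.node 10051 (BT.node 10050 (BT.leaf cE10050) (BT.leaf cE10051)) (BT.leaf cE10052)) (BT.node 10053 (BT.leaf cE10053) (BT.leaf cE10054))) (BT.node 10057 (BT.node 10056 (BT.node 10055 (BT.leaf cE10055) (BT.leaf cE10056)) (BT.leaf cE10057)) (BT.node 10058 (BT.leaf cE10058) (BT.leaf cE10059)))))) (BT.node 10079 (BT.node 10069 (BT.node 10064 (BT.node 10062 (BT.node 10061 (BT.node 10060 (BT.leaf cE10060) (BT.leaf cE10061)) (BT.leaf cE10062)) (BT.node 10063 (BT.leaf cE10063) (BT.leaf cE10064))) (BT.node 10067 (BT.node 10066 (BT.node 10065 (BT.leaf cE10065) (BT.leaf cE10066)) (BT.leaf cE10067)) (BT.node 10068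 (BT.leaf cE10068) (BT.leaf cE10069)))) (BT.node 10074 (BT.node 10072 (BT.node 10071 (BT.node 10070 (BT.leaf cE10070) (BT.leaf cE10071)) (BT.leaf cE10072)) (BT.node 10073 (BT.leaf cE10073) (BT.leaf cE10074))) (BT.node 10077 (BT.node 10076 (BT.node 10075 (BT.leaf cE10075) (BT.leaf cE10076)) (BT.leaf cE10077)) (BT.node 10078 (BT.leaf cE10078) (BT.leaf cE10079))))) (BT.node 10089 (BT.node 10084 (BT.node 10082 (BT.node 10081 (BT.node 10080 (BT.leaf cE10080) (BT.leaf cE10081)) (BT.leaf cE10082)) (BT.node 10083 (BT.leaf cE10083) (BT.leaf cE10084))) (BT.node 10087 (BT.node 10086 (BT.node 10085 (BT.leaf cE10085) (BT.leaf cE10086)) (BT.leaf cE10087)) (BT.node 10088 (BT.leaf cE10088) (BT.leaf cE10089)))) (BT.node 10094 (BT.node 10092 (BT.node 10091 (BT.node 10090 (BT.leaf cE10090) (BT.leaf cE10091)) (BT.leaf cE10092)) (BT.node 10093 (BT.leaf cE10093) (BT.leaf cE10094))) (BT.node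 10097 (BT.node 10096 (BT.node 10095 (BT.leaf cE10095) (BT.leaf cE10096)) (BT.leaf cE10097)) (BT.node 10098 (BT.leaf cE10098) (BT.leaf cE10099))))))) (BT.node 10140 (BT.node 10120 (BT.node 10110 (BT.node 10105 (BT.node 10102 (BT.node 10101 (BT.node 10100 (BT.leaf cE10100) (BT.leaf cE10101)) (BT.leaf cE10102)) (BT.node 10104 (BT.node 10103 (BT.leaf cE10103) (BT.leaf cE10104)) (BT.leaf cE10105))) (BT.node 10108 (BT.node 10107 (BT.node 10106 (BT.leaf cE10106) (BT.leaf cE10107)) (BT.leaf cE10108)) (BT.node 10109 (BT.leaf cE10109) (BT.leaf cE10110)))) (BT.node 10115 (BT.node 10113 (BT.node 10112 (BT.node 10111 (BT.leaf cE10111) (BT.leaf cE10112)) (BT.leaf cE10113)) (BT.node 10114 (BT.leaf cE10114) (BT.leaf cE10115))) (BT.node 10118 (BT.node 10117 (BT.node 10116 (BT.leaf cE10116) (BT.leaf cE10117)) (BT.leaf cE10118)) (BT.node 10119 (BT.leaf cE10119) (BT.leaf cE10120)))))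 (BT.node 10130 (BT.node 10125 (BT.node 10123 (BT.node 10122 (BT.node 10121 (BT.leaf cE10121) (BT.leaf cE10122)) (BT.leaf cE10123)) (BT.node 10124 (BT.leaf cE10124) (BT.leaf cE10125))) (BT.node 10128 (BT.node 10127 (BT.node 10126 (BT.leaf cE10126) (BT.leaf cE10127)) (BT.leaf cE10128)) (BT.node 10129 (BT.leaf cE10129) (BT.leaf cE10130)))) (BT.node 10135 (BT.node 10133 (BT.node 10132 (BT.node 10131 (BT.leaf cE10131) (BT.leaf cE10132)) (BT.leaf cE10133)) (BT.node 10134 (BT.leaf cE10134) (BT.leaf cE10135))) (BT.node 10138 (BT.node 10137 (BT.node 10136 (BT.leaf cE10136) (BT.leaf cE10137)) (BT.leaf cE10138)) (BT.node 10139 (BT.leaf cE10139) (BT.leaf cE10140)))))) (BT.node 10160 (BT.node 10150 (BT.node 10145 (BT.node 10143 (BT.node 10142 (BT.node 10141 (BT.leaf cE10141) (BT.leaf cE10142)) (BT.leaf cE10143)) (BT.node 10144 (BT.leaf cE10144) (BT.leaf cE10145))) (BT.node 10148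 (BT.node 10147 (BT.node 10146 (BT.leaf cE10146) (BT.leaf cE10147)) (BT.leaf cE10148)) (BT.node 10149 (BT.leaf cE10149) (BT.leaf cE10150)))) (BT.node 10155 (BT.node 10153 (BT.node 10152 (BT.node 10151 (BT.leaf cE10151) (BT.leaf cE10152)) (BT.leaf cE10153)) (BT.node 10154 (BT.leaf cE10154) (BT.leaf cE10155))) (BT.node 10158 (BT.node 10157 (BT.node 10156 (BT.leaf cE10156) (BT.leaf cE10157)) (BT.leaf cE10158)) (BT.node 10159 (BT.leaf cE10159) (BT.leaf cE10160))))) (BT.node 10170 (BT.node 10165 (BT.node 10163 (BT.node 10162 (BT.node 10161 (BT.leaf cE10161) (BT.leaf cE10162)) (BT.leaf cE10163)) (BT.node 10164 (BT.leaf cE10164) (BT.leaf cE10165))) (BT.node 10168 (BT.node 10167 (BT.node 10166 (BT.leaf cE10166) (BT.leaf cE10167)) (BT.leaf cE10168)) (BT.node 10169 (BT.leaf cE10169) (BT.leaf cE10170)))) (BT.node 10175 (BT.node 10173 (BT.node 10172 (BT.node 10171 (BT.leaf cE10171)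 (BT.leaf cE10172)) (BT.leaf cE10173)) (BT.node 10174 (BT.leaf cE10174) (BT.leaf cE10175))) (BT.node 10178 (BT.node 10177 (BT.node 10176 (BT.leaf cE10176) (BT.leaf cE10177)) (BT.leaf cE10178)) (BT.node 10179 (BT.leaf cE10179) (BT.leaf cE10180))))))))
noncomputable def colET_63 : BT ℕ := (BT.node 10261 (BT.node 10221 (BT.node 10201 (BT.node 10191 (BT.node 10186 (BT.node 10183 (BT.node 10182 (BT.node 10181 (BT.leaf cE10181) (BT.leaf cE10182)) (BT.leaf cE10183)) (BT.node 10185 (BT.node 10184 (BT.leaf cE10184) (BT.leaf cE10185)) (BT.leaf cE10186))) (BT.node 10189 (BT.node 10188 (BT.node 10187 (BT.leaf cE10187) (BT.leaf cE10188)) (BT.leaf cE10189)) (BT.node 10190 (BT.leaf cE10190) (BT.leaf cE10191)))) (BT.node 10196 (BT.node 10194 (BT.node 10193 (BT.node 10192 (BT.leaf cE10192) (BT.leaf cE10193)) (BT.leaf cE10194)) (BT.node 10195 (BT.leaf cE10195) (BT.leaf cE10196))) (BT.node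 10199 (BT.node 10198 (BT.node 10197 (BT.leaf cE10197) (BT.leaf cE10198)) (BT.leaf cE10199)) (BT.node 10200 (BT.leaf cE10200) (BT.leaf cE10201))))) (BT.node 10211 (BT.node 10206 (BT.node 10204 (BT.node 10203 (BT.node 10202 (BT.leaf cE10202) (BT.leaf cE10203)) (BT.leaf cE10204)) (BT.node 10205 (BT.leaf cE10205) (BT.leaf cE10206))) (BT.node 10209 (BT.node 10208 (BT.node 10207 (BT.leaf cE10207) (BT.leaf cE10208)) (BT.leaf cE10209)) (BT.node 10210 (BT.leaf cE10210) (BT.leaf cE10211)))) (BT.node 10216 (BT.node 10214 (BT.node 10213 (BT.node 10212 (BT.leaf cE10212) (BT.leaf cE10213)) (BT.leaf cE10214)) (BT.node 10215 (BT.leaf cE10215) (BT.leaf cE10216))) (BT.node 10219 (BT.node 10218 (BT.node 10217 (BT.leaf cE10217) (BT.leaf cE10218)) (BT.leaf cE10219)) (BT.node 10220 (BT.leaf cE10220) (BT.leaf cE10221)))))) (BT.node 10241 (BT.node 10231 (BT.node 10226 (BT.node 10224 (BT.node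 10223 (BT.node 10222 (BT.leaf cE10222) (BT.leaf cE10223)) (BT.leaf cE10224)) (BT.node 10225 (BT.leaf cE10225) (BT.leaf cE10226))) (BT.node 10229 (BT.node 10228 (BT.node 10227 (BT.leaf cE10227) (BT.leaf cE10228)) (BT.leaf cE10229)) (BT.node 10230 (BT.leaf cE10230) (BT.leaf cE10231)))) (BT.node 10236 (BT.node 10234 (BT.node 10233 (BT.node 10232 (BT.leaf cE10232) (BT.leaf cE10233)) (BT.leaf cE10234)) (BT.node 10235 (BT.leaf cE10235) (BT.leaf cE10236))) (BT.node 10239 (BT.node 10238 (BT.node 10237 (BT.leaf cE10237) (BT.leaf cE10238)) (BT.leaf cE10239)) (BT.node 10240 (BT.leaf cE10240) (BT.leaf cE10241))))) (BT.node 10251 (BT.node 10246 (BT.node 10244 (BT.node 10243 (BT.node 10242 (BT.leaf cE10242) (BT.leaf cE10243)) (BT.leaf cE10244)) (BT.node 10245 (BT.leaf cE10245) (BT.leaf cE10246))) (BT.node 10249 (BT.node 10248 (BT.node 10247 (BT.leaf cE10247) (BT.leaf cE10248)) (BT.leaf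 cE10249)) (BT.node 10250 (BT.leaf cE10250) (BT.leaf cE10251)))) (BT.node 10256 (BT.node 10254 (BT.node 10253 (BT.node 10252 (BT.leaf cE10252) (BT.leaf cE10253)) (BT.leaf cE10254)) (BT.node 10255 (BT.leaf cE10255) (BT.leaf cE10256))) (BT.node 10259 (BT.node 10258 (BT.node 10257 (BT.leaf cE10257) (BT.leaf cE10258)) (BT.leaf cE10259)) (BT.node 10260 (BT.leaf cE10260) (BT.leaf cE10261))))))) (BT.node 10301 (BT.node 10281 (BT.node 10271 (BT.node 10266 (BT.node 10264 (BT.node 10263 (BT.node 10262 (BT.leaf cE10262) (BT.leaf cE10263)) (BT.leaf cE10264)) (BT.node 10265 (BT.leaf cE10265) (BT.leaf cE10266))) (BT.node 10269 (BT.node 10268 (BT.node 10267 (BT.leaf cE10267) (BT.leaf cE10268)) (BT.leaf cE10269)) (BT.node 10270 (BT.leaf cE10270) (BT.leaf cE10271)))) (BT.node 10276 (BT.node 10274 (BT.node 10273 (BT.node 10272 (BT.leaf cE10272) (BT.leaf cE10273)) (BT.leaf cE10274)) (BT.node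 10275 (BT.leaf cE10275) (BT.leaf cE10276))) (BT.node 10279 (BT.node 10278 (BT.node 10277 (BT.leaf cE10277) (BT.leaf cE10278)) (BT.leaf cE10279)) (BT.node 10280 (BT.leaf cE10280) (BT.leaf cE10281))))) (BT.node 10291 (BT.node 10286 (BT.node 10284 (BT.node 10283 (BT.node 10282 (BT.leaf cE10282) (BT.leaf cE10283)) (BT.leaf cE10284)) (BT.node 10285 (BT.leaf cE10285) (BT.leaf cE10286))) (BT.node 10289 (BT.node 10288 (BT.node 10287 (BT.leaf cE10287) (BT.leaf cE10288)) (BT.leaf cE10289)) (BT.node 10290 (BT.leaf cE10290) (BT.leaf cE10291)))) (BT.node 10296 (BT.node 10294 (BT.node 10293 (BT.node 10292 (BT.leaf cE10292) (BT.leaf cE10293)) (BT.leaf cE10294)) (BT.node 10295 (BT.leaf cE10295) (BT.leaf cE10296))) (BT.node 10299 (BT.node 10298 (BT.node 10297 (BT.leaf cE10297) (BT.leaf cE10298)) (BT.leaf cE10299)) (BT.node 10300 (BT.leaf cE10300) (BT.leaf cE10301)))))) (BT.node 10321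 (BT.node 10311 (BT.node 10306 (BT.node 10304 (BT.node 10303 (BT.node 10302 (BT.leaf cE10302) (BT.leaf cE10303)) (BT.leaf cE10304)) (BT.node 10305 (BT.leaf cE10305) (BT.leaf cE10306))) (BT.node 10309 (BT.node 10308 (BT.node 10307 (BT.leaf cE10307) (BT.leaf cE10308)) (BT.leaf cE10309)) (BT.node 10310 (BT.leaf cE10310) (BT.leaf cE10311)))) (BT.node 10316 (BT.node 10314 (BT.node 10313 (BT.node 10312 (BT.leaf cE10312) (BT.leaf cE10313)) (BT.leaf cE10314)) (BT.node 10315 (BT.leaf cE10315) (BT.leaf cE10316))) (BT.node 10319 (BT.node 10318 (BT.node 10317 (BT.leaf cE10317) (BT.leaf cE10318)) (BT.leaf cE10319)) (BT.node 10320 (BT.leaf cE10320) (BT.leaf cE10321))))) (BT.node 10331 (BT.node 10326 (BT.node 10324 (BT.node 10323 (BT.node 10322 (BT.leaf cE10322) (BT.leaf cE10323)) (BT.leaf cE10324)) (BT.node 10325 (BT.leaf cE10325) (BT.leaf cE10326))) (BT.node 10329 (BT.node 10328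 (BT.node 10327 (BT.leaf cE10327) (BT.leaf cE10328)) (BT.leaf cE10329)) (BT.node 10330 (BT.leaf cE10330) (BT.leaf cE10331)))) (BT.node 10336 (BT.node 10334 (BT.node 10333 (BT.node 10332 (BT.leaf cE10332) (BT.leaf cE10333)) (BT.leaf cE10334)) (BT.node 10335 (BT.leaf cE10335) (BT.leaf cE10336))) (BT.node 10339 (BT.node 10338 (BT.node 10337 (BT.leaf cE10337) (BT.leaf cE10338)) (BT.leaf cE10339)) (BT.node 10340 (BT.leaf cE10340) (BT.leaf cE10341))))))))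
noncomputable def colET_64 : BT ℕ := (BT.node 10422 (BT.node 10382 (BT.node 10362 (BT.node 10352 (BT.node 10347 (BT.node 10344 (BT.node 10343 (BT.node 10342 (BT.leaf cE10342) (BT.leaf cE10343)) (BT.leaf cE10344)) (BT.node 10346 (BT.node 10345 (BT.leaf cE10345) (BT.leaf cE10346)) (BT.leaf cE10347))) (BT.node 10350 (BT.node 10349 (BT.node 10348 (BT.leaf cE10348) (BT.leaf cE10349)) (BT.leaf cE10350)) (BT.node 10351 (BT.leaf cE10351) (BT.leaf cE10352)))) (BT.node 10357 (BT.node 10355 (BT.node 10354 (BT.node 10353 (BT.leaf cE10353) (BT.leaf cE10354)) (BT.leaf cE10355)) (BT.node 10356 (BT.leaf cE10356) (BT.leaf cE10357))) (BT.node 10360 (BT.node 10359 (BT.node 10358 (BT.leaf cE10358) (BT.leaf cE10359)) (BT.leaf cE10360)) (BT.node 10361 (BT.leaf cE10361) (BT.leaf cE10362))))) (BT.node 10372 (BT.node 10367 (BT.node 10365 (BT.node 10364 (BT.node 10363 (BT.leaf cE10363) (BT.leaf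 cE10364)) (BT.leaf cE10365)) (BT.node 10366 (BT.leaf cE10366) (BT.leaf cE10367))) (BT.node 10370 (BT.node 10369 (BT.node 10368 (BT.leaf cE10368) (BT.leaf cE10369)) (BT.leaf cE10370)) (BT.node 10371 (BT.leaf cE10371) (BT.leaf cE10372)))) (BT.node 10377 (BT.node 10375 (BT.node 10374 (BT.node 10373 (BT.leaf cE10373) (BT.leaf cE10374)) (BT.leaf cE10375)) (BT.node 10376 (BT.leaf cE10376) (BT.leaf cE10377))) (BT.node 10380 (BT.node 10379 (BT.node 10378 (BT.leaf cE10378) (BT.leaf cE10379)) (BT.leaf cE10380)) (BT.node 10381 (BT.leaf cE10381) (BT.leaf cE10382)))))) (BT.node 10402 (BT.node 10392 (BT.node 10387 (BT.node 10385 (BT.node 10384 (BT.node 10383 (BT.leaf cE10383) (BT.leaf cE10384)) (BT.leaf cE10385)) (BT.node 10386 (BT.leaf cE10386) (BT.leaf cE10387))) (BT.node 10390 (BT.node 10389 (BT.node 10388 (BT.leaf cE10388) (BT.leaf cE10389)) (BT.leaf cE10390)) (BT.node 10391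 (BT.leaf cE10391) (BT.leaf cE10392)))) (BT.node 10397 (BT.node 10395 (BT.node 10394 (BT.node 10393 (BT.leaf cE10393) (BT.leaf cE10394)) (BT.leaf cE10395)) (BT.node 10396 (BT.leaf cE10396) (BT.leaf cE10397))) (BT.node 10400 (BT.node 10399 (BT.node 10398 (BT.leaf cE10398) (BT.leaf cE10399)) (BT.leaf cE10400)) (BT.node 10401 (BT.leaf cE10401) (BT.leaf cE10402))))) (BT.node 10412 (BT.node 10407 (BT.node 10405 (BT.node 10404 (BT.node 10403 (BT.leaf cE10403) (BT.leaf cE10404)) (BT.leaf cE10405)) (BT.node 10406 (BT.leaf cE10406) (BT.leaf cE10407))) (BT.node 10410 (BT.node 10409 (BT.node 10408 (BT.leaf cE10408) (BT.leaf cE10409)) (BT.leaf cE10410)) (BT.node 10411 (BT.leaf cE10411) (BT.leaf cE10412)))) (BT.node 10417 (BT.node 10415 (BT.node 10414 (BT.node 10413 (BT.leaf cE10413) (BT.leaf cE10414)) (BT.leaf cE10415)) (BT.node 10416 (BT.leaf cE10416) (BT.leaf cE10417))) (BT.node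 10420 (BT.node 10419 (BT.node 10418 (BT.leaf cE10418) (BT.leaf cE10419)) (BT.leaf cE10420)) (BT.node 10421 (BT.leaf cE10421) (BT.leaf cE10422))))))) (BT.node 10463 (BT.node 10443 (BT.node 10433 (BT.node 10428 (BT.node 10425 (BT.node 10424 (BT.node 10423 (BT.leaf cE10423) (BT.leaf cE10424)) (BT.leaf cE10425)) (BT.node 10427 (BT.node 10426 (BT.leaf cE10426) (BT.leaf cE10427)) (BT.leaf cE10428))) (BT.node 10431 (BT.node 10430 (BT.node 10429 (BT.leaf cE10429) (BT.leaf cE10430)) (BT.leaf cE10431)) (BT.node 10432 (BT.leaf cE10432) (BT.leaf cE10433)))) (BT.node 10438 (BT.node 10436 (BT.node 10435 (BT.node 10434 (BT.leaf cE10434) (BT.leaf cE10435)) (BT.leaf cE10436)) (BT.node 10437 (BT.leaf cE10437) (BT.leaf cE10438))) (BT.node 10441 (BT.node 10440 (BT.node 10439 (BT.leaf cE10439) (BT.leaf cE10440)) (BT.leaf cE10441)) (BT.node 10442 (BT.leaf cE10442) (BT.leaf cE10443)))))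 (BT.node 10453 (BT.node 10448 (BT.node 10446 (BT.node 10445 (BT.node 10444 (BT.leaf cE10444) (BT.leaf cE10445)) (BT.leaf cE10446)) (BT.node 10447 (BT.leaf cE10447) (BT.leaf cE10448))) (BT.node 10451 (BT.node 10450 (BT.node 10449 (BT.leaf cE10449) (BT.leaf cE10450)) (BT.leaf cE10451)) (BT.node 10452 (BT.leaf cE10452) (BT.leaf cE10453)))) (BT.node 10458 (BT.node 10456 (BT.node 10455 (BT.node 10454 (BT.leaf cE10454) (BT.leaf cE10455)) (BT.leaf cE10456)) (BT.node 10457 (BT.leaf cE10457) (BT.leaf cE10458))) (BT.node 10461 (BT.node 10460 (BT.node 10459 (BT.leaf cE10459) (BT.leaf cE10460)) (BT.leaf cE10461)) (BT.node 10462 (BT.leaf cE10462) (BT.leaf cE10463)))))) (BT.node 10483 (BT.node 10473 (BT.node 10468 (BT.node 10466 (BT.node 10465 (BT.node 10464 (BT.leaf cE10464) (BT.leaf cE10465)) (BT.leaf cE10466)) (BT.node 10467 (BT.leaf cE10467) (BT.leaf cE10468))) (BT.node 10471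 (BT.node 10470 (BT.node 10469 (BT.leaf cE10469) (BT.leaf cE10470)) (BT.leaf cE10471)) (BT.node 10472 (BT.leaf cE10472) (BT.leaf cE10473)))) (BT.node 10478 (BT.node 10476 (BT.node 10475 (BT.node 10474 (BT.leaf cE10474) (BT.leaf cE10475)) (BT.leaf cE10476)) (BT.node 10477 (BT.leaf cE10477) (BT.leaf cE10478))) (BT.node 10481 (BT.node 10480 (BT.node 10479 (BT.leaf cE10479) (BT.leaf cE10480)) (BT.leaf cE10481)) (BT.node 10482 (BT.leaf cE10482) (BT.leaf cE10483))))) (BT.node 10493 (BT.node 10488 (BT.node 10486 (BT.node 10485 (BT.node 10484 (BT.leaf cE10484) (BT.leaf cE10485)) (BT.leaf cE10486)) (BT.node 10487 (BT.leaf cE10487) (BT.leaf cE10488))) (BT.node 10491 (BT.node 10490 (BT.node 10489 (BT.leaf cE10489) (BT.leaf cE10490)) (BT.leaf cE10491)) (BT.node 10492 (BT.leaf cE10492) (BT.leaf cE10493)))) (BT.node 10498 (BT.node 10496 (BT.node 10495 (BT.node 10494 (BT.leaf cE10494)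 (BT.leaf cE10495)) (BT.leaf cE10496)) (BT.node 10497 (BT.leaf cE10497) (BT.leaf cE10498))) (BT.node 10501 (BT.node 10500 (BT.node 10499 (BT.leaf cE10499) (BT.leaf cE10500)) (BT.leaf cE10501)) (BT.node 10502 (BT.leaf cE10502) (BT.leaf cE10503))))))))
noncomputable def colET_65 : BT ℕ := (BT.node 10584 (BT.node 10544 (BT.node 10524 (BT.node 10514 (BT.node 10509 (BT.node 10506 (BT.node 10505 (BT.node 10504 (BT.leaf cE10504) (BT.leaf cE10505)) (BT.leaf cE10506)) (BT.node 10508 (BT.node 10507 (BT.leaf cE10507) (BT.leaf cE10508)) (BT.leaf cE10509))) (BT.node 10512 (BT.node 10511 (BT.node 10510 (BT.leaf cE10510) (BT.leaf cE10511)) (BT.leaf cE10512)) (BT.node 10513 (BT.leaf cE10513) (BT.leaf cE10514)))) (BT.node 10519 (BT.node 10517 (BT.node 10516 (BT.node 10515 (BT.leaf cE10515) (BT.leaf cE10516)) (BT.leaf cE10517)) (BT.node 10518 (BT.leaf cE10518) (BT.leaf cE10519))) (BT.node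 10522 (BT.node 10521 (BT.node 10520 (BT.leaf cE10520) (BT.leaf cE10521)) (BT.leaf cE10522)) (BT.node 10523 (BT.leaf cE10523) (BT.leaf cE10524))))) (BT.node 10534 (BT.node 10529 (BT.node 10527 (BT.node 10526 (BT.node 10525 (BT.leaf cE10525) (BT.leaf cE10526)) (BT.leaf cE10527)) (BT.node 10528 (BT.leaf cE10528) (BT.leaf cE10529))) (BT.node 10532 (BT.node 10531 (BT.node 10530 (BT.leaf cE10530) (BT.leaf cE10531)) (BT.leaf cE10532)) (BT.node 10533 (BT.leaf cE10533) (BT.leaf cE10534)))) (BT.node 10539 (BT.node 10537 (BT.node 10536 (BT.node 10535 (BT.leaf cE10535) (BT.leaf cE10536)) (BT.leaf cE10537)) (BT.node 10538 (BT.leaf cE10538) (BT.leaf cE10539))) (BT.node 10542 (BT.node 10541 (BT.node 10540 (BT.leaf cE10540) (BT.leaf cE10541)) (BT.leaf cE10542)) (BT.node 10543 (BT.leaf cE10543) (BT.leaf cE10544)))))) (BT.node 10564 (BT.node 10554 (BT.node 10549 (BT.node 10547 (BT.node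 10546 (BT.node 10545 (BT.leaf cE10545) (BT.leaf cE10546)) (BT.leaf cE10547)) (BT.node 10548 (BT.leaf cE10548) (BT.leaf cE10549))) (BT.node 10552 (BT.node 10551 (BT.node 10550 (BT.leaf cE10550) (BT.leaf cE10551)) (BT.leaf cE10552)) (BT.node 10553 (BT.leaf cE10553) (BT.leaf cE10554)))) (BT.node 10559 (BT.node 10557 (BT.node 10556 (BT.node 10555 (BT.leaf cE10555) (BT.leaf cE10556)) (BT.leaf cE10557)) (BT.node 10558 (BT.leaf cE10558) (BT.leaf cE10559))) (BT.node 10562 (BT.node 10561 (BT.node 10560 (BT.leaf cE10560) (BT.leaf cE10561)) (BT.leaf cE10562)) (BT.node 10563 (BT.leaf cE10563) (BT.leaf cE10564))))) (BT.node 10574 (BT.node 10569 (BT.node 10567 (BT.node 10566 (BT.node 10565 (BT.leaf cE10565) (BT.leaf cE10566)) (BT.leaf cE10567)) (BT.node 10568 (BT.leaf cE10568) (BT.leaf cE10569))) (BT.node 10572 (BT.node 10571 (BT.node 10570 (BT.leaf cE10570) (BT.leaf cE10571)) (BT.leaf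 cE10572)) (BT.node 10573 (BT.leaf cE10573) (BT.leaf cE10574)))) (BT.node 10579 (BT.node 10577 (BT.node 10576 (BT.node 10575 (BT.leaf cE10575) (BT.leaf cE10576)) (BT.leaf cE10577)) (BT.node 10578 (BT.leaf cE10578) (BT.leaf cE10579))) (BT.node 10582 (BT.node 10581 (BT.node 10580 (BT.leaf cE10580) (BT.leaf cE10581)) (BT.leaf cE10582)) (BT.node 10583 (BT.leaf cE10583) (BT.leaf cE10584))))))) (BT.node 10625 (BT.node 10605 (BT.node 10595 (BT.node 10590 (BT.node 10587 (BT.node 10586 (BT.node 10585 (BT.leaf cE10585) (BT.leaf cE10586)) (BT.leaf cE10587)) (BT.node 10589 (BT.node 10588 (BT.leaf cE10588) (BT.leaf cE10589)) (BT.leaf cE10590))) (BT.node 10593 (BT.node 10592 (BT.node 10591 (BT.leaf cE10591) (BT.leaf cE10592)) (BT.leaf cE10593)) (BT.node 10594 (BT.leaf cE10594) (BT.leaf cE10595)))) (BT.node 10600 (BT.node 10598 (BT.node 10597 (BT.node 10596 (BT.leaf cE10596) (BT.leaf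 cE10597)) (BT.leaf cE10598)) (BT.node 10599 (BT.leaf cE10599) (BT.leaf cE10600))) (BT.node 10603 (BT.node 10602 (BT.node 10601 (BT.leaf cE10601) (BT.leaf cE10602)) (BT.leaf cE10603)) (BT.node 10604 (BT.leaf cE10604) (BT.leaf cE10605))))) (BT.node 10615 (BT.node 10610 (BT.node 10608 (BT.node 10607 (BT.node 10606 (BT.leaf cE10606) (BT.leaf cE10607)) (BT.leaf cE10608)) (BT.node 10609 (BT.leaf cE10609) (BT.leaf cE10610))) (BT.node 10613 (BT.node 10612 (BT.node 10611 (BT.leaf cE10611) (BT.leaf cE10612)) (BT.leaf cE10613)) (BT.node 10614 (BT.leaf cE10614) (BT.leaf cE10615)))) (BT.node 10620 (BT.node 10618 (BT.node 10617 (BT.node 10616 (BT.leaf cE10616) (BT.leaf cE10617)) (BT.leaf cE10618)) (BT.node 10619 (BT.leaf cE10619) (BT.leaf cE10620))) (BT.node 10623 (BT.node 10622 (BT.node 10621 (BT.leaf cE10621) (BT.leaf cE10622)) (BT.leaf cE10623)) (BT.node 10624 (BT.leaf cE10624)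 (BT.leaf cE10625)))))) (BT.node 10645 (BT.node 10635 (BT.node 10630 (BT.node 10628 (BT.node 10627 (BT.node 10626 (BT.leaf cE10626) (BT.leaf cE10627)) (BT.leaf cE10628)) (BT.node 10629 (BT.leaf cE10629) (BT.leaf cE10630))) (BT.node 10633 (BT.node 10632 (BT.node 10631 (BT.leaf cE10631) (BT.leaf cE10632)) (BT.leaf cE10633)) (BT.node 10634 (BT.leaf cE10634) (BT.leaf cE10635)))) (BT.node 10640 (BT.node 10638 (BT.node 10637 (BT.node 10636 (BT.leaf cE10636) (BT.leaf cE10637)) (BT.leaf cE10638)) (BT.node 10639 (BT.leaf cE10639) (BT.leaf cE10640))) (BT.node 10643 (BT.node 10642 (BT.node 10641 (BT.leaf cE10641) (BT.leaf cE10642)) (BT.leaf cE10643)) (BT.node 10644 (BT.leaf cE10644) (BT.leaf cE10645))))) (BT.node 10655 (BT.node 10650 (BT.node 10648 (BT.node 10647 (BT.node 10646 (BT.leaf cE10646) (BT.leaf cE10647)) (BT.leaf cE10648)) (BT.node 10649 (BT.leaf cE10649) (BT.leaf cE10650)))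 (BT.node 10653 (BT.node 10652 (BT.node 10651 (BT.leaf cE10651) (BT.leaf cE10652)) (BT.leaf cE10653)) (BT.node 10654 (BT.leaf cE10654) (BT.leaf cE10655)))) (BT.node 10660 (BT.node 10658 (BT.node 10657 (BT.node 10656 (BT.leaf cE10656) (BT.leaf cE10657)) (BT.leaf cE10658)) (BT.node 10659 (BT.leaf cE10659) (BT.leaf cE10660))) (BT.node 10663 (BT.node 10662 (BT.node 10661 (BT.leaf cE10661) (BT.leaf cE10662)) (BT.leaf cE10663)) (BT.node 10664 (BT.leaf cE10664) (BT.leaf cE10665))))))))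
noncomputable def colET_66 : BT ℕ := (BT.node 10746 (BT.node 10706 (BT.node 10686 (BT.node 10676 (BT.node 10671 (BT.node 10668 (BT.node 10667 (BT.node 10666 (BT.leaf cE10666) (BT.leaf cE10667)) (BT.leaf cE10668)) (BT.node 10670 (BT.node 10669 (BT.leaf cE10669) (BT.leaf cE10670)) (BT.leaf cE10671))) (BT.node 10674 (BT.node 10673 (BT.node 10672 (BT.leaf cE10672) (BT.leaf cE10673)) (BT.leaf cE10674)) (BT.node 10675 (BT.leaf cE10675) (BT.leaf cE10676)))) (BT.node 10681 (BT.node 10679 (BT.node 10678 (BT.node 10677 (BT.leaf cE10677) (BT.leaf cE10678)) (BT.leaf cE10679)) (BT.node 10680 (BT.leaf cE10680) (BT.leaf cE10681))) (BT.node 10684 (BT.node 10683 (BT.node 10682 (BT.leaf cE10682) (BT.leaf cE10683)) (BT.leaf cE10684)) (BT.node 10685 (BT.leaf cE10685) (BT.leaf cE10686))))) (BT.node 10696 (BT.node 10691 (BT.node 10689 (BT.node 10688 (BT.node 10687 (BT.leaf cE10687) (BT.leaf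 cE10688)) (BT.leaf cE10689)) (BT.node 10690 (BT.leaf cE10690) (BT.leaf cE10691))) (BT.node 10694 (BT.node 10693 (BT.node 10692 (BT.leaf cE10692) (BT.leaf cE10693)) (BT.leaf cE10694)) (BT.node 10695 (BT.leaf cE10695) (BT.leaf cE10696)))) (BT.node 10701 (BT.node 10699 (BT.node 10698 (BT.node 10697 (BT.leaf cE10697) (BT.leaf cE10698)) (BT.leaf cE10699)) (BT.node 10700 (BT.leaf cE10700) (BT.leaf cE10701))) (BT.node 10704 (BT.node 10703 (BT.node 10702 (BT.leaf cE10702) (BT.leaf cE10703)) (BT.leaf cE10704)) (BT.node 10705 (BT.leaf cE10705) (BT.leaf cE10706)))))) (BT.node 10726 (BT.node 10716 (BT.node 10711 (BT.node 10709 (BT.node 10708 (BT.node 10707 (BT.leaf cE10707) (BT.leaf cE10708)) (BT.leaf cE10709)) (BT.node 10710 (BT.leaf cE10710) (BT.leaf cE10711))) (BT.node 10714 (BT.node 10713 (BT.node 10712 (BT.leaf cE10712) (BT.leaf cE10713)) (BT.leaf cE10714)) (BT.node 10715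 (BT.leaf cE10715) (BT.leaf cE10716)))) (BT.node 10721 (BT.node 10719 (BT.node 10718 (BT.node 10717 (BT.leaf cE10717) (BT.leaf cE10718)) (BT.leaf cE10719)) (BT.node 10720 (BT.leaf cE10720) (BT.leaf cE10721))) (BT.node 10724 (BT.node 10723 (BT.node 10722 (BT.leaf cE10722) (BT.leaf cE10723)) (BT.leaf cE10724)) (BT.node 10725 (BT.leaf cE10725) (BT.leaf cE10726))))) (BT.node 10736 (BT.node 10731 (BT.node 10729 (BT.node 10728 (BT.node 10727 (BT.leaf cE10727) (BT.leaf cE10728)) (BT.leaf cE10729)) (BT.node 10730 (BT.leaf cE10730) (BT.leaf cE10731))) (BT.node 10734 (BT.node 10733 (BT.node 10732 (BT.leaf cE10732) (BT.leaf cE10733)) (BT.leaf cE10734)) (BT.node 10735 (BT.leaf cE10735) (BT.leaf cE10736)))) (BT.node 10741 (BT.node 10739 (BT.node 10738 (BT.node 10737 (BT.leaf cE10737) (BT.leaf cE10738)) (BT.leaf cE10739)) (BT.node 10740 (BT.leaf cE10740) (BT.leaf cE10741))) (BT.node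 10744 (BT.node 10743 (BT.node 10742 (BT.leaf cE10742) (BT.leaf cE10743)) (BT.leaf cE10744)) (BT.node 10745 (BT.leaf cE10745) (BT.leaf cE10746))))))) (BT.node 10787 (BT.node 10767 (BT.node 10757 (BT.node 10752 (BT.node 10749 (BT.node 10748 (BT.node 10747 (BT.leaf cE10747) (BT.leaf cE10748)) (BT.leaf cE10749)) (BT.node 10751 (BT.node 10750 (BT.leaf cE10750) (BT.leaf cE10751)) (BT.leaf cE10752))) (BT.node 10755 (BT.node 10754 (BT.node 10753 (BT.leaf cE10753) (BT.leaf cE10754)) (BT.leaf cE10755)) (BT.node 10756 (BT.leaf cE10756) (BT.leaf cE10757)))) (BT.node 10762 (BT.node 10760 (BT.node 10759 (BT.node 10758 (BT.leaf cE10758) (BT.leaf cE10759)) (BT.leaf cE10760)) (BT.node 10761 (BT.leaf cE10761) (BT.leaf cE10762))) (BT.node 10765 (BT.node 10764 (BT.node 10763 (BT.leaf cE10763) (BT.leaf cE10764)) (BT.leaf cE10765)) (BT.node 10766 (BT.leaf cE10766) (BT.leaf cE10767)))))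 (BT.node 10777 (BT.node 10772 (BT.node 10770 (BT.node 10769 (BT.node 10768 (BT.leaf cE10768) (BT.leaf cE10769)) (BT.leaf cE10770)) (BT.node 10771 (BT.leaf cE10771) (BT.leaf cE10772))) (BT.node 10775 (BT.node 10774 (BT.node 10773 (BT.leaf cE10773) (BT.leaf cE10774)) (BT.leaf cE10775)) (BT.node 10776 (BT.leaf cE10776) (BT.leaf cE10777)))) (BT.node 10782 (BT.node 10780 (BT.node 10779 (BT.node 10778 (BT.leaf cE10778) (BT.leaf cE10779)) (BT.leaf cE10780)) (BT.node 10781 (BT.leaf cE10781) (BT.leaf cE10782))) (BT.node 10785 (BT.node 10784 (BT.node 10783 (BT.leaf cE10783) (BT.leaf cE10784)) (BT.leaf cE10785)) (BT.node 10786 (BT.leaf cE10786) (BT.leaf cE10787)))))) (BT.node 10807 (BT.node 10797 (BT.node 10792 (BT.node 10790 (BT.node 10789 (BT.node 10788 (BT.leaf cE10788) (BT.leaf cE10789)) (BT.leaf cE10790)) (BT.node 10791 (BT.leaf cE10791) (BT.leaf cE10792))) (BT.node 10795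 (BT.node 10794 (BT.node 10793 (BT.leaf cE10793) (BT.leaf cE10794)) (BT.leaf cE10795)) (BT.node 10796 (BT.leaf cE10796) (BT.leaf cE10797)))) (BT.node 10802 (BT.node 10800 (BT.node 10799 (BT.node 10798 (BT.leaf cE10798) (BT.leaf cE10799)) (BT.leaf cE10800)) (BT.node 10801 (BT.leaf cE10801) (BT.leaf cE10802))) (BT.node 10805 (BT.node 10804 (BT.node 10803 (BT.leaf cE10803) (BT.leaf cE10804)) (BT.leaf cE10805)) (BT.node 10806 (BT.leaf cE10806) (BT.leaf cE10807))))) (BT.node 10817 (BT.node 10812 (BT.node 10810 (BT.node 10809 (BT.node 10808 (BT.leaf cE10808) (BT.leaf cE10809)) (BT.leaf cE10810)) (BT.node 10811 (BT.leaf cE10811) (BT.leaf cE10812))) (BT.node 10815 (BT.node 10814 (BT.node 10813 (BT.leaf cE10813) (BT.leaf cE10814)) (BT.leaf cE10815)) (BT.node 10816 (BT.leaf cE10816) (BT.leaf cE10817)))) (BT.node 10822 (BT.node 10820 (BT.node 10819 (BT.node 10818 (BT.leaf cE10818)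 (BT.leaf cE10819)) (BT.leaf cE10820)) (BT.node 10821 (BT.leaf cE10821) (BT.leaf cE10822))) (BT.node 10825 (BT.node 10824 (BT.node 10823 (BT.leaf cE10823) (BT.leaf cE10824)) (BT.leaf cE10825)) (BT.node 10826 (BT.leaf cE10826) (BT.leaf cE10827))))))))
noncomputable def colET_67 : BT ℕ := (BT.node 10908 (BT.node 10868 (BT.node 10848 (BT.node 10838 (BT.node 10833 (BT.node 10830 (BT.node 10829 (BT.node 10828 (BT.leaf cE10828) (BT.leaf cE10829)) (BT.leaf cE10830)) (BT.node 10832 (BT.node 10831 (BT.leaf cE10831) (BT.leaf cE10832)) (BT.leaf cE10833))) (BT.node 10836 (BT.node 10835 (BT.node 10834 (BT.leaf cE10834) (BT.leaf cE10835)) (BT.leaf cE10836)) (BT.node 10837 (BT.leaf cE10837) (BT.leaf cE10838)))) (BT.node 10843 (BT.node 10841 (BT.node 10840 (BT.node 10839 (BT.leaf cE10839) (BT.leaf cE10840)) (BT.leaf cE10841)) (BT.node 10842 (BT.leaf cE10842) (BT.leaf cE10843))) (BT.node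 10846 (BT.node 10845 (BT.node 10844 (BT.leaf cE10844) (BT.leaf cE10845)) (BT.leaf cE10846)) (BT.node 10847 (BT.leaf cE10847) (BT.leaf cE10848))))) (BT.node 10858 (BT.node 10853 (BT.node 10851 (BT.node 10850 (BT.node 10849 (BT.leaf cE10849) (BT.leaf cE10850)) (BT.leaf cE10851)) (BT.node 10852 (BT.leaf cE10852) (BT.leaf cE10853))) (BT.node 10856 (BT.node 10855 (BT.node 10854 (BT.leaf cE10854) (BT.leaf cE10855)) (BT.leaf cE10856)) (BT.node 10857 (BT.leaf cE10857) (BT.leaf cE10858)))) (BT.node 10863 (BT.node 10861 (BT.node 10860 (BT.node 10859 (BT.leaf cE10859) (BT.leaf cE10860)) (BT.leaf cE10861)) (BT.node 10862 (BT.leaf cE10862) (BT.leaf cE10863))) (BT.node 10866 (BT.node 10865 (BT.node 10864 (BT.leaf cE10864) (BT.leaf cE10865)) (BT.leaf cE10866)) (BT.node 10867 (BT.leaf cE10867) (BT.leaf cE10868)))))) (BT.node 10888 (BT.node 10878 (BT.node 10873 (BT.node 10871 (BT.node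 10870 (BT.node 10869 (BT.leaf cE10869) (BT.leaf cE10870)) (BT.leaf cE10871)) (BT.node 10872 (BT.leaf cE10872) (BT.leaf cE10873))) (BT.node 10876 (BT.node 10875 (BT.node 10874 (BT.leaf cE10874) (BT.leaf cE10875)) (BT.leaf cE10876)) (BT.node 10877 (BT.leaf cE10877) (BT.leaf cE10878)))) (BT.node 10883 (BT.node 10881 (BT.node 10880 (BT.node 10879 (BT.leaf cE10879) (BT.leaf cE10880)) (BT.leaf cE10881)) (BT.node 10882 (BT.leaf cE10882) (BT.leaf cE10883))) (BT.node 10886 (BT.node 10885 (BT.node 10884 (BT.leaf cE10884) (BT.leaf cE10885)) (BT.leaf cE10886)) (BT.node 10887 (BT.leaf cE10887) (BT.leaf cE10888))))) (BT.node 10898 (BT.node 10893 (BT.node 10891 (BT.node 10890 (BT.node 10889 (BT.leaf cE10889) (BT.leaf cE10890)) (BT.leaf cE10891)) (BT.node 10892 (BT.leaf cE10892) (BT.leaf cE10893))) (BT.node 10896 (BT.node 10895 (BT.node 10894 (BT.leaf cE10894) (BT.leaf cE10895)) (BT.leaf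 cE10896)) (BT.node 10897 (BT.leaf cE10897) (BT.leaf cE10898)))) (BT.node 10903 (BT.node 10901 (BT.node 10900 (BT.node 10899 (BT.leaf cE10899) (BT.leaf cE10900)) (BT.leaf cE10901)) (BT.node 10902 (BT.leaf cE10902) (BT.leaf cE10903))) (BT.node 10906 (BT.node 10905 (BT.node 10904 (BT.leaf cE10904) (BT.leaf cE10905)) (BT.leaf cE10906)) (BT.node 10907 (BT.leaf cE10907) (BT.leaf cE10908))))))) (BT.node 10948 (BT.node 10928 (BT.node 10918 (BT.node 10913 (BT.node 10911 (BT.node 10910 (BT.node 10909 (BT.leaf cE10909) (BT.leaf cE10910)) (BT.leaf cE10911)) (BT.node 10912 (BT.leaf cE10912) (BT.leaf cE10913))) (BT.node 10916 (BT.node 10915 (BT.node 10914 (BT.leaf cE10914) (BT.leaf cE10915)) (BT.leaf cE10916)) (BT.node 10917 (BT.leaf cE10917) (BT.leaf cE10918)))) (BT.node 10923 (BT.node 10921 (BT.node 10920 (BT.node 10919 (BT.leaf cE10919) (BT.leaf cE10920)) (BT.leaf cE10921)) (BT.node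 10922 (BT.leaf cE10922) (BT.leaf cE10923))) (BT.node 10926 (BT.node 10925 (BT.node 10924 (BT.leaf cE10924) (BT.leaf cE10925)) (BT.leaf cE10926)) (BT.node 10927 (BT.leaf cE10927) (BT.leaf cE10928))))) (BT.node 10938 (BT.node 10933 (BT.node 10931 (BT.node 10930 (BT.node 10929 (BT.leaf cE10929) (BT.leaf cE10930)) (BT.leaf cE10931)) (BT.node 10932 (BT.leaf cE10932) (BT.leaf cE10933))) (BT.node 10936 (BT.node 10935 (BT.node 10934 (BT.leaf cE10934) (BT.leaf cE10935)) (BT.leaf cE10936)) (BT.node 10937 (BT.leaf cE10937) (BT.leaf cE10938)))) (BT.node 10943 (BT.node 10941 (BT.node 10940 (BT.node 10939 (BT.leaf cE10939) (BT.leaf cE10940)) (BT.leaf cE10941)) (BT.node 10942 (BT.leaf cE10942) (BT.leaf cE10943))) (BT.node 10946 (BT.node 10945 (BT.node 10944 (BT.leaf cE10944) (BT.leaf cE10945)) (BT.leaf cE10946)) (BT.node 10947 (BT.leaf cE10947) (BT.leaf cE10948)))))) (BT.node 10968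 (BT.node 10958 (BT.node 10953 (BT.node 10951 (BT.node 10950 (BT.node 10949 (BT.leaf cE10949) (BT.leaf cE10950)) (BT.leaf cE10951)) (BT.node 10952 (BT.leaf cE10952) (BT.leaf cE10953))) (BT.node 10956 (BT.node 10955 (BT.node 10954 (BT.leaf cE10954) (BT.leaf cE10955)) (BT.leaf cE10956)) (BT.node 10957 (BT.leaf cE10957) (BT.leaf cE10958)))) (BT.node 10963 (BT.node 10961 (BT.node 10960 (BT.node 10959 (BT.leaf cE10959) (BT.leaf cE10960)) (BT.leaf cE10961)) (BT.node 10962 (BT.leaf cE10962) (BT.leaf cE10963))) (BT.node 10966 (BT.node 10965 (BT.node 10964 (BT.leaf cE10964) (BT.leaf cE10965)) (BT.leaf cE10966)) (BT.node 10967 (BT.leaf cE10967) (BT.leaf cE10968))))) (BT.node 10978 (BT.node 10973 (BT.node 10971 (BT.node 10970 (BT.node 10969 (BT.leaf cE10969) (BT.leaf cE10970)) (BT.leaf cE10971)) (BT.node 10972 (BT.leaf cE10972) (BT.leaf cE10973))) (BT.node 10976 (BT.node 10975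 (BT.node 10974 (BT.leaf cE10974) (BT.leaf cE10975)) (BT.leaf cE10976)) (BT.node 10977 (BT.leaf cE10977) (BT.leaf cE10978)))) (BT.node 10983 (BT.node 10981 (BT.node 10980 (BT.node 10979 (BT.leaf cE10979) (BT.leaf cE10980)) (BT.leaf cE10981)) (BT.node 10982 (BT.leaf cE10982) (BT.leaf cE10983))) (BT.node 10986 (BT.node 10985 (BT.node 10984 (BT.leaf cE10984) (BT.leaf cE10985)) (BT.leaf cE10986)) (BT.node 10987 (BT.leaf cE10987) (BT.leaf cE10988))))))))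
noncomputable def colET_68 : BT ℕ := (BT.node 11069 (BT.node 11029 (BT.node 11009 (BT.node 10999 (BT.node 10994 (BT.node 10991 (BT.node 10990 (BT.node 10989 (BT.leaf cE10989) (BT.leaf cE10990)) (BT.leaf cE10991)) (BT.node 10993 (BT.node 10992 (BT.leaf cE10992) (BT.leaf cE10993)) (BT.leaf cE10994))) (BT.node 10997 (BT.node 10996 (BT.node 10995 (BT.leaf cE10995) (BT.leaf cE10996)) (BT.leaf cE10997)) (BT.node 10998 (BT.leaf cE10998) (BT.leaf cE10999)))) (BT.node 11004 (BT.node 11002 (BT.node 11001 (BT.node 11000 (BT.leaf cE11000) (BT.leaf cE11001)) (BT.leaf cE11002)) (BT.node 11003 (BT.leaf cE11003) (BT.leaf cE11004))) (BT.node 11007 (BT.node 11006 (BT.node 11005 (BT.leaf cE11005) (BT.leaf cE11006)) (BT.leaf cE11007)) (BT.node 11008 (BT.leaf cE11008) (BT.leaf cE11009))))) (BT.node 11019 (BT.node 11014 (BT.node 11012 (BT.node 11011 (BT.node 11010 (BT.leaf cE11010) (BT.leaf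 cE11011)) (BT.leaf cE11012)) (BT.node 11013 (BT.leaf cE11013) (BT.leaf cE11014))) (BT.node 11017 (BT.node 11016 (BT.node 11015 (BT.leaf cE11015) (BT.leaf cE11016)) (BT.leaf cE11017)) (BT.node 11018 (BT.leaf cE11018) (BT.leaf cE11019)))) (BT.node 11024 (BT.node 11022 (BT.node 11021 (BT.node 11020 (BT.leaf cE11020) (BT.leaf cE11021)) (BT.leaf cE11022)) (BT.node 11023 (BT.leaf cE11023) (BT.leaf cE11024))) (BT.node 11027 (BT.node 11026 (BT.node 11025 (BT.leaf cE11025) (BT.leaf cE11026)) (BT.leaf cE11027)) (BT.node 11028 (BT.leaf cE11028) (BT.leaf cE11029)))))) (BT.node 11049 (BT.node 11039 (BT.node 11034 (BT.node 11032 (BT.node 11031 (BT.node 11030 (BT.leaf cE11030) (BT.leaf cE11031)) (BT.leaf cE11032)) (BT.node 11033 (BT.leaf cE11033) (BT.leaf cE11034))) (BT.node 11037 (BT.node 11036 (BT.node 11035 (BT.leaf cE11035) (BT.leaf cE11036)) (BT.leaf cE11037)) (BT.node 11038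 (BT.leaf cE11038) (BT.leaf cE11039)))) (BT.node 11044 (BT.node 11042 (BT.node 11041 (BT.node 11040 (BT.leaf cE11040) (BT.leaf cE11041)) (BT.leaf cE11042)) (BT.node 11043 (BT.leaf cE11043) (BT.leaf cE11044))) (BT.node 11047 (BT.node 11046 (BT.node 11045 (BT.leaf cE11045) (BT.leaf cE11046)) (BT.leaf cE11047)) (BT.node 11048 (BT.leaf cE11048) (BT.leaf cE11049))))) (BT.node 11059 (BT.node 11054 (BT.node 11052 (BT.node 11051 (BT.node 11050 (BT.leaf cE11050) (BT.leaf cE11051)) (BT.leaf cE11052)) (BT.node 11053 (BT.leaf cE11053) (BT.leaf cE11054))) (BT.node 11057 (BT.node 11056 (BT.node 11055 (BT.leaf cE11055) (BT.leaf cE11056)) (BT.leaf cE11057)) (BT.node 11058 (BT.leaf cE11058) (BT.leaf cE11059)))) (BT.node 11064 (BT.node 11062 (BT.node 11061 (BT.node 11060 (BT.leaf cE11060) (BT.leaf cE11061)) (BT.leaf cE11062)) (BT.node 11063 (BT.leaf cE11063) (BT.leaf cE11064))) (BT.node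 11067 (BT.node 11066 (BT.node 11065 (BT.leaf cE11065) (BT.leaf cE11066)) (BT.leaf cE11067)) (BT.node 11068 (BT.leaf cE11068) (BT.leaf cE11069))))))) (BT.node 11110 (BT.node 11090 (BT.node 11080 (BT.node 11075 (BT.node 11072 (BT.node 11071 (BT.node 11070 (BT.leaf cE11070) (BT.leaf cE11071)) (BT.leaf cE11072)) (BT.node 11074 (BT.node 11073 (BT.leaf cE11073) (BT.leaf cE11074)) (BT.leaf cE11075))) (BT.node 11078 (BT.node 11077 (BT.node 11076 (BT.leaf cE11076) (BT.leaf cE11077)) (BT.leaf cE11078)) (BT.node 11079 (BT.leaf cE11079) (BT.leaf cE11080)))) (BT.node 11085 (BT.node 11083 (BT.node 11082 (BT.node 11081 (BT.leaf cE11081) (BT.leaf cE11082)) (BT.leaf cE11083)) (BT.node 11084 (BT.leaf cE11084) (BT.leaf cE11085))) (BT.node 11088 (BT.node 11087 (BT.node 11086 (BT.leaf cE11086) (BT.leaf cE11087)) (BT.leaf cE11088)) (BT.node 11089 (BT.leaf cE11089) (BT.leaf cE11090)))))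 (BT.node 11100 (BT.node 11095 (BT.node 11093 (BT.node 11092 (BT.node 11091 (BT.leaf cE11091) (BT.leaf cE11092)) (BT.leaf cE11093)) (BT.node 11094 (BT.leaf cE11094) (BT.leaf cE11095))) (BT.node 11098 (BT.node 11097 (BT.node 11096 (BT.leaf cE11096) (BT.leaf cE11097)) (BT.leaf cE11098)) (BT.node 11099 (BT.leaf cE11099) (BT.leaf cE11100)))) (BT.node 11105 (BT.node 11103 (BT.node 11102 (BT.node 11101 (BT.leaf cE11101) (BT.leaf cE11102)) (BT.leaf cE11103)) (BT.node 11104 (BT.leaf cE11104) (BT.leaf cE11105))) (BT.node 11108 (BT.node 11107 (BT.node 11106 (BT.leaf cE11106) (BT.leaf cE11107)) (BT.leaf cE11108)) (BT.node 11109 (BT.leaf cE11109) (BT.leaf cE11110)))))) (BT.node 11130 (BT.node 11120 (BT.node 11115 (BT.node 11113 (BT.node 11112 (BT.node 11111 (BT.leaf cE11111) (BT.leaf cE11112)) (BT.leaf cE11113)) (BT.node 11114 (BT.leaf cE11114) (BT.leaf cE11115))) (BT.node 11118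 (BT.node 11117 (BT.node 11116 (BT.leaf cE11116) (BT.leaf cE11117)) (BT.leaf cE11118)) (BT.node 11119 (BT.leaf cE11119) (BT.leaf cE11120)))) (BT.node 11125 (BT.node 11123 (BT.node 11122 (BT.node 11121 (BT.leaf cE11121) (BT.leaf cE11122)) (BT.leaf cE11123)) (BT.node 11124 (BT.leaf cE11124) (BT.leaf cE11125))) (BT.node 11128 (BT.node 11127 (BT.node 11126 (BT.leaf cE11126) (BT.leaf cE11127)) (BT.leaf cE11128)) (BT.node 11129 (BT.leaf cE11129) (BT.leaf cE11130))))) (BT.node 11140 (BT.node 11135 (BT.node 11133 (BT.node 11132 (BT.node 11131 (BT.leaf cE11131) (BT.leaf cE11132)) (BT.leaf cE11133)) (BT.node 11134 (BT.leaf cE11134) (BT.leaf cE11135))) (BT.node 11138 (BT.node 11137 (BT.node 11136 (BT.leaf cE11136) (BT.leaf cE11137)) (BT.leaf cE11138)) (BT.node 11139 (BT.leaf cE11139) (BT.leaf cE11140)))) (BT.node 11145 (BT.node 11143 (BT.node 11142 (BT.node 11141 (BT.leaf cE11141)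 (BT.leaf cE11142)) (BT.leaf cE11143)) (BT.node 11144 (BT.leaf cE11144) (BT.leaf cE11145))) (BT.node 11148 (BT.node 11147 (BT.node 11146 (BT.leaf cE11146) (BT.leaf cE11147)) (BT.leaf cE11148)) (BT.node 11149 (BT.leaf cE11149) (BT.leaf cE11150))))))))
noncomputable def colET_69 : BT ℕ := (BT.node 11231 (BT.node 11191 (BT.node 11171 (BT.node 11161 (BT.node 11156 (BT.node 11153 (BT.node 11152 (BT.node 11151 (BT.leaf cE11151) (BT.leaf cE11152)) (BT.leaf cE11153)) (BT.node 11155 (BT.node 11154 (BT.leaf cE11154) (BT.leaf cE11155)) (BT.leaf cE11156))) (BT.node 11159 (BT.node 11158 (BT.node 11157 (BT.leaf cE11157) (BT.leaf cE11158)) (BT.leaf cE11159)) (BT.node 11160 (BT.leaf cE11160) (BT.leaf cE11161)))) (BT.node 11166 (BT.node 11164 (BT.node 11163 (BT.node 11162 (BT.leaf cE11162) (BT.leaf cE11163)) (BT.leaf cE11164)) (BT.node 11165 (BT.leaf cE11165) (BT.leaf cE11166))) (BT.node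 11169 (BT.node 11168 (BT.node 11167 (BT.leaf cE11167) (BT.leaf cE11168)) (BT.leaf cE11169)) (BT.node 11170 (BT.leaf cE11170) (BT.leaf cE11171))))) (BT.node 11181 (BT.node 11176 (BT.node 11174 (BT.node 11173 (BT.node 11172 (BT.leaf cE11172) (BT.leaf cE11173)) (BT.leaf cE11174)) (BT.node 11175 (BT.leaf cE11175) (BT.leaf cE11176))) (BT.node 11179 (BT.node 11178 (BT.node 11177 (BT.leaf cE11177) (BT.leaf cE11178)) (BT.leaf cE11179)) (BT.node 11180 (BT.leaf cE11180) (BT.leaf cE11181)))) (BT.node 11186 (BT.node 11184 (BT.node 11183 (BT.node 11182 (BT.leaf cE11182) (BT.leaf cE11183)) (BT.leaf cE11184)) (BT.node 11185 (BT.leaf cE11185) (BT.leaf cE11186))) (BT.node 11189 (BT.node 11188 (BT.node 11187 (BT.leaf cE11187) (BT.leaf cE11188)) (BT.leaf cE11189)) (BT.node 11190 (BT.leaf cE11190) (BT.leaf cE11191)))))) (BT.node 11211 (BT.node 11201 (BT.node 11196 (BT.node 11194 (BT.node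 11193 (BT.node 11192 (BT.leaf cE11192) (BT.leaf cE11193)) (BT.leaf cE11194)) (BT.node 11195 (BT.leaf cE11195) (BT.leaf cE11196))) (BT.node 11199 (BT.node 11198 (BT.node 11197 (BT.leaf cE11197) (BT.leaf cE11198)) (BT.leaf cE11199)) (BT.node 11200 (BT.leaf cE11200) (BT.leaf cE11201)))) (BT.node 11206 (BT.node 11204 (BT.node 11203 (BT.node 11202 (BT.leaf cE11202) (BT.leaf cE11203)) (BT.leaf cE11204)) (BT.node 11205 (BT.leaf cE11205) (BT.leaf cE11206))) (BT.node 11209 (BT.node 11208 (BT.node 11207 (BT.leaf cE11207) (BT.leaf cE11208)) (BT.leaf cE11209)) (BT.node 11210 (BT.leaf cE11210) (BT.leaf cE11211))))) (BT.node 11221 (BT.node 11216 (BT.node 11214 (BT.node 11213 (BT.node 11212 (BT.leaf cE11212) (BT.leaf cE11213)) (BT.leaf cE11214)) (BT.node 11215 (BT.leaf cE11215) (BT.leaf cE11216))) (BT.node 11219 (BT.node 11218 (BT.node 11217 (BT.leaf cE11217) (BT.leaf cE11218)) (BT.leaf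 cE11219)) (BT.node 11220 (BT.leaf cE11220) (BT.leaf cE11221)))) (BT.node 11226 (BT.node 11224 (BT.node 11223 (BT.node 11222 (BT.leaf cE11222) (BT.leaf cE11223)) (BT.leaf cE11224)) (BT.node 11225 (BT.leaf cE11225) (BT.leaf cE11226))) (BT.node 11229 (BT.node 11228 (BT.node 11227 (BT.leaf cE11227) (BT.leaf cE11228)) (BT.leaf cE11229)) (BT.node 11230 (BT.leaf cE11230) (BT.leaf cE11231))))))) (BT.node 11271 (BT.node 11251 (BT.node 11241 (BT.node 11236 (BT.node 11234 (BT.node 11233 (BT.node 11232 (BT.leaf cE11232) (BT.leaf cE11233)) (BT.leaf cE11234)) (BT.node 11235 (BT.leaf cE11235) (BT.leaf cE11236))) (BT.node 11239 (BT.node 11238 (BT.node 11237 (BT.leaf cE11237) (BT.leaf cE11238)) (BT.leaf cE11239)) (BT.node 11240 (BT.leaf cE11240) (BT.leaf cE11241)))) (BT.node 11246 (BT.node 11244 (BT.node 11243 (BT.node 11242 (BT.leaf cE11242) (BT.leaf cE11243)) (BT.leaf cE11244)) (BT.node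 11245 (BT.leaf cE11245) (BT.leaf cE11246))) (BT.node 11249 (BT.node 11248 (BT.node 11247 (BT.leaf cE11247) (BT.leaf cE11248)) (BT.leaf cE11249)) (BT.node 11250 (BT.leaf cE11250) (BT.leaf cE11251))))) (BT.node 11261 (BT.node 11256 (BT.node 11254 (BT.node 11253 (BT.node 11252 (BT.leaf cE11252) (BT.leaf cE11253)) (BT.leaf cE11254)) (BT.node 11255 (BT.leaf cE11255) (BT.leaf cE11256))) (BT.node 11259 (BT.node 11258 (BT.node 11257 (BT.leaf cE11257) (BT.leaf cE11258)) (BT.leaf cE11259)) (BT.node 11260 (BT.leaf cE11260) (BT.leaf cE11261)))) (BT.node 11266 (BT.node 11264 (BT.node 11263 (BT.node 11262 (BT.leaf cE11262) (BT.leaf cE11263)) (BT.leaf cE11264)) (BT.node 11265 (BT.leaf cE11265) (BT.leaf cE11266))) (BT.node 11269 (BT.node 11268 (BT.node 11267 (BT.leaf cE11267) (BT.leaf cE11268)) (BT.leaf cE11269)) (BT.node 11270 (BT.leaf cE11270) (BT.leaf cE11271)))))) (BT.node 11291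 (BT.node 11281 (BT.node 11276 (BT.node 11274 (BT.node 11273 (BT.node 11272 (BT.leaf cE11272) (BT.leaf cE11273)) (BT.leaf cE11274)) (BT.node 11275 (BT.leaf cE11275) (BT.leaf cE11276))) (BT.node 11279 (BT.node 11278 (BT.node 11277 (BT.leaf cE11277) (BT.leaf cE11278)) (BT.leaf cE11279)) (BT.node 11280 (BT.leaf cE11280) (BT.leaf cE11281)))) (BT.node 11286 (BT.node 11284 (BT.node 11283 (BT.node 11282 (BT.leaf cE11282) (BT.leaf cE11283)) (BT.leaf cE11284)) (BT.node 11285 (BT.leaf cE11285) (BT.leaf cE11286))) (BT.node 11289 (BT.node 11288 (BT.node 11287 (BT.leaf cE11287) (BT.leaf cE11288)) (BT.leaf cE11289)) (BT.node 11290 (BT.leaf cE11290) (BT.leaf cE11291))))) (BT.node 11301 (BT.node 11296 (BT.node 11294 (BT.node 11293 (BT.node 11292 (BT.leaf cE11292) (BT.leaf cE11293)) (BT.leaf cE11294)) (BT.node 11295 (BT.leaf cE11295) (BT.leaf cE11296))) (BT.node 11299 (BT.node 11298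 (BT.node 11297 (BT.leaf cE11297) (BT.leaf cE11298)) (BT.leaf cE11299)) (BT.node 11300 (BT.leaf cE11300) (BT.leaf cE11301)))) (BT.node 11306 (BT.node 11304 (BT.node 11303 (BT.node 11302 (BT.leaf cE11302) (BT.leaf cE11303)) (BT.leaf cE11304)) (BT.node 11305 (BT.leaf cE11305) (BT.leaf cE11306))) (BT.node 11309 (BT.node 11308 (BT.node 11307 (BT.leaf cE11307) (BT.leaf cE11308)) (BT.leaf cE11309)) (BT.node 11310 (BT.leaf cE11310) (BT.leaf cE11311))))))))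
noncomputable def colET_70 : BT ℕ := (BT.node 11392 (BT.node 11352 (BT.node 11332 (BT.node 11322 (BT.node 11317 (BT.node 11314 (BT.node 11313 (BT.node 11312 (BT.leaf cE11312) (BT.leaf cE11313)) (BT.leaf cE11314)) (BT.node 11316 (BT.node 11315 (BT.leaf cE11315) (BT.leaf cE11316)) (BT.leaf cE11317))) (BT.node 11320 (BT.node 11319 (BT.node 11318 (BT.leaf cE11318) (BT.leaf cE11319)) (BT.leaf cE11320)) (BT.node 11321 (BT.leaf cE11321) (BT.leaf cE11322)))) (BT.node 11327 (BT.node 11325 (BT.node 11324 (BT.node 11323 (BT.leaf cE11323) (BT.leaf cE11324)) (BT.leaf cE11325)) (BT.node 11326 (BT.leaf cE11326) (BT.leaf cE11327))) (BT.node 11330 (BT.node 11329 (BT.node 11328 (BT.leaf cE11328) (BT.leaf cE11329)) (BT.leaf cE11330)) (BT.node 11331 (BT.leaf cE11331) (BT.leaf cE11332))))) (BT.node 11342 (BT.node 11337 (BT.node 11335 (BT.node 11334 (BT.node 11333 (BT.leaf cE11333) (BT.leaf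 cE11334)) (BT.leaf cE11335)) (BT.node 11336 (BT.leaf cE11336) (BT.leaf cE11337))) (BT.node 11340 (BT.node 11339 (BT.node 11338 (BT.leaf cE11338) (BT.leaf cE11339)) (BT.leaf cE11340)) (BT.node 11341 (BT.leaf cE11341) (BT.leaf cE11342)))) (BT.node 11347 (BT.node 11345 (BT.node 11344 (BT.node 11343 (BT.leaf cE11343) (BT.leaf cE11344)) (BT.leaf cE11345)) (BT.node 11346 (BT.leaf cE11346) (BT.leaf cE11347))) (BT.node 11350 (BT.node 11349 (BT.node 11348 (BT.leaf cE11348) (BT.leaf cE11349)) (BT.leaf cE11350)) (BT.node 11351 (BT.leaf cE11351) (BT.leaf cE11352)))))) (BT.node 11372 (BT.node 11362 (BT.node 11357 (BT.node 11355 (BT.node 11354 (BT.node 11353 (BT.leaf cE11353) (BT.leaf cE11354)) (BT.leaf cE11355)) (BT.node 11356 (BT.leaf cE11356) (BT.leaf cE11357))) (BT.node 11360 (BT.node 11359 (BT.node 11358 (BT.leaf cE11358) (BT.leaf cE11359)) (BT.leaf cE11360)) (BT.node 11361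 (BT.leaf cE11361) (BT.leaf cE11362)))) (BT.node 11367 (BT.node 11365 (BT.node 11364 (BT.node 11363 (BT.leaf cE11363) (BT.leaf cE11364)) (BT.leaf cE11365)) (BT.node 11366 (BT.leaf cE11366) (BT.leaf cE11367))) (BT.node 11370 (BT.node 11369 (BT.node 11368 (BT.leaf cE11368) (BT.leaf cE11369)) (BT.leaf cE11370)) (BT.node 11371 (BT.leaf cE11371) (BT.leaf cE11372))))) (BT.node 11382 (BT.node 11377 (BT.node 11375 (BT.node 11374 (BT.node 11373 (BT.leaf cE11373) (BT.leaf cE11374)) (BT.leaf cE11375)) (BT.node 11376 (BT.leaf cE11376) (BT.leaf cE11377))) (BT.node 11380 (BT.node 11379 (BT.node 11378 (BT.leaf cE11378) (BT.leaf cE11379)) (BT.leaf cE11380)) (BT.node 11381 (BT.leaf cE11381) (BT.leaf cE11382)))) (BT.node 11387 (BT.node 11385 (BT.node 11384 (BT.node 11383 (BT.leaf cE11383) (BT.leaf cE11384)) (BT.leaf cE11385)) (BT.node 11386 (BT.leaf cE11386) (BT.leaf cE11387))) (BT.node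 11390 (BT.node 11389 (BT.node 11388 (BT.leaf cE11388) (BT.leaf cE11389)) (BT.leaf cE11390)) (BT.node 11391 (BT.leaf cE11391) (BT.leaf cE11392))))))) (BT.node 11433 (BT.node 11413 (BT.node 11403 (BT.node 11398 (BT.node 11395 (BT.node 11394 (BT.node 11393 (BT.leaf cE11393) (BT.leaf cE11394)) (BT.leaf cE11395)) (BT.node 11397 (BT.node 11396 (BT.leaf cE11396) (BT.leaf cE11397)) (BT.leaf cE11398))) (BT.node 11401 (BT.node 11400 (BT.node 11399 (BT.leaf cE11399) (BT.leaf cE11400)) (BT.leaf cE11401)) (BT.node 11402 (BT.leaf cE11402) (BT.leaf cE11403)))) (BT.node 11408 (BT.node 11406 (BT.node 11405 (BT.node 11404 (BT.leaf cE11404) (BT.leaf cE11405)) (BT.leaf cE11406)) (BT.node 11407 (BT.leaf cE11407) (BT.leaf cE11408))) (BT.node 11411 (BT.node 11410 (BT.node 11409 (BT.leaf cE11409) (BT.leaf cE11410)) (BT.leaf cE11411)) (BT.node 11412 (BT.leaf cE11412) (BT.leaf cE11413)))))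 (BT.node 11423 (BT.node 11418 (BT.node 11416 (BT.node 11415 (BT.node 11414 (BT.leaf cE11414) (BT.leaf cE11415)) (BT.leaf cE11416)) (BT.node 11417 (BT.leaf cE11417) (BT.leaf cE11418))) (BT.node 11421 (BT.node 11420 (BT.node 11419 (BT.leaf cE11419) (BT.leaf cE11420)) (BT.leaf cE11421)) (BT.node 11422 (BT.leaf cE11422) (BT.leaf cE11423)))) (BT.node 11428 (BT.node 11426 (BT.node 11425 (BT.node 11424 (BT.leaf cE11424) (BT.leaf cE11425)) (BT.leaf cE11426)) (BT.node 11427 (BT.leaf cE11427) (BT.leaf cE11428))) (BT.node 11431 (BT.node 11430 (BT.node 11429 (BT.leaf cE11429) (BT.leaf cE11430)) (BT.leaf cE11431)) (BT.node 11432 (BT.leaf cE11432) (BT.leaf cE11433)))))) (BT.node 11453 (BT.node 11443 (BT.node 11438 (BT.node 11436 (BT.node 11435 (BT.node 11434 (BT.leaf cE11434) (BT.leaf cE11435)) (BT.leaf cE11436)) (BT.node 11437 (BT.leaf cE11437) (BT.leaf cE11438))) (BT.node 11441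 (BT.node 11440 (BT.node 11439 (BT.leaf cE11439) (BT.leaf cE11440)) (BT.leaf cE11441)) (BT.node 11442 (BT.leaf cE11442) (BT.leaf cE11443)))) (BT.node 11448 (BT.node 11446 (BT.node 11445 (BT.node 11444 (BT.leaf cE11444) (BT.leaf cE11445)) (BT.leaf cE11446)) (BT.node 11447 (BT.leaf cE11447) (BT.leaf cE11448))) (BT.node 11451 (BT.node 11450 (BT.node 11449 (BT.leaf cE11449) (BT.leaf cE11450)) (BT.leaf cE11451)) (BT.node 11452 (BT.leaf cE11452) (BT.leaf cE11453))))) (BT.node 11463 (BT.node 11458 (BT.node 11456 (BT.node 11455 (BT.node 11454 (BT.leaf cE11454) (BT.leaf cE11455)) (BT.leaf cE11456)) (BT.node 11457 (BT.leaf cE11457) (BT.leaf cE11458))) (BT.node 11461 (BT.node 11460 (BT.node 11459 (BT.leaf cE11459) (BT.leaf cE11460)) (BT.leaf cE11461)) (BT.node 11462 (BT.leaf cE11462) (BT.leaf cE11463)))) (BT.node 11468 (BT.node 11466 (BT.node 11465 (BT.node 11464 (BT.leaf cE11464)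 (BT.leaf cE11465)) (BT.leaf cE11466)) (BT.node 11467 (BT.leaf cE11467) (BT.leaf cE11468))) (BT.node 11471 (BT.node 11470 (BT.node 11469 (BT.leaf cE11469) (BT.leaf cE11470)) (BT.leaf cE11471)) (BT.node 11472 (BT.leaf cE11472) (BT.leaf cE11473))))))))
noncomputable def colET_71 : BT ℕ := (BT.node 11554 (BT.node 11514 (BT.node 11494 (BT.node 11484 (BT.node 11479 (BT.node 11476 (BT.node 11475 (BT.node 11474 (BT.leaf cE11474) (BT.leaf cE11475)) (BT.leaf cE11476)) (BT.node 11478 (BT.node 11477 (BT.leaf cE11477) (BT.leaf cE11478)) (BT.leaf cE11479))) (BT.node 11482 (BT.node 11481 (BT.node 11480 (BT.leaf cE11480) (BT.leaf cE11481)) (BT.leaf cE11482)) (BT.node 11483 (BT.leaf cE11483) (BT.leaf cE11484)))) (BT.node 11489 (BT.node 11487 (BT.node 11486 (BT.node 11485 (BT.leaf cE11485) (BT.leaf cE11486)) (BT.leaf cE11487)) (BT.node 11488 (BT.leaf cE11488) (BT.leaf cE11489))) (BT.node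 11492 (BT.node 11491 (BT.node 11490 (BT.leaf cE11490) (BT.leaf cE11491)) (BT.leaf cE11492)) (BT.node 11493 (BT.leaf cE11493) (BT.leaf cE11494))))) (BT.node 11504 (BT.node 11499 (BT.node 11497 (BT.node 11496 (BT.node 11495 (BT.leaf cE11495) (BT.leaf cE11496)) (BT.leaf cE11497)) (BT.node 11498 (BT.leaf cE11498) (BT.leaf cE11499))) (BT.node 11502 (BT.node 11501 (BT.node 11500 (BT.leaf cE11500) (BT.leaf cE11501)) (BT.leaf cE11502)) (BT.node 11503 (BT.leaf cE11503) (BT.leaf cE11504)))) (BT.node 11509 (BT.node 11507 (BT.node 11506 (BT.node 11505 (BT.leaf cE11505) (BT.leaf cE11506)) (BT.leaf cE11507)) (BT.node 11508 (BT.leaf cE11508) (BT.leaf cE11509))) (BT.node 11512 (BT.node 11511 (BT.node 11510 (BT.leaf cE11510) (BT.leaf cE11511)) (BT.leaf cE11512)) (BT.node 11513 (BT.leaf cE11513) (BT.leaf cE11514)))))) (BT.node 11534 (BT.node 11524 (BT.node 11519 (BT.node 11517 (BT.node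 11516 (BT.node 11515 (BT.leaf cE11515) (BT.leaf cE11516)) (BT.leaf cE11517)) (BT.node 11518 (BT.leaf cE11518) (BT.leaf cE11519))) (BT.node 11522 (BT.node 11521 (BT.node 11520 (BT.leaf cE11520) (BT.leaf cE11521)) (BT.leaf cE11522)) (BT.node 11523 (BT.leaf cE11523) (BT.leaf cE11524)))) (BT.node 11529 (BT.node 11527 (BT.node 11526 (BT.node 11525 (BT.leaf cE11525) (BT.leaf cE11526)) (BT.leaf cE11527)) (BT.node 11528 (BT.leaf cE11528) (BT.leaf cE11529))) (BT.node 11532 (BT.node 11531 (BT.node 11530 (BT.leaf cE11530) (BT.leaf cE11531)) (BT.leaf cE11532)) (BT.node 11533 (BT.leaf cE11533) (BT.leaf cE11534))))) (BT.node 11544 (BT.node 11539 (BT.node 11537 (BT.node 11536 (BT.node 11535 (BT.leaf cE11535) (BT.leaf cE11536)) (BT.leaf cE11537)) (BT.node 11538 (BT.leaf cE11538) (BT.leaf cE11539))) (BT.node 11542 (BT.node 11541 (BT.node 11540 (BT.leaf cE11540) (BT.leaf cE11541)) (BT.leaf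 cE11542)) (BT.node 11543 (BT.leaf cE11543) (BT.leaf cE11544)))) (BT.node 11549 (BT.node 11547 (BT.node 11546 (BT.node 11545 (BT.leaf cE11545) (BT.leaf cE11546)) (BT.leaf cE11547)) (BT.node 11548 (BT.leaf cE11548) (BT.leaf cE11549))) (BT.node 11552 (BT.node 11551 (BT.node 11550 (BT.leaf cE11550) (BT.leaf cE11551)) (BT.leaf cE11552)) (BT.node 11553 (BT.leaf cE11553) (BT.leaf cE11554))))))) (BT.node 11594 (BT.node 11574 (BT.node 11564 (BT.node 11559 (BT.node 11557 (BT.node 11556 (BT.node 11555 (BT.leaf cE11555) (BT.leaf cE11556)) (BT.leaf cE11557)) (BT.node 11558 (BT.leaf cE11558) (BT.leaf cE11559))) (BT.node 11562 (BT.node 11561 (BT.node 11560 (BT.leaf cE11560) (BT.leaf cE11561)) (BT.leaf cE11562)) (BT.node 11563 (BT.leaf cE11563) (BT.leaf cE11564)))) (BT.node 11569 (BT.node 11567 (BT.node 11566 (BT.node 11565 (BT.leaf cE11565) (BT.leaf cE11566)) (BT.leaf cE11567)) (BT.node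 11568 (BT.leaf cE11568) (BT.leaf cE11569))) (BT.node 11572 (BT.node 11571 (BT.node 11570 (BT.leaf cE11570) (BT.leaf cE11571)) (BT.leaf cE11572)) (BT.node 11573 (BT.leaf cE11573) (BT.leaf cE11574))))) (BT.node 11584 (BT.node 11579 (BT.node 11577 (BT.node 11576 (BT.node 11575 (BT.leaf cE11575) (BT.leaf cE11576)) (BT.leaf cE11577)) (BT.node 11578 (BT.leaf cE11578) (BT.leaf cE11579))) (BT.node 11582 (BT.node 11581 (BT.node 11580 (BT.leaf cE11580) (BT.leaf cE11581)) (BT.leaf cE11582)) (BT.node 11583 (BT.leaf cE11583) (BT.leaf cE11584)))) (BT.node 11589 (BT.node 11587 (BT.node 11586 (BT.node 11585 (BT.leaf cE11585) (BT.leaf cE11586)) (BT.leaf cE11587)) (BT.node 11588 (BT.leaf cE11588) (BT.leaf cE11589))) (BT.node 11592 (BT.node 11591 (BT.node 11590 (BT.leaf cE11590) (BT.leaf cE11591)) (BT.leaf cE11592)) (BT.node 11593 (BT.leaf cE11593) (BT.leaf cE11594)))))) (BT.node 11614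 (BT.node 11604 (BT.node 11599 (BT.node 11597 (BT.node 11596 (BT.node 11595 (BT.leaf cE11595) (BT.leaf cE11596)) (BT.leaf cE11597)) (BT.node 11598 (BT.leaf cE11598) (BT.leaf cE11599))) (BT.node 11602 (BT.node 11601 (BT.node 11600 (BT.leaf cE11600) (BT.leaf cE11601)) (BT.leaf cE11602)) (BT.node 11603 (BT.leaf cE11603) (BT.leaf cE11604)))) (BT.node 11609 (BT.node 11607 (BT.node 11606 (BT.node 11605 (BT.leaf cE11605) (BT.leaf cE11606)) (BT.leaf cE11607)) (BT.node 11608 (BT.leaf cE11608) (BT.leaf cE11609))) (BT.node 11612 (BT.node 11611 (BT.node 11610 (BT.leaf cE11610) (BT.leaf cE11611)) (BT.leaf cE11612)) (BT.node 11613 (BT.leaf cE11613) (BT.leaf cE11614))))) (BT.node 11624 (BT.node 11619 (BT.node 11617 (BT.node 11616 (BT.node 11615 (BT.leaf cE11615) (BT.leaf cE11616)) (BT.leaf cE11617)) (BT.node 11618 (BT.leaf cE11618) (BT.leaf cE11619))) (BT.node 11622 (BT.node 11621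 (BT.node 11620 (BT.leaf cE11620) (BT.leaf cE11621)) (BT.leaf cE11622)) (BT.node 11623 (BT.leaf cE11623) (BT.leaf cE11624)))) (BT.node 11629 (BT.node 11627 (BT.node 11626 (BT.node 11625 (BT.leaf cE11625) (BT.leaf cE11626)) (BT.leaf cE11627)) (BT.node 11628 (BT.leaf cE11628) (BT.leaf cE11629))) (BT.node 11632 (BT.node 11631 (BT.node 11630 (BT.leaf cE11630) (BT.leaf cE11631)) (BT.leaf cE11632)) (BT.node 11633 (BT.leaf cE11633) (BT.leaf cE11634))))))))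
noncomputable def colET_72 : BT ℕ := (BT.node 11715 (BT.node 11675 (BT.node 11655 (BT.node 11645 (BT.node 11640 (BT.node 11637 (BT.node 11636 (BT.node 11635 (BT.leaf cE11635) (BT.leaf cE11636)) (BT.leaf cE11637)) (BT.node 11639 (BT.node 11638 (BT.leaf cE11638) (BT.leaf cE11639)) (BT.leaf cE11640))) (BT.node 11643 (BT.node 11642 (BT.node 11641 (BT.leaf cE11641) (BT.leaf cE11642)) (BT.leaf cE11643)) (BT.node 11644 (BT.leaf cE11644) (BT.leaf cE11645)))) (BT.node 11650 (BT.node 11648 (BT.node 11647 (BT.node 11646 (BT.leaf cE11646) (BT.leaf cE11647)) (BT.leaf cE11648)) (BT.node 11649 (BT.leaf cE11649) (BT.leaf cE11650))) (BT.node 11653 (BT.node 11652 (BT.node 11651 (BT.leaf cE11651) (BT.leaf cE11652)) (BT.leaf cE11653)) (BT.node 11654 (BT.leaf cE11654) (BT.leaf cE11655))))) (BT.node 11665 (BT.node 11660 (BT.node 11658 (BT.node 11657 (BT.node 11656 (BT.leaf cE11656) (BT.leaf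 cE11657)) (BT.leaf cE11658)) (BT.node 11659 (BT.leaf cE11659) (BT.leaf cE11660))) (BT.node 11663 (BT.node 11662 (BT.node 11661 (BT.leaf cE11661) (BT.leaf cE11662)) (BT.leaf cE11663)) (BT.node 11664 (BT.leaf cE11664) (BT.leaf cE11665)))) (BT.node 11670 (BT.node 11668 (BT.node 11667 (BT.node 11666 (BT.leaf cE11666) (BT.leaf cE11667)) (BT.leaf cE11668)) (BT.node 11669 (BT.leaf cE11669) (BT.leaf cE11670))) (BT.node 11673 (BT.node 11672 (BT.node 11671 (BT.leaf cE11671) (BT.leaf cE11672)) (BT.leaf cE11673)) (BT.node 11674 (BT.leaf cE11674) (BT.leaf cE11675)))))) (BT.node 11695 (BT.node 11685 (BT.node 11680 (BT.node 11678 (BT.node 11677 (BT.node 11676 (BT.leaf cE11676) (BT.leaf cE11677)) (BT.leaf cE11678)) (BT.node 11679 (BT.leaf cE11679) (BT.leaf cE11680))) (BT.node 11683 (BT.node 11682 (BT.node 11681 (BT.leaf cE11681) (BT.leaf cE11682)) (BT.leaf cE11683)) (BT.node 11684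 (BT.leaf cE11684) (BT.leaf cE11685)))) (BT.node 11690 (BT.node 11688 (BT.node 11687 (BT.node 11686 (BT.leaf cE11686) (BT.leaf cE11687)) (BT.leaf cE11688)) (BT.node 11689 (BT.leaf cE11689) (BT.leaf cE11690))) (BT.node 11693 (BT.node 11692 (BT.node 11691 (BT.leaf cE11691) (BT.leaf cE11692)) (BT.leaf cE11693)) (BT.node 11694 (BT.leaf cE11694) (BT.leaf cE11695))))) (BT.node 11705 (BT.node 11700 (BT.node 11698 (BT.node 11697 (BT.node 11696 (BT.leaf cE11696) (BT.leaf cE11697)) (BT.leaf cE11698)) (BT.node 11699 (BT.leaf cE11699) (BT.leaf cE11700))) (BT.node 11703 (BT.node 11702 (BT.node 11701 (BT.leaf cE11701) (BT.leaf cE11702)) (BT.leaf cE11703)) (BT.node 11704 (BT.leaf cE11704) (BT.leaf cE11705)))) (BT.node 11710 (BT.node 11708 (BT.node 11707 (BT.node 11706 (BT.leaf cE11706) (BT.leaf cE11707)) (BT.leaf cE11708)) (BT.node 11709 (BT.leaf cE11709) (BT.leaf cE11710))) (BT.node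 11713 (BT.node 11712 (BT.node 11711 (BT.leaf cE11711) (BT.leaf cE11712)) (BT.leaf cE11713)) (BT.node 11714 (BT.leaf cE11714) (BT.leaf cE11715))))))) (BT.node 11756 (BT.node 11736 (BT.node 11726 (BT.node 11721 (BT.node 11718 (BT.node 11717 (BT.node 11716 (BT.leaf cE11716) (BT.leaf cE11717)) (BT.leaf cE11718)) (BT.node 11720 (BT.node 11719 (BT.leaf cE11719) (BT.leaf cE11720)) (BT.leaf cE11721))) (BT.node 11724 (BT.node 11723 (BT.node 11722 (BT.leaf cE11722) (BT.leaf cE11723)) (BT.leaf cE11724)) (BT.node 11725 (BT.leaf cE11725) (BT.leaf cE11726)))) (BT.node 11731 (BT.node 11729 (BT.node 11728 (BT.node 11727 (BT.leaf cE11727) (BT.leaf cE11728)) (BT.leaf cE11729)) (BT.node 11730 (BT.leaf cE11730) (BT.leaf cE11731))) (BT.node 11734 (BT.node 11733 (BT.node 11732 (BT.leaf cE11732) (BT.leaf cE11733)) (BT.leaf cE11734)) (BT.node 11735 (BT.leaf cE11735) (BT.leaf cE11736)))))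 (BT.node 11746 (BT.node 11741 (BT.node 11739 (BT.node 11738 (BT.node 11737 (BT.leaf cE11737) (BT.leaf cE11738)) (BT.leaf cE11739)) (BT.node 11740 (BT.leaf cE11740) (BT.leaf cE11741))) (BT.node 11744 (BT.node 11743 (BT.node 11742 (BT.leaf cE11742) (BT.leaf cE11743)) (BT.leaf cE11744)) (BT.node 11745 (BT.leaf cE11745) (BT.leaf cE11746)))) (BT.node 11751 (BT.node 11749 (BT.node 11748 (BT.node 11747 (BT.leaf cE11747) (BT.leaf cE11748)) (BT.leaf cE11749)) (BT.node 11750 (BT.leaf cE11750) (BT.leaf cE11751))) (BT.node 11754 (BT.node 11753 (BT.node 11752 (BT.leaf cE11752) (BT.leaf cE11753)) (BT.leaf cE11754)) (BT.node 11755 (BT.leaf cE11755) (BT.leaf cE11756)))))) (BT.node 11776 (BT.node 11766 (BT.node 11761 (BT.node 11759 (BT.node 11758 (BT.node 11757 (BT.leaf cE11757) (BT.leaf cE11758)) (BT.leaf cE11759)) (BT.node 11760 (BT.leaf cE11760) (BT.leaf cE11761))) (BT.node 11764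 (BT.node 11763 (BT.node 11762 (BT.leaf cE11762) (BT.leaf cE11763)) (BT.leaf cE11764)) (BT.node 11765 (BT.leaf cE11765) (BT.leaf cE11766)))) (BT.node 11771 (BT.node 11769 (BT.node 11768 (BT.node 11767 (BT.leaf cE11767) (BT.leaf cE11768)) (BT.leaf cE11769)) (BT.node 11770 (BT.leaf cE11770) (BT.leaf cE11771))) (BT.node 11774 (BT.node 11773 (BT.node 11772 (BT.leaf cE11772) (BT.leaf cE11773)) (BT.leaf cE11774)) (BT.node 11775 (BT.leaf cE11775) (BT.leaf cE11776))))) (BT.node 11786 (BT.node 11781 (BT.node 11779 (BT.node 11778 (BT.node 11777 (BT.leaf cE11777) (BT.leaf cE11778)) (BT.leaf cE11779)) (BT.node 11780 (BT.leaf cE11780) (BT.leaf cE11781))) (BT.node 11784 (BT.node 11783 (BT.node 11782 (BT.leaf cE11782) (BT.leaf cE11783)) (BT.leaf cE11784)) (BT.node 11785 (BT.leaf cE11785) (BT.leaf cE11786)))) (BT.node 11791 (BT.node 11789 (BT.node 11788 (BT.node 11787 (BT.leaf cE11787)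 (BT.leaf cE11788)) (BT.leaf cE11789)) (BT.node 11790 (BT.leaf cE11790) (BT.leaf cE11791))) (BT.node 11794 (BT.node 11793 (BT.node 11792 (BT.leaf cE11792) (BT.leaf cE11793)) (BT.leaf cE11794)) (BT.node 11795 (BT.leaf cE11795) (BT.leaf cE11796))))))))
noncomputable def colET_73 : BT ℕ := (BT.node 11877 (BT.node 11837 (BT.node 11817 (BT.node 11807 (BT.node 11802 (BT.node 11799 (BT.node 11798 (BT.node 11797 (BT.leaf cE11797) (BT.leaf cE11798)) (BT.leaf cE11799)) (BT.node 11801 (BT.node 11800 (BT.leaf cE11800) (BT.leaf cE11801)) (BT.leaf cE11802))) (BT.node 11805 (BT.node 11804 (BT.node 11803 (BT.leaf cE11803) (BT.leaf cE11804)) (BT.leaf cE11805)) (BT.node 11806 (BT.leaf cE11806) (BT.leaf cE11807)))) (BT.node 11812 (BT.node 11810 (BT.node 11809 (BT.node 11808 (BT.leaf cE11808) (BT.leaf cE11809)) (BT.leaf cE11810)) (BT.node 11811 (BT.leaf cE11811) (BT.leaf cE11812))) (BT.node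 11815 (BT.node 11814 (BT.node 11813 (BT.leaf cE11813) (BT.leaf cE11814)) (BT.leaf cE11815)) (BT.node 11816 (BT.leaf cE11816) (BT.leaf cE11817))))) (BT.node 11827 (BT.node 11822 (BT.node 11820 (BT.node 11819 (BT.node 11818 (BT.leaf cE11818) (BT.leaf cE11819)) (BT.leaf cE11820)) (BT.node 11821 (BT.leaf cE11821) (BT.leaf cE11822))) (BT.node 11825 (BT.node 11824 (BT.node 11823 (BT.leaf cE11823) (BT.leaf cE11824)) (BT.leaf cE11825)) (BT.node 11826 (BT.leaf cE11826) (BT.leaf cE11827)))) (BT.node 11832 (BT.node 11830 (BT.node 11829 (BT.node 11828 (BT.leaf cE11828) (BT.leaf cE11829)) (BT.leaf cE11830)) (BT.node 11831 (BT.leaf cE11831) (BT.leaf cE11832))) (BT.node 11835 (BT.node 11834 (BT.node 11833 (BT.leaf cE11833) (BT.leaf cE11834)) (BT.leaf cE11835)) (BT.node 11836 (BT.leaf cE11836) (BT.leaf cE11837)))))) (BT.node 11857 (BT.node 11847 (BT.node 11842 (BT.node 11840 (BT.node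 11839 (BT.node 11838 (BT.leaf cE11838) (BT.leaf cE11839)) (BT.leaf cE11840)) (BT.node 11841 (BT.leaf cE11841) (BT.leaf cE11842))) (BT.node 11845 (BT.node 11844 (BT.node 11843 (BT.leaf cE11843) (BT.leaf cE11844)) (BT.leaf cE11845)) (BT.node 11846 (BT.leaf cE11846) (BT.leaf cE11847)))) (BT.node 11852 (BT.node 11850 (BT.node 11849 (BT.node 11848 (BT.leaf cE11848) (BT.leaf cE11849)) (BT.leaf cE11850)) (BT.node 11851 (BT.leaf cE11851) (BT.leaf cE11852))) (BT.node 11855 (BT.node 11854 (BT.node 11853 (BT.leaf cE11853) (BT.leaf cE11854)) (BT.leaf cE11855)) (BT.node 11856 (BT.leaf cE11856) (BT.leaf cE11857))))) (BT.node 11867 (BT.node 11862 (BT.node 11860 (BT.node 11859 (BT.node 11858 (BT.leaf cE11858) (BT.leaf cE11859)) (BT.leaf cE11860)) (BT.node 11861 (BT.leaf cE11861) (BT.leaf cE11862))) (BT.node 11865 (BT.node 11864 (BT.node 11863 (BT.leaf cE11863) (BT.leaf cE11864)) (BT.leaf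 cE11865)) (BT.node 11866 (BT.leaf cE11866) (BT.leaf cE11867)))) (BT.node 11872 (BT.node 11870 (BT.node 11869 (BT.node 11868 (BT.leaf cE11868) (BT.leaf cE11869)) (BT.leaf cE11870)) (BT.node 11871 (BT.leaf cE11871) (BT.leaf cE11872))) (BT.node 11875 (BT.node 11874 (BT.node 11873 (BT.leaf cE11873) (BT.leaf cE11874)) (BT.leaf cE11875)) (BT.node 11876 (BT.leaf cE11876) (BT.leaf cE11877))))))) (BT.node 11918 (BT.node 11898 (BT.node 11888 (BT.node 11883 (BT.node 11880 (BT.node 11879 (BT.node 11878 (BT.leaf cE11878) (BT.leaf cE11879)) (BT.leaf cE11880)) (BT.node 11882 (BT.node 11881 (BT.leaf cE11881) (BT.leaf cE11882)) (BT.leaf cE11883))) (BT.node 11886 (BT.node 11885 (BT.node 11884 (BT.leaf cE11884) (BT.leaf cE11885)) (BT.leaf cE11886)) (BT.node 11887 (BT.leaf cE11887) (BT.leaf cE11888)))) (BT.node 11893 (BT.node 11891 (BT.node 11890 (BT.node 11889 (BT.leaf cE11889) (BT.leaf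 cE11890)) (BT.leaf cE11891)) (BT.node 11892 (BT.leaf cE11892) (BT.leaf cE11893))) (BT.node 11896 (BT.node 11895 (BT.node 11894 (BT.leaf cE11894) (BT.leaf cE11895)) (BT.leaf cE11896)) (BT.node 11897 (BT.leaf cE11897) (BT.leaf cE11898))))) (BT.node 11908 (BT.node 11903 (BT.node 11901 (BT.node 11900 (BT.node 11899 (BT.leaf cE11899) (BT.leaf cE11900)) (BT.leaf cE11901)) (BT.node 11902 (BT.leaf cE11902) (BT.leaf cE11903))) (BT.node 11906 (BT.node 11905 (BT.node 11904 (BT.leaf cE11904) (BT.leaf cE11905)) (BT.leaf cE11906)) (BT.node 11907 (BT.leaf cE11907) (BT.leaf cE11908)))) (BT.node 11913 (BT.node 11911 (BT.node 11910 (BT.node 11909 (BT.leaf cE11909) (BT.leaf cE11910)) (BT.leaf cE11911)) (BT.node 11912 (BT.leaf cE11912) (BT.leaf cE11913))) (BT.node 11916 (BT.node 11915 (BT.node 11914 (BT.leaf cE11914) (BT.leaf cE11915)) (BT.leaf cE11916)) (BT.node 11917 (BT.leaf cE11917)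 (BT.leaf cE11918)))))) (BT.node 11938 (BT.node 11928 (BT.node 11923 (BT.node 11921 (BT.node 11920 (BT.node 11919 (BT.leaf cE11919) (BT.leaf cE11920)) (BT.leaf cE11921)) (BT.node 11922 (BT.leaf cE11922) (BT.leaf cE11923))) (BT.node 11926 (BT.node 11925 (BT.node 11924 (BT.leaf cE11924) (BT.leaf cE11925)) (BT.leaf cE11926)) (BT.node 11927 (BT.leaf cE11927) (BT.leaf cE11928)))) (BT.node 11933 (BT.node 11931 (BT.node 11930 (BT.node 11929 (BT.leaf cE11929) (BT.leaf cE11930)) (BT.leaf cE11931)) (BT.node 11932 (BT.leaf cE11932) (BT.leaf cE11933))) (BT.node 11936 (BT.node 11935 (BT.node 11934 (BT.leaf cE11934) (BT.leaf cE11935)) (BT.leaf cE11936)) (BT.node 11937 (BT.leaf cE11937) (BT.leaf cE11938))))) (BT.node 11948 (BT.node 11943 (BT.node 11941 (BT.node 11940 (BT.node 11939 (BT.leaf cE11939) (BT.leaf cE11940)) (BT.leaf cE11941)) (BT.node 11942 (BT.leaf cE11942) (BT.leaf cE11943)))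 (BT.node 11946 (BT.node 11945 (BT.node 11944 (BT.leaf cE11944) (BT.leaf cE11945)) (BT.leaf cE11946)) (BT.node 11947 (BT.leaf cE11947) (BT.leaf cE11948)))) (BT.node 11953 (BT.node 11951 (BT.node 11950 (BT.node 11949 (BT.leaf cE11949) (BT.leaf cE11950)) (BT.leaf cE11951)) (BT.node 11952 (BT.leaf cE11952) (BT.leaf cE11953))) (BT.node 11956 (BT.node 11955 (BT.node 11954 (BT.leaf cE11954) (BT.leaf cE11955)) (BT.leaf cE11956)) (BT.node 11957 (BT.leaf cE11957) (BT.leaf cE11958))))))))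
noncomputable def colET_74 : BT ℕ := (BT.node 12039 (BT.node 11999 (BT.node 11979 (BT.node 11969 (BT.node 11964 (BT.node 11961 (BT.node 11960 (BT.node 11959 (BT.leaf cE11959) (BT.leaf cE11960)) (BT.leaf cE11961)) (BT.node 11963 (BT.node 11962 (BT.leaf cE11962) (BT.leaf cE11963)) (BT.leaf cE11964))) (BT.node 11967 (BT.node 11966 (BT.node 11965 (BT.leaf cE11965) (BT.leaf cE11966)) (BT.leaf cE11967)) (BT.node 11968 (BT.leaf cE11968) (BT.leaf cE11969)))) (BT.node 11974 (BT.node 11972 (BT.node 11971 (BT.node 11970 (BT.leaf cE11970) (BT.leaf cE11971)) (BT.leaf cE11972)) (BT.node 11973 (BT.leaf cE11973) (BT.leaf cE11974))) (BT.node 11977 (BT.node 11976 (BT.node 11975 (BT.leaf cE11975) (BT.leaf cE11976)) (BT.leaf cE11977)) (BT.node 11978 (BT.leaf cE11978) (BT.leaf cE11979))))) (BT.node 11989 (BT.node 11984 (BT.node 11982 (BT.node 11981 (BT.node 11980 (BT.leaf cE11980) (BT.leaf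 cE11981)) (BT.leaf cE11982)) (BT.node 11983 (BT.leaf cE11983) (BT.leaf cE11984))) (BT.node 11987 (BT.node 11986 (BT.node 11985 (BT.leaf cE11985) (BT.leaf cE11986)) (BT.leaf cE11987)) (BT.node 11988 (BT.leaf cE11988) (BT.leaf cE11989)))) (BT.node 11994 (BT.node 11992 (BT.node 11991 (BT.node 11990 (BT.leaf cE11990) (BT.leaf cE11991)) (BT.leaf cE11992)) (BT.node 11993 (BT.leaf cE11993) (BT.leaf cE11994))) (BT.node 11997 (BT.node 11996 (BT.node 11995 (BT.leaf cE11995) (BT.leaf cE11996)) (BT.leaf cE11997)) (BT.node 11998 (BT.leaf cE11998) (BT.leaf cE11999)))))) (BT.node 12019 (BT.node 12009 (BT.node 12004 (BT.node 12002 (BT.node 12001 (BT.node 12000 (BT.leaf cE12000) (BT.leaf cE12001)) (BT.leaf cE12002)) (BT.node 12003 (BT.leaf cE12003) (BT.leaf cE12004))) (BT.node 12007 (BT.node 12006 (BT.node 12005 (BT.leaf cE12005) (BT.leaf cE12006)) (BT.leaf cE12007)) (BT.node 12008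 (BT.leaf cE12008) (BT.leaf cE12009)))) (BT.node 12014 (BT.node 12012 (BT.node 12011 (BT.node 12010 (BT.leaf cE12010) (BT.leaf cE12011)) (BT.leaf cE12012)) (BT.node 12013 (BT.leaf cE12013) (BT.leaf cE12014))) (BT.node 12017 (BT.node 12016 (BT.node 12015 (BT.leaf cE12015) (BT.leaf cE12016)) (BT.leaf cE12017)) (BT.node 12018 (BT.leaf cE12018) (BT.leaf cE12019))))) (BT.node 12029 (BT.node 12024 (BT.node 12022 (BT.node 12021 (BT.node 12020 (BT.leaf cE12020) (BT.leaf cE12021)) (BT.leaf cE12022)) (BT.node 12023 (BT.leaf cE12023) (BT.leaf cE12024))) (BT.node 12027 (BT.node 12026 (BT.node 12025 (BT.leaf cE12025) (BT.leaf cE12026)) (BT.leaf cE12027)) (BT.node 12028 (BT.leaf cE12028) (BT.leaf cE12029)))) (BT.node 12034 (BT.node 12032 (BT.node 12031 (BT.node 12030 (BT.leaf cE12030) (BT.leaf cE12031)) (BT.leaf cE12032)) (BT.node 12033 (BT.leaf cE12033) (BT.leaf cE12034))) (BT.node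 12037 (BT.node 12036 (BT.node 12035 (BT.leaf cE12035) (BT.leaf cE12036)) (BT.leaf cE12037)) (BT.node 12038 (BT.leaf cE12038) (BT.leaf cE12039))))))) (BT.node 12080 (BT.node 12060 (BT.node 12050 (BT.node 12045 (BT.node 12042 (BT.node 12041 (BT.node 12040 (BT.leaf cE12040) (BT.leaf cE12041)) (BT.leaf cE12042)) (BT.node 12044 (BT.node 12043 (BT.leaf cE12043) (BT.leaf cE12044)) (BT.leaf cE12045))) (BT.node 12048 (BT.node 12047 (BT.node 12046 (BT.leaf cE12046) (BT.leaf cE12047)) (BT.leaf cE12048)) (BT.node 12049 (BT.leaf cE12049) (BT.leaf cE12050)))) (BT.node 12055 (BT.node 12053 (BT.node 12052 (BT.node 12051 (BT.leaf cE12051) (BT.leaf cE12052)) (BT.leaf cE12053)) (BT.node 12054 (BT.leaf cE12054) (BT.leaf cE12055))) (BT.node 12058 (BT.node 12057 (BT.node 12056 (BT.leaf cE12056) (BT.leaf cE12057)) (BT.leaf cE12058)) (BT.node 12059 (BT.leaf cE12059) (BT.leaf cE12060)))))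 (BT.node 12070 (BT.node 12065 (BT.node 12063 (BT.node 12062 (BT.node 12061 (BT.leaf cE12061) (BT.leaf cE12062)) (BT.leaf cE12063)) (BT.node 12064 (BT.leaf cE12064) (BT.leaf cE12065))) (BT.node 12068 (BT.node 12067 (BT.node 12066 (BT.leaf cE12066) (BT.leaf cE12067)) (BT.leaf cE12068)) (BT.node 12069 (BT.leaf cE12069) (BT.leaf cE12070)))) (BT.node 12075 (BT.node 12073 (BT.node 12072 (BT.node 12071 (BT.leaf cE12071) (BT.leaf cE12072)) (BT.leaf cE12073)) (BT.node 12074 (BT.leaf cE12074) (BT.leaf cE12075))) (BT.node 12078 (BT.node 12077 (BT.node 12076 (BT.leaf cE12076) (BT.leaf cE12077)) (BT.leaf cE12078)) (BT.node 12079 (BT.leaf cE12079) (BT.leaf cE12080)))))) (BT.node 12100 (BT.node 12090 (BT.node 12085 (BT.node 12083 (BT.node 12082 (BT.node 12081 (BT.leaf cE12081) (BT.leaf cE12082)) (BT.leaf cE12083)) (BT.node 12084 (BT.leaf cE12084) (BT.leaf cE12085))) (BT.node 12088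 (BT.node 12087 (BT.node 12086 (BT.leaf cE12086) (BT.leaf cE12087)) (BT.leaf cE12088)) (BT.node 12089 (BT.leaf cE12089) (BT.leaf cE12090)))) (BT.node 12095 (BT.node 12093 (BT.node 12092 (BT.node 12091 (BT.leaf cE12091) (BT.leaf cE12092)) (BT.leaf cE12093)) (BT.node 12094 (BT.leaf cE12094) (BT.leaf cE12095))) (BT.node 12098 (BT.node 12097 (BT.node 12096 (BT.leaf cE12096) (BT.leaf cE12097)) (BT.leaf cE12098)) (BT.node 12099 (BT.leaf cE12099) (BT.leaf cE12100))))) (BT.node 12110 (BT.node 12105 (BT.node 12103 (BT.node 12102 (BT.node 12101 (BT.leaf cE12101) (BT.leaf cE12102)) (BT.leaf cE12103)) (BT.node 12104 (BT.leaf cE12104) (BT.leaf cE12105))) (BT.node 12108 (BT.node 12107 (BT.node 12106 (BT.leaf cE12106) (BT.leaf cE12107)) (BT.leaf cE12108)) (BT.node 12109 (BT.leaf cE12109) (BT.leaf cE12110)))) (BT.node 12115 (BT.node 12113 (BT.node 12112 (BT.node 12111 (BT.leaf cE12111)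 (BT.leaf cE12112)) (BT.leaf cE12113)) (BT.node 12114 (BT.leaf cE12114) (BT.leaf cE12115))) (BT.node 12118 (BT.node 12117 (BT.node 12116 (BT.leaf cE12116) (BT.leaf cE12117)) (BT.leaf cE12118)) (BT.node 12119 (BT.leaf cE12119) (BT.leaf cE12120))))))))
noncomputable def colET_75 : BT ℕ := (BT.node 12201 (BT.node 12161 (BT.node 12141 (BT.node 12131 (BT.node 12126 (BT.node 12123 (BT.node 12122 (BT.node 12121 (BT.leaf cE12121) (BT.leaf cE12122)) (BT.leaf cE12123)) (BT.node 12125 (BT.node 12124 (BT.leaf cE12124) (BT.leaf cE12125)) (BT.leaf cE12126))) (BT.node 12129 (BT.node 12128 (BT.node 12127 (BT.leaf cE12127) (BT.leaf cE12128)) (BT.leaf cE12129)) (BT.node 12130 (BT.leaf cE12130) (BT.leaf cE12131)))) (BT.node 12136 (BT.node 12134 (BT.node 12133 (BT.node 12132 (BT.leaf cE12132) (BT.leaf cE12133)) (BT.leaf cE12134)) (BT.node 12135 (BT.leaf cE12135) (BT.leaf cE12136))) (BT.node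 12139 (BT.node 12138 (BT.node 12137 (BT.leaf cE12137) (BT.leaf cE12138)) (BT.leaf cE12139)) (BT.node 12140 (BT.leaf cE12140) (BT.leaf cE12141))))) (BT.node 12151 (BT.node 12146 (BT.node 12144 (BT.node 12143 (BT.node 12142 (BT.leaf cE12142) (BT.leaf cE12143)) (BT.leaf cE12144)) (BT.node 12145 (BT.leaf cE12145) (BT.leaf cE12146))) (BT.node 12149 (BT.node 12148 (BT.node 12147 (BT.leaf cE12147) (BT.leaf cE12148)) (BT.leaf cE12149)) (BT.node 12150 (BT.leaf cE12150) (BT.leaf cE12151)))) (BT.node 12156 (BT.node 12154 (BT.node 12153 (BT.node 12152 (BT.leaf cE12152) (BT.leaf cE12153)) (BT.leaf cE12154)) (BT.node 12155 (BT.leaf cE12155) (BT.leaf cE12156))) (BT.node 12159 (BT.node 12158 (BT.node 12157 (BT.leaf cE12157) (BT.leaf cE12158)) (BT.leaf cE12159)) (BT.node 12160 (BT.leaf cE12160) (BT.leaf cE12161)))))) (BT.node 12181 (BT.node 12171 (BT.node 12166 (BT.node 12164 (BT.node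 12163 (BT.node 12162 (BT.leaf cE12162) (BT.leaf cE12163)) (BT.leaf cE12164)) (BT.node 12165 (BT.leaf cE12165) (BT.leaf cE12166))) (BT.node 12169 (BT.node 12168 (BT.node 12167 (BT.leaf cE12167) (BT.leaf cE12168)) (BT.leaf cE12169)) (BT.node 12170 (BT.leaf cE12170) (BT.leaf cE12171)))) (BT.node 12176 (BT.node 12174 (BT.node 12173 (BT.node 12172 (BT.leaf cE12172) (BT.leaf cE12173)) (BT.leaf cE12174)) (BT.node 12175 (BT.leaf cE12175) (BT.leaf cE12176))) (BT.node 12179 (BT.node 12178 (BT.node 12177 (BT.leaf cE12177) (BT.leaf cE12178)) (BT.leaf cE12179)) (BT.node 12180 (BT.leaf cE12180) (BT.leaf cE12181))))) (BT.node 12191 (BT.node 12186 (BT.node 12184 (BT.node 12183 (BT.node 12182 (BT.leaf cE12182) (BT.leaf cE12183)) (BT.leaf cE12184)) (BT.node 12185 (BT.leaf cE12185) (BT.leaf cE12186))) (BT.node 12189 (BT.node 12188 (BT.node 12187 (BT.leaf cE12187) (BT.leaf cE12188)) (BT.leaf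 cE12189)) (BT.node 12190 (BT.leaf cE12190) (BT.leaf cE12191)))) (BT.node 12196 (BT.node 12194 (BT.node 12193 (BT.node 12192 (BT.leaf cE12192) (BT.leaf cE12193)) (BT.leaf cE12194)) (BT.node 12195 (BT.leaf cE12195) (BT.leaf cE12196))) (BT.node 12199 (BT.node 12198 (BT.node 12197 (BT.leaf cE12197) (BT.leaf cE12198)) (BT.leaf cE12199)) (BT.node 12200 (BT.leaf cE12200) (BT.leaf cE12201))))))) (BT.node 12241 (BT.node 12221 (BT.node 12211 (BT.node 12206 (BT.node 12204 (BT.node 12203 (BT.node 12202 (BT.leaf cE12202) (BT.leaf cE12203)) (BT.leaf cE12204)) (BT.node 12205 (BT.leaf cE12205) (BT.leaf cE12206))) (BT.node 12209 (BT.node 12208 (BT.node 12207 (BT.leaf cE12207) (BT.leaf cE12208)) (BT.leaf cE12209)) (BT.node 12210 (BT.leaf cE12210) (BT.leaf cE12211)))) (BT.node 12216 (BT.node 12214 (BT.node 12213 (BT.node 12212 (BT.leaf cE12212) (BT.leaf cE12213)) (BT.leaf cE12214)) (BT.node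 12215 (BT.leaf cE12215) (BT.leaf cE12216))) (BT.node 12219 (BT.node 12218 (BT.node 12217 (BT.leaf cE12217) (BT.leaf cE12218)) (BT.leaf cE12219)) (BT.node 12220 (BT.leaf cE12220) (BT.leaf cE12221))))) (BT.node 12231 (BT.node 12226 (BT.node 12224 (BT.node 12223 (BT.node 12222 (BT.leaf cE12222) (BT.leaf cE12223)) (BT.leaf cE12224)) (BT.node 12225 (BT.leaf cE12225) (BT.leaf cE12226))) (BT.node 12229 (BT.node 12228 (BT.node 12227 (BT.leaf cE12227) (BT.leaf cE12228)) (BT.leaf cE12229)) (BT.node 12230 (BT.leaf cE12230) (BT.leaf cE12231)))) (BT.node 12236 (BT.node 12234 (BT.node 12233 (BT.node 12232 (BT.leaf cE12232) (BT.leaf cE12233)) (BT.leaf cE12234)) (BT.node 12235 (BT.leaf cE12235) (BT.leaf cE12236))) (BT.node 12239 (BT.node 12238 (BT.node 12237 (BT.leaf cE12237) (BT.leaf cE12238)) (BT.leaf cE12239)) (BT.node 12240 (BT.leaf cE12240) (BT.leaf cE12241)))))) (BT.node 12261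 (BT.node 12251 (BT.node 12246 (BT.node 12244 (BT.node 12243 (BT.node 12242 (BT.leaf cE12242) (BT.leaf cE12243)) (BT.leaf cE12244)) (BT.node 12245 (BT.leaf cE12245) (BT.leaf cE12246))) (BT.node 12249 (BT.node 12248 (BT.node 12247 (BT.leaf cE12247) (BT.leaf cE12248)) (BT.leaf cE12249)) (BT.node 12250 (BT.leaf cE12250) (BT.leaf cE12251)))) (BT.node 12256 (BT.node 12254 (BT.node 12253 (BT.node 12252 (BT.leaf cE12252) (BT.leaf cE12253)) (BT.leaf cE12254)) (BT.node 12255 (BT.leaf cE12255) (BT.leaf cE12256))) (BT.node 12259 (BT.node 12258 (BT.node 12257 (BT.leaf cE12257) (BT.leaf cE12258)) (BT.leaf cE12259)) (BT.node 12260 (BT.leaf cE12260) (BT.leaf cE12261))))) (BT.node 12271 (BT.node 12266 (BT.node 12264 (BT.node 12263 (BT.node 12262 (BT.leaf cE12262) (BT.leaf cE12263)) (BT.leaf cE12264)) (BT.node 12265 (BT.leaf cE12265) (BT.leaf cE12266))) (BT.node 12269 (BT.node 12268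 (BT.node 12267 (BT.leaf cE12267) (BT.leaf cE12268)) (BT.leaf cE12269)) (BT.node 12270 (BT.leaf cE12270) (BT.leaf cE12271)))) (BT.node 12276 (BT.node 12274 (BT.node 12273 (BT.node 12272 (BT.leaf cE12272) (BT.leaf cE12273)) (BT.leaf cE12274)) (BT.node 12275 (BT.leaf cE12275) (BT.leaf cE12276))) (BT.node 12279 (BT.node 12278 (BT.node 12277 (BT.leaf cE12277) (BT.leaf cE12278)) (BT.leaf cE12279)) (BT.node 12280 (BT.leaf cE12280) (BT.leaf cE12281))))))))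
noncomputable def colET_76 : BT ℕ := (BT.node 12362 (BT.node 12322 (BT.node 12302 (BT.node 12292 (BT.node 12287 (BT.node 12284 (BT.node 12283 (BT.node 12282 (BT.leaf cE12282) (BT.leaf cE12283)) (BT.leaf cE12284)) (BT.node 12286 (BT.node 12285 (BT.leaf cE12285) (BT.leaf cE12286)) (BT.leaf cE12287))) (BT.node 12290 (BT.node 12289 (BT.node 12288 (BT.leaf cE12288) (BT.leaf cE12289)) (BT.leaf cE12290)) (BT.node 12291 (BT.leaf cE12291) (BT.leaf cE12292)))) (BT.node 12297 (BT.node 12295 (BT.node 12294 (BT.node 12293 (BT.leaf cE12293) (BT.leaf cE12294)) (BT.leaf cE12295)) (BT.node 12296 (BT.leaf cE12296) (BT.leaf cE12297))) (BT.node 12300 (BT.node 12299 (BT.node 12298 (BT.leaf cE12298) (BT.leaf cE12299)) (BT.leaf cE12300)) (BT.node 12301 (BT.leaf cE12301) (BT.leaf cE12302))))) (BT.node 12312 (BT.node 12307 (BT.node 12305 (BT.node 12304 (BT.node 12303 (BT.leaf cE12303) (BT.leaf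 cE12304)) (BT.leaf cE12305)) (BT.node 12306 (BT.leaf cE12306) (BT.leaf cE12307))) (BT.node 12310 (BT.node 12309 (BT.node 12308 (BT.leaf cE12308) (BT.leaf cE12309)) (BT.leaf cE12310)) (BT.node 12311 (BT.leaf cE12311) (BT.leaf cE12312)))) (BT.node 12317 (BT.node 12315 (BT.node 12314 (BT.node 12313 (BT.leaf cE12313) (BT.leaf cE12314)) (BT.leaf cE12315)) (BT.node 12316 (BT.leaf cE12316) (BT.leaf cE12317))) (BT.node 12320 (BT.node 12319 (BT.node 12318 (BT.leaf cE12318) (BT.leaf cE12319)) (BT.leaf cE12320)) (BT.node 12321 (BT.leaf cE12321) (BT.leaf cE12322)))))) (BT.node 12342 (BT.node 12332 (BT.node 12327 (BT.node 12325 (BT.node 12324 (BT.node 12323 (BT.leaf cE12323) (BT.leaf cE12324)) (BT.leaf cE12325)) (BT.node 12326 (BT.leaf cE12326) (BT.leaf cE12327))) (BT.node 12330 (BT.node 12329 (BT.node 12328 (BT.leaf cE12328) (BT.leaf cE12329)) (BT.leaf cE12330)) (BT.node 12331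 (BT.leaf cE12331) (BT.leaf cE12332)))) (BT.node 12337 (BT.node 12335 (BT.node 12334 (BT.node 12333 (BT.leaf cE12333) (BT.leaf cE12334)) (BT.leaf cE12335)) (BT.node 12336 (BT.leaf cE12336) (BT.leaf cE12337))) (BT.node 12340 (BT.node 12339 (BT.node 12338 (BT.leaf cE12338) (BT.leaf cE12339)) (BT.leaf cE12340)) (BT.node 12341 (BT.leaf cE12341) (BT.leaf cE12342))))) (BT.node 12352 (BT.node 12347 (BT.node 12345 (BT.node 12344 (BT.node 12343 (BT.leaf cE12343) (BT.leaf cE12344)) (BT.leaf cE12345)) (BT.node 12346 (BT.leaf cE12346) (BT.leaf cE12347))) (BT.node 12350 (BT.node 12349 (BT.node 12348 (BT.leaf cE12348) (BT.leaf cE12349)) (BT.leaf cE12350)) (BT.node 12351 (BT.leaf cE12351) (BT.leaf cE12352)))) (BT.node 12357 (BT.node 12355 (BT.node 12354 (BT.node 12353 (BT.leaf cE12353) (BT.leaf cE12354)) (BT.leaf cE12355)) (BT.node 12356 (BT.leaf cE12356) (BT.leaf cE12357))) (BT.node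 12360 (BT.node 12359 (BT.node 12358 (BT.leaf cE12358) (BT.leaf cE12359)) (BT.leaf cE12360)) (BT.node 12361 (BT.leaf cE12361) (BT.leaf cE12362))))))) (BT.node 12403 (BT.node 12383 (BT.node 12373 (BT.node 12368 (BT.node 12365 (BT.node 12364 (BT.node 12363 (BT.leaf cE12363) (BT.leaf cE12364)) (BT.leaf cE12365)) (BT.node 12367 (BT.node 12366 (BT.leaf cE12366) (BT.leaf cE12367)) (BT.leaf cE12368))) (BT.node 12371 (BT.node 12370 (BT.node 12369 (BT.leaf cE12369) (BT.leaf cE12370)) (BT.leaf cE12371)) (BT.node 12372 (BT.leaf cE12372) (BT.leaf cE12373)))) (BT.node 12378 (BT.node 12376 (BT.node 12375 (BT.node 12374 (BT.leaf cE12374) (BT.leaf cE12375)) (BT.leaf cE12376)) (BT.node 12377 (BT.leaf cE12377) (BT.leaf cE12378))) (BT.node 12381 (BT.node 12380 (BT.node 12379 (BT.leaf cE12379) (BT.leaf cE12380)) (BT.leaf cE12381)) (BT.node 12382 (BT.leaf cE12382) (BT.leaf cE12383)))))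 (BT.node 12393 (BT.node 12388 (BT.node 12386 (BT.node 12385 (BT.node 12384 (BT.leaf cE12384) (BT.leaf cE12385)) (BT.leaf cE12386)) (BT.node 12387 (BT.leaf cE12387) (BT.leaf cE12388))) (BT.node 12391 (BT.node 12390 (BT.node 12389 (BT.leaf cE12389) (BT.leaf cE12390)) (BT.leaf cE12391)) (BT.node 12392 (BT.leaf cE12392) (BT.leaf cE12393)))) (BT.node 12398 (BT.node 12396 (BT.node 12395 (BT.node 12394 (BT.leaf cE12394) (BT.leaf cE12395)) (BT.leaf cE12396)) (BT.node 12397 (BT.leaf cE12397) (BT.leaf cE12398))) (BT.node 12401 (BT.node 12400 (BT.node 12399 (BT.leaf cE12399) (BT.leaf cE12400)) (BT.leaf cE12401)) (BT.node 12402 (BT.leaf cE12402) (BT.leaf cE12403)))))) (BT.node 12423 (BT.node 12413 (BT.node 12408 (BT.node 12406 (BT.node 12405 (BT.node 12404 (BT.leaf cE12404) (BT.leaf cE12405)) (BT.leaf cE12406)) (BT.node 12407 (BT.leaf cE12407) (BT.leaf cE12408))) (BT.node 12411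 (BT.node 12410 (BT.node 12409 (BT.leaf cE12409) (BT.leaf cE12410)) (BT.leaf cE12411)) (BT.node 12412 (BT.leaf cE12412) (BT.leaf cE12413)))) (BT.node 12418 (BT.node 12416 (BT.node 12415 (BT.node 12414 (BT.leaf cE12414) (BT.leaf cE12415)) (BT.leaf cE12416)) (BT.node 12417 (BT.leaf cE12417) (BT.leaf cE12418))) (BT.node 12421 (BT.node 12420 (BT.node 12419 (BT.leaf cE12419) (BT.leaf cE12420)) (BT.leaf cE12421)) (BT.node 12422 (BT.leaf cE12422) (BT.leaf cE12423))))) (BT.node 12433 (BT.node 12428 (BT.node 12426 (BT.node 12425 (BT.node 12424 (BT.leaf cE12424) (BT.leaf cE12425)) (BT.leaf cE12426)) (BT.node 12427 (BT.leaf cE12427) (BT.leaf cE12428))) (BT.node 12431 (BT.node 12430 (BT.node 12429 (BT.leaf cE12429) (BT.leaf cE12430)) (BT.leaf cE12431)) (BT.node 12432 (BT.leaf cE12432) (BT.leaf cE12433)))) (BT.node 12438 (BT.node 12436 (BT.node 12435 (BT.node 12434 (BT.leaf cE12434)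 (BT.leaf cE12435)) (BT.leaf cE12436)) (BT.node 12437 (BT.leaf cE12437) (BT.leaf cE12438))) (BT.node 12441 (BT.node 12440 (BT.node 12439 (BT.leaf cE12439) (BT.leaf cE12440)) (BT.leaf cE12441)) (BT.node 12442 (BT.leaf cE12442) (BT.leaf cE12443))))))))
noncomputable def colET_77 : BT ℕ := (BT.node 12524 (BT.node 12484 (BT.node 12464 (BT.node 12454 (BT.node 12449 (BT.node 12446 (BT.node 12445 (BT.node 12444 (BT.leaf cE12444) (BT.leaf cE12445)) (BT.leaf cE12446)) (BT.node 12448 (BT.node 12447 (BT.leaf cE12447) (BT.leaf cE12448)) (BT.leaf cE12449))) (BT.node 12452 (BT.node 12451 (BT.node 12450 (BT.leaf cE12450) (BT.leaf cE12451)) (BT.leaf cE12452)) (BT.node 12453 (BT.leaf cE12453) (BT.leaf cE12454)))) (BT.node 12459 (BT.node 12457 (BT.node 12456 (BT.node 12455 (BT.leaf cE12455) (BT.leaf cE12456)) (BT.leaf cE12457)) (BT.node 12458 (BT.leaf cE12458) (BT.leaf cE12459))) (BT.node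 12462 (BT.node 12461 (BT.node 12460 (BT.leaf cE12460) (BT.leaf cE12461)) (BT.leaf cE12462)) (BT.node 12463 (BT.leaf cE12463) (BT.leaf cE12464))))) (BT.node 12474 (BT.node 12469 (BT.node 12467 (BT.node 12466 (BT.node 12465 (BT.leaf cE12465) (BT.leaf cE12466)) (BT.leaf cE12467)) (BT.node 12468 (BT.leaf cE12468) (BT.leaf cE12469))) (BT.node 12472 (BT.node 12471 (BT.node 12470 (BT.leaf cE12470) (BT.leaf cE12471)) (BT.leaf cE12472)) (BT.node 12473 (BT.leaf cE12473) (BT.leaf cE12474)))) (BT.node 12479 (BT.node 12477 (BT.node 12476 (BT.node 12475 (BT.leaf cE12475) (BT.leaf cE12476)) (BT.leaf cE12477)) (BT.node 12478 (BT.leaf cE12478) (BT.leaf cE12479))) (BT.node 12482 (BT.node 12481 (BT.node 12480 (BT.leaf cE12480) (BT.leaf cE12481)) (BT.leaf cE12482)) (BT.node 12483 (BT.leaf cE12483) (BT.leaf cE12484)))))) (BT.node 12504 (BT.node 12494 (BT.node 12489 (BT.node 12487 (BT.node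 12486 (BT.node 12485 (BT.leaf cE12485) (BT.leaf cE12486)) (BT.leaf cE12487)) (BT.node 12488 (BT.leaf cE12488) (BT.leaf cE12489))) (BT.node 12492 (BT.node 12491 (BT.node 12490 (BT.leaf cE12490) (BT.leaf cE12491)) (BT.leaf cE12492)) (BT.node 12493 (BT.leaf cE12493) (BT.leaf cE12494)))) (BT.node 12499 (BT.node 12497 (BT.node 12496 (BT.node 12495 (BT.leaf cE12495) (BT.leaf cE12496)) (BT.leaf cE12497)) (BT.node 12498 (BT.leaf cE12498) (BT.leaf cE12499))) (BT.node 12502 (BT.node 12501 (BT.node 12500 (BT.leaf cE12500) (BT.leaf cE12501)) (BT.leaf cE12502)) (BT.node 12503 (BT.leaf cE12503) (BT.leaf cE12504))))) (BT.node 12514 (BT.node 12509 (BT.node 12507 (BT.node 12506 (BT.node 12505 (BT.leaf cE12505) (BT.leaf cE12506)) (BT.leaf cE12507)) (BT.node 12508 (BT.leaf cE12508) (BT.leaf cE12509))) (BT.node 12512 (BT.node 12511 (BT.node 12510 (BT.leaf cE12510) (BT.leaf cE12511)) (BT.leaf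 cE12512)) (BT.node 12513 (BT.leaf cE12513) (BT.leaf cE12514)))) (BT.node 12519 (BT.node 12517 (BT.node 12516 (BT.node 12515 (BT.leaf cE12515) (BT.leaf cE12516)) (BT.leaf cE12517)) (BT.node 12518 (BT.leaf cE12518) (BT.leaf cE12519))) (BT.node 12522 (BT.node 12521 (BT.node 12520 (BT.leaf cE12520) (BT.leaf cE12521)) (BT.leaf cE12522)) (BT.node 12523 (BT.leaf cE12523) (BT.leaf cE12524))))))) (BT.node 12564 (BT.node 12544 (BT.node 12534 (BT.node 12529 (BT.node 12527 (BT.node 12526 (BT.node 12525 (BT.leaf cE12525) (BT.leaf cE12526)) (BT.leaf cE12527)) (BT.node 12528 (BT.leaf cE12528) (BT.leaf cE12529))) (BT.node 12532 (BT.node 12531 (BT.node 12530 (BT.leaf cE12530) (BT.leaf cE12531)) (BT.leaf cE12532)) (BT.node 12533 (BT.leaf cE12533) (BT.leaf cE12534)))) (BT.node 12539 (BT.node 12537 (BT.node 12536 (BT.node 12535 (BT.leaf cE12535) (BT.leaf cE12536)) (BT.leaf cE12537)) (BT.node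 12538 (BT.leaf cE12538) (BT.leaf cE12539))) (BT.node 12542 (BT.node 12541 (BT.node 12540 (BT.leaf cE12540) (BT.leaf cE12541)) (BT.leaf cE12542)) (BT.node 12543 (BT.leaf cE12543) (BT.leaf cE12544))))) (BT.node 12554 (BT.node 12549 (BT.node 12547 (BT.node 12546 (BT.node 12545 (BT.leaf cE12545) (BT.leaf cE12546)) (BT.leaf cE12547)) (BT.node 12548 (BT.leaf cE12548) (BT.leaf cE12549))) (BT.node 12552 (BT.node 12551 (BT.node 12550 (BT.leaf cE12550) (BT.leaf cE12551)) (BT.leaf cE12552)) (BT.node 12553 (BT.leaf cE12553) (BT.leaf cE12554)))) (BT.node 12559 (BT.node 12557 (BT.node 12556 (BT.node 12555 (BT.leaf cE12555) (BT.leaf cE12556)) (BT.leaf cE12557)) (BT.node 12558 (BT.leaf cE12558) (BT.leaf cE12559))) (BT.node 12562 (BT.node 12561 (BT.node 12560 (BT.leaf cE12560) (BT.leaf cE12561)) (BT.leaf cE12562)) (BT.node 12563 (BT.leaf cE12563) (BT.leaf cE12564)))))) (BT.node 12584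 (BT.node 12574 (BT.node 12569 (BT.node 12567 (BT.node 12566 (BT.node 12565 (BT.leaf cE12565) (BT.leaf cE12566)) (BT.leaf cE12567)) (BT.node 12568 (BT.leaf cE12568) (BT.leaf cE12569))) (BT.node 12572 (BT.node 12571 (BT.node 12570 (BT.leaf cE12570) (BT.leaf cE12571)) (BT.leaf cE12572)) (BT.node 12573 (BT.leaf cE12573) (BT.leaf cE12574)))) (BT.node 12579 (BT.node 12577 (BT.node 12576 (BT.node 12575 (BT.leaf cE12575) (BT.leaf cE12576)) (BT.leaf cE12577)) (BT.node 12578 (BT.leaf cE12578) (BT.leaf cE12579))) (BT.node 12582 (BT.node 12581 (BT.node 12580 (BT.leaf cE12580) (BT.leaf cE12581)) (BT.leaf cE12582)) (BT.node 12583 (BT.leaf cE12583) (BT.leaf cE12584))))) (BT.node 12594 (BT.node 12589 (BT.node 12587 (BT.node 12586 (BT.node 12585 (BT.leaf cE12585) (BT.leaf cE12586)) (BT.leaf cE12587)) (BT.node 12588 (BT.leaf cE12588) (BT.leaf cE12589))) (BT.node 12592 (BT.node 12591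 (BT.node 12590 (BT.leaf cE12590) (BT.leaf cE12591)) (BT.leaf cE12592)) (BT.node 12593 (BT.leaf cE12593) (BT.leaf cE12594)))) (BT.node 12599 (BT.node 12597 (BT.node 12596 (BT.node 12595 (BT.leaf cE12595) (BT.leaf cE12596)) (BT.leaf cE12597)) (BT.node 12598 (BT.leaf cE12598) (BT.leaf cE12599))) (BT.node 12602 (BT.node 12601 (BT.node 12600 (BT.leaf cE12600) (BT.leaf cE12601)) (BT.leaf cE12602)) (BT.node 12603 (BT.leaf cE12603) (BT.leaf cE12604))))))))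
noncomputable def colET_78 : BT ℕ := (BT.node 12685 (BT.node 12645 (BT.node 12625 (BT.node 12615 (BT.node 12610 (BT.node 12607 (BT.node 12606 (BT.node 12605 (BT.leaf cE12605) (BT.leaf cE12606)) (BT.leaf cE12607)) (BT.node 12609 (BT.node 12608 (BT.leaf cE12608) (BT.leaf cE12609)) (BT.leaf cE12610))) (BT.node 12613 (BT.node 12612 (BT.node 12611 (BT.leaf cE12611) (BT.leaf cE12612)) (BT.leaf cE12613)) (BT.node 12614 (BT.leaf cE12614) (BT.leaf cE12615)))) (BT.node 12620 (BT.node 12618 (BT.node 12617 (BT.node 12616 (BT.leaf cE12616) (BT.leaf cE12617)) (BT.leaf cE12618)) (BT.node 12619 (BT.leaf cE12619) (BT.leaf cE12620))) (BT.node 12623 (BT.node 12622 (BT.node 12621 (BT.leaf cE12621) (BT.leaf cE12622)) (BT.leaf cE12623)) (BT.node 12624 (BT.leaf cE12624) (BT.leaf cE12625))))) (BT.node 12635 (BT.node 12630 (BT.node 12628 (BT.node 12627 (BT.node 12626 (BT.leaf cE12626) (BT.leaf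 cE12627)) (BT.leaf cE12628)) (BT.node 12629 (BT.leaf cE12629) (BT.leaf cE12630))) (BT.node 12633 (BT.node 12632 (BT.node 12631 (BT.leaf cE12631) (BT.leaf cE12632)) (BT.leaf cE12633)) (BT.node 12634 (BT.leaf cE12634) (BT.leaf cE12635)))) (BT.node 12640 (BT.node 12638 (BT.node 12637 (BT.node 12636 (BT.leaf cE12636) (BT.leaf cE12637)) (BT.leaf cE12638)) (BT.node 12639 (BT.leaf cE12639) (BT.leaf cE12640))) (BT.node 12643 (BT.node 12642 (BT.node 12641 (BT.leaf cE12641) (BT.leaf cE12642)) (BT.leaf cE12643)) (BT.node 12644 (BT.leaf cE12644) (BT.leaf cE12645)))))) (BT.node 12665 (BT.node 12655 (BT.node 12650 (BT.node 12648 (BT.node 12647 (BT.node 12646 (BT.leaf cE12646) (BT.leaf cE12647)) (BT.leaf cE12648)) (BT.node 12649 (BT.leaf cE12649) (BT.leaf cE12650))) (BT.node 12653 (BT.node 12652 (BT.node 12651 (BT.leaf cE12651) (BT.leaf cE12652)) (BT.leaf cE12653)) (BT.node 12654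 (BT.leaf cE12654) (BT.leaf cE12655)))) (BT.node 12660 (BT.node 12658 (BT.node 12657 (BT.node 12656 (BT.leaf cE12656) (BT.leaf cE12657)) (BT.leaf cE12658)) (BT.node 12659 (BT.leaf cE12659) (BT.leaf cE12660))) (BT.node 12663 (BT.node 12662 (BT.node 12661 (BT.leaf cE12661) (BT.leaf cE12662)) (BT.leaf cE12663)) (BT.node 12664 (BT.leaf cE12664) (BT.leaf cE12665))))) (BT.node 12675 (BT.node 12670 (BT.node 12668 (BT.node 12667 (BT.node 12666 (BT.leaf cE12666) (BT.leaf cE12667)) (BT.leaf cE12668)) (BT.node 12669 (BT.leaf cE12669) (BT.leaf cE12670))) (BT.node 12673 (BT.node 12672 (BT.node 12671 (BT.leaf cE12671) (BT.leaf cE12672)) (BT.leaf cE12673)) (BT.node 12674 (BT.leaf cE12674) (BT.leaf cE12675)))) (BT.node 12680 (BT.node 12678 (BT.node 12677 (BT.node 12676 (BT.leaf cE12676) (BT.leaf cE12677)) (BT.leaf cE12678)) (BT.node 12679 (BT.leaf cE12679) (BT.leaf cE12680))) (BT.node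 12683 (BT.node 12682 (BT.node 12681 (BT.leaf cE12681) (BT.leaf cE12682)) (BT.leaf cE12683)) (BT.node 12684 (BT.leaf cE12684) (BT.leaf cE12685))))))) (BT.node 12726 (BT.node 12706 (BT.node 12696 (BT.node 12691 (BT.node 12688 (BT.node 12687 (BT.node 12686 (BT.leaf cE12686) (BT.leaf cE12687)) (BT.leaf cE12688)) (BT.node 12690 (BT.node 12689 (BT.leaf cE12689) (BT.leaf cE12690)) (BT.leaf cE12691))) (BT.node 12694 (BT.node 12693 (BT.node 12692 (BT.leaf cE12692) (BT.leaf cE12693)) (BT.leaf cE12694)) (BT.node 12695 (BT.leaf cE12695) (BT.leaf cE12696)))) (BT.node 12701 (BT.node 12699 (BT.node 12698 (BT.node 12697 (BT.leaf cE12697) (BT.leaf cE12698)) (BT.leaf cE12699)) (BT.node 12700 (BT.leaf cE12700) (BT.leaf cE12701))) (BT.node 12704 (BT.node 12703 (BT.node 12702 (BT.leaf cE12702) (BT.leaf cE12703)) (BT.leaf cE12704)) (BT.node 12705 (BT.leaf cE12705) (BT.leaf cE12706)))))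 (BT.node 12716 (BT.node 12711 (BT.node 12709 (BT.node 12708 (BT.node 12707 (BT.leaf cE12707) (BT.leaf cE12708)) (BT.leaf cE12709)) (BT.node 12710 (BT.leaf cE12710) (BT.leaf cE12711))) (BT.node 12714 (BT.node 12713 (BT.node 12712 (BT.leaf cE12712) (BT.leaf cE12713)) (BT.leaf cE12714)) (BT.node 12715 (BT.leaf cE12715) (BT.leaf cE12716)))) (BT.node 12721 (BT.node 12719 (BT.node 12718 (BT.node 12717 (BT.leaf cE12717) (BT.leaf cE12718)) (BT.leaf cE12719)) (BT.node 12720 (BT.leaf cE12720) (BT.leaf cE12721))) (BT.node 12724 (BT.node 12723 (BT.node 12722 (BT.leaf cE12722) (BT.leaf cE12723)) (BT.leaf cE12724)) (BT.node 12725 (BT.leaf cE12725) (BT.leaf cE12726)))))) (BT.node 12746 (BT.node 12736 (BT.node 12731 (BT.node 12729 (BT.node 12728 (BT.node 12727 (BT.leaf cE12727) (BT.leaf cE12728)) (BT.leaf cE12729)) (BT.node 12730 (BT.leaf cE12730) (BT.leaf cE12731))) (BT.node 12734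 (BT.node 12733 (BT.node 12732 (BT.leaf cE12732) (BT.leaf cE12733)) (BT.leaf cE12734)) (BT.node 12735 (BT.leaf cE12735) (BT.leaf cE12736)))) (BT.node 12741 (BT.node 12739 (BT.node 12738 (BT.node 12737 (BT.leaf cE12737) (BT.leaf cE12738)) (BT.leaf cE12739)) (BT.node 12740 (BT.leaf cE12740) (BT.leaf cE12741))) (BT.node 12744 (BT.node 12743 (BT.node 12742 (BT.leaf cE12742) (BT.leaf cE12743)) (BT.leaf cE12744)) (BT.node 12745 (BT.leaf cE12745) (BT.leaf cE12746))))) (BT.node 12756 (BT.node 12751 (BT.node 12749 (BT.node 12748 (BT.node 12747 (BT.leaf cE12747) (BT.leaf cE12748)) (BT.leaf cE12749)) (BT.node 12750 (BT.leaf cE12750) (BT.leaf cE12751))) (BT.node 12754 (BT.node 12753 (BT.node 12752 (BT.leaf cE12752) (BT.leaf cE12753)) (BT.leaf cE12754)) (BT.node 12755 (BT.leaf cE12755) (BT.leaf cE12756)))) (BT.node 12761 (BT.node 12759 (BT.node 12758 (BT.node 12757 (BT.leaf cE12757)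 (BT.leaf cE12758)) (BT.leaf cE12759)) (BT.node 12760 (BT.leaf cE12760) (BT.leaf cE12761))) (BT.node 12764 (BT.node 12763 (BT.node 12762 (BT.leaf cE12762) (BT.leaf cE12763)) (BT.leaf cE12764)) (BT.node 12765 (BT.leaf cE12765) (BT.leaf cE12766))))))))
noncomputable def colET_79 : BT ℕ := (BT.node 12847 (BT.node 12807 (BT.node 12787 (BT.node 12777 (BT.node 12772 (BT.node 12769 (BT.node 12768 (BT.node 12767 (BT.leaf cE12767) (BT.leaf cE12768)) (BT.leaf cE12769)) (BT.node 12771 (BT.node 12770 (BT.leaf cE12770) (BT.leaf cE12771)) (BT.leaf cE12772))) (BT.node 12775 (BT.node 12774 (BT.node 12773 (BT.leaf cE12773) (BT.leaf cE12774)) (BT.leaf cE12775)) (BT.node 12776 (BT.leaf cE12776) (BT.leaf cE12777)))) (BT.node 12782 (BT.node 12780 (BT.node 12779 (BT.node 12778 (BT.leaf cE12778) (BT.leaf cE12779)) (BT.leaf cE12780)) (BT.node 12781 (BT.leaf cE12781) (BT.leaf cE12782))) (BT.node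 12785 (BT.node 12784 (BT.node 12783 (BT.leaf cE12783) (BT.leaf cE12784)) (BT.leaf cE12785)) (BT.node 12786 (BT.leaf cE12786) (BT.leaf cE12787))))) (BT.node 12797 (BT.node 12792 (BT.node 12790 (BT.node 12789 (BT.node 12788 (BT.leaf cE12788) (BT.leaf cE12789)) (BT.leaf cE12790)) (BT.node 12791 (BT.leaf cE12791) (BT.leaf cE12792))) (BT.node 12795 (BT.node 12794 (BT.node 12793 (BT.leaf cE12793) (BT.leaf cE12794)) (BT.leaf cE12795)) (BT.node 12796 (BT.leaf cE12796) (BT.leaf cE12797)))) (BT.node 12802 (BT.node 12800 (BT.node 12799 (BT.node 12798 (BT.leaf cE12798) (BT.leaf cE12799)) (BT.leaf cE12800)) (BT.node 12801 (BT.leaf cE12801) (BT.leaf cE12802))) (BT.node 12805 (BT.node 12804 (BT.node 12803 (BT.leaf cE12803) (BT.leaf cE12804)) (BT.leaf cE12805)) (BT.node 12806 (BT.leaf cE12806) (BT.leaf cE12807)))))) (BT.node 12827 (BT.node 12817 (BT.node 12812 (BT.node 12810 (BT.node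 12809 (BT.node 12808 (BT.leaf cE12808) (BT.leaf cE12809)) (BT.leaf cE12810)) (BT.node 12811 (BT.leaf cE12811) (BT.leaf cE12812))) (BT.node 12815 (BT.node 12814 (BT.node 12813 (BT.leaf cE12813) (BT.leaf cE12814)) (BT.leaf cE12815)) (BT.node 12816 (BT.leaf cE12816) (BT.leaf cE12817)))) (BT.node 12822 (BT.node 12820 (BT.node 12819 (BT.node 12818 (BT.leaf cE12818) (BT.leaf cE12819)) (BT.leaf cE12820)) (BT.node 12821 (BT.leaf cE12821) (BT.leaf cE12822))) (BT.node 12825 (BT.node 12824 (BT.node 12823 (BT.leaf cE12823) (BT.leaf cE12824)) (BT.leaf cE12825)) (BT.node 12826 (BT.leaf cE12826) (BT.leaf cE12827))))) (BT.node 12837 (BT.node 12832 (BT.node 12830 (BT.node 12829 (BT.node 12828 (BT.leaf cE12828) (BT.leaf cE12829)) (BT.leaf cE12830)) (BT.node 12831 (BT.leaf cE12831) (BT.leaf cE12832))) (BT.node 12835 (BT.node 12834 (BT.node 12833 (BT.leaf cE12833) (BT.leaf cE12834)) (BT.leaf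 cE12835)) (BT.node 12836 (BT.leaf cE12836) (BT.leaf cE12837)))) (BT.node 12842 (BT.node 12840 (BT.node 12839 (BT.node 12838 (BT.leaf cE12838) (BT.leaf cE12839)) (BT.leaf cE12840)) (BT.node 12841 (BT.leaf cE12841) (BT.leaf cE12842))) (BT.node 12845 (BT.node 12844 (BT.node 12843 (BT.leaf cE12843) (BT.leaf cE12844)) (BT.leaf cE12845)) (BT.node 12846 (BT.leaf cE12846) (BT.leaf cE12847))))))) (BT.node 12887 (BT.node 12867 (BT.node 12857 (BT.node 12852 (BT.node 12850 (BT.node 12849 (BT.node 12848 (BT.leaf cE12848) (BT.leaf cE12849)) (BT.leaf cE12850)) (BT.node 12851 (BT.leaf cE12851) (BT.leaf cE12852))) (BT.node 12855 (BT.node 12854 (BT.node 12853 (BT.leaf cE12853) (BT.leaf cE12854)) (BT.leaf cE12855)) (BT.node 12856 (BT.leaf cE12856) (BT.leaf cE12857)))) (BT.node 12862 (BT.node 12860 (BT.node 12859 (BT.node 12858 (BT.leaf cE12858) (BT.leaf cE12859)) (BT.leaf cE12860)) (BT.node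 12861 (BT.leaf cE12861) (BT.leaf cE12862))) (BT.node 12865 (BT.node 12864 (BT.node 12863 (BT.leaf cE12863) (BT.leaf cE12864)) (BT.leaf cE12865)) (BT.node 12866 (BT.leaf cE12866) (BT.leaf cE12867))))) (BT.node 12877 (BT.node 12872 (BT.node 12870 (BT.node 12869 (BT.node 12868 (BT.leaf cE12868) (BT.leaf cE12869)) (BT.leaf cE12870)) (BT.node 12871 (BT.leaf cE12871) (BT.leaf cE12872))) (BT.node 12875 (BT.node 12874 (BT.node 12873 (BT.leaf cE12873) (BT.leaf cE12874)) (BT.leaf cE12875)) (BT.node 12876 (BT.leaf cE12876) (BT.leaf cE12877)))) (BT.node 12882 (BT.node 12880 (BT.node 12879 (BT.node 12878 (BT.leaf cE12878) (BT.leaf cE12879)) (BT.leaf cE12880)) (BT.node 12881 (BT.leaf cE12881) (BT.leaf cE12882))) (BT.node 12885 (BT.node 12884 (BT.node 12883 (BT.leaf cE12883) (BT.leaf cE12884)) (BT.leaf cE12885)) (BT.node 12886 (BT.leaf cE12886) (BT.leaf cE12887)))))) (BT.node 12907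 (BT.node 12897 (BT.node 12892 (BT.node 12890 (BT.node 12889 (BT.node 12888 (BT.leaf cE12888) (BT.leaf cE12889)) (BT.leaf cE12890)) (BT.node 12891 (BT.leaf cE12891) (BT.leaf cE12892))) (BT.node 12895 (BT.node 12894 (BT.node 12893 (BT.leaf cE12893) (BT.leaf cE12894)) (BT.leaf cE12895)) (BT.node 12896 (BT.leaf cE12896) (BT.leaf cE12897)))) (BT.node 12902 (BT.node 12900 (BT.node 12899 (BT.node 12898 (BT.leaf cE12898) (BT.leaf cE12899)) (BT.leaf cE12900)) (BT.node 12901 (BT.leaf cE12901) (BT.leaf cE12902))) (BT.node 12905 (BT.node 12904 (BT.node 12903 (BT.leaf cE12903) (BT.leaf cE12904)) (BT.leaf cE12905)) (BT.node 12906 (BT.leaf cE12906) (BT.leaf cE12907))))) (BT.node 12917 (BT.node 12912 (BT.node 12910 (BT.node 12909 (BT.node 12908 (BT.leaf cE12908) (BT.leaf cE12909)) (BT.leaf cE12910)) (BT.node 12911 (BT.leaf cE12911) (BT.leaf cE12912))) (BT.node 12915 (BT.node 12914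 (BT.node 12913 (BT.leaf cE12913) (BT.leaf cE12914)) (BT.leaf cE12915)) (BT.node 12916 (BT.leaf cE12916) (BT.leaf cE12917)))) (BT.node 12922 (BT.node 12920 (BT.node 12919 (BT.node 12918 (BT.leaf cE12918) (BT.leaf cE12919)) (BT.leaf cE12920)) (BT.node 12921 (BT.leaf cE12921) (BT.leaf cE12922))) (BT.node 12925 (BT.node 12924 (BT.node 12923 (BT.leaf cE12923) (BT.leaf cE12924)) (BT.leaf cE12925)) (BT.node 12926 (BT.leaf cE12926) (BT.leaf cE12927))))))))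
noncomputable def colET_80 : BT ℕ := (BT.node 13008 (BT.node 12968 (BT.node 12948 (BT.node 12938 (BT.node 12933 (BT.node 12930 (BT.node 12929 (BT.node 12928 (BT.leaf cE12928) (BT.leaf cE12929)) (BT.leaf cE12930)) (BT.node 12932 (BT.node 12931 (BT.leaf cE12931) (BT.leaf cE12932)) (BT.leaf cE12933))) (BT.node 12936 (BT.node 12935 (BT.node 12934 (BT.leaf cE12934) (BT.leaf cE12935)) (BT.leaf cE12936)) (BT.node 12937 (BT.leaf cE12937) (BT.leaf cE12938)))) (BT.node 12943 (BT.node 12941 (BT.node 12940 (BT.node 12939 (BT.leaf cE12939) (BT.leaf cE12940)) (BT.leaf cE12941)) (BT.node 12942 (BT.leaf cE12942) (BT.leaf cE12943))) (BT.node 12946 (BT.node 12945 (BT.node 12944 (BT.leaf cE12944) (BT.leaf cE12945)) (BT.leaf cE12946)) (BT.node 12947 (BT.leaf cE12947) (BT.leaf cE12948))))) (BT.node 12958 (BT.node 12953 (BT.node 12951 (BT.node 12950 (BT.node 12949 (BT.leaf cE12949) (BT.leaf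 cE12950)) (BT.leaf cE12951)) (BT.node 12952 (BT.leaf cE12952) (BT.leaf cE12953))) (BT.node 12956 (BT.node 12955 (BT.node 12954 (BT.leaf cE12954) (BT.leaf cE12955)) (BT.leaf cE12956)) (BT.node 12957 (BT.leaf cE12957) (BT.leaf cE12958)))) (BT.node 12963 (BT.node 12961 (BT.node 12960 (BT.node 12959 (BT.leaf cE12959) (BT.leaf cE12960)) (BT.leaf cE12961)) (BT.node 12962 (BT.leaf cE12962) (BT.leaf cE12963))) (BT.node 12966 (BT.node 12965 (BT.node 12964 (BT.leaf cE12964) (BT.leaf cE12965)) (BT.leaf cE12966)) (BT.node 12967 (BT.leaf cE12967) (BT.leaf cE12968)))))) (BT.node 12988 (BT.node 12978 (BT.node 12973 (BT.node 12971 (BT.node 12970 (BT.node 12969 (BT.leaf cE12969) (BT.leaf cE12970)) (BT.leaf cE12971)) (BT.node 12972 (BT.leaf cE12972) (BT.leaf cE12973))) (BT.node 12976 (BT.node 12975 (BT.node 12974 (BT.leaf cE12974) (BT.leaf cE12975)) (BT.leaf cE12976)) (BT.node 12977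 (BT.leaf cE12977) (BT.leaf cE12978)))) (BT.node 12983 (BT.node 12981 (BT.node 12980 (BT.node 12979 (BT.leaf cE12979) (BT.leaf cE12980)) (BT.leaf cE12981)) (BT.node 12982 (BT.leaf cE12982) (BT.leaf cE12983))) (BT.node 12986 (BT.node 12985 (BT.node 12984 (BT.leaf cE12984) (BT.leaf cE12985)) (BT.leaf cE12986)) (BT.node 12987 (BT.leaf cE12987) (BT.leaf cE12988))))) (BT.node 12998 (BT.node 12993 (BT.node 12991 (BT.node 12990 (BT.node 12989 (BT.leaf cE12989) (BT.leaf cE12990)) (BT.leaf cE12991)) (BT.node 12992 (BT.leaf cE12992) (BT.leaf cE12993))) (BT.node 12996 (BT.node 12995 (BT.node 12994 (BT.leaf cE12994) (BT.leaf cE12995)) (BT.leaf cE12996)) (BT.node 12997 (BT.leaf cE12997) (BT.leaf cE12998)))) (BT.node 13003 (BT.node 13001 (BT.node 13000 (BT.node 12999 (BT.leaf cE12999) (BT.leaf cE13000)) (BT.leaf cE13001)) (BT.node 13002 (BT.leaf cE13002) (BT.leaf cE13003))) (BT.node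 13006 (BT.node 13005 (BT.node 13004 (BT.leaf cE13004) (BT.leaf cE13005)) (BT.leaf cE13006)) (BT.node 13007 (BT.leaf cE13007) (BT.leaf cE13008))))))) (BT.node 13049 (BT.node 13029 (BT.node 13019 (BT.node 13014 (BT.node 13011 (BT.node 13010 (BT.node 13009 (BT.leaf cE13009) (BT.leaf cE13010)) (BT.leaf cE13011)) (BT.node 13013 (BT.node 13012 (BT.leaf cE13012) (BT.leaf cE13013)) (BT.leaf cE13014))) (BT.node 13017 (BT.node 13016 (BT.node 13015 (BT.leaf cE13015) (BT.leaf cE13016)) (BT.leaf cE13017)) (BT.node 13018 (BT.leaf cE13018) (BT.leaf cE13019)))) (BT.node 13024 (BT.node 13022 (BT.node 13021 (BT.node 13020 (BT.leaf cE13020) (BT.leaf cE13021)) (BT.leaf cE13022)) (BT.node 13023 (BT.leaf cE13023) (BT.leaf cE13024))) (BT.node 13027 (BT.node 13026 (BT.node 13025 (BT.leaf cE13025) (BT.leaf cE13026)) (BT.leaf cE13027)) (BT.node 13028 (BT.leaf cE13028) (BT.leaf cE13029)))))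 (BT.node 13039 (BT.node 13034 (BT.node 13032 (BT.node 13031 (BT.node 13030 (BT.leaf cE13030) (BT.leaf cE13031)) (BT.leaf cE13032)) (BT.node 13033 (BT.leaf cE13033) (BT.leaf cE13034))) (BT.node 13037 (BT.node 13036 (BT.node 13035 (BT.leaf cE13035) (BT.leaf cE13036)) (BT.leaf cE13037)) (BT.node 13038 (BT.leaf cE13038) (BT.leaf cE13039)))) (BT.node 13044 (BT.node 13042 (BT.node 13041 (BT.node 13040 (BT.leaf cE13040) (BT.leaf cE13041)) (BT.leaf cE13042)) (BT.node 13043 (BT.leaf cE13043) (BT.leaf cE13044))) (BT.node 13047 (BT.node 13046 (BT.node 13045 (BT.leaf cE13045) (BT.leaf cE13046)) (BT.leaf cE13047)) (BT.node 13048 (BT.leaf cE13048) (BT.leaf cE13049)))))) (BT.node 13069 (BT.node 13059 (BT.node 13054 (BT.node 13052 (BT.node 13051 (BT.node 13050 (BT.leaf cE13050) (BT.leaf cE13051)) (BT.leaf cE13052)) (BT.node 13053 (BT.leaf cE13053) (BT.leaf cE13054))) (BT.node 13057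 (BT.node 13056 (BT.node 13055 (BT.leaf cE13055) (BT.leaf cE13056)) (BT.leaf cE13057)) (BT.node 13058 (BT.leaf cE13058) (BT.leaf cE13059)))) (BT.node 13064 (BT.node 13062 (BT.node 13061 (BT.node 13060 (BT.leaf cE13060) (BT.leaf cE13061)) (BT.leaf cE13062)) (BT.node 13063 (BT.leaf cE13063) (BT.leaf cE13064))) (BT.node 13067 (BT.node 13066 (BT.node 13065 (BT.leaf cE13065) (BT.leaf cE13066)) (BT.leaf cE13067)) (BT.node 13068 (BT.leaf cE13068) (BT.leaf cE13069))))) (BT.node 13079 (BT.node 13074 (BT.node 13072 (BT.node 13071 (BT.node 13070 (BT.leaf cE13070) (BT.leaf cE13071)) (BT.leaf cE13072)) (BT.node 13073 (BT.leaf cE13073) (BT.leaf cE13074))) (BT.node 13077 (BT.node 13076 (BT.node 13075 (BT.leaf cE13075) (BT.leaf cE13076)) (BT.leaf cE13077)) (BT.node 13078 (BT.leaf cE13078) (BT.leaf cE13079)))) (BT.node 13084 (BT.node 13082 (BT.node 13081 (BT.node 13080 (BT.leaf cE13080)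 (BT.leaf cE13081)) (BT.leaf cE13082)) (BT.node 13083 (BT.leaf cE13083) (BT.leaf cE13084))) (BT.node 13087 (BT.node 13086 (BT.node 13085 (BT.leaf cE13085) (BT.leaf cE13086)) (BT.leaf cE13087)) (BT.node 13088 (BT.leaf cE13088) (BT.leaf cE13089))))))))
noncomputable def colET_81 : BT ℕ := (BT.node 13170 (BT.node 13130 (BT.node 13110 (BT.node 13100 (BT.node 13095 (BT.node 13092 (BT.node 13091 (BT.node 13090 (BT.leaf cE13090) (BT.leaf cE13091)) (BT.leaf cE13092)) (BT.node 13094 (BT.node 13093 (BT.leaf cE13093) (BT.leaf cE13094)) (BT.leaf cE13095))) (BT.node 13098 (BT.node 13097 (BT.node 13096 (BT.leaf cE13096) (BT.leaf cE13097)) (BT.leaf cE13098)) (BT.node 13099 (BT.leaf cE13099) (BT.leaf cE13100)))) (BT.node 13105 (BT.node 13103 (BT.node 13102 (BT.node 13101 (BT.leaf cE13101) (BT.leaf cE13102)) (BT.leaf cE13103)) (BT.node 13104 (BT.leaf cE13104) (BT.leaf cE13105))) (BT.node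 13108 (BT.node 13107 (BT.node 13106 (BT.leaf cE13106) (BT.leaf cE13107)) (BT.leaf cE13108)) (BT.node 13109 (BT.leaf cE13109) (BT.leaf cE13110))))) (BT.node 13120 (BT.node 13115 (BT.node 13113 (BT.node 13112 (BT.node 13111 (BT.leaf cE13111) (BT.leaf cE13112)) (BT.leaf cE13113)) (BT.node 13114 (BT.leaf cE13114) (BT.leaf cE13115))) (BT.node 13118 (BT.node 13117 (BT.node 13116 (BT.leaf cE13116) (BT.leaf cE13117)) (BT.leaf cE13118)) (BT.node 13119 (BT.leaf cE13119) (BT.leaf cE13120)))) (BT.node 13125 (BT.node 13123 (BT.node 13122 (BT.node 13121 (BT.leaf cE13121) (BT.leaf cE13122)) (BT.leaf cE13123)) (BT.node 13124 (BT.leaf cE13124) (BT.leaf cE13125))) (BT.node 13128 (BT.node 13127 (BT.node 13126 (BT.leaf cE13126) (BT.leaf cE13127)) (BT.leaf cE13128)) (BT.node 13129 (BT.leaf cE13129) (BT.leaf cE13130)))))) (BT.node 13150 (BT.node 13140 (BT.node 13135 (BT.node 13133 (BT.node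 13132 (BT.node 13131 (BT.leaf cE13131) (BT.leaf cE13132)) (BT.leaf cE13133)) (BT.node 13134 (BT.leaf cE13134) (BT.leaf cE13135))) (BT.node 13138 (BT.node 13137 (BT.node 13136 (BT.leaf cE13136) (BT.leaf cE13137)) (BT.leaf cE13138)) (BT.node 13139 (BT.leaf cE13139) (BT.leaf cE13140)))) (BT.node 13145 (BT.node 13143 (BT.node 13142 (BT.node 13141 (BT.leaf cE13141) (BT.leaf cE13142)) (BT.leaf cE13143)) (BT.node 13144 (BT.leaf cE13144) (BT.leaf cE13145))) (BT.node 13148 (BT.node 13147 (BT.node 13146 (BT.leaf cE13146) (BT.leaf cE13147)) (BT.leaf cE13148)) (BT.node 13149 (BT.leaf cE13149) (BT.leaf cE13150))))) (BT.node 13160 (BT.node 13155 (BT.node 13153 (BT.node 13152 (BT.node 13151 (BT.leaf cE13151) (BT.leaf cE13152)) (BT.leaf cE13153)) (BT.node 13154 (BT.leaf cE13154) (BT.leaf cE13155))) (BT.node 13158 (BT.node 13157 (BT.node 13156 (BT.leaf cE13156) (BT.leaf cE13157)) (BT.leaf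 cE13158)) (BT.node 13159 (BT.leaf cE13159) (BT.leaf cE13160)))) (BT.node 13165 (BT.node 13163 (BT.node 13162 (BT.node 13161 (BT.leaf cE13161) (BT.leaf cE13162)) (BT.leaf cE13163)) (BT.node 13164 (BT.leaf cE13164) (BT.leaf cE13165))) (BT.node 13168 (BT.node 13167 (BT.node 13166 (BT.leaf cE13166) (BT.leaf cE13167)) (BT.leaf cE13168)) (BT.node 13169 (BT.leaf cE13169) (BT.leaf cE13170))))))) (BT.node 13211 (BT.node 13191 (BT.node 13181 (BT.node 13176 (BT.node 13173 (BT.node 13172 (BT.node 13171 (BT.leaf cE13171) (BT.leaf cE13172)) (BT.leaf cE13173)) (BT.node 13175 (BT.node 13174 (BT.leaf cE13174) (BT.leaf cE13175)) (BT.leaf cE13176))) (BT.node 13179 (BT.node 13178 (BT.node 13177 (BT.leaf cE13177) (BT.leaf cE13178)) (BT.leaf cE13179)) (BT.node 13180 (BT.leaf cE13180) (BT.leaf cE13181)))) (BT.node 13186 (BT.node 13184 (BT.node 13183 (BT.node 13182 (BT.leaf cE13182) (BT.leaf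 cE13183)) (BT.leaf cE13184)) (BT.node 13185 (BT.leaf cE13185) (BT.leaf cE13186))) (BT.node 13189 (BT.node 13188 (BT.node 13187 (BT.leaf cE13187) (BT.leaf cE13188)) (BT.leaf cE13189)) (BT.node 13190 (BT.leaf cE13190) (BT.leaf cE13191))))) (BT.node 13201 (BT.node 13196 (BT.node 13194 (BT.node 13193 (BT.node 13192 (BT.leaf cE13192) (BT.leaf cE13193)) (BT.leaf cE13194)) (BT.node 13195 (BT.leaf cE13195) (BT.leaf cE13196))) (BT.node 13199 (BT.node 13198 (BT.node 13197 (BT.leaf cE13197) (BT.leaf cE13198)) (BT.leaf cE13199)) (BT.node 13200 (BT.leaf cE13200) (BT.leaf cE13201)))) (BT.node 13206 (BT.node 13204 (BT.node 13203 (BT.node 13202 (BT.leaf cE13202) (BT.leaf cE13203)) (BT.leaf cE13204)) (BT.node 13205 (BT.leaf cE13205) (BT.leaf cE13206))) (BT.node 13209 (BT.node 13208 (BT.node 13207 (BT.leaf cE13207) (BT.leaf cE13208)) (BT.leaf cE13209)) (BT.node 13210 (BT.leaf cE13210)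 (BT.leaf cE13211)))))) (BT.node 13231 (BT.node 13221 (BT.node 13216 (BT.node 13214 (BT.node 13213 (BT.node 13212 (BT.leaf cE13212) (BT.leaf cE13213)) (BT.leaf cE13214)) (BT.node 13215 (BT.leaf cE13215) (BT.leaf cE13216))) (BT.node 13219 (BT.node 13218 (BT.node 13217 (BT.leaf cE13217) (BT.leaf cE13218)) (BT.leaf cE13219)) (BT.node 13220 (BT.leaf cE13220) (BT.leaf cE13221)))) (BT.node 13226 (BT.node 13224 (BT.node 13223 (BT.node 13222 (BT.leaf cE13222) (BT.leaf cE13223)) (BT.leaf cE13224)) (BT.node 13225 (BT.leaf cE13225) (BT.leaf cE13226))) (BT.node 13229 (BT.node 13228 (BT.node 13227 (BT.leaf cE13227) (BT.leaf cE13228)) (BT.leaf cE13229)) (BT.node 13230 (BT.leaf cE13230) (BT.leaf cE13231))))) (BT.node 13241 (BT.node 13236 (BT.node 13234 (BT.node 13233 (BT.node 13232 (BT.leaf cE13232) (BT.leaf cE13233)) (BT.leaf cE13234)) (BT.node 13235 (BT.leaf cE13235) (BT.leaf cE13236)))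 (BT.node 13239 (BT.node 13238 (BT.node 13237 (BT.leaf cE13237) (BT.leaf cE13238)) (BT.leaf cE13239)) (BT.node 13240 (BT.leaf cE13240) (BT.leaf cE13241)))) (BT.node 13246 (BT.node 13244 (BT.node 13243 (BT.node 13242 (BT.leaf cE13242) (BT.leaf cE13243)) (BT.leaf cE13244)) (BT.node 13245 (BT.leaf cE13245) (BT.leaf cE13246))) (BT.node 13249 (BT.node 13248 (BT.node 13247 (BT.leaf cE13247) (BT.leaf cE13248)) (BT.leaf cE13249)) (BT.node 13250 (BT.leaf cE13250) (BT.leaf cE13251))))))))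
noncomputable def colET_82 : BT ℕ := (BT.node 13332 (BT.node 13292 (BT.node 13272 (BT.node 13262 (BT.node 13257 (BT.node 13254 (BT.node 13253 (BT.node 13252 (BT.leaf cE13252) (BT.leaf cE13253)) (BT.leaf cE13254)) (BT.node 13256 (BT.node 13255 (BT.leaf cE13255) (BT.leaf cE13256)) (BT.leaf cE13257))) (BT.node 13260 (BT.node 13259 (BT.node 13258 (BT.leaf cE13258) (BT.leaf cE13259)) (BT.leaf cE13260)) (BT.node 13261 (BT.leaf cE13261) (BT.leaf cE13262)))) (BT.node 13267 (BT.node 13265 (BT.node 13264 (BT.node 13263 (BT.leaf cE13263) (BT.leaf cE13264)) (BT.leaf cE13265)) (BT.node 13266 (BT.leaf cE13266) (BT.leaf cE13267))) (BT.node 13270 (BT.node 13269 (BT.node 13268 (BT.leaf cE13268) (BT.leaf cE13269)) (BT.leaf cE13270)) (BT.node 13271 (BT.leaf cE13271) (BT.leaf cE13272))))) (BT.node 13282 (BT.node 13277 (BT.node 13275 (BT.node 13274 (BT.node 13273 (BT.leaf cE13273) (BT.leaf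 cE13274)) (BT.leaf cE13275)) (BT.node 13276 (BT.leaf cE13276) (BT.leaf cE13277))) (BT.node 13280 (BT.node 13279 (BT.node 13278 (BT.leaf cE13278) (BT.leaf cE13279)) (BT.leaf cE13280)) (BT.node 13281 (BT.leaf cE13281) (BT.leaf cE13282)))) (BT.node 13287 (BT.node 13285 (BT.node 13284 (BT.node 13283 (BT.leaf cE13283) (BT.leaf cE13284)) (BT.leaf cE13285)) (BT.node 13286 (BT.leaf cE13286) (BT.leaf cE13287))) (BT.node 13290 (BT.node 13289 (BT.node 13288 (BT.leaf cE13288) (BT.leaf cE13289)) (BT.leaf cE13290)) (BT.node 13291 (BT.leaf cE13291) (BT.leaf cE13292)))))) (BT.node 13312 (BT.node 13302 (BT.node 13297 (BT.node 13295 (BT.node 13294 (BT.node 13293 (BT.leaf cE13293) (BT.leaf cE13294)) (BT.leaf cE13295)) (BT.node 13296 (BT.leaf cE13296) (BT.leaf cE13297))) (BT.node 13300 (BT.node 13299 (BT.node 13298 (BT.leaf cE13298) (BT.leaf cE13299)) (BT.leaf cE13300)) (BT.node 13301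 (BT.leaf cE13301) (BT.leaf cE13302)))) (BT.node 13307 (BT.node 13305 (BT.node 13304 (BT.node 13303 (BT.leaf cE13303) (BT.leaf cE13304)) (BT.leaf cE13305)) (BT.node 13306 (BT.leaf cE13306) (BT.leaf cE13307))) (BT.node 13310 (BT.node 13309 (BT.node 13308 (BT.leaf cE13308) (BT.leaf cE13309)) (BT.leaf cE13310)) (BT.node 13311 (BT.leaf cE13311) (BT.leaf cE13312))))) (BT.node 13322 (BT.node 13317 (BT.node 13315 (BT.node 13314 (BT.node 13313 (BT.leaf cE13313) (BT.leaf cE13314)) (BT.leaf cE13315)) (BT.node 13316 (BT.leaf cE13316) (BT.leaf cE13317))) (BT.node 13320 (BT.node 13319 (BT.node 13318 (BT.leaf cE13318) (BT.leaf cE13319)) (BT.leaf cE13320)) (BT.node 13321 (BT.leaf cE13321) (BT.leaf cE13322)))) (BT.node 13327 (BT.node 13325 (BT.node 13324 (BT.node 13323 (BT.leaf cE13323) (BT.leaf cE13324)) (BT.leaf cE13325)) (BT.node 13326 (BT.leaf cE13326) (BT.leaf cE13327))) (BT.node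 13330 (BT.node 13329 (BT.node 13328 (BT.leaf cE13328) (BT.leaf cE13329)) (BT.leaf cE13330)) (BT.node 13331 (BT.leaf cE13331) (BT.leaf cE13332))))))) (BT.node 13373 (BT.node 13353 (BT.node 13343 (BT.node 13338 (BT.node 13335 (BT.node 13334 (BT.node 13333 (BT.leaf cE13333) (BT.leaf cE13334)) (BT.leaf cE13335)) (BT.node 13337 (BT.node 13336 (BT.leaf cE13336) (BT.leaf cE13337)) (BT.leaf cE13338))) (BT.node 13341 (BT.node 13340 (BT.node 13339 (BT.leaf cE13339) (BT.leaf cE13340)) (BT.leaf cE13341)) (BT.node 13342 (BT.leaf cE13342) (BT.leaf cE13343)))) (BT.node 13348 (BT.node 13346 (BT.node 13345 (BT.node 13344 (BT.leaf cE13344) (BT.leaf cE13345)) (BT.leaf cE13346)) (BT.node 13347 (BT.leaf cE13347) (BT.leaf cE13348))) (BT.node 13351 (BT.node 13350 (BT.node 13349 (BT.leaf cE13349) (BT.leaf cE13350)) (BT.leaf cE13351)) (BT.node 13352 (BT.leaf cE13352) (BT.leaf cE13353)))))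 (BT.node 13363 (BT.node 13358 (BT.node 13356 (BT.node 13355 (BT.node 13354 (BT.leaf cE13354) (BT.leaf cE13355)) (BT.leaf cE13356)) (BT.node 13357 (BT.leaf cE13357) (BT.leaf cE13358))) (BT.node 13361 (BT.node 13360 (BT.node 13359 (BT.leaf cE13359) (BT.leaf cE13360)) (BT.leaf cE13361)) (BT.node 13362 (BT.leaf cE13362) (BT.leaf cE13363)))) (BT.node 13368 (BT.node 13366 (BT.node 13365 (BT.node 13364 (BT.leaf cE13364) (BT.leaf cE13365)) (BT.leaf cE13366)) (BT.node 13367 (BT.leaf cE13367) (BT.leaf cE13368))) (BT.node 13371 (BT.node 13370 (BT.node 13369 (BT.leaf cE13369) (BT.leaf cE13370)) (BT.leaf cE13371)) (BT.node 13372 (BT.leaf cE13372) (BT.leaf cE13373)))))) (BT.node 13393 (BT.node 13383 (BT.node 13378 (BT.node 13376 (BT.node 13375 (BT.node 13374 (BT.leaf cE13374) (BT.leaf cE13375)) (BT.leaf cE13376)) (BT.node 13377 (BT.leaf cE13377) (BT.leaf cE13378))) (BT.node 13381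 (BT.node 13380 (BT.node 13379 (BT.leaf cE13379) (BT.leaf cE13380)) (BT.leaf cE13381)) (BT.node 13382 (BT.leaf cE13382) (BT.leaf cE13383)))) (BT.node 13388 (BT.node 13386 (BT.node 13385 (BT.node 13384 (BT.leaf cE13384) (BT.leaf cE13385)) (BT.leaf cE13386)) (BT.node 13387 (BT.leaf cE13387) (BT.leaf cE13388))) (BT.node 13391 (BT.node 13390 (BT.node 13389 (BT.leaf cE13389) (BT.leaf cE13390)) (BT.leaf cE13391)) (BT.node 13392 (BT.leaf cE13392) (BT.leaf cE13393))))) (BT.node 13403 (BT.node 13398 (BT.node 13396 (BT.node 13395 (BT.node 13394 (BT.leaf cE13394) (BT.leaf cE13395)) (BT.leaf cE13396)) (BT.node 13397 (BT.leaf cE13397) (BT.leaf cE13398))) (BT.node 13401 (BT.node 13400 (BT.node 13399 (BT.leaf cE13399) (BT.leaf cE13400)) (BT.leaf cE13401)) (BT.node 13402 (BT.leaf cE13402) (BT.leaf cE13403)))) (BT.node 13408 (BT.node 13406 (BT.node 13405 (BT.node 13404 (BT.leaf cE13404)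 (BT.leaf cE13405)) (BT.leaf cE13406)) (BT.node 13407 (BT.leaf cE13407) (BT.leaf cE13408))) (BT.node 13411 (BT.node 13410 (BT.node 13409 (BT.leaf cE13409) (BT.leaf cE13410)) (BT.leaf cE13411)) (BT.node 13412 (BT.leaf cE13412) (BT.leaf cE13413))))))))
noncomputable def colET_83 : BT ℕ := (BT.node 13494 (BT.node 13454 (BT.node 13434 (BT.node 13424 (BT.node 13419 (BT.node 13416 (BT.node 13415 (BT.node 13414 (BT.leaf cE13414) (BT.leaf cE13415)) (BT.leaf cE13416)) (BT.node 13418 (BT.node 13417 (BT.leaf cE13417) (BT.leaf cE13418)) (BT.leaf cE13419))) (BT.node 13422 (BT.node 13421 (BT.node 13420 (BT.leaf cE13420) (BT.leaf cE13421)) (BT.leaf cE13422)) (BT.node 13423 (BT.leaf cE13423) (BT.leaf cE13424)))) (BT.node 13429 (BT.node 13427 (BT.node 13426 (BT.node 13425 (BT.leaf cE13425) (BT.leaf cE13426)) (BT.leaf cE13427)) (BT.node 13428 (BT.leaf cE13428) (BT.leaf cE13429))) (BT.node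 13432 (BT.node 13431 (BT.node 13430 (BT.leaf cE13430) (BT.leaf cE13431)) (BT.leaf cE13432)) (BT.node 13433 (BT.leaf cE13433) (BT.leaf cE13434))))) (BT.node 13444 (BT.node 13439 (BT.node 13437 (BT.node 13436 (BT.node 13435 (BT.leaf cE13435) (BT.leaf cE13436)) (BT.leaf cE13437)) (BT.node 13438 (BT.leaf cE13438) (BT.leaf cE13439))) (BT.node 13442 (BT.node 13441 (BT.node 13440 (BT.leaf cE13440) (BT.leaf cE13441)) (BT.leaf cE13442)) (BT.node 13443 (BT.leaf cE13443) (BT.leaf cE13444)))) (BT.node 13449 (BT.node 13447 (BT.node 13446 (BT.node 13445 (BT.leaf cE13445) (BT.leaf cE13446)) (BT.leaf cE13447)) (BT.node 13448 (BT.leaf cE13448) (BT.leaf cE13449))) (BT.node 13452 (BT.node 13451 (BT.node 13450 (BT.leaf cE13450) (BT.leaf cE13451)) (BT.leaf cE13452)) (BT.node 13453 (BT.leaf cE13453) (BT.leaf cE13454)))))) (BT.node 13474 (BT.node 13464 (BT.node 13459 (BT.node 13457 (BT.node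 13456 (BT.node 13455 (BT.leaf cE13455) (BT.leaf cE13456)) (BT.leaf cE13457)) (BT.node 13458 (BT.leaf cE13458) (BT.leaf cE13459))) (BT.node 13462 (BT.node 13461 (BT.node 13460 (BT.leaf cE13460) (BT.leaf cE13461)) (BT.leaf cE13462)) (BT.node 13463 (BT.leaf cE13463) (BT.leaf cE13464)))) (BT.node 13469 (BT.node 13467 (BT.node 13466 (BT.node 13465 (BT.leaf cE13465) (BT.leaf cE13466)) (BT.leaf cE13467)) (BT.node 13468 (BT.leaf cE13468) (BT.leaf cE13469))) (BT.node 13472 (BT.node 13471 (BT.node 13470 (BT.leaf cE13470) (BT.leaf cE13471)) (BT.leaf cE13472)) (BT.node 13473 (BT.leaf cE13473) (BT.leaf cE13474))))) (BT.node 13484 (BT.node 13479 (BT.node 13477 (BT.node 13476 (BT.node 13475 (BT.leaf cE13475) (BT.leaf cE13476)) (BT.leaf cE13477)) (BT.node 13478 (BT.leaf cE13478) (BT.leaf cE13479))) (BT.node 13482 (BT.node 13481 (BT.node 13480 (BT.leaf cE13480) (BT.leaf cE13481)) (BT.leaf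 cE13482)) (BT.node 13483 (BT.leaf cE13483) (BT.leaf cE13484)))) (BT.node 13489 (BT.node 13487 (BT.node 13486 (BT.node 13485 (BT.leaf cE13485) (BT.leaf cE13486)) (BT.leaf cE13487)) (BT.node 13488 (BT.leaf cE13488) (BT.leaf cE13489))) (BT.node 13492 (BT.node 13491 (BT.node 13490 (BT.leaf cE13490) (BT.leaf cE13491)) (BT.leaf cE13492)) (BT.node 13493 (BT.leaf cE13493) (BT.leaf cE13494))))))) (BT.node 13534 (BT.node 13514 (BT.node 13504 (BT.node 13499 (BT.node 13497 (BT.node 13496 (BT.node 13495 (BT.leaf cE13495) (BT.leaf cE13496)) (BT.leaf cE13497)) (BT.node 13498 (BT.leaf cE13498) (BT.leaf cE13499))) (BT.node 13502 (BT.node 13501 (BT.node 13500 (BT.leaf cE13500) (BT.leaf cE13501)) (BT.leaf cE13502)) (BT.node 13503 (BT.leaf cE13503) (BT.leaf cE13504)))) (BT.node 13509 (BT.node 13507 (BT.node 13506 (BT.node 13505 (BT.leaf cE13505) (BT.leaf cE13506)) (BT.leaf cE13507)) (BT.node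 13508 (BT.leaf cE13508) (BT.leaf cE13509))) (BT.node 13512 (BT.node 13511 (BT.node 13510 (BT.leaf cE13510) (BT.leaf cE13511)) (BT.leaf cE13512)) (BT.node 13513 (BT.leaf cE13513) (BT.leaf cE13514))))) (BT.node 13524 (BT.node 13519 (BT.node 13517 (BT.node 13516 (BT.node 13515 (BT.leaf cE13515) (BT.leaf cE13516)) (BT.leaf cE13517)) (BT.node 13518 (BT.leaf cE13518) (BT.leaf cE13519))) (BT.node 13522 (BT.node 13521 (BT.node 13520 (BT.leaf cE13520) (BT.leaf cE13521)) (BT.leaf cE13522)) (BT.node 13523 (BT.leaf cE13523) (BT.leaf cE13524)))) (BT.node 13529 (BT.node 13527 (BT.node 13526 (BT.node 13525 (BT.leaf cE13525) (BT.leaf cE13526)) (BT.leaf cE13527)) (BT.node 13528 (BT.leaf cE13528) (BT.leaf cE13529))) (BT.node 13532 (BT.node 13531 (BT.node 13530 (BT.leaf cE13530) (BT.leaf cE13531)) (BT.leaf cE13532)) (BT.node 13533 (BT.leaf cE13533) (BT.leaf cE13534)))))) (BT.node 13554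 (BT.node 13544 (BT.node 13539 (BT.node 13537 (BT.node 13536 (BT.node 13535 (BT.leaf cE13535) (BT.leaf cE13536)) (BT.leaf cE13537)) (BT.node 13538 (BT.leaf cE13538) (BT.leaf cE13539))) (BT.node 13542 (BT.node 13541 (BT.node 13540 (BT.leaf cE13540) (BT.leaf cE13541)) (BT.leaf cE13542)) (BT.node 13543 (BT.leaf cE13543) (BT.leaf cE13544)))) (BT.node 13549 (BT.node 13547 (BT.node 13546 (BT.node 13545 (BT.leaf cE13545) (BT.leaf cE13546)) (BT.leaf cE13547)) (BT.node 13548 (BT.leaf cE13548) (BT.leaf cE13549))) (BT.node 13552 (BT.node 13551 (BT.node 13550 (BT.leaf cE13550) (BT.leaf cE13551)) (BT.leaf cE13552)) (BT.node 13553 (BT.leaf cE13553) (BT.leaf cE13554))))) (BT.node 13564 (BT.node 13559 (BT.node 13557 (BT.node 13556 (BT.node 13555 (BT.leaf cE13555) (BT.leaf cE13556)) (BT.leaf cE13557)) (BT.node 13558 (BT.leaf cE13558) (BT.leaf cE13559))) (BT.node 13562 (BT.node 13561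 (BT.node 13560 (BT.leaf cE13560) (BT.leaf cE13561)) (BT.leaf cE13562)) (BT.node 13563 (BT.leaf cE13563) (BT.leaf cE13564)))) (BT.node 13569 (BT.node 13567 (BT.node 13566 (BT.node 13565 (BT.leaf cE13565) (BT.leaf cE13566)) (BT.leaf cE13567)) (BT.node 13568 (BT.leaf cE13568) (BT.leaf cE13569))) (BT.node 13572 (BT.node 13571 (BT.node 13570 (BT.leaf cE13570) (BT.leaf cE13571)) (BT.leaf cE13572)) (BT.node 13573 (BT.leaf cE13573) (BT.leaf cE13574))))))))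
noncomputable def colET_84 : BT ℕ := (BT.node 13655 (BT.node 13615 (BT.node 13595 (BT.node 13585 (BT.node 13580 (BT.node 13577 (BT.node 13576 (BT.node 13575 (BT.leaf cE13575) (BT.leaf cE13576)) (BT.leaf cE13577)) (BT.node 13579 (BT.node 13578 (BT.leaf cE13578) (BT.leaf cE13579)) (BT.leaf cE13580))) (BT.node 13583 (BT.node 13582 (BT.node 13581 (BT.leaf cE13581) (BT.leaf cE13582)) (BT.leaf cE13583)) (BT.node 13584 (BT.leaf cE13584) (BT.leaf cE13585)))) (BT.node 13590 (BT.node 13588 (BT.node 13587 (BT.node 13586 (BT.leaf cE13586) (BT.leaf cE13587)) (BT.leaf cE13588)) (BT.node 13589 (BT.leaf cE13589) (BT.leaf cE13590))) (BT.node 13593 (BT.node 13592 (BT.node 13591 (BT.leaf cE13591) (BT.leaf cE13592)) (BT.leaf cE13593)) (BT.node 13594 (BT.leaf cE13594) (BT.leaf cE13595))))) (BT.node 13605 (BT.node 13600 (BT.node 13598 (BT.node 13597 (BT.node 13596 (BT.leaf cE13596) (BT.leaf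 cE13597)) (BT.leaf cE13598)) (BT.node 13599 (BT.leaf cE13599) (BT.leaf cE13600))) (BT.node 13603 (BT.node 13602 (BT.node 13601 (BT.leaf cE13601) (BT.leaf cE13602)) (BT.leaf cE13603)) (BT.node 13604 (BT.leaf cE13604) (BT.leaf cE13605)))) (BT.node 13610 (BT.node 13608 (BT.node 13607 (BT.node 13606 (BT.leaf cE13606) (BT.leaf cE13607)) (BT.leaf cE13608)) (BT.node 13609 (BT.leaf cE13609) (BT.leaf cE13610))) (BT.node 13613 (BT.node 13612 (BT.node 13611 (BT.leaf cE13611) (BT.leaf cE13612)) (BT.leaf cE13613)) (BT.node 13614 (BT.leaf cE13614) (BT.leaf cE13615)))))) (BT.node 13635 (BT.node 13625 (BT.node 13620 (BT.node 13618 (BT.node 13617 (BT.node 13616 (BT.leaf cE13616) (BT.leaf cE13617)) (BT.leaf cE13618)) (BT.node 13619 (BT.leaf cE13619) (BT.leaf cE13620))) (BT.node 13623 (BT.node 13622 (BT.node 13621 (BT.leaf cE13621) (BT.leaf cE13622)) (BT.leaf cE13623)) (BT.node 13624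 (BT.leaf cE13624) (BT.leaf cE13625)))) (BT.node 13630 (BT.node 13628 (BT.node 13627 (BT.node 13626 (BT.leaf cE13626) (BT.leaf cE13627)) (BT.leaf cE13628)) (BT.node 13629 (BT.leaf cE13629) (BT.leaf cE13630))) (BT.node 13633 (BT.node 13632 (BT.node 13631 (BT.leaf cE13631) (BT.leaf cE13632)) (BT.leaf cE13633)) (BT.node 13634 (BT.leaf cE13634) (BT.leaf cE13635))))) (BT.node 13645 (BT.node 13640 (BT.node 13638 (BT.node 13637 (BT.node 13636 (BT.leaf cE13636) (BT.leaf cE13637)) (BT.leaf cE13638)) (BT.node 13639 (BT.leaf cE13639) (BT.leaf cE13640))) (BT.node 13643 (BT.node 13642 (BT.node 13641 (BT.leaf cE13641) (BT.leaf cE13642)) (BT.leaf cE13643)) (BT.node 13644 (BT.leaf cE13644) (BT.leaf cE13645)))) (BT.node 13650 (BT.node 13648 (BT.node 13647 (BT.node 13646 (BT.leaf cE13646) (BT.leaf cE13647)) (BT.leaf cE13648)) (BT.node 13649 (BT.leaf cE13649) (BT.leaf cE13650))) (BT.node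 13653 (BT.node 13652 (BT.node 13651 (BT.leaf cE13651) (BT.leaf cE13652)) (BT.leaf cE13653)) (BT.node 13654 (BT.leaf cE13654) (BT.leaf cE13655))))))) (BT.node 13696 (BT.node 13676 (BT.node 13666 (BT.node 13661 (BT.node 13658 (BT.node 13657 (BT.node 13656 (BT.leaf cE13656) (BT.leaf cE13657)) (BT.leaf cE13658)) (BT.node 13660 (BT.node 13659 (BT.leaf cE13659) (BT.leaf cE13660)) (BT.leaf cE13661))) (BT.node 13664 (BT.node 13663 (BT.node 13662 (BT.leaf cE13662) (BT.leaf cE13663)) (BT.leaf cE13664)) (BT.node 13665 (BT.leaf cE13665) (BT.leaf cE13666)))) (BT.node 13671 (BT.node 13669 (BT.node 13668 (BT.node 13667 (BT.leaf cE13667) (BT.leaf cE13668)) (BT.leaf cE13669)) (BT.node 13670 (BT.leaf cE13670) (BT.leaf cE13671))) (BT.node 13674 (BT.node 13673 (BT.node 13672 (BT.leaf cE13672) (BT.leaf cE13673)) (BT.leaf cE13674)) (BT.node 13675 (BT.leaf cE13675) (BT.leaf cE13676)))))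 (BT.node 13686 (BT.node 13681 (BT.node 13679 (BT.node 13678 (BT.node 13677 (BT.leaf cE13677) (BT.leaf cE13678)) (BT.leaf cE13679)) (BT.node 13680 (BT.leaf cE13680) (BT.leaf cE13681))) (BT.node 13684 (BT.node 13683 (BT.node 13682 (BT.leaf cE13682) (BT.leaf cE13683)) (BT.leaf cE13684)) (BT.node 13685 (BT.leaf cE13685) (BT.leaf cE13686)))) (BT.node 13691 (BT.node 13689 (BT.node 13688 (BT.node 13687 (BT.leaf cE13687) (BT.leaf cE13688)) (BT.leaf cE13689)) (BT.node 13690 (BT.leaf cE13690) (BT.leaf cE13691))) (BT.node 13694 (BT.node 13693 (BT.node 13692 (BT.leaf cE13692) (BT.leaf cE13693)) (BT.leaf cE13694)) (BT.node 13695 (BT.leaf cE13695) (BT.leaf cE13696)))))) (BT.node 13716 (BT.node 13706 (BT.node 13701 (BT.node 13699 (BT.node 13698 (BT.node 13697 (BT.leaf cE13697) (BT.leaf cE13698)) (BT.leaf cE13699)) (BT.node 13700 (BT.leaf cE13700) (BT.leaf cE13701))) (BT.node 13704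 (BT.node 13703 (BT.node 13702 (BT.leaf cE13702) (BT.leaf cE13703)) (BT.leaf cE13704)) (BT.node 13705 (BT.leaf cE13705) (BT.leaf cE13706)))) (BT.node 13711 (BT.node 13709 (BT.node 13708 (BT.node 13707 (BT.leaf cE13707) (BT.leaf cE13708)) (BT.leaf cE13709)) (BT.node 13710 (BT.leaf cE13710) (BT.leaf cE13711))) (BT.node 13714 (BT.node 13713 (BT.node 13712 (BT.leaf cE13712) (BT.leaf cE13713)) (BT.leaf cE13714)) (BT.node 13715 (BT.leaf cE13715) (BT.leaf cE13716))))) (BT.node 13726 (BT.node 13721 (BT.node 13719 (BT.node 13718 (BT.node 13717 (BT.leaf cE13717) (BT.leaf cE13718)) (BT.leaf cE13719)) (BT.node 13720 (BT.leaf cE13720) (BT.leaf cE13721))) (BT.node 13724 (BT.node 13723 (BT.node 13722 (BT.leaf cE13722) (BT.leaf cE13723)) (BT.leaf cE13724)) (BT.node 13725 (BT.leaf cE13725) (BT.leaf cE13726)))) (BT.node 13731 (BT.node 13729 (BT.node 13728 (BT.node 13727 (BT.leaf cE13727)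 (BT.leaf cE13728)) (BT.leaf cE13729)) (BT.node 13730 (BT.leaf cE13730) (BT.leaf cE13731))) (BT.node 13734 (BT.node 13733 (BT.node 13732 (BT.leaf cE13732) (BT.leaf cE13733)) (BT.leaf cE13734)) (BT.node 13735 (BT.leaf cE13735) (BT.leaf cE13736))))))))
noncomputable def colET_85 : BT ℕ := (BT.node 13817 (BT.node 13777 (BT.node 13757 (BT.node 13747 (BT.node 13742 (BT.node 13739 (BT.node 13738 (BT.node 13737 (BT.leaf cE13737) (BT.leaf cE13738)) (BT.leaf cE13739)) (BT.node 13741 (BT.node 13740 (BT.leaf cE13740) (BT.leaf cE13741)) (BT.leaf cE13742))) (BT.node 13745 (BT.node 13744 (BT.node 13743 (BT.leaf cE13743) (BT.leaf cE13744)) (BT.leaf cE13745)) (BT.node 13746 (BT.leaf cE13746) (BT.leaf cE13747)))) (BT.node 13752 (BT.node 13750 (BT.node 13749 (BT.node 13748 (BT.leaf cE13748) (BT.leaf cE13749)) (BT.leaf cE13750)) (BT.node 13751 (BT.leaf cE13751) (BT.leaf cE13752))) (BT.node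 13755 (BT.node 13754 (BT.node 13753 (BT.leaf cE13753) (BT.leaf cE13754)) (BT.leaf cE13755)) (BT.node 13756 (BT.leaf cE13756) (BT.leaf cE13757))))) (BT.node 13767 (BT.node 13762 (BT.node 13760 (BT.node 13759 (BT.node 13758 (BT.leaf cE13758) (BT.leaf cE13759)) (BT.leaf cE13760)) (BT.node 13761 (BT.leaf cE13761) (BT.leaf cE13762))) (BT.node 13765 (BT.node 13764 (BT.node 13763 (BT.leaf cE13763) (BT.leaf cE13764)) (BT.leaf cE13765)) (BT.node 13766 (BT.leaf cE13766) (BT.leaf cE13767)))) (BT.node 13772 (BT.node 13770 (BT.node 13769 (BT.node 13768 (BT.leaf cE13768) (BT.leaf cE13769)) (BT.leaf cE13770)) (BT.node 13771 (BT.leaf cE13771) (BT.leaf cE13772))) (BT.node 13775 (BT.node 13774 (BT.node 13773 (BT.leaf cE13773) (BT.leaf cE13774)) (BT.leaf cE13775)) (BT.node 13776 (BT.leaf cE13776) (BT.leaf cE13777)))))) (BT.node 13797 (BT.node 13787 (BT.node 13782 (BT.node 13780 (BT.node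 13779 (BT.node 13778 (BT.leaf cE13778) (BT.leaf cE13779)) (BT.leaf cE13780)) (BT.node 13781 (BT.leaf cE13781) (BT.leaf cE13782))) (BT.node 13785 (BT.node 13784 (BT.node 13783 (BT.leaf cE13783) (BT.leaf cE13784)) (BT.leaf cE13785)) (BT.node 13786 (BT.leaf cE13786) (BT.leaf cE13787)))) (BT.node 13792 (BT.node 13790 (BT.node 13789 (BT.node 13788 (BT.leaf cE13788) (BT.leaf cE13789)) (BT.leaf cE13790)) (BT.node 13791 (BT.leaf cE13791) (BT.leaf cE13792))) (BT.node 13795 (BT.node 13794 (BT.node 13793 (BT.leaf cE13793) (BT.leaf cE13794)) (BT.leaf cE13795)) (BT.node 13796 (BT.leaf cE13796) (BT.leaf cE13797))))) (BT.node 13807 (BT.node 13802 (BT.node 13800 (BT.node 13799 (BT.node 13798 (BT.leaf cE13798) (BT.leaf cE13799)) (BT.leaf cE13800)) (BT.node 13801 (BT.leaf cE13801) (BT.leaf cE13802))) (BT.node 13805 (BT.node 13804 (BT.node 13803 (BT.leaf cE13803) (BT.leaf cE13804)) (BT.leaf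 cE13805)) (BT.node 13806 (BT.leaf cE13806) (BT.leaf cE13807)))) (BT.node 13812 (BT.node 13810 (BT.node 13809 (BT.node 13808 (BT.leaf cE13808) (BT.leaf cE13809)) (BT.leaf cE13810)) (BT.node 13811 (BT.leaf cE13811) (BT.leaf cE13812))) (BT.node 13815 (BT.node 13814 (BT.node 13813 (BT.leaf cE13813) (BT.leaf cE13814)) (BT.leaf cE13815)) (BT.node 13816 (BT.leaf cE13816) (BT.leaf cE13817))))))) (BT.node 13857 (BT.node 13837 (BT.node 13827 (BT.node 13822 (BT.node 13820 (BT.node 13819 (BT.node 13818 (BT.leaf cE13818) (BT.leaf cE13819)) (BT.leaf cE13820)) (BT.node 13821 (BT.leaf cE13821) (BT.leaf cE13822))) (BT.node 13825 (BT.node 13824 (BT.node 13823 (BT.leaf cE13823) (BT.leaf cE13824)) (BT.leaf cE13825)) (BT.node 13826 (BT.leaf cE13826) (BT.leaf cE13827)))) (BT.node 13832 (BT.node 13830 (BT.node 13829 (BT.node 13828 (BT.leaf cE13828) (BT.leaf cE13829)) (BT.leaf cE13830)) (BT.node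 13831 (BT.leaf cE13831) (BT.leaf cE13832))) (BT.node 13835 (BT.node 13834 (BT.node 13833 (BT.leaf cE13833) (BT.leaf cE13834)) (BT.leaf cE13835)) (BT.node 13836 (BT.leaf cE13836) (BT.leaf cE13837))))) (BT.node 13847 (BT.node 13842 (BT.node 13840 (BT.node 13839 (BT.node 13838 (BT.leaf cE13838) (BT.leaf cE13839)) (BT.leaf cE13840)) (BT.node 13841 (BT.leaf cE13841) (BT.leaf cE13842))) (BT.node 13845 (BT.node 13844 (BT.node 13843 (BT.leaf cE13843) (BT.leaf cE13844)) (BT.leaf cE13845)) (BT.node 13846 (BT.leaf cE13846) (BT.leaf cE13847)))) (BT.node 13852 (BT.node 13850 (BT.node 13849 (BT.node 13848 (BT.leaf cE13848) (BT.leaf cE13849)) (BT.leaf cE13850)) (BT.node 13851 (BT.leaf cE13851) (BT.leaf cE13852))) (BT.node 13855 (BT.node 13854 (BT.node 13853 (BT.leaf cE13853) (BT.leaf cE13854)) (BT.leaf cE13855)) (BT.node 13856 (BT.leaf cE13856) (BT.leaf cE13857)))))) (BT.node 13877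 (BT.node 13867 (BT.node 13862 (BT.node 13860 (BT.node 13859 (BT.node 13858 (BT.leaf cE13858) (BT.leaf cE13859)) (BT.leaf cE13860)) (BT.node 13861 (BT.leaf cE13861) (BT.leaf cE13862))) (BT.node 13865 (BT.node 13864 (BT.node 13863 (BT.leaf cE13863) (BT.leaf cE13864)) (BT.leaf cE13865)) (BT.node 13866 (BT.leaf cE13866) (BT.leaf cE13867)))) (BT.node 13872 (BT.node 13870 (BT.node 13869 (BT.node 13868 (BT.leaf cE13868) (BT.leaf cE13869)) (BT.leaf cE13870)) (BT.node 13871 (BT.leaf cE13871) (BT.leaf cE13872))) (BT.node 13875 (BT.node 13874 (BT.node 13873 (BT.leaf cE13873) (BT.leaf cE13874)) (BT.leaf cE13875)) (BT.node 13876 (BT.leaf cE13876) (BT.leaf cE13877))))) (BT.node 13887 (BT.node 13882 (BT.node 13880 (BT.node 13879 (BT.node 13878 (BT.leaf cE13878) (BT.leaf cE13879)) (BT.leaf cE13880)) (BT.node 13881 (BT.leaf cE13881) (BT.leaf cE13882))) (BT.node 13885 (BT.node 13884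 (BT.node 13883 (BT.leaf cE13883) (BT.leaf cE13884)) (BT.leaf cE13885)) (BT.node 13886 (BT.leaf cE13886) (BT.leaf cE13887)))) (BT.node 13892 (BT.node 13890 (BT.node 13889 (BT.node 13888 (BT.leaf cE13888) (BT.leaf cE13889)) (BT.leaf cE13890)) (BT.node 13891 (BT.leaf cE13891) (BT.leaf cE13892))) (BT.node 13895 (BT.node 13894 (BT.node 13893 (BT.leaf cE13893) (BT.leaf cE13894)) (BT.leaf cE13895)) (BT.node 13896 (BT.leaf cE13896) (BT.leaf cE13897))))))))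
noncomputable def colET_86 : BT ℕ := (BT.node 13978 (BT.node 13938 (BT.node 13918 (BT.node 13908 (BT.node 13903 (BT.node 13900 (BT.node 13899 (BT.node 13898 (BT.leaf cE13898) (BT.leaf cE13899)) (BT.leaf cE13900)) (BT.node 13902 (BT.node 13901 (BT.leaf cE13901) (BT.leaf cE13902)) (BT.leaf cE13903))) (BT.node 13906 (BT.node 13905 (BT.node 13904 (BT.leaf cE13904) (BT.leaf cE13905)) (BT.leaf cE13906)) (BT.node 13907 (BT.leaf cE13907) (BT.leaf cE13908)))) (BT.node 13913 (BT.node 13911 (BT.node 13910 (BT.node 13909 (BT.leaf cE13909) (BT.leaf cE13910)) (BT.leaf cE13911)) (BT.node 13912 (BT.leaf cE13912) (BT.leaf cE13913))) (BT.node 13916 (BT.node 13915 (BT.node 13914 (BT.leaf cE13914) (BT.leaf cE13915)) (BT.leaf cE13916)) (BT.node 13917 (BT.leaf cE13917) (BT.leaf cE13918))))) (BT.node 13928 (BT.node 13923 (BT.node 13921 (BT.node 13920 (BT.node 13919 (BT.leaf cE13919) (BT.leaf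 cE13920)) (BT.leaf cE13921)) (BT.node 13922 (BT.leaf cE13922) (BT.leaf cE13923))) (BT.node 13926 (BT.node 13925 (BT.node 13924 (BT.leaf cE13924) (BT.leaf cE13925)) (BT.leaf cE13926)) (BT.node 13927 (BT.leaf cE13927) (BT.leaf cE13928)))) (BT.node 13933 (BT.node 13931 (BT.node 13930 (BT.node 13929 (BT.leaf cE13929) (BT.leaf cE13930)) (BT.leaf cE13931)) (BT.node 13932 (BT.leaf cE13932) (BT.leaf cE13933))) (BT.node 13936 (BT.node 13935 (BT.node 13934 (BT.leaf cE13934) (BT.leaf cE13935)) (BT.leaf cE13936)) (BT.node 13937 (BT.leaf cE13937) (BT.leaf cE13938)))))) (BT.node 13958 (BT.node 13948 (BT.node 13943 (BT.node 13941 (BT.node 13940 (BT.node 13939 (BT.leaf cE13939) (BT.leaf cE13940)) (BT.leaf cE13941)) (BT.node 13942 (BT.leaf cE13942) (BT.leaf cE13943))) (BT.node 13946 (BT.node 13945 (BT.node 13944 (BT.leaf cE13944) (BT.leaf cE13945)) (BT.leaf cE13946)) (BT.node 13947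 (BT.leaf cE13947) (BT.leaf cE13948)))) (BT.node 13953 (BT.node 13951 (BT.node 13950 (BT.node 13949 (BT.leaf cE13949) (BT.leaf cE13950)) (BT.leaf cE13951)) (BT.node 13952 (BT.leaf cE13952) (BT.leaf cE13953))) (BT.node 13956 (BT.node 13955 (BT.node 13954 (BT.leaf cE13954) (BT.leaf cE13955)) (BT.leaf cE13956)) (BT.node 13957 (BT.leaf cE13957) (BT.leaf cE13958))))) (BT.node 13968 (BT.node 13963 (BT.node 13961 (BT.node 13960 (BT.node 13959 (BT.leaf cE13959) (BT.leaf cE13960)) (BT.leaf cE13961)) (BT.node 13962 (BT.leaf cE13962) (BT.leaf cE13963))) (BT.node 13966 (BT.node 13965 (BT.node 13964 (BT.leaf cE13964) (BT.leaf cE13965)) (BT.leaf cE13966)) (BT.node 13967 (BT.leaf cE13967) (BT.leaf cE13968)))) (BT.node 13973 (BT.node 13971 (BT.node 13970 (BT.node 13969 (BT.leaf cE13969) (BT.leaf cE13970)) (BT.leaf cE13971)) (BT.node 13972 (BT.leaf cE13972) (BT.leaf cE13973))) (BT.node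 13976 (BT.node 13975 (BT.node 13974 (BT.leaf cE13974) (BT.leaf cE13975)) (BT.leaf cE13976)) (BT.node 13977 (BT.leaf cE13977) (BT.leaf cE13978))))))) (BT.node 14019 (BT.node 13999 (BT.node 13989 (BT.node 13984 (BT.node 13981 (BT.node 13980 (BT.node 13979 (BT.leaf cE13979) (BT.leaf cE13980)) (BT.leaf cE13981)) (BT.node 13983 (BT.node 13982 (BT.leaf cE13982) (BT.leaf cE13983)) (BT.leaf cE13984))) (BT.node 13987 (BT.node 13986 (BT.node 13985 (BT.leaf cE13985) (BT.leaf cE13986)) (BT.leaf cE13987)) (BT.node 13988 (BT.leaf cE13988) (BT.leaf cE13989)))) (BT.node 13994 (BT.node 13992 (BT.node 13991 (BT.node 13990 (BT.leaf cE13990) (BT.leaf cE13991)) (BT.leaf cE13992)) (BT.node 13993 (BT.leaf cE13993) (BT.leaf cE13994))) (BT.node 13997 (BT.node 13996 (BT.node 13995 (BT.leaf cE13995) (BT.leaf cE13996)) (BT.leaf cE13997)) (BT.node 13998 (BT.leaf cE13998) (BT.leaf cE13999)))))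 (BT.node 14009 (BT.node 14004 (BT.node 14002 (BT.node 14001 (BT.node 14000 (BT.leaf cE14000) (BT.leaf cE14001)) (BT.leaf cE14002)) (BT.node 14003 (BT.leaf cE14003) (BT.leaf cE14004))) (BT.node 14007 (BT.node 14006 (BT.node 14005 (BT.leaf cE14005) (BT.leaf cE14006)) (BT.leaf cE14007)) (BT.node 14008 (BT.leaf cE14008) (BT.leaf cE14009)))) (BT.node 14014 (BT.node 14012 (BT.node 14011 (BT.node 14010 (BT.leaf cE14010) (BT.leaf cE14011)) (BT.leaf cE14012)) (BT.node 14013 (BT.leaf cE14013) (BT.leaf cE14014))) (BT.node 14017 (BT.node 14016 (BT.node 14015 (BT.leaf cE14015) (BT.leaf cE14016)) (BT.leaf cE14017)) (BT.node 14018 (BT.leaf cE14018) (BT.leaf cE14019)))))) (BT.node 14039 (BT.node 14029 (BT.node 14024 (BT.node 14022 (BT.node 14021 (BT.node 14020 (BT.leaf cE14020) (BT.leaf cE14021)) (BT.leaf cE14022)) (BT.node 14023 (BT.leaf cE14023) (BT.leaf cE14024))) (BT.node 14027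 (BT.node 14026 (BT.node 14025 (BT.leaf cE14025) (BT.leaf cE14026)) (BT.leaf cE14027)) (BT.node 14028 (BT.leaf cE14028) (BT.leaf cE14029)))) (BT.node 14034 (BT.node 14032 (BT.node 14031 (BT.node 14030 (BT.leaf cE14030) (BT.leaf cE14031)) (BT.leaf cE14032)) (BT.node 14033 (BT.leaf cE14033) (BT.leaf cE14034))) (BT.node 14037 (BT.node 14036 (BT.node 14035 (BT.leaf cE14035) (BT.leaf cE14036)) (BT.leaf cE14037)) (BT.node 14038 (BT.leaf cE14038) (BT.leaf cE14039))))) (BT.node 14049 (BT.node 14044 (BT.node 14042 (BT.node 14041 (BT.node 14040 (BT.leaf cE14040) (BT.leaf cE14041)) (BT.leaf cE14042)) (BT.node 14043 (BT.leaf cE14043) (BT.leaf cE14044))) (BT.node 14047 (BT.node 14046 (BT.node 14045 (BT.leaf cE14045) (BT.leaf cE14046)) (BT.leaf cE14047)) (BT.node 14048 (BT.leaf cE14048) (BT.leaf cE14049)))) (BT.node 14054 (BT.node 14052 (BT.node 14051 (BT.node 14050 (BT.leaf cE14050)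 (BT.leaf cE14051)) (BT.leaf cE14052)) (BT.node 14053 (BT.leaf cE14053) (BT.leaf cE14054))) (BT.node 14057 (BT.node 14056 (BT.node 14055 (BT.leaf cE14055) (BT.leaf cE14056)) (BT.leaf cE14057)) (BT.node 14058 (BT.leaf cE14058) (BT.leaf cE14059))))))))
noncomputable def colET_87 : BT ℕ := (BT.node 14140 (BT.node 14100 (BT.node 14080 (BT.node 14070 (BT.node 14065 (BT.node 14062 (BT.node 14061 (BT.node 14060 (BT.leaf cE14060) (BT.leaf cE14061)) (BT.leaf cE14062)) (BT.node 14064 (BT.node 14063 (BT.leaf cE14063) (BT.leaf cE14064)) (BT.leaf cE14065))) (BT.node 14068 (BT.node 14067 (BT.node 14066 (BT.leaf cE14066) (BT.leaf cE14067)) (BT.leaf cE14068)) (BT.node 14069 (BT.leaf cE14069) (BT.leaf cE14070)))) (BT.node 14075 (BT.node 14073 (BT.node 14072 (BT.node 14071 (BT.leaf cE14071) (BT.leaf cE14072)) (BT.leaf cE14073)) (BT.node 14074 (BT.leaf cE14074) (BT.leaf cE14075))) (BT.node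 14078 (BT.node 14077 (BT.node 14076 (BT.leaf cE14076) (BT.leaf cE14077)) (BT.leaf cE14078)) (BT.node 14079 (BT.leaf cE14079) (BT.leaf cE14080))))) (BT.node 14090 (BT.node 14085 (BT.node 14083 (BT.node 14082 (BT.node 14081 (BT.leaf cE14081) (BT.leaf cE14082)) (BT.leaf cE14083)) (BT.node 14084 (BT.leaf cE14084) (BT.leaf cE14085))) (BT.node 14088 (BT.node 14087 (BT.node 14086 (BT.leaf cE14086) (BT.leaf cE14087)) (BT.leaf cE14088)) (BT.node 14089 (BT.leaf cE14089) (BT.leaf cE14090)))) (BT.node 14095 (BT.node 14093 (BT.node 14092 (BT.node 14091 (BT.leaf cE14091) (BT.leaf cE14092)) (BT.leaf cE14093)) (BT.node 14094 (BT.leaf cE14094) (BT.leaf cE14095))) (BT.node 14098 (BT.node 14097 (BT.node 14096 (BT.leaf cE14096) (BT.leaf cE14097)) (BT.leaf cE14098)) (BT.node 14099 (BT.leaf cE14099) (BT.leaf cE14100)))))) (BT.node 14120 (BT.node 14110 (BT.node 14105 (BT.node 14103 (BT.node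 14102 (BT.node 14101 (BT.leaf cE14101) (BT.leaf cE14102)) (BT.leaf cE14103)) (BT.node 14104 (BT.leaf cE14104) (BT.leaf cE14105))) (BT.node 14108 (BT.node 14107 (BT.node 14106 (BT.leaf cE14106) (BT.leaf cE14107)) (BT.leaf cE14108)) (BT.node 14109 (BT.leaf cE14109) (BT.leaf cE14110)))) (BT.node 14115 (BT.node 14113 (BT.node 14112 (BT.node 14111 (BT.leaf cE14111) (BT.leaf cE14112)) (BT.leaf cE14113)) (BT.node 14114 (BT.leaf cE14114) (BT.leaf cE14115))) (BT.node 14118 (BT.node 14117 (BT.node 14116 (BT.leaf cE14116) (BT.leaf cE14117)) (BT.leaf cE14118)) (BT.node 14119 (BT.leaf cE14119) (BT.leaf cE14120))))) (BT.node 14130 (BT.node 14125 (BT.node 14123 (BT.node 14122 (BT.node 14121 (BT.leaf cE14121) (BT.leaf cE14122)) (BT.leaf cE14123)) (BT.node 14124 (BT.leaf cE14124) (BT.leaf cE14125))) (BT.node 14128 (BT.node 14127 (BT.node 14126 (BT.leaf cE14126) (BT.leaf cE14127)) (BT.leaf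 cE14128)) (BT.node 14129 (BT.leaf cE14129) (BT.leaf cE14130)))) (BT.node 14135 (BT.node 14133 (BT.node 14132 (BT.node 14131 (BT.leaf cE14131) (BT.leaf cE14132)) (BT.leaf cE14133)) (BT.node 14134 (BT.leaf cE14134) (BT.leaf cE14135))) (BT.node 14138 (BT.node 14137 (BT.node 14136 (BT.leaf cE14136) (BT.leaf cE14137)) (BT.leaf cE14138)) (BT.node 14139 (BT.leaf cE14139) (BT.leaf cE14140))))))) (BT.node 14180 (BT.node 14160 (BT.node 14150 (BT.node 14145 (BT.node 14143 (BT.node 14142 (BT.node 14141 (BT.leaf cE14141) (BT.leaf cE14142)) (BT.leaf cE14143)) (BT.node 14144 (BT.leaf cE14144) (BT.leaf cE14145))) (BT.node 14148 (BT.node 14147 (BT.node 14146 (BT.leaf cE14146) (BT.leaf cE14147)) (BT.leaf cE14148)) (BT.node 14149 (BT.leaf cE14149) (BT.leaf cE14150)))) (BT.node 14155 (BT.node 14153 (BT.node 14152 (BT.node 14151 (BT.leaf cE14151) (BT.leaf cE14152)) (BT.leaf cE14153)) (BT.node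 14154 (BT.leaf cE14154) (BT.leaf cE14155))) (BT.node 14158 (BT.node 14157 (BT.node 14156 (BT.leaf cE14156) (BT.leaf cE14157)) (BT.leaf cE14158)) (BT.node 14159 (BT.leaf cE14159) (BT.leaf cE14160))))) (BT.node 14170 (BT.node 14165 (BT.node 14163 (BT.node 14162 (BT.node 14161 (BT.leaf cE14161) (BT.leaf cE14162)) (BT.leaf cE14163)) (BT.node 14164 (BT.leaf cE14164) (BT.leaf cE14165))) (BT.node 14168 (BT.node 14167 (BT.node 14166 (BT.leaf cE14166) (BT.leaf cE14167)) (BT.leaf cE14168)) (BT.node 14169 (BT.leaf cE14169) (BT.leaf cE14170)))) (BT.node 14175 (BT.node 14173 (BT.node 14172 (BT.node 14171 (BT.leaf cE14171) (BT.leaf cE14172)) (BT.leaf cE14173)) (BT.node 14174 (BT.leaf cE14174) (BT.leaf cE14175))) (BT.node 14178 (BT.node 14177 (BT.node 14176 (BT.leaf cE14176) (BT.leaf cE14177)) (BT.leaf cE14178)) (BT.node 14179 (BT.leaf cE14179) (BT.leaf cE14180)))))) (BT.node 14200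 (BT.node 14190 (BT.node 14185 (BT.node 14183 (BT.node 14182 (BT.node 14181 (BT.leaf cE14181) (BT.leaf cE14182)) (BT.leaf cE14183)) (BT.node 14184 (BT.leaf cE14184) (BT.leaf cE14185))) (BT.node 14188 (BT.node 14187 (BT.node 14186 (BT.leaf cE14186) (BT.leaf cE14187)) (BT.leaf cE14188)) (BT.node 14189 (BT.leaf cE14189) (BT.leaf cE14190)))) (BT.node 14195 (BT.node 14193 (BT.node 14192 (BT.node 14191 (BT.leaf cE14191) (BT.leaf cE14192)) (BT.leaf cE14193)) (BT.node 14194 (BT.leaf cE14194) (BT.leaf cE14195))) (BT.node 14198 (BT.node 14197 (BT.node 14196 (BT.leaf cE14196) (BT.leaf cE14197)) (BT.leaf cE14198)) (BT.node 14199 (BT.leaf cE14199) (BT.leaf cE14200))))) (BT.node 14210 (BT.node 14205 (BT.node 14203 (BT.node 14202 (BT.node 14201 (BT.leaf cE14201) (BT.leaf cE14202)) (BT.leaf cE14203)) (BT.node 14204 (BT.leaf cE14204) (BT.leaf cE14205))) (BT.node 14208 (BT.node 14207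 (BT.node 14206 (BT.leaf cE14206) (BT.leaf cE14207)) (BT.leaf cE14208)) (BT.node 14209 (BT.leaf cE14209) (BT.leaf cE14210)))) (BT.node 14215 (BT.node 14213 (BT.node 14212 (BT.node 14211 (BT.leaf cE14211) (BT.leaf cE14212)) (BT.leaf cE14213)) (BT.node 14214 (BT.leaf cE14214) (BT.leaf cE14215))) (BT.node 14218 (BT.node 14217 (BT.node 14216 (BT.leaf cE14216) (BT.leaf cE14217)) (BT.leaf cE14218)) (BT.node 14219 (BT.leaf cE14219) (BT.leaf cE14220))))))))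
noncomputable def colET_88 : BT ℕ := (BT.node 14301 (BT.node 14261 (BT.node 14241 (BT.node 14231 (BT.node 14226 (BT.node 14223 (BT.node 14222 (BT.node 14221 (BT.leaf cE14221) (BT.leaf cE14222)) (BT.leaf cE14223)) (BT.node 14225 (BT.node 14224 (BT.leaf cE14224) (BT.leaf cE14225)) (BT.leaf cE14226))) (BT.node 14229 (BT.node 14228 (BT.node 14227 (BT.leaf cE14227) (BT.leaf cE14228)) (BT.leaf cE14229)) (BT.node 14230 (BT.leaf cE14230) (BT.leaf cE14231)))) (BT.node 14236 (BT.node 14234 (BT.node 14233 (BT.node 14232 (BT.leaf cE14232) (BT.leaf cE14233)) (BT.leaf cE14234)) (BT.node 14235 (BT.leaf cE14235) (BT.leaf cE14236))) (BT.node 14239 (BT.node 14238 (BT.node 14237 (BT.leaf cE14237) (BT.leaf cE14238)) (BT.leaf cE14239)) (BT.node 14240 (BT.leaf cE14240) (BT.leaf cE14241))))) (BT.node 14251 (BT.node 14246 (BT.node 14244 (BT.node 14243 (BT.node 14242 (BT.leaf cE14242) (BT.leaf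 cE14243)) (BT.leaf cE14244)) (BT.node 14245 (BT.leaf cE14245) (BT.leaf cE14246))) (BT.node 14249 (BT.node 14248 (BT.node 14247 (BT.leaf cE14247) (BT.leaf cE14248)) (BT.leaf cE14249)) (BT.node 14250 (BT.leaf cE14250) (BT.leaf cE14251)))) (BT.node 14256 (BT.node 14254 (BT.node 14253 (BT.node 14252 (BT.leaf cE14252) (BT.leaf cE14253)) (BT.leaf cE14254)) (BT.node 14255 (BT.leaf cE14255) (BT.leaf cE14256))) (BT.node 14259 (BT.node 14258 (BT.node 14257 (BT.leaf cE14257) (BT.leaf cE14258)) (BT.leaf cE14259)) (BT.node 14260 (BT.leaf cE14260) (BT.leaf cE14261)))))) (BT.node 14281 (BT.node 14271 (BT.node 14266 (BT.node 14264 (BT.node 14263 (BT.node 14262 (BT.leaf cE14262) (BT.leaf cE14263)) (BT.leaf cE14264)) (BT.node 14265 (BT.leaf cE14265) (BT.leaf cE14266))) (BT.node 14269 (BT.node 14268 (BT.node 14267 (BT.leaf cE14267) (BT.leaf cE14268)) (BT.leaf cE14269)) (BT.node 14270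 (BT.leaf cE14270) (BT.leaf cE14271)))) (BT.node 14276 (BT.node 14274 (BT.node 14273 (BT.node 14272 (BT.leaf cE14272) (BT.leaf cE14273)) (BT.leaf cE14274)) (BT.node 14275 (BT.leaf cE14275) (BT.leaf cE14276))) (BT.node 14279 (BT.node 14278 (BT.node 14277 (BT.leaf cE14277) (BT.leaf cE14278)) (BT.leaf cE14279)) (BT.node 14280 (BT.leaf cE14280) (BT.leaf cE14281))))) (BT.node 14291 (BT.node 14286 (BT.node 14284 (BT.node 14283 (BT.node 14282 (BT.leaf cE14282) (BT.leaf cE14283)) (BT.leaf cE14284)) (BT.node 14285 (BT.leaf cE14285) (BT.leaf cE14286))) (BT.node 14289 (BT.node 14288 (BT.node 14287 (BT.leaf cE14287) (BT.leaf cE14288)) (BT.leaf cE14289)) (BT.node 14290 (BT.leaf cE14290) (BT.leaf cE14291)))) (BT.node 14296 (BT.node 14294 (BT.node 14293 (BT.node 14292 (BT.leaf cE14292) (BT.leaf cE14293)) (BT.leaf cE14294)) (BT.node 14295 (BT.leaf cE14295) (BT.leaf cE14296))) (BT.node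 14299 (BT.node 14298 (BT.node 14297 (BT.leaf cE14297) (BT.leaf cE14298)) (BT.leaf cE14299)) (BT.node 14300 (BT.leaf cE14300) (BT.leaf cE14301))))))) (BT.node 14342 (BT.node 14322 (BT.node 14312 (BT.node 14307 (BT.node 14304 (BT.node 14303 (BT.node 14302 (BT.leaf cE14302) (BT.leaf cE14303)) (BT.leaf cE14304)) (BT.node 14306 (BT.node 14305 (BT.leaf cE14305) (BT.leaf cE14306)) (BT.leaf cE14307))) (BT.node 14310 (BT.node 14309 (BT.node 14308 (BT.leaf cE14308) (BT.leaf cE14309)) (BT.leaf cE14310)) (BT.node 14311 (BT.leaf cE14311) (BT.leaf cE14312)))) (BT.node 14317 (BT.node 14315 (BT.node 14314 (BT.node 14313 (BT.leaf cE14313) (BT.leaf cE14314)) (BT.leaf cE14315)) (BT.node 14316 (BT.leaf cE14316) (BT.leaf cE14317))) (BT.node 14320 (BT.node 14319 (BT.node 14318 (BT.leaf cE14318) (BT.leaf cE14319)) (BT.leaf cE14320)) (BT.node 14321 (BT.leaf cE14321) (BT.leaf cE14322)))))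 (BT.node 14332 (BT.node 14327 (BT.node 14325 (BT.node 14324 (BT.node 14323 (BT.leaf cE14323) (BT.leaf cE14324)) (BT.leaf cE14325)) (BT.node 14326 (BT.leaf cE14326) (BT.leaf cE14327))) (BT.node 14330 (BT.node 14329 (BT.node 14328 (BT.leaf cE14328) (BT.leaf cE14329)) (BT.leaf cE14330)) (BT.node 14331 (BT.leaf cE14331) (BT.leaf cE14332)))) (BT.node 14337 (BT.node 14335 (BT.node 14334 (BT.node 14333 (BT.leaf cE14333) (BT.leaf cE14334)) (BT.leaf cE14335)) (BT.node 14336 (BT.leaf cE14336) (BT.leaf cE14337))) (BT.node 14340 (BT.node 14339 (BT.node 14338 (BT.leaf cE14338) (BT.leaf cE14339)) (BT.leaf cE14340)) (BT.node 14341 (BT.leaf cE14341) (BT.leaf cE14342)))))) (BT.node 14362 (BT.node 14352 (BT.node 14347 (BT.node 14345 (BT.node 14344 (BT.node 14343 (BT.leaf cE14343) (BT.leaf cE14344)) (BT.leaf cE14345)) (BT.node 14346 (BT.leaf cE14346) (BT.leaf cE14347))) (BT.node 14350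 (BT.node 14349 (BT.node 14348 (BT.leaf cE14348) (BT.leaf cE14349)) (BT.leaf cE14350)) (BT.node 14351 (BT.leaf cE14351) (BT.leaf cE14352)))) (BT.node 14357 (BT.node 14355 (BT.node 14354 (BT.node 14353 (BT.leaf cE14353) (BT.leaf cE14354)) (BT.leaf cE14355)) (BT.node 14356 (BT.leaf cE14356) (BT.leaf cE14357))) (BT.node 14360 (BT.node 14359 (BT.node 14358 (BT.leaf cE14358) (BT.leaf cE14359)) (BT.leaf cE14360)) (BT.node 14361 (BT.leaf cE14361) (BT.leaf cE14362))))) (BT.node 14372 (BT.node 14367 (BT.node 14365 (BT.node 14364 (BT.node 14363 (BT.leaf cE14363) (BT.leaf cE14364)) (BT.leaf cE14365)) (BT.node 14366 (BT.leaf cE14366) (BT.leaf cE14367))) (BT.node 14370 (BT.node 14369 (BT.node 14368 (BT.leaf cE14368) (BT.leaf cE14369)) (BT.leaf cE14370)) (BT.node 14371 (BT.leaf cE14371) (BT.leaf cE14372)))) (BT.node 14377 (BT.node 14375 (BT.node 14374 (BT.node 14373 (BT.leaf cE14373)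 (BT.leaf cE14374)) (BT.leaf cE14375)) (BT.node 14376 (BT.leaf cE14376) (BT.leaf cE14377))) (BT.node 14380 (BT.node 14379 (BT.node 14378 (BT.leaf cE14378) (BT.leaf cE14379)) (BT.leaf cE14380)) (BT.node 14381 (BT.leaf cE14381) (BT.leaf cE14382))))))))
noncomputable def colET_89 : BT ℕ := (BT.node 14463 (BT.node 14423 (BT.node 14403 (BT.node 14393 (BT.node 14388 (BT.node 14385 (BT.node 14384 (BT.node 14383 (BT.leaf cE14383) (BT.leaf cE14384)) (BT.leaf cE14385)) (BT.node 14387 (BT.node 14386 (BT.leaf cE14386) (BT.leaf cE14387)) (BT.leaf cE14388))) (BT.node 14391 (BT.node 14390 (BT.node 14389 (BT.leaf cE14389) (BT.leaf cE14390)) (BT.leaf cE14391)) (BT.node 14392 (BT.leaf cE14392) (BT.leaf cE14393)))) (BT.node 14398 (BT.node 14396 (BT.node 14395 (BT.node 14394 (BT.leaf cE14394) (BT.leaf cE14395)) (BT.leaf cE14396)) (BT.node 14397 (BT.leaf cE14397) (BT.leaf cE14398))) (BT.node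 14401 (BT.node 14400 (BT.node 14399 (BT.leaf cE14399) (BT.leaf cE14400)) (BT.leaf cE14401)) (BT.node 14402 (BT.leaf cE14402) (BT.leaf cE14403))))) (BT.node 14413 (BT.node 14408 (BT.node 14406 (BT.node 14405 (BT.node 14404 (BT.leaf cE14404) (BT.leaf cE14405)) (BT.leaf cE14406)) (BT.node 14407 (BT.leaf cE14407) (BT.leaf cE14408))) (BT.node 14411 (BT.node 14410 (BT.node 14409 (BT.leaf cE14409) (BT.leaf cE14410)) (BT.leaf cE14411)) (BT.node 14412 (BT.leaf cE14412) (BT.leaf cE14413)))) (BT.node 14418 (BT.node 14416 (BT.node 14415 (BT.node 14414 (BT.leaf cE14414) (BT.leaf cE14415)) (BT.leaf cE14416)) (BT.node 14417 (BT.leaf cE14417) (BT.leaf cE14418))) (BT.node 14421 (BT.node 14420 (BT.node 14419 (BT.leaf cE14419) (BT.leaf cE14420)) (BT.leaf cE14421)) (BT.node 14422 (BT.leaf cE14422) (BT.leaf cE14423)))))) (BT.node 14443 (BT.node 14433 (BT.node 14428 (BT.node 14426 (BT.node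 14425 (BT.node 14424 (BT.leaf cE14424) (BT.leaf cE14425)) (BT.leaf cE14426)) (BT.node 14427 (BT.leaf cE14427) (BT.leaf cE14428))) (BT.node 14431 (BT.node 14430 (BT.node 14429 (BT.leaf cE14429) (BT.leaf cE14430)) (BT.leaf cE14431)) (BT.node 14432 (BT.leaf cE14432) (BT.leaf cE14433)))) (BT.node 14438 (BT.node 14436 (BT.node 14435 (BT.node 14434 (BT.leaf cE14434) (BT.leaf cE14435)) (BT.leaf cE14436)) (BT.node 14437 (BT.leaf cE14437) (BT.leaf cE14438))) (BT.node 14441 (BT.node 14440 (BT.node 14439 (BT.leaf cE14439) (BT.leaf cE14440)) (BT.leaf cE14441)) (BT.node 14442 (BT.leaf cE14442) (BT.leaf cE14443))))) (BT.node 14453 (BT.node 14448 (BT.node 14446 (BT.node 14445 (BT.node 14444 (BT.leaf cE14444) (BT.leaf cE14445)) (BT.leaf cE14446)) (BT.node 14447 (BT.leaf cE14447) (BT.leaf cE14448))) (BT.node 14451 (BT.node 14450 (BT.node 14449 (BT.leaf cE14449) (BT.leaf cE14450)) (BT.leaf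 cE14451)) (BT.node 14452 (BT.leaf cE14452) (BT.leaf cE14453)))) (BT.node 14458 (BT.node 14456 (BT.node 14455 (BT.node 14454 (BT.leaf cE14454) (BT.leaf cE14455)) (BT.leaf cE14456)) (BT.node 14457 (BT.leaf cE14457) (BT.leaf cE14458))) (BT.node 14461 (BT.node 14460 (BT.node 14459 (BT.leaf cE14459) (BT.leaf cE14460)) (BT.leaf cE14461)) (BT.node 14462 (BT.leaf cE14462) (BT.leaf cE14463))))))) (BT.node 14503 (BT.node 14483 (BT.node 14473 (BT.node 14468 (BT.node 14466 (BT.node 14465 (BT.node 14464 (BT.leaf cE14464) (BT.leaf cE14465)) (BT.leaf cE14466)) (BT.node 14467 (BT.leaf cE14467) (BT.leaf cE14468))) (BT.node 14471 (BT.node 14470 (BT.node 14469 (BT.leaf cE14469) (BT.leaf cE14470)) (BT.leaf cE14471)) (BT.node 14472 (BT.leaf cE14472) (BT.leaf cE14473)))) (BT.node 14478 (BT.node 14476 (BT.node 14475 (BT.node 14474 (BT.leaf cE14474) (BT.leaf cE14475)) (BT.leaf cE14476)) (BT.node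 14477 (BT.leaf cE14477) (BT.leaf cE14478))) (BT.node 14481 (BT.node 14480 (BT.node 14479 (BT.leaf cE14479) (BT.leaf cE14480)) (BT.leaf cE14481)) (BT.node 14482 (BT.leaf cE14482) (BT.leaf cE14483))))) (BT.node 14493 (BT.node 14488 (BT.node 14486 (BT.node 14485 (BT.node 14484 (BT.leaf cE14484) (BT.leaf cE14485)) (BT.leaf cE14486)) (BT.node 14487 (BT.leaf cE14487) (BT.leaf cE14488))) (BT.node 14491 (BT.node 14490 (BT.node 14489 (BT.leaf cE14489) (BT.leaf cE14490)) (BT.leaf cE14491)) (BT.node 14492 (BT.leaf cE14492) (BT.leaf cE14493)))) (BT.node 14498 (BT.node 14496 (BT.node 14495 (BT.node 14494 (BT.leaf cE14494) (BT.leaf cE14495)) (BT.leaf cE14496)) (BT.node 14497 (BT.leaf cE14497) (BT.leaf cE14498))) (BT.node 14501 (BT.node 14500 (BT.node 14499 (BT.leaf cE14499) (BT.leaf cE14500)) (BT.leaf cE14501)) (BT.node 14502 (BT.leaf cE14502) (BT.leaf cE14503)))))) (BT.node 14523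 (BT.node 14513 (BT.node 14508 (BT.node 14506 (BT.node 14505 (BT.node 14504 (BT.leaf cE14504) (BT.leaf cE14505)) (BT.leaf cE14506)) (BT.node 14507 (BT.leaf cE14507) (BT.leaf cE14508))) (BT.node 14511 (BT.node 14510 (BT.node 14509 (BT.leaf cE14509) (BT.leaf cE14510)) (BT.leaf cE14511)) (BT.node 14512 (BT.leaf cE14512) (BT.leaf cE14513)))) (BT.node 14518 (BT.node 14516 (BT.node 14515 (BT.node 14514 (BT.leaf cE14514) (BT.leaf cE14515)) (BT.leaf cE14516)) (BT.node 14517 (BT.leaf cE14517) (BT.leaf cE14518))) (BT.node 14521 (BT.node 14520 (BT.node 14519 (BT.leaf cE14519) (BT.leaf cE14520)) (BT.leaf cE14521)) (BT.node 14522 (BT.leaf cE14522) (BT.leaf cE14523))))) (BT.node 14533 (BT.node 14528 (BT.node 14526 (BT.node 14525 (BT.node 14524 (BT.leaf cE14524) (BT.leaf cE14525)) (BT.leaf cE14526)) (BT.node 14527 (BT.leaf cE14527) (BT.leaf cE14528))) (BT.node 14531 (BT.node 14530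 (BT.node 14529 (BT.leaf cE14529) (BT.leaf cE14530)) (BT.leaf cE14531)) (BT.node 14532 (BT.leaf cE14532) (BT.leaf cE14533)))) (BT.node 14538 (BT.node 14536 (BT.node 14535 (BT.node 14534 (BT.leaf cE14534) (BT.leaf cE14535)) (BT.leaf cE14536)) (BT.node 14537 (BT.leaf cE14537) (BT.leaf cE14538))) (BT.node 14541 (BT.node 14540 (BT.node 14539 (BT.leaf cE14539) (BT.leaf cE14540)) (BT.leaf cE14541)) (BT.node 14542 (BT.leaf cE14542) (BT.leaf cE14543))))))))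
noncomputable def colET_90 : BT ℕ := (BT.node 14624 (BT.node 14584 (BT.node 14564 (BT.node 14554 (BT.node 14549 (BT.node 14546 (BT.node 14545 (BT.node 14544 (BT.leaf cE14544) (BT.leaf cE14545)) (BT.leaf cE14546)) (BT.node 14548 (BT.node 14547 (BT.leaf cE14547) (BT.leaf cE14548)) (BT.leaf cE14549))) (BT.node 14552 (BT.node 14551 (BT.node 14550 (BT.leaf cE14550) (BT.leaf cE14551)) (BT.leaf cE14552)) (BT.node 14553 (BT.leaf cE14553) (BT.leaf cE14554)))) (BT.node 14559 (BT.node 14557 (BT.node 14556 (BT.node 14555 (BT.leaf cE14555) (BT.leaf cE14556)) (BT.leaf cE14557)) (BT.node 14558 (BT.leaf cE14558) (BT.leaf cE14559))) (BT.node 14562 (BT.node 14561 (BT.node 14560 (BT.leaf cE14560) (BT.leaf cE14561)) (BT.leaf cE14562)) (BT.node 14563 (BT.leaf cE14563) (BT.leaf cE14564))))) (BT.node 14574 (BT.node 14569 (BT.node 14567 (BT.node 14566 (BT.node 14565 (BT.leaf cE14565) (BT.leaf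 cE14566)) (BT.leaf cE14567)) (BT.node 14568 (BT.leaf cE14568) (BT.leaf cE14569))) (BT.node 14572 (BT.node 14571 (BT.node 14570 (BT.leaf cE14570) (BT.leaf cE14571)) (BT.leaf cE14572)) (BT.node 14573 (BT.leaf cE14573) (BT.leaf cE14574)))) (BT.node 14579 (BT.node 14577 (BT.node 14576 (BT.node 14575 (BT.leaf cE14575) (BT.leaf cE14576)) (BT.leaf cE14577)) (BT.node 14578 (BT.leaf cE14578) (BT.leaf cE14579))) (BT.node 14582 (BT.node 14581 (BT.node 14580 (BT.leaf cE14580) (BT.leaf cE14581)) (BT.leaf cE14582)) (BT.node 14583 (BT.leaf cE14583) (BT.leaf cE14584)))))) (BT.node 14604 (BT.node 14594 (BT.node 14589 (BT.node 14587 (BT.node 14586 (BT.node 14585 (BT.leaf cE14585) (BT.leaf cE14586)) (BT.leaf cE14587)) (BT.node 14588 (BT.leaf cE14588) (BT.leaf cE14589))) (BT.node 14592 (BT.node 14591 (BT.node 14590 (BT.leaf cE14590) (BT.leaf cE14591)) (BT.leaf cE14592)) (BT.node 14593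 (BT.leaf cE14593) (BT.leaf cE14594)))) (BT.node 14599 (BT.node 14597 (BT.node 14596 (BT.node 14595 (BT.leaf cE14595) (BT.leaf cE14596)) (BT.leaf cE14597)) (BT.node 14598 (BT.leaf cE14598) (BT.leaf cE14599))) (BT.node 14602 (BT.node 14601 (BT.node 14600 (BT.leaf cE14600) (BT.leaf cE14601)) (BT.leaf cE14602)) (BT.node 14603 (BT.leaf cE14603) (BT.leaf cE14604))))) (BT.node 14614 (BT.node 14609 (BT.node 14607 (BT.node 14606 (BT.node 14605 (BT.leaf cE14605) (BT.leaf cE14606)) (BT.leaf cE14607)) (BT.node 14608 (BT.leaf cE14608) (BT.leaf cE14609))) (BT.node 14612 (BT.node 14611 (BT.node 14610 (BT.leaf cE14610) (BT.leaf cE14611)) (BT.leaf cE14612)) (BT.node 14613 (BT.leaf cE14613) (BT.leaf cE14614)))) (BT.node 14619 (BT.node 14617 (BT.node 14616 (BT.node 14615 (BT.leaf cE14615) (BT.leaf cE14616)) (BT.leaf cE14617)) (BT.node 14618 (BT.leaf cE14618) (BT.leaf cE14619))) (BT.node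 14622 (BT.node 14621 (BT.node 14620 (BT.leaf cE14620) (BT.leaf cE14621)) (BT.leaf cE14622)) (BT.node 14623 (BT.leaf cE14623) (BT.leaf cE14624))))))) (BT.node 14665 (BT.node 14645 (BT.node 14635 (BT.node 14630 (BT.node 14627 (BT.node 14626 (BT.node 14625 (BT.leaf cE14625) (BT.leaf cE14626)) (BT.leaf cE14627)) (BT.node 14629 (BT.node 14628 (BT.leaf cE14628) (BT.leaf cE14629)) (BT.leaf cE14630))) (BT.node 14633 (BT.node 14632 (BT.node 14631 (BT.leaf cE14631) (BT.leaf cE14632)) (BT.leaf cE14633)) (BT.node 14634 (BT.leaf cE14634) (BT.leaf cE14635)))) (BT.node 14640 (BT.node 14638 (BT.node 14637 (BT.node 14636 (BT.leaf cE14636) (BT.leaf cE14637)) (BT.leaf cE14638)) (BT.node 14639 (BT.leaf cE14639) (BT.leaf cE14640))) (BT.node 14643 (BT.node 14642 (BT.node 14641 (BT.leaf cE14641) (BT.leaf cE14642)) (BT.leaf cE14643)) (BT.node 14644 (BT.leaf cE14644) (BT.leaf cE14645)))))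 (BT.node 14655 (BT.node 14650 (BT.node 14648 (BT.node 14647 (BT.node 14646 (BT.leaf cE14646) (BT.leaf cE14647)) (BT.leaf cE14648)) (BT.node 14649 (BT.leaf cE14649) (BT.leaf cE14650))) (BT.node 14653 (BT.node 14652 (BT.node 14651 (BT.leaf cE14651) (BT.leaf cE14652)) (BT.leaf cE14653)) (BT.node 14654 (BT.leaf cE14654) (BT.leaf cE14655)))) (BT.node 14660 (BT.node 14658 (BT.node 14657 (BT.node 14656 (BT.leaf cE14656) (BT.leaf cE14657)) (BT.leaf cE14658)) (BT.node 14659 (BT.leaf cE14659) (BT.leaf cE14660))) (BT.node 14663 (BT.node 14662 (BT.node 14661 (BT.leaf cE14661) (BT.leaf cE14662)) (BT.leaf cE14663)) (BT.node 14664 (BT.leaf cE14664) (BT.leaf cE14665)))))) (BT.node 14685 (BT.node 14675 (BT.node 14670 (BT.node 14668 (BT.node 14667 (BT.node 14666 (BT.leaf cE14666) (BT.leaf cE14667)) (BT.leaf cE14668)) (BT.node 14669 (BT.leaf cE14669) (BT.leaf cE14670))) (BT.node 14673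 (BT.node 14672 (BT.node 14671 (BT.leaf cE14671) (BT.leaf cE14672)) (BT.leaf cE14673)) (BT.node 14674 (BT.leaf cE14674) (BT.leaf cE14675)))) (BT.node 14680 (BT.node 14678 (BT.node 14677 (BT.node 14676 (BT.leaf cE14676) (BT.leaf cE14677)) (BT.leaf cE14678)) (BT.node 14679 (BT.leaf cE14679) (BT.leaf cE14680))) (BT.node 14683 (BT.node 14682 (BT.node 14681 (BT.leaf cE14681) (BT.leaf cE14682)) (BT.leaf cE14683)) (BT.node 14684 (BT.leaf cE14684) (BT.leaf cE14685))))) (BT.node 14695 (BT.node 14690 (BT.node 14688 (BT.node 14687 (BT.node 14686 (BT.leaf cE14686) (BT.leaf cE14687)) (BT.leaf cE14688)) (BT.node 14689 (BT.leaf cE14689) (BT.leaf cE14690))) (BT.node 14693 (BT.node 14692 (BT.node 14691 (BT.leaf cE14691) (BT.leaf cE14692)) (BT.leaf cE14693)) (BT.node 14694 (BT.leaf cE14694) (BT.leaf cE14695)))) (BT.node 14700 (BT.node 14698 (BT.node 14697 (BT.node 14696 (BT.leaf cE14696)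 (BT.leaf cE14697)) (BT.leaf cE14698)) (BT.node 14699 (BT.leaf cE14699) (BT.leaf cE14700))) (BT.node 14703 (BT.node 14702 (BT.node 14701 (BT.leaf cE14701) (BT.leaf cE14702)) (BT.leaf cE14703)) (BT.node 14704 (BT.leaf cE14704) (BT.leaf cE14705))))))))
noncomputable def colET_91 : BT ℕ := (BT.node 14786 (BT.node 14746 (BT.node 14726 (BT.node 14716 (BT.node 14711 (BT.node 14708 (BT.node 14707 (BT.node 14706 (BT.leaf cE14706) (BT.leaf cE14707)) (BT.leaf cE14708)) (BT.node 14710 (BT.node 14709 (BT.leaf cE14709) (BT.leaf cE14710)) (BT.leaf cE14711))) (BT.node 14714 (BT.node 14713 (BT.node 14712 (BT.leaf cE14712) (BT.leaf cE14713)) (BT.leaf cE14714)) (BT.node 14715 (BT.leaf cE14715) (BT.leaf cE14716)))) (BT.node 14721 (BT.node 14719 (BT.node 14718 (BT.node 14717 (BT.leaf cE14717) (BT.leaf cE14718)) (BT.leaf cE14719)) (BT.node 14720 (BT.leaf cE14720) (BT.leaf cE14721))) (BT.node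 14724 (BT.node 14723 (BT.node 14722 (BT.leaf cE14722) (BT.leaf cE14723)) (BT.leaf cE14724)) (BT.node 14725 (BT.leaf cE14725) (BT.leaf cE14726))))) (BT.node 14736 (BT.node 14731 (BT.node 14729 (BT.node 14728 (BT.node 14727 (BT.leaf cE14727) (BT.leaf cE14728)) (BT.leaf cE14729)) (BT.node 14730 (BT.leaf cE14730) (BT.leaf cE14731))) (BT.node 14734 (BT.node 14733 (BT.node 14732 (BT.leaf cE14732) (BT.leaf cE14733)) (BT.leaf cE14734)) (BT.node 14735 (BT.leaf cE14735) (BT.leaf cE14736)))) (BT.node 14741 (BT.node 14739 (BT.node 14738 (BT.node 14737 (BT.leaf cE14737) (BT.leaf cE14738)) (BT.leaf cE14739)) (BT.node 14740 (BT.leaf cE14740) (BT.leaf cE14741))) (BT.node 14744 (BT.node 14743 (BT.node 14742 (BT.leaf cE14742) (BT.leaf cE14743)) (BT.leaf cE14744)) (BT.node 14745 (BT.leaf cE14745) (BT.leaf cE14746)))))) (BT.node 14766 (BT.node 14756 (BT.node 14751 (BT.node 14749 (BT.node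 14748 (BT.node 14747 (BT.leaf cE14747) (BT.leaf cE14748)) (BT.leaf cE14749)) (BT.node 14750 (BT.leaf cE14750) (BT.leaf cE14751))) (BT.node 14754 (BT.node 14753 (BT.node 14752 (BT.leaf cE14752) (BT.leaf cE14753)) (BT.leaf cE14754)) (BT.node 14755 (BT.leaf cE14755) (BT.leaf cE14756)))) (BT.node 14761 (BT.node 14759 (BT.node 14758 (BT.node 14757 (BT.leaf cE14757) (BT.leaf cE14758)) (BT.leaf cE14759)) (BT.node 14760 (BT.leaf cE14760) (BT.leaf cE14761))) (BT.node 14764 (BT.node 14763 (BT.node 14762 (BT.leaf cE14762) (BT.leaf cE14763)) (BT.leaf cE14764)) (BT.node 14765 (BT.leaf cE14765) (BT.leaf cE14766))))) (BT.node 14776 (BT.node 14771 (BT.node 14769 (BT.node 14768 (BT.node 14767 (BT.leaf cE14767) (BT.leaf cE14768)) (BT.leaf cE14769)) (BT.node 14770 (BT.leaf cE14770) (BT.leaf cE14771))) (BT.node 14774 (BT.node 14773 (BT.node 14772 (BT.leaf cE14772) (BT.leaf cE14773)) (BT.leaf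 cE14774)) (BT.node 14775 (BT.leaf cE14775) (BT.leaf cE14776)))) (BT.node 14781 (BT.node 14779 (BT.node 14778 (BT.node 14777 (BT.leaf cE14777) (BT.leaf cE14778)) (BT.leaf cE14779)) (BT.node 14780 (BT.leaf cE14780) (BT.leaf cE14781))) (BT.node 14784 (BT.node 14783 (BT.node 14782 (BT.leaf cE14782) (BT.leaf cE14783)) (BT.leaf cE14784)) (BT.node 14785 (BT.leaf cE14785) (BT.leaf cE14786))))))) (BT.node 14826 (BT.node 14806 (BT.node 14796 (BT.node 14791 (BT.node 14789 (BT.node 14788 (BT.node 14787 (BT.leaf cE14787) (BT.leaf cE14788)) (BT.leaf cE14789)) (BT.node 14790 (BT.leaf cE14790) (BT.leaf cE14791))) (BT.node 14794 (BT.node 14793 (BT.node 14792 (BT.leaf cE14792) (BT.leaf cE14793)) (BT.leaf cE14794)) (BT.node 14795 (BT.leaf cE14795) (BT.leaf cE14796)))) (BT.node 14801 (BT.node 14799 (BT.node 14798 (BT.node 14797 (BT.leaf cE14797) (BT.leaf cE14798)) (BT.leaf cE14799)) (BT.node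 14800 (BT.leaf cE14800) (BT.leaf cE14801))) (BT.node 14804 (BT.node 14803 (BT.node 14802 (BT.leaf cE14802) (BT.leaf cE14803)) (BT.leaf cE14804)) (BT.node 14805 (BT.leaf cE14805) (BT.leaf cE14806))))) (BT.node 14816 (BT.node 14811 (BT.node 14809 (BT.node 14808 (BT.node 14807 (BT.leaf cE14807) (BT.leaf cE14808)) (BT.leaf cE14809)) (BT.node 14810 (BT.leaf cE14810) (BT.leaf cE14811))) (BT.node 14814 (BT.node 14813 (BT.node 14812 (BT.leaf cE14812) (BT.leaf cE14813)) (BT.leaf cE14814)) (BT.node 14815 (BT.leaf cE14815) (BT.leaf cE14816)))) (BT.node 14821 (BT.node 14819 (BT.node 14818 (BT.node 14817 (BT.leaf cE14817) (BT.leaf cE14818)) (BT.leaf cE14819)) (BT.node 14820 (BT.leaf cE14820) (BT.leaf cE14821))) (BT.node 14824 (BT.node 14823 (BT.node 14822 (BT.leaf cE14822) (BT.leaf cE14823)) (BT.leaf cE14824)) (BT.node 14825 (BT.leaf cE14825) (BT.leaf cE14826)))))) (BT.node 14846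 (BT.node 14836 (BT.node 14831 (BT.node 14829 (BT.node 14828 (BT.node 14827 (BT.leaf cE14827) (BT.leaf cE14828)) (BT.leaf cE14829)) (BT.node 14830 (BT.leaf cE14830) (BT.leaf cE14831))) (BT.node 14834 (BT.node 14833 (BT.node 14832 (BT.leaf cE14832) (BT.leaf cE14833)) (BT.leaf cE14834)) (BT.node 14835 (BT.leaf cE14835) (BT.leaf cE14836)))) (BT.node 14841 (BT.node 14839 (BT.node 14838 (BT.node 14837 (BT.leaf cE14837) (BT.leaf cE14838)) (BT.leaf cE14839)) (BT.node 14840 (BT.leaf cE14840) (BT.leaf cE14841))) (BT.node 14844 (BT.node 14843 (BT.node 14842 (BT.leaf cE14842) (BT.leaf cE14843)) (BT.leaf cE14844)) (BT.node 14845 (BT.leaf cE14845) (BT.leaf cE14846))))) (BT.node 14856 (BT.node 14851 (BT.node 14849 (BT.node 14848 (BT.node 14847 (BT.leaf cE14847) (BT.leaf cE14848)) (BT.leaf cE14849)) (BT.node 14850 (BT.leaf cE14850) (BT.leaf cE14851))) (BT.node 14854 (BT.node 14853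 (BT.node 14852 (BT.leaf cE14852) (BT.leaf cE14853)) (BT.leaf cE14854)) (BT.node 14855 (BT.leaf cE14855) (BT.leaf cE14856)))) (BT.node 14861 (BT.node 14859 (BT.node 14858 (BT.node 14857 (BT.leaf cE14857) (BT.leaf cE14858)) (BT.leaf cE14859)) (BT.node 14860 (BT.leaf cE14860) (BT.leaf cE14861))) (BT.node 14864 (BT.node 14863 (BT.node 14862 (BT.leaf cE14862) (BT.leaf cE14863)) (BT.leaf cE14864)) (BT.node 14865 (BT.leaf cE14865) (BT.leaf cE14866))))))))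
noncomputable def colET_92 : BT ℕ := (BT.node 14947 (BT.node 14907 (BT.node 14887 (BT.node 14877 (BT.node 14872 (BT.node 14869 (BT.node 14868 (BT.node 14867 (BT.leaf cE14867) (BT.leaf cE14868)) (BT.leaf cE14869)) (BT.node 14871 (BT.node 14870 (BT.leaf cE14870) (BT.leaf cE14871)) (BT.leaf cE14872))) (BT.node 14875 (BT.node 14874 (BT.node 14873 (BT.leaf cE14873) (BT.leaf cE14874)) (BT.leaf cE14875)) (BT.node 14876 (BT.leaf cE14876) (BT.leaf cE14877)))) (BT.node 14882 (BT.node 14880 (BT.node 14879 (BT.node 14878 (BT.leaf cE14878) (BT.leaf cE14879)) (BT.leaf cE14880)) (BT.node 14881 (BT.leaf cE14881) (BT.leaf cE14882))) (BT.node 14885 (BT.node 14884 (BT.node 14883 (BT.leaf cE14883) (BT.leaf cE14884)) (BT.leaf cE14885)) (BT.node 14886 (BT.leaf cE14886) (BT.leaf cE14887))))) (BT.node 14897 (BT.node 14892 (BT.node 14890 (BT.node 14889 (BT.node 14888 (BT.leaf cE14888) (BT.leaf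 cE14889)) (BT.leaf cE14890)) (BT.node 14891 (BT.leaf cE14891) (BT.leaf cE14892))) (BT.node 14895 (BT.node 14894 (BT.node 14893 (BT.leaf cE14893) (BT.leaf cE14894)) (BT.leaf cE14895)) (BT.node 14896 (BT.leaf cE14896) (BT.leaf cE14897)))) (BT.node 14902 (BT.node 14900 (BT.node 14899 (BT.node 14898 (BT.leaf cE14898) (BT.leaf cE14899)) (BT.leaf cE14900)) (BT.node 14901 (BT.leaf cE14901) (BT.leaf cE14902))) (BT.node 14905 (BT.node 14904 (BT.node 14903 (BT.leaf cE14903) (BT.leaf cE14904)) (BT.leaf cE14905)) (BT.node 14906 (BT.leaf cE14906) (BT.leaf cE14907)))))) (BT.node 14927 (BT.node 14917 (BT.node 14912 (BT.node 14910 (BT.node 14909 (BT.node 14908 (BT.leaf cE14908) (BT.leaf cE14909)) (BT.leaf cE14910)) (BT.node 14911 (BT.leaf cE14911) (BT.leaf cE14912))) (BT.node 14915 (BT.node 14914 (BT.node 14913 (BT.leaf cE14913) (BT.leaf cE14914)) (BT.leaf cE14915)) (BT.node 14916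 (BT.leaf cE14916) (BT.leaf cE14917)))) (BT.node 14922 (BT.node 14920 (BT.node 14919 (BT.node 14918 (BT.leaf cE14918) (BT.leaf cE14919)) (BT.leaf cE14920)) (BT.node 14921 (BT.leaf cE14921) (BT.leaf cE14922))) (BT.node 14925 (BT.node 14924 (BT.node 14923 (BT.leaf cE14923) (BT.leaf cE14924)) (BT.leaf cE14925)) (BT.node 14926 (BT.leaf cE14926) (BT.leaf cE14927))))) (BT.node 14937 (BT.node 14932 (BT.node 14930 (BT.node 14929 (BT.node 14928 (BT.leaf cE14928) (BT.leaf cE14929)) (BT.leaf cE14930)) (BT.node 14931 (BT.leaf cE14931) (BT.leaf cE14932))) (BT.node 14935 (BT.node 14934 (BT.node 14933 (BT.leaf cE14933) (BT.leaf cE14934)) (BT.leaf cE14935)) (BT.node 14936 (BT.leaf cE14936) (BT.leaf cE14937)))) (BT.node 14942 (BT.node 14940 (BT.node 14939 (BT.node 14938 (BT.leaf cE14938) (BT.leaf cE14939)) (BT.leaf cE14940)) (BT.node 14941 (BT.leaf cE14941) (BT.leaf cE14942))) (BT.node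 14945 (BT.node 14944 (BT.node 14943 (BT.leaf cE14943) (BT.leaf cE14944)) (BT.leaf cE14945)) (BT.node 14946 (BT.leaf cE14946) (BT.leaf cE14947))))))) (BT.node 14988 (BT.node 14968 (BT.node 14958 (BT.node 14953 (BT.node 14950 (BT.node 14949 (BT.node 14948 (BT.leaf cE14948) (BT.leaf cE14949)) (BT.leaf cE14950)) (BT.node 14952 (BT.node 14951 (BT.leaf cE14951) (BT.leaf cE14952)) (BT.leaf cE14953))) (BT.node 14956 (BT.node 14955 (BT.node 14954 (BT.leaf cE14954) (BT.leaf cE14955)) (BT.leaf cE14956)) (BT.node 14957 (BT.leaf cE14957) (BT.leaf cE14958)))) (BT.node 14963 (BT.node 14961 (BT.node 14960 (BT.node 14959 (BT.leaf cE14959) (BT.leaf cE14960)) (BT.leaf cE14961)) (BT.node 14962 (BT.leaf cE14962) (BT.leaf cE14963))) (BT.node 14966 (BT.node 14965 (BT.node 14964 (BT.leaf cE14964) (BT.leaf cE14965)) (BT.leaf cE14966)) (BT.node 14967 (BT.leaf cE14967) (BT.leaf cE14968)))))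 (BT.node 14978 (BT.node 14973 (BT.node 14971 (BT.node 14970 (BT.node 14969 (BT.leaf cE14969) (BT.leaf cE14970)) (BT.leaf cE14971)) (BT.node 14972 (BT.leaf cE14972) (BT.leaf cE14973))) (BT.node 14976 (BT.node 14975 (BT.node 14974 (BT.leaf cE14974) (BT.leaf cE14975)) (BT.leaf cE14976)) (BT.node 14977 (BT.leaf cE14977) (BT.leaf cE14978)))) (BT.node 14983 (BT.node 14981 (BT.node 14980 (BT.node 14979 (BT.leaf cE14979) (BT.leaf cE14980)) (BT.leaf cE14981)) (BT.node 14982 (BT.leaf cE14982) (BT.leaf cE14983))) (BT.node 14986 (BT.node 14985 (BT.node 14984 (BT.leaf cE14984) (BT.leaf cE14985)) (BT.leaf cE14986)) (BT.node 14987 (BT.leaf cE14987) (BT.leaf cE14988)))))) (BT.node 15008 (BT.node 14998 (BT.node 14993 (BT.node 14991 (BT.node 14990 (BT.node 14989 (BT.leaf cE14989) (BT.leaf cE14990)) (BT.leaf cE14991)) (BT.node 14992 (BT.leaf cE14992) (BT.leaf cE14993))) (BT.node 14996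 (BT.node 14995 (BT.node 14994 (BT.leaf cE14994) (BT.leaf cE14995)) (BT.leaf cE14996)) (BT.node 14997 (BT.leaf cE14997) (BT.leaf cE14998)))) (BT.node 15003 (BT.node 15001 (BT.node 15000 (BT.node 14999 (BT.leaf cE14999) (BT.leaf cE15000)) (BT.leaf cE15001)) (BT.node 15002 (BT.leaf cE15002) (BT.leaf cE15003))) (BT.node 15006 (BT.node 15005 (BT.node 15004 (BT.leaf cE15004) (BT.leaf cE15005)) (BT.leaf cE15006)) (BT.node 15007 (BT.leaf cE15007) (BT.leaf cE15008))))) (BT.node 15018 (BT.node 15013 (BT.node 15011 (BT.node 15010 (BT.node 15009 (BT.leaf cE15009) (BT.leaf cE15010)) (BT.leaf cE15011)) (BT.node 15012 (BT.leaf cE15012) (BT.leaf cE15013))) (BT.node 15016 (BT.node 15015 (BT.node 15014 (BT.leaf cE15014) (BT.leaf cE15015)) (BT.leaf cE15016)) (BT.node 15017 (BT.leaf cE15017) (BT.leaf cE15018)))) (BT.node 15023 (BT.node 15021 (BT.node 15020 (BT.node 15019 (BT.leaf cE15019)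 (BT.leaf cE15020)) (BT.leaf cE15021)) (BT.node 15022 (BT.leaf cE15022) (BT.leaf cE15023))) (BT.node 15026 (BT.node 15025 (BT.node 15024 (BT.leaf cE15024) (BT.leaf cE15025)) (BT.leaf cE15026)) (BT.node 15027 (BT.leaf cE15027) (BT.leaf cE15028))))))))
noncomputable def colET_93 : BT ℕ := (BT.node 15109 (BT.node 15069 (BT.node 15049 (BT.node 15039 (BT.node 15034 (BT.node 15031 (BT.node 15030 (BT.node 15029 (BT.leaf cE15029) (BT.leaf cE15030)) (BT.leaf cE15031)) (BT.node 15033 (BT.node 15032 (BT.leaf cE15032) (BT.leaf cE15033)) (BT.leaf cE15034))) (BT.node 15037 (BT.node 15036 (BT.node 15035 (BT.leaf cE15035) (BT.leaf cE15036)) (BT.leaf cE15037)) (BT.node 15038 (BT.leaf cE15038) (BT.leaf cE15039)))) (BT.node 15044 (BT.node 15042 (BT.node 15041 (BT.node 15040 (BT.leaf cE15040) (BT.leaf cE15041)) (BT.leaf cE15042)) (BT.node 15043 (BT.leaf cE15043) (BT.leaf cE15044))) (BT.node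 15047 (BT.node 15046 (BT.node 15045 (BT.leaf cE15045) (BT.leaf cE15046)) (BT.leaf cE15047)) (BT.node 15048 (BT.leaf cE15048) (BT.leaf cE15049))))) (BT.node 15059 (BT.node 15054 (BT.node 15052 (BT.node 15051 (BT.node 15050 (BT.leaf cE15050) (BT.leaf cE15051)) (BT.leaf cE15052)) (BT.node 15053 (BT.leaf cE15053) (BT.leaf cE15054))) (BT.node 15057 (BT.node 15056 (BT.node 15055 (BT.leaf cE15055) (BT.leaf cE15056)) (BT.leaf cE15057)) (BT.node 15058 (BT.leaf cE15058) (BT.leaf cE15059)))) (BT.node 15064 (BT.node 15062 (BT.node 15061 (BT.node 15060 (BT.leaf cE15060) (BT.leaf cE15061)) (BT.leaf cE15062)) (BT.node 15063 (BT.leaf cE15063) (BT.leaf cE15064))) (BT.node 15067 (BT.node 15066 (BT.node 15065 (BT.leaf cE15065) (BT.leaf cE15066)) (BT.leaf cE15067)) (BT.node 15068 (BT.leaf cE15068) (BT.leaf cE15069)))))) (BT.node 15089 (BT.node 15079 (BT.node 15074 (BT.node 15072 (BT.node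 15071 (BT.node 15070 (BT.leaf cE15070) (BT.leaf cE15071)) (BT.leaf cE15072)) (BT.node 15073 (BT.leaf cE15073) (BT.leaf cE15074))) (BT.node 15077 (BT.node 15076 (BT.node 15075 (BT.leaf cE15075) (BT.leaf cE15076)) (BT.leaf cE15077)) (BT.node 15078 (BT.leaf cE15078) (BT.leaf cE15079)))) (BT.node 15084 (BT.node 15082 (BT.node 15081 (BT.node 15080 (BT.leaf cE15080) (BT.leaf cE15081)) (BT.leaf cE15082)) (BT.node 15083 (BT.leaf cE15083) (BT.leaf cE15084))) (BT.node 15087 (BT.node 15086 (BT.node 15085 (BT.leaf cE15085) (BT.leaf cE15086)) (BT.leaf cE15087)) (BT.node 15088 (BT.leaf cE15088) (BT.leaf cE15089))))) (BT.node 15099 (BT.node 15094 (BT.node 15092 (BT.node 15091 (BT.node 15090 (BT.leaf cE15090) (BT.leaf cE15091)) (BT.leaf cE15092)) (BT.node 15093 (BT.leaf cE15093) (BT.leaf cE15094))) (BT.node 15097 (BT.node 15096 (BT.node 15095 (BT.leaf cE15095) (BT.leaf cE15096)) (BT.leaf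 cE15097)) (BT.node 15098 (BT.leaf cE15098) (BT.leaf cE15099)))) (BT.node 15104 (BT.node 15102 (BT.node 15101 (BT.node 15100 (BT.leaf cE15100) (BT.leaf cE15101)) (BT.leaf cE15102)) (BT.node 15103 (BT.leaf cE15103) (BT.leaf cE15104))) (BT.node 15107 (BT.node 15106 (BT.node 15105 (BT.leaf cE15105) (BT.leaf cE15106)) (BT.leaf cE15107)) (BT.node 15108 (BT.leaf cE15108) (BT.leaf cE15109))))))) (BT.node 15149 (BT.node 15129 (BT.node 15119 (BT.node 15114 (BT.node 15112 (BT.node 15111 (BT.node 15110 (BT.leaf cE15110) (BT.leaf cE15111)) (BT.leaf cE15112)) (BT.node 15113 (BT.leaf cE15113) (BT.leaf cE15114))) (BT.node 15117 (BT.node 15116 (BT.node 15115 (BT.leaf cE15115) (BT.leaf cE15116)) (BT.leaf cE15117)) (BT.node 15118 (BT.leaf cE15118) (BT.leaf cE15119)))) (BT.node 15124 (BT.node 15122 (BT.node 15121 (BT.node 15120 (BT.leaf cE15120) (BT.leaf cE15121)) (BT.leaf cE15122)) (BT.node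 15123 (BT.leaf cE15123) (BT.leaf cE15124))) (BT.node 15127 (BT.node 15126 (BT.node 15125 (BT.leaf cE15125) (BT.leaf cE15126)) (BT.leaf cE15127)) (BT.node 15128 (BT.leaf cE15128) (BT.leaf cE15129))))) (BT.node 15139 (BT.node 15134 (BT.node 15132 (BT.node 15131 (BT.node 15130 (BT.leaf cE15130) (BT.leaf cE15131)) (BT.leaf cE15132)) (BT.node 15133 (BT.leaf cE15133) (BT.leaf cE15134))) (BT.node 15137 (BT.node 15136 (BT.node 15135 (BT.leaf cE15135) (BT.leaf cE15136)) (BT.leaf cE15137)) (BT.node 15138 (BT.leaf cE15138) (BT.leaf cE15139)))) (BT.node 15144 (BT.node 15142 (BT.node 15141 (BT.node 15140 (BT.leaf cE15140) (BT.leaf cE15141)) (BT.leaf cE15142)) (BT.node 15143 (BT.leaf cE15143) (BT.leaf cE15144))) (BT.node 15147 (BT.node 15146 (BT.node 15145 (BT.leaf cE15145) (BT.leaf cE15146)) (BT.leaf cE15147)) (BT.node 15148 (BT.leaf cE15148) (BT.leaf cE15149)))))) (BT.node 15169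 (BT.node 15159 (BT.node 15154 (BT.node 15152 (BT.node 15151 (BT.node 15150 (BT.leaf cE15150) (BT.leaf cE15151)) (BT.leaf cE15152)) (BT.node 15153 (BT.leaf cE15153) (BT.leaf cE15154))) (BT.node 15157 (BT.node 15156 (BT.node 15155 (BT.leaf cE15155) (BT.leaf cE15156)) (BT.leaf cE15157)) (BT.node 15158 (BT.leaf cE15158) (BT.leaf cE15159)))) (BT.node 15164 (BT.node 15162 (BT.node 15161 (BT.node 15160 (BT.leaf cE15160) (BT.leaf cE15161)) (BT.leaf cE15162)) (BT.node 15163 (BT.leaf cE15163) (BT.leaf cE15164))) (BT.node 15167 (BT.node 15166 (BT.node 15165 (BT.leaf cE15165) (BT.leaf cE15166)) (BT.leaf cE15167)) (BT.node 15168 (BT.leaf cE15168) (BT.leaf cE15169))))) (BT.node 15179 (BT.node 15174 (BT.node 15172 (BT.node 15171 (BT.node 15170 (BT.leaf cE15170) (BT.leaf cE15171)) (BT.leaf cE15172)) (BT.node 15173 (BT.leaf cE15173) (BT.leaf cE15174))) (BT.node 15177 (BT.node 15176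 (BT.node 15175 (BT.leaf cE15175) (BT.leaf cE15176)) (BT.leaf cE15177)) (BT.node 15178 (BT.leaf cE15178) (BT.leaf cE15179)))) (BT.node 15184 (BT.node 15182 (BT.node 15181 (BT.node 15180 (BT.leaf cE15180) (BT.leaf cE15181)) (BT.leaf cE15182)) (BT.node 15183 (BT.leaf cE15183) (BT.leaf cE15184))) (BT.node 15187 (BT.node 15186 (BT.node 15185 (BT.leaf cE15185) (BT.leaf cE15186)) (BT.leaf cE15187)) (BT.node 15188 (BT.leaf cE15188) (BT.leaf cE15189))))))))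
noncomputable def colET_94 : BT ℕ := (BT.node 15270 (BT.node 15230 (BT.node 15210 (BT.node 15200 (BT.node 15195 (BT.node 15192 (BT.node 15191 (BT.node 15190 (BT.leaf cE15190) (BT.leaf cE15191)) (BT.leaf cE15192)) (BT.node 15194 (BT.node 15193 (BT.leaf cE15193) (BT.leaf cE15194)) (BT.leaf cE15195))) (BT.node 15198 (BT.node 15197 (BT.node 15196 (BT.leaf cE15196) (BT.leaf cE15197)) (BT.leaf cE15198)) (BT.node 15199 (BT.leaf cE15199) (BT.leaf cE15200)))) (BT.node 15205 (BT.node 15203 (BT.node 15202 (BT.node 15201 (BT.leaf cE15201) (BT.leaf cE15202)) (BT.leaf cE15203)) (BT.node 15204 (BT.leaf cE15204) (BT.leaf cE15205))) (BT.node 15208 (BT.node 15207 (BT.node 15206 (BT.leaf cE15206) (BT.leaf cE15207)) (BT.leaf cE15208)) (BT.node 15209 (BT.leaf cE15209) (BT.leaf cE15210))))) (BT.node 15220 (BT.node 15215 (BT.node 15213 (BT.node 15212 (BT.node 15211 (BT.leaf cE15211) (BT.leaf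 cE15212)) (BT.leaf cE15213)) (BT.node 15214 (BT.leaf cE15214) (BT.leaf cE15215))) (BT.node 15218 (BT.node 15217 (BT.node 15216 (BT.leaf cE15216) (BT.leaf cE15217)) (BT.leaf cE15218)) (BT.node 15219 (BT.leaf cE15219) (BT.leaf cE15220)))) (BT.node 15225 (BT.node 15223 (BT.node 15222 (BT.node 15221 (BT.leaf cE15221) (BT.leaf cE15222)) (BT.leaf cE15223)) (BT.node 15224 (BT.leaf cE15224) (BT.leaf cE15225))) (BT.node 15228 (BT.node 15227 (BT.node 15226 (BT.leaf cE15226) (BT.leaf cE15227)) (BT.leaf cE15228)) (BT.node 15229 (BT.leaf cE15229) (BT.leaf cE15230)))))) (BT.node 15250 (BT.node 15240 (BT.node 15235 (BT.node 15233 (BT.node 15232 (BT.node 15231 (BT.leaf cE15231) (BT.leaf cE15232)) (BT.leaf cE15233)) (BT.node 15234 (BT.leaf cE15234) (BT.leaf cE15235))) (BT.node 15238 (BT.node 15237 (BT.node 15236 (BT.leaf cE15236) (BT.leaf cE15237)) (BT.leaf cE15238)) (BT.node 15239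 (BT.leaf cE15239) (BT.leaf cE15240)))) (BT.node 15245 (BT.node 15243 (BT.node 15242 (BT.node 15241 (BT.leaf cE15241) (BT.leaf cE15242)) (BT.leaf cE15243)) (BT.node 15244 (BT.leaf cE15244) (BT.leaf cE15245))) (BT.node 15248 (BT.node 15247 (BT.node 15246 (BT.leaf cE15246) (BT.leaf cE15247)) (BT.leaf cE15248)) (BT.node 15249 (BT.leaf cE15249) (BT.leaf cE15250))))) (BT.node 15260 (BT.node 15255 (BT.node 15253 (BT.node 15252 (BT.node 15251 (BT.leaf cE15251) (BT.leaf cE15252)) (BT.leaf cE15253)) (BT.node 15254 (BT.leaf cE15254) (BT.leaf cE15255))) (BT.node 15258 (BT.node 15257 (BT.node 15256 (BT.leaf cE15256) (BT.leaf cE15257)) (BT.leaf cE15258)) (BT.node 15259 (BT.leaf cE15259) (BT.leaf cE15260)))) (BT.node 15265 (BT.node 15263 (BT.node 15262 (BT.node 15261 (BT.leaf cE15261) (BT.leaf cE15262)) (BT.leaf cE15263)) (BT.node 15264 (BT.leaf cE15264) (BT.leaf cE15265))) (BT.node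 15268 (BT.node 15267 (BT.node 15266 (BT.leaf cE15266) (BT.leaf cE15267)) (BT.leaf cE15268)) (BT.node 15269 (BT.leaf cE15269) (BT.leaf cE15270))))))) (BT.node 15311 (BT.node 15291 (BT.node 15281 (BT.node 15276 (BT.node 15273 (BT.node 15272 (BT.node 15271 (BT.leaf cE15271) (BT.leaf cE15272)) (BT.leaf cE15273)) (BT.node 15275 (BT.node 15274 (BT.leaf cE15274) (BT.leaf cE15275)) (BT.leaf cE15276))) (BT.node 15279 (BT.node 15278 (BT.node 15277 (BT.leaf cE15277) (BT.leaf cE15278)) (BT.leaf cE15279)) (BT.node 15280 (BT.leaf cE15280) (BT.leaf cE15281)))) (BT.node 15286 (BT.node 15284 (BT.node 15283 (BT.node 15282 (BT.leaf cE15282) (BT.leaf cE15283)) (BT.leaf cE15284)) (BT.node 15285 (BT.leaf cE15285) (BT.leaf cE15286))) (BT.node 15289 (BT.node 15288 (BT.node 15287 (BT.leaf cE15287) (BT.leaf cE15288)) (BT.leaf cE15289)) (BT.node 15290 (BT.leaf cE15290) (BT.leaf cE15291)))))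 (BT.node 15301 (BT.node 15296 (BT.node 15294 (BT.node 15293 (BT.node 15292 (BT.leaf cE15292) (BT.leaf cE15293)) (BT.leaf cE15294)) (BT.node 15295 (BT.leaf cE15295) (BT.leaf cE15296))) (BT.node 15299 (BT.node 15298 (BT.node 15297 (BT.leaf cE15297) (BT.leaf cE15298)) (BT.leaf cE15299)) (BT.node 15300 (BT.leaf cE15300) (BT.leaf cE15301)))) (BT.node 15306 (BT.node 15304 (BT.node 15303 (BT.node 15302 (BT.leaf cE15302) (BT.leaf cE15303)) (BT.leaf cE15304)) (BT.node 15305 (BT.leaf cE15305) (BT.leaf cE15306))) (BT.node 15309 (BT.node 15308 (BT.node 15307 (BT.leaf cE15307) (BT.leaf cE15308)) (BT.leaf cE15309)) (BT.node 15310 (BT.leaf cE15310) (BT.leaf cE15311)))))) (BT.node 15331 (BT.node 15321 (BT.node 15316 (BT.node 15314 (BT.node 15313 (BT.node 15312 (BT.leaf cE15312) (BT.leaf cE15313)) (BT.leaf cE15314)) (BT.node 15315 (BT.leaf cE15315) (BT.leaf cE15316))) (BT.node 15319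 (BT.node 15318 (BT.node 15317 (BT.leaf cE15317) (BT.leaf cE15318)) (BT.leaf cE15319)) (BT.node 15320 (BT.leaf cE15320) (BT.leaf cE15321)))) (BT.node 15326 (BT.node 15324 (BT.node 15323 (BT.node 15322 (BT.leaf cE15322) (BT.leaf cE15323)) (BT.leaf cE15324)) (BT.node 15325 (BT.leaf cE15325) (BT.leaf cE15326))) (BT.node 15329 (BT.node 15328 (BT.node 15327 (BT.leaf cE15327) (BT.leaf cE15328)) (BT.leaf cE15329)) (BT.node 15330 (BT.leaf cE15330) (BT.leaf cE15331))))) (BT.node 15341 (BT.node 15336 (BT.node 15334 (BT.node 15333 (BT.node 15332 (BT.leaf cE15332) (BT.leaf cE15333)) (BT.leaf cE15334)) (BT.node 15335 (BT.leaf cE15335) (BT.leaf cE15336))) (BT.node 15339 (BT.node 15338 (BT.node 15337 (BT.leaf cE15337) (BT.leaf cE15338)) (BT.leaf cE15339)) (BT.node 15340 (BT.leaf cE15340) (BT.leaf cE15341)))) (BT.node 15346 (BT.node 15344 (BT.node 15343 (BT.node 15342 (BT.leaf cE15342)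 (BT.leaf cE15343)) (BT.leaf cE15344)) (BT.node 15345 (BT.leaf cE15345) (BT.leaf cE15346))) (BT.node 15349 (BT.node 15348 (BT.node 15347 (BT.leaf cE15347) (BT.leaf cE15348)) (BT.leaf cE15349)) (BT.node 15350 (BT.leaf cE15350) (BT.leaf cE15351))))))))
noncomputable def colET_95 : BT ℕ := (BT.node 15432 (BT.node 15392 (BT.node 15372 (BT.node 15362 (BT.node 15357 (BT.node 15354 (BT.node 15353 (BT.node 15352 (BT.leaf cE15352) (BT.leaf cE15353)) (BT.leaf cE15354)) (BT.node 15356 (BT.node 15355 (BT.leaf cE15355) (BT.leaf cE15356)) (BT.leaf cE15357))) (BT.node 15360 (BT.node 15359 (BT.node 15358 (BT.leaf cE15358) (BT.leaf cE15359)) (BT.leaf cE15360)) (BT.node 15361 (BT.leaf cE15361) (BT.leaf cE15362)))) (BT.node 15367 (BT.node 15365 (BT.node 15364 (BT.node 15363 (BT.leaf cE15363) (BT.leaf cE15364)) (BT.leaf cE15365)) (BT.node 15366 (BT.leaf cE15366) (BT.leaf cE15367))) (BT.node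 15370 (BT.node 15369 (BT.node 15368 (BT.leaf cE15368) (BT.leaf cE15369)) (BT.leaf cE15370)) (BT.node 15371 (BT.leaf cE15371) (BT.leaf cE15372))))) (BT.node 15382 (BT.node 15377 (BT.node 15375 (BT.node 15374 (BT.node 15373 (BT.leaf cE15373) (BT.leaf cE15374)) (BT.leaf cE15375)) (BT.node 15376 (BT.leaf cE15376) (BT.leaf cE15377))) (BT.node 15380 (BT.node 15379 (BT.node 15378 (BT.leaf cE15378) (BT.leaf cE15379)) (BT.leaf cE15380)) (BT.node 15381 (BT.leaf cE15381) (BT.leaf cE15382)))) (BT.node 15387 (BT.node 15385 (BT.node 15384 (BT.node 15383 (BT.leaf cE15383) (BT.leaf cE15384)) (BT.leaf cE15385)) (BT.node 15386 (BT.leaf cE15386) (BT.leaf cE15387))) (BT.node 15390 (BT.node 15389 (BT.node 15388 (BT.leaf cE15388) (BT.leaf cE15389)) (BT.leaf cE15390)) (BT.node 15391 (BT.leaf cE15391) (BT.leaf cE15392)))))) (BT.node 15412 (BT.node 15402 (BT.node 15397 (BT.node 15395 (BT.node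 15394 (BT.node 15393 (BT.leaf cE15393) (BT.leaf cE15394)) (BT.leaf cE15395)) (BT.node 15396 (BT.leaf cE15396) (BT.leaf cE15397))) (BT.node 15400 (BT.node 15399 (BT.node 15398 (BT.leaf cE15398) (BT.leaf cE15399)) (BT.leaf cE15400)) (BT.node 15401 (BT.leaf cE15401) (BT.leaf cE15402)))) (BT.node 15407 (BT.node 15405 (BT.node 15404 (BT.node 15403 (BT.leaf cE15403) (BT.leaf cE15404)) (BT.leaf cE15405)) (BT.node 15406 (BT.leaf cE15406) (BT.leaf cE15407))) (BT.node 15410 (BT.node 15409 (BT.node 15408 (BT.leaf cE15408) (BT.leaf cE15409)) (BT.leaf cE15410)) (BT.node 15411 (BT.leaf cE15411) (BT.leaf cE15412))))) (BT.node 15422 (BT.node 15417 (BT.node 15415 (BT.node 15414 (BT.node 15413 (BT.leaf cE15413) (BT.leaf cE15414)) (BT.leaf cE15415)) (BT.node 15416 (BT.leaf cE15416) (BT.leaf cE15417))) (BT.node 15420 (BT.node 15419 (BT.node 15418 (BT.leaf cE15418) (BT.leaf cE15419)) (BT.leaf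 cE15420)) (BT.node 15421 (BT.leaf cE15421) (BT.leaf cE15422)))) (BT.node 15427 (BT.node 15425 (BT.node 15424 (BT.node 15423 (BT.leaf cE15423) (BT.leaf cE15424)) (BT.leaf cE15425)) (BT.node 15426 (BT.leaf cE15426) (BT.leaf cE15427))) (BT.node 15430 (BT.node 15429 (BT.node 15428 (BT.leaf cE15428) (BT.leaf cE15429)) (BT.leaf cE15430)) (BT.node 15431 (BT.leaf cE15431) (BT.leaf cE15432))))))) (BT.node 15472 (BT.node 15452 (BT.node 15442 (BT.node 15437 (BT.node 15435 (BT.node 15434 (BT.node 15433 (BT.leaf cE15433) (BT.leaf cE15434)) (BT.leaf cE15435)) (BT.node 15436 (BT.leaf cE15436) (BT.leaf cE15437))) (BT.node 15440 (BT.node 15439 (BT.node 15438 (BT.leaf cE15438) (BT.leaf cE15439)) (BT.leaf cE15440)) (BT.node 15441 (BT.leaf cE15441) (BT.leaf cE15442)))) (BT.node 15447 (BT.node 15445 (BT.node 15444 (BT.node 15443 (BT.leaf cE15443) (BT.leaf cE15444)) (BT.leaf cE15445)) (BT.node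 15446 (BT.leaf cE15446) (BT.leaf cE15447))) (BT.node 15450 (BT.node 15449 (BT.node 15448 (BT.leaf cE15448) (BT.leaf cE15449)) (BT.leaf cE15450)) (BT.node 15451 (BT.leaf cE15451) (BT.leaf cE15452))))) (BT.node 15462 (BT.node 15457 (BT.node 15455 (BT.node 15454 (BT.node 15453 (BT.leaf cE15453) (BT.leaf cE15454)) (BT.leaf cE15455)) (BT.node 15456 (BT.leaf cE15456) (BT.leaf cE15457))) (BT.node 15460 (BT.node 15459 (BT.node 15458 (BT.leaf cE15458) (BT.leaf cE15459)) (BT.leaf cE15460)) (BT.node 15461 (BT.leaf cE15461) (BT.leaf cE15462)))) (BT.node 15467 (BT.node 15465 (BT.node 15464 (BT.node 15463 (BT.leaf cE15463) (BT.leaf cE15464)) (BT.leaf cE15465)) (BT.node 15466 (BT.leaf cE15466) (BT.leaf cE15467))) (BT.node 15470 (BT.node 15469 (BT.node 15468 (BT.leaf cE15468) (BT.leaf cE15469)) (BT.leaf cE15470)) (BT.node 15471 (BT.leaf cE15471) (BT.leaf cE15472)))))) (BT.node 15492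 (BT.node 15482 (BT.node 15477 (BT.node 15475 (BT.node 15474 (BT.node 15473 (BT.leaf cE15473) (BT.leaf cE15474)) (BT.leaf cE15475)) (BT.node 15476 (BT.leaf cE15476) (BT.leaf cE15477))) (BT.node 15480 (BT.node 15479 (BT.node 15478 (BT.leaf cE15478) (BT.leaf cE15479)) (BT.leaf cE15480)) (BT.node 15481 (BT.leaf cE15481) (BT.leaf cE15482)))) (BT.node 15487 (BT.node 15485 (BT.node 15484 (BT.node 15483 (BT.leaf cE15483) (BT.leaf cE15484)) (BT.leaf cE15485)) (BT.node 15486 (BT.leaf cE15486) (BT.leaf cE15487))) (BT.node 15490 (BT.node 15489 (BT.node 15488 (BT.leaf cE15488) (BT.leaf cE15489)) (BT.leaf cE15490)) (BT.node 15491 (BT.leaf cE15491) (BT.leaf cE15492))))) (BT.node 15502 (BT.node 15497 (BT.node 15495 (BT.node 15494 (BT.node 15493 (BT.leaf cE15493) (BT.leaf cE15494)) (BT.leaf cE15495)) (BT.node 15496 (BT.leaf cE15496) (BT.leaf cE15497))) (BT.node 15500 (BT.node 15499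 (BT.node 15498 (BT.leaf cE15498) (BT.leaf cE15499)) (BT.leaf cE15500)) (BT.node 15501 (BT.leaf cE15501) (BT.leaf cE15502)))) (BT.node 15507 (BT.node 15505 (BT.node 15504 (BT.node 15503 (BT.leaf cE15503) (BT.leaf cE15504)) (BT.leaf cE15505)) (BT.node 15506 (BT.leaf cE15506) (BT.leaf cE15507))) (BT.node 15510 (BT.node 15509 (BT.node 15508 (BT.leaf cE15508) (BT.leaf cE15509)) (BT.leaf cE15510)) (BT.node 15511 (BT.leaf cE15511) (BT.leaf cE15512))))))))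
noncomputable def colET_96 : BT ℕ := (BT.node 15593 (BT.node 15553 (BT.node 15533 (BT.node 15523 (BT.node 15518 (BT.node 15515 (BT.node 15514 (BT.node 15513 (BT.leaf cE15513) (BT.leaf cE15514)) (BT.leaf cE15515)) (BT.node 15517 (BT.node 15516 (BT.leaf cE15516) (BT.leaf cE15517)) (BT.leaf cE15518))) (BT.node 15521 (BT.node 15520 (BT.node 15519 (BT.leaf cE15519) (BT.leaf cE15520)) (BT.leaf cE15521)) (BT.node 15522 (BT.leaf cE15522) (BT.leaf cE15523)))) (BT.node 15528 (BT.node 15526 (BT.node 15525 (BT.node 15524 (BT.leaf cE15524) (BT.leaf cE15525)) (BT.leaf cE15526)) (BT.node 15527 (BT.leaf cE15527) (BT.leaf cE15528))) (BT.node 15531 (BT.node 15530 (BT.node 15529 (BT.leaf cE15529) (BT.leaf cE15530)) (BT.leaf cE15531)) (BT.node 15532 (BT.leaf cE15532) (BT.leaf cE15533))))) (BT.node 15543 (BT.node 15538 (BT.node 15536 (BT.node 15535 (BT.node 15534 (BT.leaf cE15534) (BT.leaf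 cE15535)) (BT.leaf cE15536)) (BT.node 15537 (BT.leaf cE15537) (BT.leaf cE15538))) (BT.node 15541 (BT.node 15540 (BT.node 15539 (BT.leaf cE15539) (BT.leaf cE15540)) (BT.leaf cE15541)) (BT.node 15542 (BT.leaf cE15542) (BT.leaf cE15543)))) (BT.node 15548 (BT.node 15546 (BT.node 15545 (BT.node 15544 (BT.leaf cE15544) (BT.leaf cE15545)) (BT.leaf cE15546)) (BT.node 15547 (BT.leaf cE15547) (BT.leaf cE15548))) (BT.node 15551 (BT.node 15550 (BT.node 15549 (BT.leaf cE15549) (BT.leaf cE15550)) (BT.leaf cE15551)) (BT.node 15552 (BT.leaf cE15552) (BT.leaf cE15553)))))) (BT.node 15573 (BT.node 15563 (BT.node 15558 (BT.node 15556 (BT.node 15555 (BT.node 15554 (BT.leaf cE15554) (BT.leaf cE15555)) (BT.leaf cE15556)) (BT.node 15557 (BT.leaf cE15557) (BT.leaf cE15558))) (BT.node 15561 (BT.node 15560 (BT.node 15559 (BT.leaf cE15559) (BT.leaf cE15560)) (BT.leaf cE15561)) (BT.node 15562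 (BT.leaf cE15562) (BT.leaf cE15563)))) (BT.node 15568 (BT.node 15566 (BT.node 15565 (BT.node 15564 (BT.leaf cE15564) (BT.leaf cE15565)) (BT.leaf cE15566)) (BT.node 15567 (BT.leaf cE15567) (BT.leaf cE15568))) (BT.node 15571 (BT.node 15570 (BT.node 15569 (BT.leaf cE15569) (BT.leaf cE15570)) (BT.leaf cE15571)) (BT.node 15572 (BT.leaf cE15572) (BT.leaf cE15573))))) (BT.node 15583 (BT.node 15578 (BT.node 15576 (BT.node 15575 (BT.node 15574 (BT.leaf cE15574) (BT.leaf cE15575)) (BT.leaf cE15576)) (BT.node 15577 (BT.leaf cE15577) (BT.leaf cE15578))) (BT.node 15581 (BT.node 15580 (BT.node 15579 (BT.leaf cE15579) (BT.leaf cE15580)) (BT.leaf cE15581)) (BT.node 15582 (BT.leaf cE15582) (BT.leaf cE15583)))) (BT.node 15588 (BT.node 15586 (BT.node 15585 (BT.node 15584 (BT.leaf cE15584) (BT.leaf cE15585)) (BT.leaf cE15586)) (BT.node 15587 (BT.leaf cE15587) (BT.leaf cE15588))) (BT.node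 15591 (BT.node 15590 (BT.node 15589 (BT.leaf cE15589) (BT.leaf cE15590)) (BT.leaf cE15591)) (BT.node 15592 (BT.leaf cE15592) (BT.leaf cE15593))))))) (BT.node 15634 (BT.node 15614 (BT.node 15604 (BT.node 15599 (BT.node 15596 (BT.node 15595 (BT.node 15594 (BT.leaf cE15594) (BT.leaf cE15595)) (BT.leaf cE15596)) (BT.node 15598 (BT.node 15597 (BT.leaf cE15597) (BT.leaf cE15598)) (BT.leaf cE15599))) (BT.node 15602 (BT.node 15601 (BT.node 15600 (BT.leaf cE15600) (BT.leaf cE15601)) (BT.leaf cE15602)) (BT.node 15603 (BT.leaf cE15603) (BT.leaf cE15604)))) (BT.node 15609 (BT.node 15607 (BT.node 15606 (BT.node 15605 (BT.leaf cE15605) (BT.leaf cE15606)) (BT.leaf cE15607)) (BT.node 15608 (BT.leaf cE15608) (BT.leaf cE15609))) (BT.node 15612 (BT.node 15611 (BT.node 15610 (BT.leaf cE15610) (BT.leaf cE15611)) (BT.leaf cE15612)) (BT.node 15613 (BT.leaf cE15613) (BT.leaf cE15614)))))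 (BT.node 15624 (BT.node 15619 (BT.node 15617 (BT.node 15616 (BT.node 15615 (BT.leaf cE15615) (BT.leaf cE15616)) (BT.leaf cE15617)) (BT.node 15618 (BT.leaf cE15618) (BT.leaf cE15619))) (BT.node 15622 (BT.node 15621 (BT.node 15620 (BT.leaf cE15620) (BT.leaf cE15621)) (BT.leaf cE15622)) (BT.node 15623 (BT.leaf cE15623) (BT.leaf cE15624)))) (BT.node 15629 (BT.node 15627 (BT.node 15626 (BT.node 15625 (BT.leaf cE15625) (BT.leaf cE15626)) (BT.leaf cE15627)) (BT.node 15628 (BT.leaf cE15628) (BT.leaf cE15629))) (BT.node 15632 (BT.node 15631 (BT.node 15630 (BT.leaf cE15630) (BT.leaf cE15631)) (BT.leaf cE15632)) (BT.node 15633 (BT.leaf cE15633) (BT.leaf cE15634)))))) (BT.node 15654 (BT.node 15644 (BT.node 15639 (BT.node 15637 (BT.node 15636 (BT.node 15635 (BT.leaf cE15635) (BT.leaf cE15636)) (BT.leaf cE15637)) (BT.node 15638 (BT.leaf cE15638) (BT.leaf cE15639))) (BT.node 15642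 (BT.node 15641 (BT.node 15640 (BT.leaf cE15640) (BT.leaf cE15641)) (BT.leaf cE15642)) (BT.node 15643 (BT.leaf cE15643) (BT.leaf cE15644)))) (BT.node 15649 (BT.node 15647 (BT.node 15646 (BT.node 15645 (BT.leaf cE15645) (BT.leaf cE15646)) (BT.leaf cE15647)) (BT.node 15648 (BT.leaf cE15648) (BT.leaf cE15649))) (BT.node 15652 (BT.node 15651 (BT.node 15650 (BT.leaf cE15650) (BT.leaf cE15651)) (BT.leaf cE15652)) (BT.node 15653 (BT.leaf cE15653) (BT.leaf cE15654))))) (BT.node 15664 (BT.node 15659 (BT.node 15657 (BT.node 15656 (BT.node 15655 (BT.leaf cE15655) (BT.leaf cE15656)) (BT.leaf cE15657)) (BT.node 15658 (BT.leaf cE15658) (BT.leaf cE15659))) (BT.node 15662 (BT.node 15661 (BT.node 15660 (BT.leaf cE15660) (BT.leaf cE15661)) (BT.leaf cE15662)) (BT.node 15663 (BT.leaf cE15663) (BT.leaf cE15664)))) (BT.node 15669 (BT.node 15667 (BT.node 15666 (BT.node 15665 (BT.leaf cE15665)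 (BT.leaf cE15666)) (BT.leaf cE15667)) (BT.node 15668 (BT.leaf cE15668) (BT.leaf cE15669))) (BT.node 15672 (BT.node 15671 (BT.node 15670 (BT.leaf cE15670) (BT.leaf cE15671)) (BT.leaf cE15672)) (BT.node 15673 (BT.leaf cE15673) (BT.leaf cE15674))))))))
noncomputable def colET_97 : BT ℕ := (BT.node 15755 (BT.node 15715 (BT.node 15695 (BT.node 15685 (BT.node 15680 (BT.node 15677 (BT.node 15676 (BT.node 15675 (BT.leaf cE15675) (BT.leaf cE15676)) (BT.leaf cE15677)) (BT.node 15679 (BT.node 15678 (BT.leaf cE15678) (BT.leaf cE15679)) (BT.leaf cE15680))) (BT.node 15683 (BT.node 15682 (BT.node 15681 (BT.leaf cE15681) (BT.leaf cE15682)) (BT.leaf cE15683)) (BT.node 15684 (BT.leaf cE15684) (BT.leaf cE15685)))) (BT.node 15690 (BT.node 15688 (BT.node 15687 (BT.node 15686 (BT.leaf cE15686) (BT.leaf cE15687)) (BT.leaf cE15688)) (BT.node 15689 (BT.leaf cE15689) (BT.leaf cE15690))) (BT.node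 15693 (BT.node 15692 (BT.node 15691 (BT.leaf cE15691) (BT.leaf cE15692)) (BT.leaf cE15693)) (BT.node 15694 (BT.leaf cE15694) (BT.leaf cE15695))))) (BT.node 15705 (BT.node 15700 (BT.node 15698 (BT.node 15697 (BT.node 15696 (BT.leaf cE15696) (BT.leaf cE15697)) (BT.leaf cE15698)) (BT.node 15699 (BT.leaf cE15699) (BT.leaf cE15700))) (BT.node 15703 (BT.node 15702 (BT.node 15701 (BT.leaf cE15701) (BT.leaf cE15702)) (BT.leaf cE15703)) (BT.node 15704 (BT.leaf cE15704) (BT.leaf cE15705)))) (BT.node 15710 (BT.node 15708 (BT.node 15707 (BT.node 15706 (BT.leaf cE15706) (BT.leaf cE15707)) (BT.leaf cE15708)) (BT.node 15709 (BT.leaf cE15709) (BT.leaf cE15710))) (BT.node 15713 (BT.node 15712 (BT.node 15711 (BT.leaf cE15711) (BT.leaf cE15712)) (BT.leaf cE15713)) (BT.node 15714 (BT.leaf cE15714) (BT.leaf cE15715)))))) (BT.node 15735 (BT.node 15725 (BT.node 15720 (BT.node 15718 (BT.node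 15717 (BT.node 15716 (BT.leaf cE15716) (BT.leaf cE15717)) (BT.leaf cE15718)) (BT.node 15719 (BT.leaf cE15719) (BT.leaf cE15720))) (BT.node 15723 (BT.node 15722 (BT.node 15721 (BT.leaf cE15721) (BT.leaf cE15722)) (BT.leaf cE15723)) (BT.node 15724 (BT.leaf cE15724) (BT.leaf cE15725)))) (BT.node 15730 (BT.node 15728 (BT.node 15727 (BT.node 15726 (BT.leaf cE15726) (BT.leaf cE15727)) (BT.leaf cE15728)) (BT.node 15729 (BT.leaf cE15729) (BT.leaf cE15730))) (BT.node 15733 (BT.node 15732 (BT.node 15731 (BT.leaf cE15731) (BT.leaf cE15732)) (BT.leaf cE15733)) (BT.node 15734 (BT.leaf cE15734) (BT.leaf cE15735))))) (BT.node 15745 (BT.node 15740 (BT.node 15738 (BT.node 15737 (BT.node 15736 (BT.leaf cE15736) (BT.leaf cE15737)) (BT.leaf cE15738)) (BT.node 15739 (BT.leaf cE15739) (BT.leaf cE15740))) (BT.node 15743 (BT.node 15742 (BT.node 15741 (BT.leaf cE15741) (BT.leaf cE15742)) (BT.leaf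 cE15743)) (BT.node 15744 (BT.leaf cE15744) (BT.leaf cE15745)))) (BT.node 15750 (BT.node 15748 (BT.node 15747 (BT.node 15746 (BT.leaf cE15746) (BT.leaf cE15747)) (BT.leaf cE15748)) (BT.node 15749 (BT.leaf cE15749) (BT.leaf cE15750))) (BT.node 15753 (BT.node 15752 (BT.node 15751 (BT.leaf cE15751) (BT.leaf cE15752)) (BT.leaf cE15753)) (BT.node 15754 (BT.leaf cE15754) (BT.leaf cE15755))))))) (BT.node 15796 (BT.node 15776 (BT.node 15766 (BT.node 15761 (BT.node 15758 (BT.node 15757 (BT.node 15756 (BT.leaf cE15756) (BT.leaf cE15757)) (BT.leaf cE15758)) (BT.node 15760 (BT.node 15759 (BT.leaf cE15759) (BT.leaf cE15760)) (BT.leaf cE15761))) (BT.node 15764 (BT.node 15763 (BT.node 15762 (BT.leaf cE15762) (BT.leaf cE15763)) (BT.leaf cE15764)) (BT.node 15765 (BT.leaf cE15765) (BT.leaf cE15766)))) (BT.node 15771 (BT.node 15769 (BT.node 15768 (BT.node 15767 (BT.leaf cE15767) (BT.leaf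 cE15768)) (BT.leaf cE15769)) (BT.node 15770 (BT.leaf cE15770) (BT.leaf cE15771))) (BT.node 15774 (BT.node 15773 (BT.node 15772 (BT.leaf cE15772) (BT.leaf cE15773)) (BT.leaf cE15774)) (BT.node 15775 (BT.leaf cE15775) (BT.leaf cE15776))))) (BT.node 15786 (BT.node 15781 (BT.node 15779 (BT.node 15778 (BT.node 15777 (BT.leaf cE15777) (BT.leaf cE15778)) (BT.leaf cE15779)) (BT.node 15780 (BT.leaf cE15780) (BT.leaf cE15781))) (BT.node 15784 (BT.node 15783 (BT.node 15782 (BT.leaf cE15782) (BT.leaf cE15783)) (BT.leaf cE15784)) (BT.node 15785 (BT.leaf cE15785) (BT.leaf cE15786)))) (BT.node 15791 (BT.node 15789 (BT.node 15788 (BT.node 15787 (BT.leaf cE15787) (BT.leaf cE15788)) (BT.leaf cE15789)) (BT.node 15790 (BT.leaf cE15790) (BT.leaf cE15791))) (BT.node 15794 (BT.node 15793 (BT.node 15792 (BT.leaf cE15792) (BT.leaf cE15793)) (BT.leaf cE15794)) (BT.node 15795 (BT.leaf cE15795)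 (BT.leaf cE15796)))))) (BT.node 15816 (BT.node 15806 (BT.node 15801 (BT.node 15799 (BT.node 15798 (BT.node 15797 (BT.leaf cE15797) (BT.leaf cE15798)) (BT.leaf cE15799)) (BT.node 15800 (BT.leaf cE15800) (BT.leaf cE15801))) (BT.node 15804 (BT.node 15803 (BT.node 15802 (BT.leaf cE15802) (BT.leaf cE15803)) (BT.leaf cE15804)) (BT.node 15805 (BT.leaf cE15805) (BT.leaf cE15806)))) (BT.node 15811 (BT.node 15809 (BT.node 15808 (BT.node 15807 (BT.leaf cE15807) (BT.leaf cE15808)) (BT.leaf cE15809)) (BT.node 15810 (BT.leaf cE15810) (BT.leaf cE15811))) (BT.node 15814 (BT.node 15813 (BT.node 15812 (BT.leaf cE15812) (BT.leaf cE15813)) (BT.leaf cE15814)) (BT.node 15815 (BT.leaf cE15815) (BT.leaf cE15816))))) (BT.node 15826 (BT.node 15821 (BT.node 15819 (BT.node 15818 (BT.node 15817 (BT.leaf cE15817) (BT.leaf cE15818)) (BT.leaf cE15819)) (BT.node 15820 (BT.leaf cE15820) (BT.leaf cE15821)))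 (BT.node 15824 (BT.node 15823 (BT.node 15822 (BT.leaf cE15822) (BT.leaf cE15823)) (BT.leaf cE15824)) (BT.node 15825 (BT.leaf cE15825) (BT.leaf cE15826)))) (BT.node 15831 (BT.node 15829 (BT.node 15828 (BT.node 15827 (BT.leaf cE15827) (BT.leaf cE15828)) (BT.leaf cE15829)) (BT.node 15830 (BT.leaf cE15830) (BT.leaf cE15831))) (BT.node 15834 (BT.node 15833 (BT.node 15832 (BT.leaf cE15832) (BT.leaf cE15833)) (BT.leaf cE15834)) (BT.node 15835 (BT.leaf cE15835) (BT.leaf cE15836))))))))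
noncomputable def colET_98 : BT ℕ := (BT.node 15917 (BT.node 15877 (BT.node 15857 (BT.node 15847 (BT.node 15842 (BT.node 15839 (BT.node 15838 (BT.node 15837 (BT.leaf cE15837) (BT.leaf cE15838)) (BT.leaf cE15839)) (BT.node 15841 (BT.node 15840 (BT.leaf cE15840) (BT.leaf cE15841)) (BT.leaf cE15842))) (BT.node 15845 (BT.node 15844 (BT.node 15843 (BT.leaf cE15843) (BT.leaf cE15844)) (BT.leaf cE15845)) (BT.node 15846 (BT.leaf cE15846) (BT.leaf cE15847)))) (BT.node 15852 (BT.node 15850 (BT.node 15849 (BT.node 15848 (BT.leaf cE15848) (BT.leaf cE15849)) (BT.leaf cE15850)) (BT.node 15851 (BT.leaf cE15851) (BT.leaf cE15852))) (BT.node 15855 (BT.node 15854 (BT.node 15853 (BT.leaf cE15853) (BT.leaf cE15854)) (BT.leaf cE15855)) (BT.node 15856 (BT.leaf cE15856) (BT.leaf cE15857))))) (BT.node 15867 (BT.node 15862 (BT.node 15860 (BT.node 15859 (BT.node 15858 (BT.leaf cE15858) (BT.leaf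 cE15859)) (BT.leaf cE15860)) (BT.node 15861 (BT.leaf cE15861) (BT.leaf cE15862))) (BT.node 15865 (BT.node 15864 (BT.node 15863 (BT.leaf cE15863) (BT.leaf cE15864)) (BT.leaf cE15865)) (BT.node 15866 (BT.leaf cE15866) (BT.leaf cE15867)))) (BT.node 15872 (BT.node 15870 (BT.node 15869 (BT.node 15868 (BT.leaf cE15868) (BT.leaf cE15869)) (BT.leaf cE15870)) (BT.node 15871 (BT.leaf cE15871) (BT.leaf cE15872))) (BT.node 15875 (BT.node 15874 (BT.node 15873 (BT.leaf cE15873) (BT.leaf cE15874)) (BT.leaf cE15875)) (BT.node 15876 (BT.leaf cE15876) (BT.leaf cE15877)))))) (BT.node 15897 (BT.node 15887 (BT.node 15882 (BT.node 15880 (BT.node 15879 (BT.node 15878 (BT.leaf cE15878) (BT.leaf cE15879)) (BT.leaf cE15880)) (BT.node 15881 (BT.leaf cE15881) (BT.leaf cE15882))) (BT.node 15885 (BT.node 15884 (BT.node 15883 (BT.leaf cE15883) (BT.leaf cE15884)) (BT.leaf cE15885)) (BT.node 15886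 (BT.leaf cE15886) (BT.leaf cE15887)))) (BT.node 15892 (BT.node 15890 (BT.node 15889 (BT.node 15888 (BT.leaf cE15888) (BT.leaf cE15889)) (BT.leaf cE15890)) (BT.node 15891 (BT.leaf cE15891) (BT.leaf cE15892))) (BT.node 15895 (BT.node 15894 (BT.node 15893 (BT.leaf cE15893) (BT.leaf cE15894)) (BT.leaf cE15895)) (BT.node 15896 (BT.leaf cE15896) (BT.leaf cE15897))))) (BT.node 15907 (BT.node 15902 (BT.node 15900 (BT.node 15899 (BT.node 15898 (BT.leaf cE15898) (BT.leaf cE15899)) (BT.leaf cE15900)) (BT.node 15901 (BT.leaf cE15901) (BT.leaf cE15902))) (BT.node 15905 (BT.node 15904 (BT.node 15903 (BT.leaf cE15903) (BT.leaf cE15904)) (BT.leaf cE15905)) (BT.node 15906 (BT.leaf cE15906) (BT.leaf cE15907)))) (BT.node 15912 (BT.node 15910 (BT.node 15909 (BT.node 15908 (BT.leaf cE15908) (BT.leaf cE15909)) (BT.leaf cE15910)) (BT.node 15911 (BT.leaf cE15911) (BT.leaf cE15912))) (BT.node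 15915 (BT.node 15914 (BT.node 15913 (BT.leaf cE15913) (BT.leaf cE15914)) (BT.leaf cE15915)) (BT.node 15916 (BT.leaf cE15916) (BT.leaf cE15917))))))) (BT.node 15958 (BT.node 15938 (BT.node 15928 (BT.node 15923 (BT.node 15920 (BT.node 15919 (BT.node 15918 (BT.leaf cE15918) (BT.leaf cE15919)) (BT.leaf cE15920)) (BT.node 15922 (BT.node 15921 (BT.leaf cE15921) (BT.leaf cE15922)) (BT.leaf cE15923))) (BT.node 15926 (BT.node 15925 (BT.node 15924 (BT.leaf cE15924) (BT.leaf cE15925)) (BT.leaf cE15926)) (BT.node 15927 (BT.leaf cE15927) (BT.leaf cE15928)))) (BT.node 15933 (BT.node 15931 (BT.node 15930 (BT.node 15929 (BT.leaf cE15929) (BT.leaf cE15930)) (BT.leaf cE15931)) (BT.node 15932 (BT.leaf cE15932) (BT.leaf cE15933))) (BT.node 15936 (BT.node 15935 (BT.node 15934 (BT.leaf cE15934) (BT.leaf cE15935)) (BT.leaf cE15936)) (BT.node 15937 (BT.leaf cE15937) (BT.leaf cE15938)))))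 (BT.node 15948 (BT.node 15943 (BT.node 15941 (BT.node 15940 (BT.node 15939 (BT.leaf cE15939) (BT.leaf cE15940)) (BT.leaf cE15941)) (BT.node 15942 (BT.leaf cE15942) (BT.leaf cE15943))) (BT.node 15946 (BT.node 15945 (BT.node 15944 (BT.leaf cE15944) (BT.leaf cE15945)) (BT.leaf cE15946)) (BT.node 15947 (BT.leaf cE15947) (BT.leaf cE15948)))) (BT.node 15953 (BT.node 15951 (BT.node 15950 (BT.node 15949 (BT.leaf cE15949) (BT.leaf cE15950)) (BT.leaf cE15951)) (BT.node 15952 (BT.leaf cE15952) (BT.leaf cE15953))) (BT.node 15956 (BT.node 15955 (BT.node 15954 (BT.leaf cE15954) (BT.leaf cE15955)) (BT.leaf cE15956)) (BT.node 15957 (BT.leaf cE15957) (BT.leaf cE15958)))))) (BT.node 15978 (BT.node 15968 (BT.node 15963 (BT.node 15961 (BT.node 15960 (BT.node 15959 (BT.leaf cE15959) (BT.leaf cE15960)) (BT.leaf cE15961)) (BT.node 15962 (BT.leaf cE15962) (BT.leaf cE15963))) (BT.node 15966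 (BT.node 15965 (BT.node 15964 (BT.leaf cE15964) (BT.leaf cE15965)) (BT.leaf cE15966)) (BT.node 15967 (BT.leaf cE15967) (BT.leaf cE15968)))) (BT.node 15973 (BT.node 15971 (BT.node 15970 (BT.node 15969 (BT.leaf cE15969) (BT.leaf cE15970)) (BT.leaf cE15971)) (BT.node 15972 (BT.leaf cE15972) (BT.leaf cE15973))) (BT.node 15976 (BT.node 15975 (BT.node 15974 (BT.leaf cE15974) (BT.leaf cE15975)) (BT.leaf cE15976)) (BT.node 15977 (BT.leaf cE15977) (BT.leaf cE15978))))) (BT.node 15988 (BT.node 15983 (BT.node 15981 (BT.node 15980 (BT.node 15979 (BT.leaf cE15979) (BT.leaf cE15980)) (BT.leaf cE15981)) (BT.node 15982 (BT.leaf cE15982) (BT.leaf cE15983))) (BT.node 15986 (BT.node 15985 (BT.node 15984 (BT.leaf cE15984) (BT.leaf cE15985)) (BT.leaf cE15986)) (BT.node 15987 (BT.leaf cE15987) (BT.leaf cE15988)))) (BT.node 15993 (BT.node 15991 (BT.node 15990 (BT.node 15989 (BT.leaf cE15989)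 (BT.leaf cE15990)) (BT.leaf cE15991)) (BT.node 15992 (BT.leaf cE15992) (BT.leaf cE15993))) (BT.node 15996 (BT.node 15995 (BT.node 15994 (BT.leaf cE15994) (BT.leaf cE15995)) (BT.leaf cE15996)) (BT.node 15997 (BT.leaf cE15997) (BT.leaf cE15998))))))))
noncomputable def colET_99 : BT ℕ := (BT.node 16079 (BT.node 16039 (BT.node 16019 (BT.node 16009 (BT.node 16004 (BT.node 16001 (BT.node 16000 (BT.node 15999 (BT.leaf cE15999) (BT.leaf cE16000)) (BT.leaf cE16001)) (BT.node 16003 (BT.node 16002 (BT.leaf cE16002) (BT.leaf cE16003)) (BT.leaf cE16004))) (BT.node 16007 (BT.node 16006 (BT.node 16005 (BT.leaf cE16005) (BT.leaf cE16006)) (BT.leaf cE16007)) (BT.node 16008 (BT.leaf cE16008) (BT.leaf cE16009)))) (BT.node 16014 (BT.node 16012 (BT.node 16011 (BT.node 16010 (BT.leaf cE16010) (BT.leaf cE16011)) (BT.leaf cE16012)) (BT.node 16013 (BT.leaf cE16013) (BT.leaf cE16014))) (BT.node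 16017 (BT.node 16016 (BT.node 16015 (BT.leaf cE16015) (BT.leaf cE16016)) (BT.leaf cE16017)) (BT.node 16018 (BT.leaf cE16018) (BT.leaf cE16019))))) (BT.node 16029 (BT.node 16024 (BT.node 16022 (BT.node 16021 (BT.node 16020 (BT.leaf cE16020) (BT.leaf cE16021)) (BT.leaf cE16022)) (BT.node 16023 (BT.leaf cE16023) (BT.leaf cE16024))) (BT.node 16027 (BT.node 16026 (BT.node 16025 (BT.leaf cE16025) (BT.leaf cE16026)) (BT.leaf cE16027)) (BT.node 16028 (BT.leaf cE16028) (BT.leaf cE16029)))) (BT.node 16034 (BT.node 16032 (BT.node 16031 (BT.node 16030 (BT.leaf cE16030) (BT.leaf cE16031)) (BT.leaf cE16032)) (BT.node 16033 (BT.leaf cE16033) (BT.leaf cE16034))) (BT.node 16037 (BT.node 16036 (BT.node 16035 (BT.leaf cE16035) (BT.leaf cE16036)) (BT.leaf cE16037)) (BT.node 16038 (BT.leaf cE16038) (BT.leaf cE16039)))))) (BT.node 16059 (BT.node 16049 (BT.node 16044 (BT.node 16042 (BT.node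 16041 (BT.node 16040 (BT.leaf cE16040) (BT.leaf cE16041)) (BT.leaf cE16042)) (BT.node 16043 (BT.leaf cE16043) (BT.leaf cE16044))) (BT.node 16047 (BT.node 16046 (BT.node 16045 (BT.leaf cE16045) (BT.leaf cE16046)) (BT.leaf cE16047)) (BT.node 16048 (BT.leaf cE16048) (BT.leaf cE16049)))) (BT.node 16054 (BT.node 16052 (BT.node 16051 (BT.node 16050 (BT.leaf cE16050) (BT.leaf cE16051)) (BT.leaf cE16052)) (BT.node 16053 (BT.leaf cE16053) (BT.leaf cE16054))) (BT.node 16057 (BT.node 16056 (BT.node 16055 (BT.leaf cE16055) (BT.leaf cE16056)) (BT.leaf cE16057)) (BT.node 16058 (BT.leaf cE16058) (BT.leaf cE16059))))) (BT.node 16069 (BT.node 16064 (BT.node 16062 (BT.node 16061 (BT.node 16060 (BT.leaf cE16060) (BT.leaf cE16061)) (BT.leaf cE16062)) (BT.node 16063 (BT.leaf cE16063) (BT.leaf cE16064))) (BT.node 16067 (BT.node 16066 (BT.node 16065 (BT.leaf cE16065) (BT.leaf cE16066)) (BT.leaf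 cE16067)) (BT.node 16068 (BT.leaf cE16068) (BT.leaf cE16069)))) (BT.node 16074 (BT.node 16072 (BT.node 16071 (BT.node 16070 (BT.leaf cE16070) (BT.leaf cE16071)) (BT.leaf cE16072)) (BT.node 16073 (BT.leaf cE16073) (BT.leaf cE16074))) (BT.node 16077 (BT.node 16076 (BT.node 16075 (BT.leaf cE16075) (BT.leaf cE16076)) (BT.leaf cE16077)) (BT.node 16078 (BT.leaf cE16078) (BT.leaf cE16079))))))) (BT.node 16119 (BT.node 16099 (BT.node 16089 (BT.node 16084 (BT.node 16082 (BT.node 16081 (BT.node 16080 (BT.leaf cE16080) (BT.leaf cE16081)) (BT.leaf cE16082)) (BT.node 16083 (BT.leaf cE16083) (BT.leaf cE16084))) (BT.node 16087 (BT.node 16086 (BT.node 16085 (BT.leaf cE16085) (BT.leaf cE16086)) (BT.leaf cE16087)) (BT.node 16088 (BT.leaf cE16088) (BT.leaf cE16089)))) (BT.node 16094 (BT.node 16092 (BT.node 16091 (BT.node 16090 (BT.leaf cE16090) (BT.leaf cE16091)) (BT.leaf cE16092)) (BT.node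 16093 (BT.leaf cE16093) (BT.leaf cE16094))) (BT.node 16097 (BT.node 16096 (BT.node 16095 (BT.leaf cE16095) (BT.leaf cE16096)) (BT.leaf cE16097)) (BT.node 16098 (BT.leaf cE16098) (BT.leaf cE16099))))) (BT.node 16109 (BT.node 16104 (BT.node 16102 (BT.node 16101 (BT.node 16100 (BT.leaf cE16100) (BT.leaf cE16101)) (BT.leaf cE16102)) (BT.node 16103 (BT.leaf cE16103) (BT.leaf cE16104))) (BT.node 16107 (BT.node 16106 (BT.node 16105 (BT.leaf cE16105) (BT.leaf cE16106)) (BT.leaf cE16107)) (BT.node 16108 (BT.leaf cE16108) (BT.leaf cE16109)))) (BT.node 16114 (BT.node 16112 (BT.node 16111 (BT.node 16110 (BT.leaf cE16110) (BT.leaf cE16111)) (BT.leaf cE16112)) (BT.node 16113 (BT.leaf cE16113) (BT.leaf cE16114))) (BT.node 16117 (BT.node 16116 (BT.node 16115 (BT.leaf cE16115) (BT.leaf cE16116)) (BT.leaf cE16117)) (BT.node 16118 (BT.leaf cE16118) (BT.leaf cE16119)))))) (BT.node 16139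 (BT.node 16129 (BT.node 16124 (BT.node 16122 (BT.node 16121 (BT.node 16120 (BT.leaf cE16120) (BT.leaf cE16121)) (BT.leaf cE16122)) (BT.node 16123 (BT.leaf cE16123) (BT.leaf cE16124))) (BT.node 16127 (BT.node 16126 (BT.node 16125 (BT.leaf cE16125) (BT.leaf cE16126)) (BT.leaf cE16127)) (BT.node 16128 (BT.leaf cE16128) (BT.leaf cE16129)))) (BT.node 16134 (BT.node 16132 (BT.node 16131 (BT.node 16130 (BT.leaf cE16130) (BT.leaf cE16131)) (BT.leaf cE16132)) (BT.node 16133 (BT.leaf cE16133) (BT.leaf cE16134))) (BT.node 16137 (BT.node 16136 (BT.node 16135 (BT.leaf cE16135) (BT.leaf cE16136)) (BT.leaf cE16137)) (BT.node 16138 (BT.leaf cE16138) (BT.leaf cE16139))))) (BT.node 16149 (BT.node 16144 (BT.node 16142 (BT.node 16141 (BT.node 16140 (BT.leaf cE16140) (BT.leaf cE16141)) (BT.leaf cE16142)) (BT.node 16143 (BT.leaf cE16143) (BT.leaf cE16144))) (BT.node 16147 (BT.node 16146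 (BT.node 16145 (BT.leaf cE16145) (BT.leaf cE16146)) (BT.leaf cE16147)) (BT.node 16148 (BT.leaf cE16148) (BT.leaf cE16149)))) (BT.node 16154 (BT.node 16152 (BT.node 16151 (BT.node 16150 (BT.leaf cE16150) (BT.leaf cE16151)) (BT.leaf cE16152)) (BT.node 16153 (BT.leaf cE16153) (BT.leaf cE16154))) (BT.node 16157 (BT.node 16156 (BT.node 16155 (BT.leaf cE16155) (BT.leaf cE16156)) (BT.leaf cE16157)) (BT.node 16158 (BT.leaf cE16158) (BT.leaf cE16159))))))))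
noncomputable def colET_100 : BT ℕ := (BT.node 16240 (BT.node 16200 (BT.node 16180 (BT.node 16170 (BT.node 16165 (BT.node 16162 (BT.node 16161 (BT.node 16160 (BT.leaf cE16160) (BT.leaf cE16161)) (BT.leaf cE16162)) (BT.node 16164 (BT.node 16163 (BT.leaf cE16163) (BT.leaf cE16164)) (BT.leaf cE16165))) (BT.node 16168 (BT.node 16167 (BT.node 16166 (BT.leaf cE16166) (BT.leaf cE16167)) (BT.leaf cE16168)) (BT.node 16169 (BT.leaf cE16169) (BT.leaf cE16170)))) (BT.node 16175 (BT.node 16173 (BT.node 16172 (BT.node 16171 (BT.leaf cE16171) (BT.leaf cE16172)) (BT.leaf cE16173)) (BT.node 16174 (BT.leaf cE16174) (BT.leaf cE16175))) (BT.node 16178 (BT.node 16177 (BT.node 16176 (BT.leaf cE16176) (BT.leaf cE16177)) (BT.leaf cE16178)) (BT.node 16179 (BT.leaf cE16179) (BT.leaf cE16180))))) (BT.node 16190 (BT.node 16185 (BT.node 16183 (BT.node 16182 (BT.node 16181 (BT.leaf cE16181) (BT.leaf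 cE16182)) (BT.leaf cE16183)) (BT.node 16184 (BT.leaf cE16184) (BT.leaf cE16185))) (BT.node 16188 (BT.node 16187 (BT.node 16186 (BT.leaf cE16186) (BT.leaf cE16187)) (BT.leaf cE16188)) (BT.node 16189 (BT.leaf cE16189) (BT.leaf cE16190)))) (BT.node 16195 (BT.node 16193 (BT.node 16192 (BT.node 16191 (BT.leaf cE16191) (BT.leaf cE16192)) (BT.leaf cE16193)) (BT.node 16194 (BT.leaf cE16194) (BT.leaf cE16195))) (BT.node 16198 (BT.node 16197 (BT.node 16196 (BT.leaf cE16196) (BT.leaf cE16197)) (BT.leaf cE16198)) (BT.node 16199 (BT.leaf cE16199) (BT.leaf cE16200)))))) (BT.node 16220 (BT.node 16210 (BT.node 16205 (BT.node 16203 (BT.node 16202 (BT.node 16201 (BT.leaf cE16201) (BT.leaf cE16202)) (BT.leaf cE16203)) (BT.node 16204 (BT.leaf cE16204) (BT.leaf cE16205))) (BT.node 16208 (BT.node 16207 (BT.node 16206 (BT.leaf cE16206) (BT.leaf cE16207)) (BT.leaf cE16208)) (BT.node 16209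 (BT.leaf cE16209) (BT.leaf cE16210)))) (BT.node 16215 (BT.node 16213 (BT.node 16212 (BT.node 16211 (BT.leaf cE16211) (BT.leaf cE16212)) (BT.leaf cE16213)) (BT.node 16214 (BT.leaf cE16214) (BT.leaf cE16215))) (BT.node 16218 (BT.node 16217 (BT.node 16216 (BT.leaf cE16216) (BT.leaf cE16217)) (BT.leaf cE16218)) (BT.node 16219 (BT.leaf cE16219) (BT.leaf cE16220))))) (BT.node 16230 (BT.node 16225 (BT.node 16223 (BT.node 16222 (BT.node 16221 (BT.leaf cE16221) (BT.leaf cE16222)) (BT.leaf cE16223)) (BT.node 16224 (BT.leaf cE16224) (BT.leaf cE16225))) (BT.node 16228 (BT.node 16227 (BT.node 16226 (BT.leaf cE16226) (BT.leaf cE16227)) (BT.leaf cE16228)) (BT.node 16229 (BT.leaf cE16229) (BT.leaf cE16230)))) (BT.node 16235 (BT.node 16233 (BT.node 16232 (BT.node 16231 (BT.leaf cE16231) (BT.leaf cE16232)) (BT.leaf cE16233)) (BT.node 16234 (BT.leaf cE16234) (BT.leaf cE16235))) (BT.node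 16238 (BT.node 16237 (BT.node 16236 (BT.leaf cE16236) (BT.leaf cE16237)) (BT.leaf cE16238)) (BT.node 16239 (BT.leaf cE16239) (BT.leaf cE16240))))))) (BT.node 16281 (BT.node 16261 (BT.node 16251 (BT.node 16246 (BT.node 16243 (BT.node 16242 (BT.node 16241 (BT.leaf cE16241) (BT.leaf cE16242)) (BT.leaf cE16243)) (BT.node 16245 (BT.node 16244 (BT.leaf cE16244) (BT.leaf cE16245)) (BT.leaf cE16246))) (BT.node 16249 (BT.node 16248 (BT.node 16247 (BT.leaf cE16247) (BT.leaf cE16248)) (BT.leaf cE16249)) (BT.node 16250 (BT.leaf cE16250) (BT.leaf cE16251)))) (BT.node 16256 (BT.node 16254 (BT.node 16253 (BT.node 16252 (BT.leaf cE16252) (BT.leaf cE16253)) (BT.leaf cE16254)) (BT.node 16255 (BT.leaf cE16255) (BT.leaf cE16256))) (BT.node 16259 (BT.node 16258 (BT.node 16257 (BT.leaf cE16257) (BT.leaf cE16258)) (BT.leaf cE16259)) (BT.node 16260 (BT.leaf cE16260) (BT.leaf cE16261)))))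 (BT.node 16271 (BT.node 16266 (BT.node 16264 (BT.node 16263 (BT.node 16262 (BT.leaf cE16262) (BT.leaf cE16263)) (BT.leaf cE16264)) (BT.node 16265 (BT.leaf cE16265) (BT.leaf cE16266))) (BT.node 16269 (BT.node 16268 (BT.node 16267 (BT.leaf cE16267) (BT.leaf cE16268)) (BT.leaf cE16269)) (BT.node 16270 (BT.leaf cE16270) (BT.leaf cE16271)))) (BT.node 16276 (BT.node 16274 (BT.node 16273 (BT.node 16272 (BT.leaf cE16272) (BT.leaf cE16273)) (BT.leaf cE16274)) (BT.node 16275 (BT.leaf cE16275) (BT.leaf cE16276))) (BT.node 16279 (BT.node 16278 (BT.node 16277 (BT.leaf cE16277) (BT.leaf cE16278)) (BT.leaf cE16279)) (BT.node 16280 (BT.leaf cE16280) (BT.leaf cE16281)))))) (BT.node 16301 (BT.node 16291 (BT.node 16286 (BT.node 16284 (BT.node 16283 (BT.node 16282 (BT.leaf cE16282) (BT.leaf cE16283)) (BT.leaf cE16284)) (BT.node 16285 (BT.leaf cE16285) (BT.leaf cE16286))) (BT.node 16289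 (BT.node 16288 (BT.node 16287 (BT.leaf cE16287) (BT.leaf cE16288)) (BT.leaf cE16289)) (BT.node 16290 (BT.leaf cE16290) (BT.leaf cE16291)))) (BT.node 16296 (BT.node 16294 (BT.node 16293 (BT.node 16292 (BT.leaf cE16292) (BT.leaf cE16293)) (BT.leaf cE16294)) (BT.node 16295 (BT.leaf cE16295) (BT.leaf cE16296))) (BT.node 16299 (BT.node 16298 (BT.node 16297 (BT.leaf cE16297) (BT.leaf cE16298)) (BT.leaf cE16299)) (BT.node 16300 (BT.leaf cE16300) (BT.leaf cE16301))))) (BT.node 16311 (BT.node 16306 (BT.node 16304 (BT.node 16303 (BT.node 16302 (BT.leaf cE16302) (BT.leaf cE16303)) (BT.leaf cE16304)) (BT.node 16305 (BT.leaf cE16305) (BT.leaf cE16306))) (BT.node 16309 (BT.node 16308 (BT.node 16307 (BT.leaf cE16307) (BT.leaf cE16308)) (BT.leaf cE16309)) (BT.node 16310 (BT.leaf cE16310) (BT.leaf cE16311)))) (BT.node 16316 (BT.node 16314 (BT.node 16313 (BT.node 16312 (BT.leaf cE16312)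 (BT.leaf cE16313)) (BT.leaf cE16314)) (BT.node 16315 (BT.leaf cE16315) (BT.leaf cE16316))) (BT.node 16319 (BT.node 16318 (BT.node 16317 (BT.leaf cE16317) (BT.leaf cE16318)) (BT.leaf cE16319)) (BT.node 16320 (BT.leaf cE16320) (BT.leaf cE16321))))))))
noncomputable def colET_101 : BT ℕ := (BT.node 16402 (BT.node 16362 (BT.node 16342 (BT.node 16332 (BT.node 16327 (BT.node 16324 (BT.node 16323 (BT.node 16322 (BT.leaf cE16322) (BT.leaf cE16323)) (BT.leaf cE16324)) (BT.node 16326 (BT.node 16325 (BT.leaf cE16325) (BT.leaf cE16326)) (BT.leaf cE16327))) (BT.node 16330 (BT.node 16329 (BT.node 16328 (BT.leaf cE16328) (BT.leaf cE16329)) (BT.leaf cE16330)) (BT.node 16331 (BT.leaf cE16331) (BT.leaf cE16332)))) (BT.node 16337 (BT.node 16335 (BT.node 16334 (BT.node 16333 (BT.leaf cE16333) (BT.leaf cE16334)) (BT.leaf cE16335)) (BT.node 16336 (BT.leaf cE16336) (BT.leaf cE16337))) (BT.node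 16340 (BT.node 16339 (BT.node 16338 (BT.leaf cE16338) (BT.leaf cE16339)) (BT.leaf cE16340)) (BT.node 16341 (BT.leaf cE16341) (BT.leaf cE16342))))) (BT.node 16352 (BT.node 16347 (BT.node 16345 (BT.node 16344 (BT.node 16343 (BT.leaf cE16343) (BT.leaf cE16344)) (BT.leaf cE16345)) (BT.node 16346 (BT.leaf cE16346) (BT.leaf cE16347))) (BT.node 16350 (BT.node 16349 (BT.node 16348 (BT.leaf cE16348) (BT.leaf cE16349)) (BT.leaf cE16350)) (BT.node 16351 (BT.leaf cE16351) (BT.leaf cE16352)))) (BT.node 16357 (BT.node 16355 (BT.node 16354 (BT.node 16353 (BT.leaf cE16353) (BT.leaf cE16354)) (BT.leaf cE16355)) (BT.node 16356 (BT.leaf cE16356) (BT.leaf cE16357))) (BT.node 16360 (BT.node 16359 (BT.node 16358 (BT.leaf cE16358) (BT.leaf cE16359)) (BT.leaf cE16360)) (BT.node 16361 (BT.leaf cE16361) (BT.leaf cE16362)))))) (BT.node 16382 (BT.node 16372 (BT.node 16367 (BT.node 16365 (BT.node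 16364 (BT.node 16363 (BT.leaf cE16363) (BT.leaf cE16364)) (BT.leaf cE16365)) (BT.node 16366 (BT.leaf cE16366) (BT.leaf cE16367))) (BT.node 16370 (BT.node 16369 (BT.node 16368 (BT.leaf cE16368) (BT.leaf cE16369)) (BT.leaf cE16370)) (BT.node 16371 (BT.leaf cE16371) (BT.leaf cE16372)))) (BT.node 16377 (BT.node 16375 (BT.node 16374 (BT.node 16373 (BT.leaf cE16373) (BT.leaf cE16374)) (BT.leaf cE16375)) (BT.node 16376 (BT.leaf cE16376) (BT.leaf cE16377))) (BT.node 16380 (BT.node 16379 (BT.node 16378 (BT.leaf cE16378) (BT.leaf cE16379)) (BT.leaf cE16380)) (BT.node 16381 (BT.leaf cE16381) (BT.leaf cE16382))))) (BT.node 16392 (BT.node 16387 (BT.node 16385 (BT.node 16384 (BT.node 16383 (BT.leaf cE16383) (BT.leaf cE16384)) (BT.leaf cE16385)) (BT.node 16386 (BT.leaf cE16386) (BT.leaf cE16387))) (BT.node 16390 (BT.node 16389 (BT.node 16388 (BT.leaf cE16388) (BT.leaf cE16389)) (BT.leaf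 cE16390)) (BT.node 16391 (BT.leaf cE16391) (BT.leaf cE16392)))) (BT.node 16397 (BT.node 16395 (BT.node 16394 (BT.node 16393 (BT.leaf cE16393) (BT.leaf cE16394)) (BT.leaf cE16395)) (BT.node 16396 (BT.leaf cE16396) (BT.leaf cE16397))) (BT.node 16400 (BT.node 16399 (BT.node 16398 (BT.leaf cE16398) (BT.leaf cE16399)) (BT.leaf cE16400)) (BT.node 16401 (BT.leaf cE16401) (BT.leaf cE16402))))))) (BT.node 16442 (BT.node 16422 (BT.node 16412 (BT.node 16407 (BT.node 16405 (BT.node 16404 (BT.node 16403 (BT.leaf cE16403) (BT.leaf cE16404)) (BT.leaf cE16405)) (BT.node 16406 (BT.leaf cE16406) (BT.leaf cE16407))) (BT.node 16410 (BT.node 16409 (BT.node 16408 (BT.leaf cE16408) (BT.leaf cE16409)) (BT.leaf cE16410)) (BT.node 16411 (BT.leaf cE16411) (BT.leaf cE16412)))) (BT.node 16417 (BT.node 16415 (BT.node 16414 (BT.node 16413 (BT.leaf cE16413) (BT.leaf cE16414)) (BT.leaf cE16415)) (BT.node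 16416 (BT.leaf cE16416) (BT.leaf cE16417))) (BT.node 16420 (BT.node 16419 (BT.node 16418 (BT.leaf cE16418) (BT.leaf cE16419)) (BT.leaf cE16420)) (BT.node 16421 (BT.leaf cE16421) (BT.leaf cE16422))))) (BT.node 16432 (BT.node 16427 (BT.node 16425 (BT.node 16424 (BT.node 16423 (BT.leaf cE16423) (BT.leaf cE16424)) (BT.leaf cE16425)) (BT.node 16426 (BT.leaf cE16426) (BT.leaf cE16427))) (BT.node 16430 (BT.node 16429 (BT.node 16428 (BT.leaf cE16428) (BT.leaf cE16429)) (BT.leaf cE16430)) (BT.node 16431 (BT.leaf cE16431) (BT.leaf cE16432)))) (BT.node 16437 (BT.node 16435 (BT.node 16434 (BT.node 16433 (BT.leaf cE16433) (BT.leaf cE16434)) (BT.leaf cE16435)) (BT.node 16436 (BT.leaf cE16436) (BT.leaf cE16437))) (BT.node 16440 (BT.node 16439 (BT.node 16438 (BT.leaf cE16438) (BT.leaf cE16439)) (BT.leaf cE16440)) (BT.node 16441 (BT.leaf cE16441) (BT.leaf cE16442)))))) (BT.node 16462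 (BT.node 16452 (BT.node 16447 (BT.node 16445 (BT.node 16444 (BT.node 16443 (BT.leaf cE16443) (BT.leaf cE16444)) (BT.leaf cE16445)) (BT.node 16446 (BT.leaf cE16446) (BT.leaf cE16447))) (BT.node 16450 (BT.node 16449 (BT.node 16448 (BT.leaf cE16448) (BT.leaf cE16449)) (BT.leaf cE16450)) (BT.node 16451 (BT.leaf cE16451) (BT.leaf cE16452)))) (BT.node 16457 (BT.node 16455 (BT.node 16454 (BT.node 16453 (BT.leaf cE16453) (BT.leaf cE16454)) (BT.leaf cE16455)) (BT.node 16456 (BT.leaf cE16456) (BT.leaf cE16457))) (BT.node 16460 (BT.node 16459 (BT.node 16458 (BT.leaf cE16458) (BT.leaf cE16459)) (BT.leaf cE16460)) (BT.node 16461 (BT.leaf cE16461) (BT.leaf cE16462))))) (BT.node 16472 (BT.node 16467 (BT.node 16465 (BT.node 16464 (BT.node 16463 (BT.leaf cE16463) (BT.leaf cE16464)) (BT.leaf cE16465)) (BT.node 16466 (BT.leaf cE16466) (BT.leaf cE16467))) (BT.node 16470 (BT.node 16469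 (BT.node 16468 (BT.leaf cE16468) (BT.leaf cE16469)) (BT.leaf cE16470)) (BT.node 16471 (BT.leaf cE16471) (BT.leaf cE16472)))) (BT.node 16477 (BT.node 16475 (BT.node 16474 (BT.node 16473 (BT.leaf cE16473) (BT.leaf cE16474)) (BT.leaf cE16475)) (BT.node 16476 (BT.leaf cE16476) (BT.leaf cE16477))) (BT.node 16480 (BT.node 16479 (BT.node 16478 (BT.leaf cE16478) (BT.leaf cE16479)) (BT.leaf cE16480)) (BT.node 16481 (BT.leaf cE16481) (BT.leaf cE16482))))))))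
noncomputable def colET_102 : BT ℕ := (BT.node 16563 (BT.node 16523 (BT.node 16503 (BT.node 16493 (BT.node 16488 (BT.node 16485 (BT.node 16484 (BT.node 16483 (BT.leaf cE16483) (BT.leaf cE16484)) (BT.leaf cE16485)) (BT.node 16487 (BT.node 16486 (BT.leaf cE16486) (BT.leaf cE16487)) (BT.leaf cE16488))) (BT.node 16491 (BT.node 16490 (BT.node 16489 (BT.leaf cE16489) (BT.leaf cE16490)) (BT.leaf cE16491)) (BT.node 16492 (BT.leaf cE16492) (BT.leaf cE16493)))) (BT.node 16498 (BT.node 16496 (BT.node 16495 (BT.node 16494 (BT.leaf cE16494) (BT.leaf cE16495)) (BT.leaf cE16496)) (BT.node 16497 (BT.leaf cE16497) (BT.leaf cE16498))) (BT.node 16501 (BT.node 16500 (BT.node 16499 (BT.leaf cE16499) (BT.leaf cE16500)) (BT.leaf cE16501)) (BT.node 16502 (BT.leaf cE16502) (BT.leaf cE16503))))) (BT.node 16513 (BT.node 16508 (BT.node 16506 (BT.node 16505 (BT.node 16504 (BT.leaf cE16504) (BT.leaf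 cE16505)) (BT.leaf cE16506)) (BT.node 16507 (BT.leaf cE16507) (BT.leaf cE16508))) (BT.node 16511 (BT.node 16510 (BT.node 16509 (BT.leaf cE16509) (BT.leaf cE16510)) (BT.leaf cE16511)) (BT.node 16512 (BT.leaf cE16512) (BT.leaf cE16513)))) (BT.node 16518 (BT.node 16516 (BT.node 16515 (BT.node 16514 (BT.leaf cE16514) (BT.leaf cE16515)) (BT.leaf cE16516)) (BT.node 16517 (BT.leaf cE16517) (BT.leaf cE16518))) (BT.node 16521 (BT.node 16520 (BT.node 16519 (BT.leaf cE16519) (BT.leaf cE16520)) (BT.leaf cE16521)) (BT.node 16522 (BT.leaf cE16522) (BT.leaf cE16523)))))) (BT.node 16543 (BT.node 16533 (BT.node 16528 (BT.node 16526 (BT.node 16525 (BT.node 16524 (BT.leaf cE16524) (BT.leaf cE16525)) (BT.leaf cE16526)) (BT.node 16527 (BT.leaf cE16527) (BT.leaf cE16528))) (BT.node 16531 (BT.node 16530 (BT.node 16529 (BT.leaf cE16529) (BT.leaf cE16530)) (BT.leaf cE16531)) (BT.node 16532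 (BT.leaf cE16532) (BT.leaf cE16533)))) (BT.node 16538 (BT.node 16536 (BT.node 16535 (BT.node 16534 (BT.leaf cE16534) (BT.leaf cE16535)) (BT.leaf cE16536)) (BT.node 16537 (BT.leaf cE16537) (BT.leaf cE16538))) (BT.node 16541 (BT.node 16540 (BT.node 16539 (BT.leaf cE16539) (BT.leaf cE16540)) (BT.leaf cE16541)) (BT.node 16542 (BT.leaf cE16542) (BT.leaf cE16543))))) (BT.node 16553 (BT.node 16548 (BT.node 16546 (BT.node 16545 (BT.node 16544 (BT.leaf cE16544) (BT.leaf cE16545)) (BT.leaf cE16546)) (BT.node 16547 (BT.leaf cE16547) (BT.leaf cE16548))) (BT.node 16551 (BT.node 16550 (BT.node 16549 (BT.leaf cE16549) (BT.leaf cE16550)) (BT.leaf cE16551)) (BT.node 16552 (BT.leaf cE16552) (BT.leaf cE16553)))) (BT.node 16558 (BT.node 16556 (BT.node 16555 (BT.node 16554 (BT.leaf cE16554) (BT.leaf cE16555)) (BT.leaf cE16556)) (BT.node 16557 (BT.leaf cE16557) (BT.leaf cE16558))) (BT.node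 16561 (BT.node 16560 (BT.node 16559 (BT.leaf cE16559) (BT.leaf cE16560)) (BT.leaf cE16561)) (BT.node 16562 (BT.leaf cE16562) (BT.leaf cE16563))))))) (BT.node 16604 (BT.node 16584 (BT.node 16574 (BT.node 16569 (BT.node 16566 (BT.node 16565 (BT.node 16564 (BT.leaf cE16564) (BT.leaf cE16565)) (BT.leaf cE16566)) (BT.node 16568 (BT.node 16567 (BT.leaf cE16567) (BT.leaf cE16568)) (BT.leaf cE16569))) (BT.node 16572 (BT.node 16571 (BT.node 16570 (BT.leaf cE16570) (BT.leaf cE16571)) (BT.leaf cE16572)) (BT.node 16573 (BT.leaf cE16573) (BT.leaf cE16574)))) (BT.node 16579 (BT.node 16577 (BT.node 16576 (BT.node 16575 (BT.leaf cE16575) (BT.leaf cE16576)) (BT.leaf cE16577)) (BT.node 16578 (BT.leaf cE16578) (BT.leaf cE16579))) (BT.node 16582 (BT.node 16581 (BT.node 16580 (BT.leaf cE16580) (BT.leaf cE16581)) (BT.leaf cE16582)) (BT.node 16583 (BT.leaf cE16583) (BT.leaf cE16584)))))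 (BT.node 16594 (BT.node 16589 (BT.node 16587 (BT.node 16586 (BT.node 16585 (BT.leaf cE16585) (BT.leaf cE16586)) (BT.leaf cE16587)) (BT.node 16588 (BT.leaf cE16588) (BT.leaf cE16589))) (BT.node 16592 (BT.node 16591 (BT.node 16590 (BT.leaf cE16590) (BT.leaf cE16591)) (BT.leaf cE16592)) (BT.node 16593 (BT.leaf cE16593) (BT.leaf cE16594)))) (BT.node 16599 (BT.node 16597 (BT.node 16596 (BT.node 16595 (BT.leaf cE16595) (BT.leaf cE16596)) (BT.leaf cE16597)) (BT.node 16598 (BT.leaf cE16598) (BT.leaf cE16599))) (BT.node 16602 (BT.node 16601 (BT.node 16600 (BT.leaf cE16600) (BT.leaf cE16601)) (BT.leaf cE16602)) (BT.node 16603 (BT.leaf cE16603) (BT.leaf cE16604)))))) (BT.node 16624 (BT.node 16614 (BT.node 16609 (BT.node 16607 (BT.node 16606 (BT.node 16605 (BT.leaf cE16605) (BT.leaf cE16606)) (BT.leaf cE16607)) (BT.node 16608 (BT.leaf cE16608) (BT.leaf cE16609))) (BT.node 16612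 (BT.node 16611 (BT.node 16610 (BT.leaf cE16610) (BT.leaf cE16611)) (BT.leaf cE16612)) (BT.node 16613 (BT.leaf cE16613) (BT.leaf cE16614)))) (BT.node 16619 (BT.node 16617 (BT.node 16616 (BT.node 16615 (BT.leaf cE16615) (BT.leaf cE16616)) (BT.leaf cE16617)) (BT.node 16618 (BT.leaf cE16618) (BT.leaf cE16619))) (BT.node 16622 (BT.node 16621 (BT.node 16620 (BT.leaf cE16620) (BT.leaf cE16621)) (BT.leaf cE16622)) (BT.node 16623 (BT.leaf cE16623) (BT.leaf cE16624))))) (BT.node 16634 (BT.node 16629 (BT.node 16627 (BT.node 16626 (BT.node 16625 (BT.leaf cE16625) (BT.leaf cE16626)) (BT.leaf cE16627)) (BT.node 16628 (BT.leaf cE16628) (BT.leaf cE16629))) (BT.node 16632 (BT.node 16631 (BT.node 16630 (BT.leaf cE16630) (BT.leaf cE16631)) (BT.leaf cE16632)) (BT.node 16633 (BT.leaf cE16633) (BT.leaf cE16634)))) (BT.node 16639 (BT.node 16637 (BT.node 16636 (BT.node 16635 (BT.leaf cE16635)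 (BT.leaf cE16636)) (BT.leaf cE16637)) (BT.node 16638 (BT.leaf cE16638) (BT.leaf cE16639))) (BT.node 16642 (BT.node 16641 (BT.node 16640 (BT.leaf cE16640) (BT.leaf cE16641)) (BT.leaf cE16642)) (BT.node 16643 (BT.leaf cE16643) (BT.leaf cE16644))))))))
noncomputable def colET_103 : BT ℕ := (BT.node 16725 (BT.node 16685 (BT.node 16665 (BT.node 16655 (BT.node 16650 (BT.node 16647 (BT.node 16646 (BT.node 16645 (BT.leaf cE16645) (BT.leaf cE16646)) (BT.leaf cE16647)) (BT.node 16649 (BT.node 16648 (BT.leaf cE16648) (BT.leaf cE16649)) (BT.leaf cE16650))) (BT.node 16653 (BT.node 16652 (BT.node 16651 (BT.leaf cE16651) (BT.leaf cE16652)) (BT.leaf cE16653)) (BT.node 16654 (BT.leaf cE16654) (BT.leaf cE16655)))) (BT.node 16660 (BT.node 16658 (BT.node 16657 (BT.node 16656 (BT.leaf cE16656) (BT.leaf cE16657)) (BT.leaf cE16658)) (BT.node 16659 (BT.leaf cE16659) (BT.leaf cE16660))) (BT.node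 16663 (BT.node 16662 (BT.node 16661 (BT.leaf cE16661) (BT.leaf cE16662)) (BT.leaf cE16663)) (BT.node 16664 (BT.leaf cE16664) (BT.leaf cE16665))))) (BT.node 16675 (BT.node 16670 (BT.node 16668 (BT.node 16667 (BT.node 16666 (BT.leaf cE16666) (BT.leaf cE16667)) (BT.leaf cE16668)) (BT.node 16669 (BT.leaf cE16669) (BT.leaf cE16670))) (BT.node 16673 (BT.node 16672 (BT.node 16671 (BT.leaf cE16671) (BT.leaf cE16672)) (BT.leaf cE16673)) (BT.node 16674 (BT.leaf cE16674) (BT.leaf cE16675)))) (BT.node 16680 (BT.node 16678 (BT.node 16677 (BT.node 16676 (BT.leaf cE16676) (BT.leaf cE16677)) (BT.leaf cE16678)) (BT.node 16679 (BT.leaf cE16679) (BT.leaf cE16680))) (BT.node 16683 (BT.node 16682 (BT.node 16681 (BT.leaf cE16681) (BT.leaf cE16682)) (BT.leaf cE16683)) (BT.node 16684 (BT.leaf cE16684) (BT.leaf cE16685)))))) (BT.node 16705 (BT.node 16695 (BT.node 16690 (BT.node 16688 (BT.node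 16687 (BT.node 16686 (BT.leaf cE16686) (BT.leaf cE16687)) (BT.leaf cE16688)) (BT.node 16689 (BT.leaf cE16689) (BT.leaf cE16690))) (BT.node 16693 (BT.node 16692 (BT.node 16691 (BT.leaf cE16691) (BT.leaf cE16692)) (BT.leaf cE16693)) (BT.node 16694 (BT.leaf cE16694) (BT.leaf cE16695)))) (BT.node 16700 (BT.node 16698 (BT.node 16697 (BT.node 16696 (BT.leaf cE16696) (BT.leaf cE16697)) (BT.leaf cE16698)) (BT.node 16699 (BT.leaf cE16699) (BT.leaf cE16700))) (BT.node 16703 (BT.node 16702 (BT.node 16701 (BT.leaf cE16701) (BT.leaf cE16702)) (BT.leaf cE16703)) (BT.node 16704 (BT.leaf cE16704) (BT.leaf cE16705))))) (BT.node 16715 (BT.node 16710 (BT.node 16708 (BT.node 16707 (BT.node 16706 (BT.leaf cE16706) (BT.leaf cE16707)) (BT.leaf cE16708)) (BT.node 16709 (BT.leaf cE16709) (BT.leaf cE16710))) (BT.node 16713 (BT.node 16712 (BT.node 16711 (BT.leaf cE16711) (BT.leaf cE16712)) (BT.leaf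 cE16713)) (BT.node 16714 (BT.leaf cE16714) (BT.leaf cE16715)))) (BT.node 16720 (BT.node 16718 (BT.node 16717 (BT.node 16716 (BT.leaf cE16716) (BT.leaf cE16717)) (BT.leaf cE16718)) (BT.node 16719 (BT.leaf cE16719) (BT.leaf cE16720))) (BT.node 16723 (BT.node 16722 (BT.node 16721 (BT.leaf cE16721) (BT.leaf cE16722)) (BT.leaf cE16723)) (BT.node 16724 (BT.leaf cE16724) (BT.leaf cE16725))))))) (BT.node 16765 (BT.node 16745 (BT.node 16735 (BT.node 16730 (BT.node 16728 (BT.node 16727 (BT.node 16726 (BT.leaf cE16726) (BT.leaf cE16727)) (BT.leaf cE16728)) (BT.node 16729 (BT.leaf cE16729) (BT.leaf cE16730))) (BT.node 16733 (BT.node 16732 (BT.node 16731 (BT.leaf cE16731) (BT.leaf cE16732)) (BT.leaf cE16733)) (BT.node 16734 (BT.leaf cE16734) (BT.leaf cE16735)))) (BT.node 16740 (BT.node 16738 (BT.node 16737 (BT.node 16736 (BT.leaf cE16736) (BT.leaf cE16737)) (BT.leaf cE16738)) (BT.node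 16739 (BT.leaf cE16739) (BT.leaf cE16740))) (BT.node 16743 (BT.node 16742 (BT.node 16741 (BT.leaf cE16741) (BT.leaf cE16742)) (BT.leaf cE16743)) (BT.node 16744 (BT.leaf cE16744) (BT.leaf cE16745))))) (BT.node 16755 (BT.node 16750 (BT.node 16748 (BT.node 16747 (BT.node 16746 (BT.leaf cE16746) (BT.leaf cE16747)) (BT.leaf cE16748)) (BT.node 16749 (BT.leaf cE16749) (BT.leaf cE16750))) (BT.node 16753 (BT.node 16752 (BT.node 16751 (BT.leaf cE16751) (BT.leaf cE16752)) (BT.leaf cE16753)) (BT.node 16754 (BT.leaf cE16754) (BT.leaf cE16755)))) (BT.node 16760 (BT.node 16758 (BT.node 16757 (BT.node 16756 (BT.leaf cE16756) (BT.leaf cE16757)) (BT.leaf cE16758)) (BT.node 16759 (BT.leaf cE16759) (BT.leaf cE16760))) (BT.node 16763 (BT.node 16762 (BT.node 16761 (BT.leaf cE16761) (BT.leaf cE16762)) (BT.leaf cE16763)) (BT.node 16764 (BT.leaf cE16764) (BT.leaf cE16765)))))) (BT.node 16785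 (BT.node 16775 (BT.node 16770 (BT.node 16768 (BT.node 16767 (BT.node 16766 (BT.leaf cE16766) (BT.leaf cE16767)) (BT.leaf cE16768)) (BT.node 16769 (BT.leaf cE16769) (BT.leaf cE16770))) (BT.node 16773 (BT.node 16772 (BT.node 16771 (BT.leaf cE16771) (BT.leaf cE16772)) (BT.leaf cE16773)) (BT.node 16774 (BT.leaf cE16774) (BT.leaf cE16775)))) (BT.node 16780 (BT.node 16778 (BT.node 16777 (BT.node 16776 (BT.leaf cE16776) (BT.leaf cE16777)) (BT.leaf cE16778)) (BT.node 16779 (BT.leaf cE16779) (BT.leaf cE16780))) (BT.node 16783 (BT.node 16782 (BT.node 16781 (BT.leaf cE16781) (BT.leaf cE16782)) (BT.leaf cE16783)) (BT.node 16784 (BT.leaf cE16784) (BT.leaf cE16785))))) (BT.node 16795 (BT.node 16790 (BT.node 16788 (BT.node 16787 (BT.node 16786 (BT.leaf cE16786) (BT.leaf cE16787)) (BT.leaf cE16788)) (BT.node 16789 (BT.leaf cE16789) (BT.leaf cE16790))) (BT.node 16793 (BT.node 16792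 (BT.node 16791 (BT.leaf cE16791) (BT.leaf cE16792)) (BT.leaf cE16793)) (BT.node 16794 (BT.leaf cE16794) (BT.leaf cE16795)))) (BT.node 16800 (BT.node 16798 (BT.node 16797 (BT.node 16796 (BT.leaf cE16796) (BT.leaf cE16797)) (BT.leaf cE16798)) (BT.node 16799 (BT.leaf cE16799) (BT.leaf cE16800))) (BT.node 16803 (BT.node 16802 (BT.node 16801 (BT.leaf cE16801) (BT.leaf cE16802)) (BT.leaf cE16803)) (BT.node 16804 (BT.leaf cE16804) (BT.leaf cE16805))))))))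
noncomputable def colET_104 : BT ℕ := (BT.node 16886 (BT.node 16846 (BT.node 16826 (BT.node 16816 (BT.node 16811 (BT.node 16808 (BT.node 16807 (BT.node 16806 (BT.leaf cE16806) (BT.leaf cE16807)) (BT.leaf cE16808)) (BT.node 16810 (BT.node 16809 (BT.leaf cE16809) (BT.leaf cE16810)) (BT.leaf cE16811))) (BT.node 16814 (BT.node 16813 (BT.node 16812 (BT.leaf cE16812) (BT.leaf cE16813)) (BT.leaf cE16814)) (BT.node 16815 (BT.leaf cE16815) (BT.leaf cE16816)))) (BT.node 16821 (BT.node 16819 (BT.node 16818 (BT.node 16817 (BT.leaf cE16817) (BT.leaf cE16818)) (BT.leaf cE16819)) (BT.node 16820 (BT.leaf cE16820) (BT.leaf cE16821))) (BT.node 16824 (BT.node 16823 (BT.node 16822 (BT.leaf cE16822) (BT.leaf cE16823)) (BT.leaf cE16824)) (BT.node 16825 (BT.leaf cE16825) (BT.leaf cE16826))))) (BT.node 16836 (BT.node 16831 (BT.node 16829 (BT.node 16828 (BT.node 16827 (BT.leaf cE16827) (BT.leaf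 cE16828)) (BT.leaf cE16829)) (BT.node 16830 (BT.leaf cE16830) (BT.leaf cE16831))) (BT.node 16834 (BT.node 16833 (BT.node 16832 (BT.leaf cE16832) (BT.leaf cE16833)) (BT.leaf cE16834)) (BT.node 16835 (BT.leaf cE16835) (BT.leaf cE16836)))) (BT.node 16841 (BT.node 16839 (BT.node 16838 (BT.node 16837 (BT.leaf cE16837) (BT.leaf cE16838)) (BT.leaf cE16839)) (BT.node 16840 (BT.leaf cE16840) (BT.leaf cE16841))) (BT.node 16844 (BT.node 16843 (BT.node 16842 (BT.leaf cE16842) (BT.leaf cE16843)) (BT.leaf cE16844)) (BT.node 16845 (BT.leaf cE16845) (BT.leaf cE16846)))))) (BT.node 16866 (BT.node 16856 (BT.node 16851 (BT.node 16849 (BT.node 16848 (BT.node 16847 (BT.leaf cE16847) (BT.leaf cE16848)) (BT.leaf cE16849)) (BT.node 16850 (BT.leaf cE16850) (BT.leaf cE16851))) (BT.node 16854 (BT.node 16853 (BT.node 16852 (BT.leaf cE16852) (BT.leaf cE16853)) (BT.leaf cE16854)) (BT.node 16855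 (BT.leaf cE16855) (BT.leaf cE16856)))) (BT.node 16861 (BT.node 16859 (BT.node 16858 (BT.node 16857 (BT.leaf cE16857) (BT.leaf cE16858)) (BT.leaf cE16859)) (BT.node 16860 (BT.leaf cE16860) (BT.leaf cE16861))) (BT.node 16864 (BT.node 16863 (BT.node 16862 (BT.leaf cE16862) (BT.leaf cE16863)) (BT.leaf cE16864)) (BT.node 16865 (BT.leaf cE16865) (BT.leaf cE16866))))) (BT.node 16876 (BT.node 16871 (BT.node 16869 (BT.node 16868 (BT.node 16867 (BT.leaf cE16867) (BT.leaf cE16868)) (BT.leaf cE16869)) (BT.node 16870 (BT.leaf cE16870) (BT.leaf cE16871))) (BT.node 16874 (BT.node 16873 (BT.node 16872 (BT.leaf cE16872) (BT.leaf cE16873)) (BT.leaf cE16874)) (BT.node 16875 (BT.leaf cE16875) (BT.leaf cE16876)))) (BT.node 16881 (BT.node 16879 (BT.node 16878 (BT.node 16877 (BT.leaf cE16877) (BT.leaf cE16878)) (BT.leaf cE16879)) (BT.node 16880 (BT.leaf cE16880) (BT.leaf cE16881))) (BT.node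 16884 (BT.node 16883 (BT.node 16882 (BT.leaf cE16882) (BT.leaf cE16883)) (BT.leaf cE16884)) (BT.node 16885 (BT.leaf cE16885) (BT.leaf cE16886))))))) (BT.node 16927 (BT.node 16907 (BT.node 16897 (BT.node 16892 (BT.node 16889 (BT.node 16888 (BT.node 16887 (BT.leaf cE16887) (BT.leaf cE16888)) (BT.leaf cE16889)) (BT.node 16891 (BT.node 16890 (BT.leaf cE16890) (BT.leaf cE16891)) (BT.leaf cE16892))) (BT.node 16895 (BT.node 16894 (BT.node 16893 (BT.leaf cE16893) (BT.leaf cE16894)) (BT.leaf cE16895)) (BT.node 16896 (BT.leaf cE16896) (BT.leaf cE16897)))) (BT.node 16902 (BT.node 16900 (BT.node 16899 (BT.node 16898 (BT.leaf cE16898) (BT.leaf cE16899)) (BT.leaf cE16900)) (BT.node 16901 (BT.leaf cE16901) (BT.leaf cE16902))) (BT.node 16905 (BT.node 16904 (BT.node 16903 (BT.leaf cE16903) (BT.leaf cE16904)) (BT.leaf cE16905)) (BT.node 16906 (BT.leaf cE16906) (BT.leaf cE16907)))))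 (BT.node 16917 (BT.node 16912 (BT.node 16910 (BT.node 16909 (BT.node 16908 (BT.leaf cE16908) (BT.leaf cE16909)) (BT.leaf cE16910)) (BT.node 16911 (BT.leaf cE16911) (BT.leaf cE16912))) (BT.node 16915 (BT.node 16914 (BT.node 16913 (BT.leaf cE16913) (BT.leaf cE16914)) (BT.leaf cE16915)) (BT.node 16916 (BT.leaf cE16916) (BT.leaf cE16917)))) (BT.node 16922 (BT.node 16920 (BT.node 16919 (BT.node 16918 (BT.leaf cE16918) (BT.leaf cE16919)) (BT.leaf cE16920)) (BT.node 16921 (BT.leaf cE16921) (BT.leaf cE16922))) (BT.node 16925 (BT.node 16924 (BT.node 16923 (BT.leaf cE16923) (BT.leaf cE16924)) (BT.leaf cE16925)) (BT.node 16926 (BT.leaf cE16926) (BT.leaf cE16927)))))) (BT.node 16947 (BT.node 16937 (BT.node 16932 (BT.node 16930 (BT.node 16929 (BT.node 16928 (BT.leaf cE16928) (BT.leaf cE16929)) (BT.leaf cE16930)) (BT.node 16931 (BT.leaf cE16931) (BT.leaf cE16932))) (BT.node 16935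 (BT.node 16934 (BT.node 16933 (BT.leaf cE16933) (BT.leaf cE16934)) (BT.leaf cE16935)) (BT.node 16936 (BT.leaf cE16936) (BT.leaf cE16937)))) (BT.node 16942 (BT.node 16940 (BT.node 16939 (BT.node 16938 (BT.leaf cE16938) (BT.leaf cE16939)) (BT.leaf cE16940)) (BT.node 16941 (BT.leaf cE16941) (BT.leaf cE16942))) (BT.node 16945 (BT.node 16944 (BT.node 16943 (BT.leaf cE16943) (BT.leaf cE16944)) (BT.leaf cE16945)) (BT.node 16946 (BT.leaf cE16946) (BT.leaf cE16947))))) (BT.node 16957 (BT.node 16952 (BT.node 16950 (BT.node 16949 (BT.node 16948 (BT.leaf cE16948) (BT.leaf cE16949)) (BT.leaf cE16950)) (BT.node 16951 (BT.leaf cE16951) (BT.leaf cE16952))) (BT.node 16955 (BT.node 16954 (BT.node 16953 (BT.leaf cE16953) (BT.leaf cE16954)) (BT.leaf cE16955)) (BT.node 16956 (BT.leaf cE16956) (BT.leaf cE16957)))) (BT.node 16962 (BT.node 16960 (BT.node 16959 (BT.node 16958 (BT.leaf cE16958)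 (BT.leaf cE16959)) (BT.leaf cE16960)) (BT.node 16961 (BT.leaf cE16961) (BT.leaf cE16962))) (BT.node 16965 (BT.node 16964 (BT.node 16963 (BT.leaf cE16963) (BT.leaf cE16964)) (BT.leaf cE16965)) (BT.node 16966 (BT.leaf cE16966) (BT.leaf cE16967))))))))
noncomputable def colET_105 : BT ℕ := (BT.node 17048 (BT.node 17008 (BT.node 16988 (BT.node 16978 (BT.node 16973 (BT.node 16970 (BT.node 16969 (BT.node 16968 (BT.leaf cE16968) (BT.leaf cE16969)) (BT.leaf cE16970)) (BT.node 16972 (BT.node 16971 (BT.leaf cE16971) (BT.leaf cE16972)) (BT.leaf cE16973))) (BT.node 16976 (BT.node 16975 (BT.node 16974 (BT.leaf cE16974) (BT.leaf cE16975)) (BT.leaf cE16976)) (BT.node 16977 (BT.leaf cE16977) (BT.leaf cE16978)))) (BT.node 16983 (BT.node 16981 (BT.node 16980 (BT.node 16979 (BT.leaf cE16979) (BT.leaf cE16980)) (BT.leaf cE16981)) (BT.node 16982 (BT.leaf cE16982) (BT.leaf cE16983))) (BT.node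 16986 (BT.node 16985 (BT.node 16984 (BT.leaf cE16984) (BT.leaf cE16985)) (BT.leaf cE16986)) (BT.node 16987 (BT.leaf cE16987) (BT.leaf cE16988))))) (BT.node 16998 (BT.node 16993 (BT.node 16991 (BT.node 16990 (BT.node 16989 (BT.leaf cE16989) (BT.leaf cE16990)) (BT.leaf cE16991)) (BT.node 16992 (BT.leaf cE16992) (BT.leaf cE16993))) (BT.node 16996 (BT.node 16995 (BT.node 16994 (BT.leaf cE16994) (BT.leaf cE16995)) (BT.leaf cE16996)) (BT.node 16997 (BT.leaf cE16997) (BT.leaf cE16998)))) (BT.node 17003 (BT.node 17001 (BT.node 17000 (BT.node 16999 (BT.leaf cE16999) (BT.leaf cE17000)) (BT.leaf cE17001)) (BT.node 17002 (BT.leaf cE17002) (BT.leaf cE17003))) (BT.node 17006 (BT.node 17005 (BT.node 17004 (BT.leaf cE17004) (BT.leaf cE17005)) (BT.leaf cE17006)) (BT.node 17007 (BT.leaf cE17007) (BT.leaf cE17008)))))) (BT.node 17028 (BT.node 17018 (BT.node 17013 (BT.node 17011 (BT.node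 17010 (BT.node 17009 (BT.leaf cE17009) (BT.leaf cE17010)) (BT.leaf cE17011)) (BT.node 17012 (BT.leaf cE17012) (BT.leaf cE17013))) (BT.node 17016 (BT.node 17015 (BT.node 17014 (BT.leaf cE17014) (BT.leaf cE17015)) (BT.leaf cE17016)) (BT.node 17017 (BT.leaf cE17017) (BT.leaf cE17018)))) (BT.node 17023 (BT.node 17021 (BT.node 17020 (BT.node 17019 (BT.leaf cE17019) (BT.leaf cE17020)) (BT.leaf cE17021)) (BT.node 17022 (BT.leaf cE17022) (BT.leaf cE17023))) (BT.node 17026 (BT.node 17025 (BT.node 17024 (BT.leaf cE17024) (BT.leaf cE17025)) (BT.leaf cE17026)) (BT.node 17027 (BT.leaf cE17027) (BT.leaf cE17028))))) (BT.node 17038 (BT.node 17033 (BT.node 17031 (BT.node 17030 (BT.node 17029 (BT.leaf cE17029) (BT.leaf cE17030)) (BT.leaf cE17031)) (BT.node 17032 (BT.leaf cE17032) (BT.leaf cE17033))) (BT.node 17036 (BT.node 17035 (BT.node 17034 (BT.leaf cE17034) (BT.leaf cE17035)) (BT.leaf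 cE17036)) (BT.node 17037 (BT.leaf cE17037) (BT.leaf cE17038)))) (BT.node 17043 (BT.node 17041 (BT.node 17040 (BT.node 17039 (BT.leaf cE17039) (BT.leaf cE17040)) (BT.leaf cE17041)) (BT.node 17042 (BT.leaf cE17042) (BT.leaf cE17043))) (BT.node 17046 (BT.node 17045 (BT.node 17044 (BT.leaf cE17044) (BT.leaf cE17045)) (BT.leaf cE17046)) (BT.node 17047 (BT.leaf cE17047) (BT.leaf cE17048))))))) (BT.node 17088 (BT.node 17068 (BT.node 17058 (BT.node 17053 (BT.node 17051 (BT.node 17050 (BT.node 17049 (BT.leaf cE17049) (BT.leaf cE17050)) (BT.leaf cE17051)) (BT.node 17052 (BT.leaf cE17052) (BT.leaf cE17053))) (BT.node 17056 (BT.node 17055 (BT.node 17054 (BT.leaf cE17054) (BT.leaf cE17055)) (BT.leaf cE17056)) (BT.node 17057 (BT.leaf cE17057) (BT.leaf cE17058)))) (BT.node 17063 (BT.node 17061 (BT.node 17060 (BT.node 17059 (BT.leaf cE17059) (BT.leaf cE17060)) (BT.leaf cE17061)) (BT.node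 17062 (BT.leaf cE17062) (BT.leaf cE17063))) (BT.node 17066 (BT.node 17065 (BT.node 17064 (BT.leaf cE17064) (BT.leaf cE17065)) (BT.leaf cE17066)) (BT.node 17067 (BT.leaf cE17067) (BT.leaf cE17068))))) (BT.node 17078 (BT.node 17073 (BT.node 17071 (BT.node 17070 (BT.node 17069 (BT.leaf cE17069) (BT.leaf cE17070)) (BT.leaf cE17071)) (BT.node 17072 (BT.leaf cE17072) (BT.leaf cE17073))) (BT.node 17076 (BT.node 17075 (BT.node 17074 (BT.leaf cE17074) (BT.leaf cE17075)) (BT.leaf cE17076)) (BT.node 17077 (BT.leaf cE17077) (BT.leaf cE17078)))) (BT.node 17083 (BT.node 17081 (BT.node 17080 (BT.node 17079 (BT.leaf cE17079) (BT.leaf cE17080)) (BT.leaf cE17081)) (BT.node 17082 (BT.leaf cE17082) (BT.leaf cE17083))) (BT.node 17086 (BT.node 17085 (BT.node 17084 (BT.leaf cE17084) (BT.leaf cE17085)) (BT.leaf cE17086)) (BT.node 17087 (BT.leaf cE17087) (BT.leaf cE17088)))))) (BT.node 17108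 (BT.node 17098 (BT.node 17093 (BT.node 17091 (BT.node 17090 (BT.node 17089 (BT.leaf cE17089) (BT.leaf cE17090)) (BT.leaf cE17091)) (BT.node 17092 (BT.leaf cE17092) (BT.leaf cE17093))) (BT.node 17096 (BT.node 17095 (BT.node 17094 (BT.leaf cE17094) (BT.leaf cE17095)) (BT.leaf cE17096)) (BT.node 17097 (BT.leaf cE17097) (BT.leaf cE17098)))) (BT.node 17103 (BT.node 17101 (BT.node 17100 (BT.node 17099 (BT.leaf cE17099) (BT.leaf cE17100)) (BT.leaf cE17101)) (BT.node 17102 (BT.leaf cE17102) (BT.leaf cE17103))) (BT.node 17106 (BT.node 17105 (BT.node 17104 (BT.leaf cE17104) (BT.leaf cE17105)) (BT.leaf cE17106)) (BT.node 17107 (BT.leaf cE17107) (BT.leaf cE17108))))) (BT.node 17118 (BT.node 17113 (BT.node 17111 (BT.node 17110 (BT.node 17109 (BT.leaf cE17109) (BT.leaf cE17110)) (BT.leaf cE17111)) (BT.node 17112 (BT.leaf cE17112) (BT.leaf cE17113))) (BT.node 17116 (BT.node 17115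 (BT.node 17114 (BT.leaf cE17114) (BT.leaf cE17115)) (BT.leaf cE17116)) (BT.node 17117 (BT.leaf cE17117) (BT.leaf cE17118)))) (BT.node 17123 (BT.node 17121 (BT.node 17120 (BT.node 17119 (BT.leaf cE17119) (BT.leaf cE17120)) (BT.leaf cE17121)) (BT.node 17122 (BT.leaf cE17122) (BT.leaf cE17123))) (BT.node 17126 (BT.node 17125 (BT.node 17124 (BT.leaf cE17124) (BT.leaf cE17125)) (BT.leaf cE17126)) (BT.node 17127 (BT.leaf cE17127) (BT.leaf cE17128))))))))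
noncomputable def colET_106 : BT ℕ := (BT.node 17209 (BT.node 17169 (BT.node 17149 (BT.node 17139 (BT.node 17134 (BT.node 17131 (BT.node 17130 (BT.node 17129 (BT.leaf cE17129) (BT.leaf cE17130)) (BT.leaf cE17131)) (BT.node 17133 (BT.node 17132 (BT.leaf cE17132) (BT.leaf cE17133)) (BT.leaf cE17134))) (BT.node 17137 (BT.node 17136 (BT.node 17135 (BT.leaf cE17135) (BT.leaf cE17136)) (BT.leaf cE17137)) (BT.node 17138 (BT.leaf cE17138) (BT.leaf cE17139)))) (BT.node 17144 (BT.node 17142 (BT.node 17141 (BT.node 17140 (BT.leaf cE17140) (BT.leaf cE17141)) (BT.leaf cE17142)) (BT.node 17143 (BT.leaf cE17143) (BT.leaf cE17144))) (BT.node 17147 (BT.node 17146 (BT.node 17145 (BT.leaf cE17145) (BT.leaf cE17146)) (BT.leaf cE17147)) (BT.node 17148 (BT.leaf cE17148) (BT.leaf cE17149))))) (BT.node 17159 (BT.node 17154 (BT.node 17152 (BT.node 17151 (BT.node 17150 (BT.leaf cE17150) (BT.leaf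 cE17151)) (BT.leaf cE17152)) (BT.node 17153 (BT.leaf cE17153) (BT.leaf cE17154))) (BT.node 17157 (BT.node 17156 (BT.node 17155 (BT.leaf cE17155) (BT.leaf cE17156)) (BT.leaf cE17157)) (BT.node 17158 (BT.leaf cE17158) (BT.leaf cE17159)))) (BT.node 17164 (BT.node 17162 (BT.node 17161 (BT.node 17160 (BT.leaf cE17160) (BT.leaf cE17161)) (BT.leaf cE17162)) (BT.node 17163 (BT.leaf cE17163) (BT.leaf cE17164))) (BT.node 17167 (BT.node 17166 (BT.node 17165 (BT.leaf cE17165) (BT.leaf cE17166)) (BT.leaf cE17167)) (BT.node 17168 (BT.leaf cE17168) (BT.leaf cE17169)))))) (BT.node 17189 (BT.node 17179 (BT.node 17174 (BT.node 17172 (BT.node 17171 (BT.node 17170 (BT.leaf cE17170) (BT.leaf cE17171)) (BT.leaf cE17172)) (BT.node 17173 (BT.leaf cE17173) (BT.leaf cE17174))) (BT.node 17177 (BT.node 17176 (BT.node 17175 (BT.leaf cE17175) (BT.leaf cE17176)) (BT.leaf cE17177)) (BT.node 17178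 (BT.leaf cE17178) (BT.leaf cE17179)))) (BT.node 17184 (BT.node 17182 (BT.node 17181 (BT.node 17180 (BT.leaf cE17180) (BT.leaf cE17181)) (BT.leaf cE17182)) (BT.node 17183 (BT.leaf cE17183) (BT.leaf cE17184))) (BT.node 17187 (BT.node 17186 (BT.node 17185 (BT.leaf cE17185) (BT.leaf cE17186)) (BT.leaf cE17187)) (BT.node 17188 (BT.leaf cE17188) (BT.leaf cE17189))))) (BT.node 17199 (BT.node 17194 (BT.node 17192 (BT.node 17191 (BT.node 17190 (BT.leaf cE17190) (BT.leaf cE17191)) (BT.leaf cE17192)) (BT.node 17193 (BT.leaf cE17193) (BT.leaf cE17194))) (BT.node 17197 (BT.node 17196 (BT.node 17195 (BT.leaf cE17195) (BT.leaf cE17196)) (BT.leaf cE17197)) (BT.node 17198 (BT.leaf cE17198) (BT.leaf cE17199)))) (BT.node 17204 (BT.node 17202 (BT.node 17201 (BT.node 17200 (BT.leaf cE17200) (BT.leaf cE17201)) (BT.leaf cE17202)) (BT.node 17203 (BT.leaf cE17203) (BT.leaf cE17204))) (BT.node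 17207 (BT.node 17206 (BT.node 17205 (BT.leaf cE17205) (BT.leaf cE17206)) (BT.leaf cE17207)) (BT.node 17208 (BT.leaf cE17208) (BT.leaf cE17209))))))) (BT.node 17250 (BT.node 17230 (BT.node 17220 (BT.node 17215 (BT.node 17212 (BT.node 17211 (BT.node 17210 (BT.leaf cE17210) (BT.leaf cE17211)) (BT.leaf cE17212)) (BT.node 17214 (BT.node 17213 (BT.leaf cE17213) (BT.leaf cE17214)) (BT.leaf cE17215))) (BT.node 17218 (BT.node 17217 (BT.node 17216 (BT.leaf cE17216) (BT.leaf cE17217)) (BT.leaf cE17218)) (BT.node 17219 (BT.leaf cE17219) (BT.leaf cE17220)))) (BT.node 17225 (BT.node 17223 (BT.node 17222 (BT.node 17221 (BT.leaf cE17221) (BT.leaf cE17222)) (BT.leaf cE17223)) (BT.node 17224 (BT.leaf cE17224) (BT.leaf cE17225))) (BT.node 17228 (BT.node 17227 (BT.node 17226 (BT.leaf cE17226) (BT.leaf cE17227)) (BT.leaf cE17228)) (BT.node 17229 (BT.leaf cE17229) (BT.leaf cE17230)))))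 (BT.node 17240 (BT.node 17235 (BT.node 17233 (BT.node 17232 (BT.node 17231 (BT.leaf cE17231) (BT.leaf cE17232)) (BT.leaf cE17233)) (BT.node 17234 (BT.leaf cE17234) (BT.leaf cE17235))) (BT.node 17238 (BT.node 17237 (BT.node 17236 (BT.leaf cE17236) (BT.leaf cE17237)) (BT.leaf cE17238)) (BT.node 17239 (BT.leaf cE17239) (BT.leaf cE17240)))) (BT.node 17245 (BT.node 17243 (BT.node 17242 (BT.node 17241 (BT.leaf cE17241) (BT.leaf cE17242)) (BT.leaf cE17243)) (BT.node 17244 (BT.leaf cE17244) (BT.leaf cE17245))) (BT.node 17248 (BT.node 17247 (BT.node 17246 (BT.leaf cE17246) (BT.leaf cE17247)) (BT.leaf cE17248)) (BT.node 17249 (BT.leaf cE17249) (BT.leaf cE17250)))))) (BT.node 17270 (BT.node 17260 (BT.node 17255 (BT.node 17253 (BT.node 17252 (BT.node 17251 (BT.leaf cE17251) (BT.leaf cE17252)) (BT.leaf cE17253)) (BT.node 17254 (BT.leaf cE17254) (BT.leaf cE17255))) (BT.node 17258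 (BT.node 17257 (BT.node 17256 (BT.leaf cE17256) (BT.leaf cE17257)) (BT.leaf cE17258)) (BT.node 17259 (BT.leaf cE17259) (BT.leaf cE17260)))) (BT.node 17265 (BT.node 17263 (BT.node 17262 (BT.node 17261 (BT.leaf cE17261) (BT.leaf cE17262)) (BT.leaf cE17263)) (BT.node 17264 (BT.leaf cE17264) (BT.leaf cE17265))) (BT.node 17268 (BT.node 17267 (BT.node 17266 (BT.leaf cE17266) (BT.leaf cE17267)) (BT.leaf cE17268)) (BT.node 17269 (BT.leaf cE17269) (BT.leaf cE17270))))) (BT.node 17280 (BT.node 17275 (BT.node 17273 (BT.node 17272 (BT.node 17271 (BT.leaf cE17271) (BT.leaf cE17272)) (BT.leaf cE17273)) (BT.node 17274 (BT.leaf cE17274) (BT.leaf cE17275))) (BT.node 17278 (BT.node 17277 (BT.node 17276 (BT.leaf cE17276) (BT.leaf cE17277)) (BT.leaf cE17278)) (BT.node 17279 (BT.leaf cE17279) (BT.leaf cE17280)))) (BT.node 17285 (BT.node 17283 (BT.node 17282 (BT.node 17281 (BT.leaf cE17281)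 (BT.leaf cE17282)) (BT.leaf cE17283)) (BT.node 17284 (BT.leaf cE17284) (BT.leaf cE17285))) (BT.node 17288 (BT.node 17287 (BT.node 17286 (BT.leaf cE17286) (BT.leaf cE17287)) (BT.leaf cE17288)) (BT.node 17289 (BT.leaf cE17289) (BT.leaf cE17290))))))))
noncomputable def colET_107 : BT ℕ := (BT.node 17371 (BT.node 17331 (BT.node 17311 (BT.node 17301 (BT.node 17296 (BT.node 17293 (BT.node 17292 (BT.node 17291 (BT.leaf cE17291) (BT.leaf cE17292)) (BT.leaf cE17293)) (BT.node 17295 (BT.node 17294 (BT.leaf cE17294) (BT.leaf cE17295)) (BT.leaf cE17296))) (BT.node 17299 (BT.node 17298 (BT.node 17297 (BT.leaf cE17297) (BT.leaf cE17298)) (BT.leaf cE17299)) (BT.node 17300 (BT.leaf cE17300) (BT.leaf cE17301)))) (BT.node 17306 (BT.node 17304 (BT.node 17303 (BT.node 17302 (BT.leaf cE17302) (BT.leaf cE17303)) (BT.leaf cE17304)) (BT.node 17305 (BT.leaf cE17305) (BT.leaf cE17306))) (BT.node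 17309 (BT.node 17308 (BT.node 17307 (BT.leaf cE17307) (BT.leaf cE17308)) (BT.leaf cE17309)) (BT.node 17310 (BT.leaf cE17310) (BT.leaf cE17311))))) (BT.node 17321 (BT.node 17316 (BT.node 17314 (BT.node 17313 (BT.node 17312 (BT.leaf cE17312) (BT.leaf cE17313)) (BT.leaf cE17314)) (BT.node 17315 (BT.leaf cE17315) (BT.leaf cE17316))) (BT.node 17319 (BT.node 17318 (BT.node 17317 (BT.leaf cE17317) (BT.leaf cE17318)) (BT.leaf cE17319)) (BT.node 17320 (BT.leaf cE17320) (BT.leaf cE17321)))) (BT.node 17326 (BT.node 17324 (BT.node 17323 (BT.node 17322 (BT.leaf cE17322) (BT.leaf cE17323)) (BT.leaf cE17324)) (BT.node 17325 (BT.leaf cE17325) (BT.leaf cE17326))) (BT.node 17329 (BT.node 17328 (BT.node 17327 (BT.leaf cE17327) (BT.leaf cE17328)) (BT.leaf cE17329)) (BT.node 17330 (BT.leaf cE17330) (BT.leaf cE17331)))))) (BT.node 17351 (BT.node 17341 (BT.node 17336 (BT.node 17334 (BT.node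 17333 (BT.node 17332 (BT.leaf cE17332) (BT.leaf cE17333)) (BT.leaf cE17334)) (BT.node 17335 (BT.leaf cE17335) (BT.leaf cE17336))) (BT.node 17339 (BT.node 17338 (BT.node 17337 (BT.leaf cE17337) (BT.leaf cE17338)) (BT.leaf cE17339)) (BT.node 17340 (BT.leaf cE17340) (BT.leaf cE17341)))) (BT.node 17346 (BT.node 17344 (BT.node 17343 (BT.node 17342 (BT.leaf cE17342) (BT.leaf cE17343)) (BT.leaf cE17344)) (BT.node 17345 (BT.leaf cE17345) (BT.leaf cE17346))) (BT.node 17349 (BT.node 17348 (BT.node 17347 (BT.leaf cE17347) (BT.leaf cE17348)) (BT.leaf cE17349)) (BT.node 17350 (BT.leaf cE17350) (BT.leaf cE17351))))) (BT.node 17361 (BT.node 17356 (BT.node 17354 (BT.node 17353 (BT.node 17352 (BT.leaf cE17352) (BT.leaf cE17353)) (BT.leaf cE17354)) (BT.node 17355 (BT.leaf cE17355) (BT.leaf cE17356))) (BT.node 17359 (BT.node 17358 (BT.node 17357 (BT.leaf cE17357) (BT.leaf cE17358)) (BT.leaf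 cE17359)) (BT.node 17360 (BT.leaf cE17360) (BT.leaf cE17361)))) (BT.node 17366 (BT.node 17364 (BT.node 17363 (BT.node 17362 (BT.leaf cE17362) (BT.leaf cE17363)) (BT.leaf cE17364)) (BT.node 17365 (BT.leaf cE17365) (BT.leaf cE17366))) (BT.node 17369 (BT.node 17368 (BT.node 17367 (BT.leaf cE17367) (BT.leaf cE17368)) (BT.leaf cE17369)) (BT.node 17370 (BT.leaf cE17370) (BT.leaf cE17371))))))) (BT.node 17411 (BT.node 17391 (BT.node 17381 (BT.node 17376 (BT.node 17374 (BT.node 17373 (BT.node 17372 (BT.leaf cE17372) (BT.leaf cE17373)) (BT.leaf cE17374)) (BT.node 17375 (BT.leaf cE17375) (BT.leaf cE17376))) (BT.node 17379 (BT.node 17378 (BT.node 17377 (BT.leaf cE17377) (BT.leaf cE17378)) (BT.leaf cE17379)) (BT.node 17380 (BT.leaf cE17380) (BT.leaf cE17381)))) (BT.node 17386 (BT.node 17384 (BT.node 17383 (BT.node 17382 (BT.leaf cE17382) (BT.leaf cE17383)) (BT.leaf cE17384)) (BT.node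 17385 (BT.leaf cE17385) (BT.leaf cE17386))) (BT.node 17389 (BT.node 17388 (BT.node 17387 (BT.leaf cE17387) (BT.leaf cE17388)) (BT.leaf cE17389)) (BT.node 17390 (BT.leaf cE17390) (BT.leaf cE17391))))) (BT.node 17401 (BT.node 17396 (BT.node 17394 (BT.node 17393 (BT.node 17392 (BT.leaf cE17392) (BT.leaf cE17393)) (BT.leaf cE17394)) (BT.node 17395 (BT.leaf cE17395) (BT.leaf cE17396))) (BT.node 17399 (BT.node 17398 (BT.node 17397 (BT.leaf cE17397) (BT.leaf cE17398)) (BT.leaf cE17399)) (BT.node 17400 (BT.leaf cE17400) (BT.leaf cE17401)))) (BT.node 17406 (BT.node 17404 (BT.node 17403 (BT.node 17402 (BT.leaf cE17402) (BT.leaf cE17403)) (BT.leaf cE17404)) (BT.node 17405 (BT.leaf cE17405) (BT.leaf cE17406))) (BT.node 17409 (BT.node 17408 (BT.node 17407 (BT.leaf cE17407) (BT.leaf cE17408)) (BT.leaf cE17409)) (BT.node 17410 (BT.leaf cE17410) (BT.leaf cE17411)))))) (BT.node 17431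 (BT.node 17421 (BT.node 17416 (BT.node 17414 (BT.node 17413 (BT.node 17412 (BT.leaf cE17412) (BT.leaf cE17413)) (BT.leaf cE17414)) (BT.node 17415 (BT.leaf cE17415) (BT.leaf cE17416))) (BT.node 17419 (BT.node 17418 (BT.node 17417 (BT.leaf cE17417) (BT.leaf cE17418)) (BT.leaf cE17419)) (BT.node 17420 (BT.leaf cE17420) (BT.leaf cE17421)))) (BT.node 17426 (BT.node 17424 (BT.node 17423 (BT.node 17422 (BT.leaf cE17422) (BT.leaf cE17423)) (BT.leaf cE17424)) (BT.node 17425 (BT.leaf cE17425) (BT.leaf cE17426))) (BT.node 17429 (BT.node 17428 (BT.node 17427 (BT.leaf cE17427) (BT.leaf cE17428)) (BT.leaf cE17429)) (BT.node 17430 (BT.leaf cE17430) (BT.leaf cE17431))))) (BT.node 17441 (BT.node 17436 (BT.node 17434 (BT.node 17433 (BT.node 17432 (BT.leaf cE17432) (BT.leaf cE17433)) (BT.leaf cE17434)) (BT.node 17435 (BT.leaf cE17435) (BT.leaf cE17436))) (BT.node 17439 (BT.node 17438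 (BT.node 17437 (BT.leaf cE17437) (BT.leaf cE17438)) (BT.leaf cE17439)) (BT.node 17440 (BT.leaf cE17440) (BT.leaf cE17441)))) (BT.node 17446 (BT.node 17444 (BT.node 17443 (BT.node 17442 (BT.leaf cE17442) (BT.leaf cE17443)) (BT.leaf cE17444)) (BT.node 17445 (BT.leaf cE17445) (BT.leaf cE17446))) (BT.node 17449 (BT.node 17448 (BT.node 17447 (BT.leaf cE17447) (BT.leaf cE17448)) (BT.leaf cE17449)) (BT.node 17450 (BT.leaf cE17450) (BT.leaf cE17451))))))))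
noncomputable def colET_108 : BT ℕ := (BT.node 17532 (BT.node 17492 (BT.node 17472 (BT.node 17462 (BT.node 17457 (BT.node 17454 (BT.node 17453 (BT.node 17452 (BT.leaf cE17452) (BT.leaf cE17453)) (BT.leaf cE17454)) (BT.node 17456 (BT.node 17455 (BT.leaf cE17455) (BT.leaf cE17456)) (BT.leaf cE17457))) (BT.node 17460 (BT.node 17459 (BT.node 17458 (BT.leaf cE17458) (BT.leaf cE17459)) (BT.leaf cE17460)) (BT.node 17461 (BT.leaf cE17461) (BT.leaf cE17462)))) (BT.node 17467 (BT.node 17465 (BT.node 17464 (BT.node 17463 (BT.leaf cE17463) (BT.leaf cE17464)) (BT.leaf cE17465)) (BT.node 17466 (BT.leaf cE17466) (BT.leaf cE17467))) (BT.node 17470 (BT.node 17469 (BT.node 17468 (BT.leaf cE17468) (BT.leaf cE17469)) (BT.leaf cE17470)) (BT.node 17471 (BT.leaf cE17471) (BT.leaf cE17472))))) (BT.node 17482 (BT.node 17477 (BT.node 17475 (BT.node 17474 (BT.node 17473 (BT.leaf cE17473) (BT.leaf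 cE17474)) (BT.leaf cE17475)) (BT.node 17476 (BT.leaf cE17476) (BT.leaf cE17477))) (BT.node 17480 (BT.node 17479 (BT.node 17478 (BT.leaf cE17478) (BT.leaf cE17479)) (BT.leaf cE17480)) (BT.node 17481 (BT.leaf cE17481) (BT.leaf cE17482)))) (BT.node 17487 (BT.node 17485 (BT.node 17484 (BT.node 17483 (BT.leaf cE17483) (BT.leaf cE17484)) (BT.leaf cE17485)) (BT.node 17486 (BT.leaf cE17486) (BT.leaf cE17487))) (BT.node 17490 (BT.node 17489 (BT.node 17488 (BT.leaf cE17488) (BT.leaf cE17489)) (BT.leaf cE17490)) (BT.node 17491 (BT.leaf cE17491) (BT.leaf cE17492)))))) (BT.node 17512 (BT.node 17502 (BT.node 17497 (BT.node 17495 (BT.node 17494 (BT.node 17493 (BT.leaf cE17493) (BT.leaf cE17494)) (BT.leaf cE17495)) (BT.node 17496 (BT.leaf cE17496) (BT.leaf cE17497))) (BT.node 17500 (BT.node 17499 (BT.node 17498 (BT.leaf cE17498) (BT.leaf cE17499)) (BT.leaf cE17500)) (BT.node 17501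 (BT.leaf cE17501) (BT.leaf cE17502)))) (BT.node 17507 (BT.node 17505 (BT.node 17504 (BT.node 17503 (BT.leaf cE17503) (BT.leaf cE17504)) (BT.leaf cE17505)) (BT.node 17506 (BT.leaf cE17506) (BT.leaf cE17507))) (BT.node 17510 (BT.node 17509 (BT.node 17508 (BT.leaf cE17508) (BT.leaf cE17509)) (BT.leaf cE17510)) (BT.node 17511 (BT.leaf cE17511) (BT.leaf cE17512))))) (BT.node 17522 (BT.node 17517 (BT.node 17515 (BT.node 17514 (BT.node 17513 (BT.leaf cE17513) (BT.leaf cE17514)) (BT.leaf cE17515)) (BT.node 17516 (BT.leaf cE17516) (BT.leaf cE17517))) (BT.node 17520 (BT.node 17519 (BT.node 17518 (BT.leaf cE17518) (BT.leaf cE17519)) (BT.leaf cE17520)) (BT.node 17521 (BT.leaf cE17521) (BT.leaf cE17522)))) (BT.node 17527 (BT.node 17525 (BT.node 17524 (BT.node 17523 (BT.leaf cE17523) (BT.leaf cE17524)) (BT.leaf cE17525)) (BT.node 17526 (BT.leaf cE17526) (BT.leaf cE17527))) (BT.node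 17530 (BT.node 17529 (BT.node 17528 (BT.leaf cE17528) (BT.leaf cE17529)) (BT.leaf cE17530)) (BT.node 17531 (BT.leaf cE17531) (BT.leaf cE17532))))))) (BT.node 17573 (BT.node 17553 (BT.node 17543 (BT.node 17538 (BT.node 17535 (BT.node 17534 (BT.node 17533 (BT.leaf cE17533) (BT.leaf cE17534)) (BT.leaf cE17535)) (BT.node 17537 (BT.node 17536 (BT.leaf cE17536) (BT.leaf cE17537)) (BT.leaf cE17538))) (BT.node 17541 (BT.node 17540 (BT.node 17539 (BT.leaf cE17539) (BT.leaf cE17540)) (BT.leaf cE17541)) (BT.node 17542 (BT.leaf cE17542) (BT.leaf cE17543)))) (BT.node 17548 (BT.node 17546 (BT.node 17545 (BT.node 17544 (BT.leaf cE17544) (BT.leaf cE17545)) (BT.leaf cE17546)) (BT.node 17547 (BT.leaf cE17547) (BT.leaf cE17548))) (BT.node 17551 (BT.node 17550 (BT.node 17549 (BT.leaf cE17549) (BT.leaf cE17550)) (BT.leaf cE17551)) (BT.node 17552 (BT.leaf cE17552) (BT.leaf cE17553)))))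 (BT.node 17563 (BT.node 17558 (BT.node 17556 (BT.node 17555 (BT.node 17554 (BT.leaf cE17554) (BT.leaf cE17555)) (BT.leaf cE17556)) (BT.node 17557 (BT.leaf cE17557) (BT.leaf cE17558))) (BT.node 17561 (BT.node 17560 (BT.node 17559 (BT.leaf cE17559) (BT.leaf cE17560)) (BT.leaf cE17561)) (BT.node 17562 (BT.leaf cE17562) (BT.leaf cE17563)))) (BT.node 17568 (BT.node 17566 (BT.node 17565 (BT.node 17564 (BT.leaf cE17564) (BT.leaf cE17565)) (BT.leaf cE17566)) (BT.node 17567 (BT.leaf cE17567) (BT.leaf cE17568))) (BT.node 17571 (BT.node 17570 (BT.node 17569 (BT.leaf cE17569) (BT.leaf cE17570)) (BT.leaf cE17571)) (BT.node 17572 (BT.leaf cE17572) (BT.leaf cE17573)))))) (BT.node 17593 (BT.node 17583 (BT.node 17578 (BT.node 17576 (BT.node 17575 (BT.node 17574 (BT.leaf cE17574) (BT.leaf cE17575)) (BT.leaf cE17576)) (BT.node 17577 (BT.leaf cE17577) (BT.leaf cE17578))) (BT.node 17581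 (BT.node 17580 (BT.node 17579 (BT.leaf cE17579) (BT.leaf cE17580)) (BT.leaf cE17581)) (BT.node 17582 (BT.leaf cE17582) (BT.leaf cE17583)))) (BT.node 17588 (BT.node 17586 (BT.node 17585 (BT.node 17584 (BT.leaf cE17584) (BT.leaf cE17585)) (BT.leaf cE17586)) (BT.node 17587 (BT.leaf cE17587) (BT.leaf cE17588))) (BT.node 17591 (BT.node 17590 (BT.node 17589 (BT.leaf cE17589) (BT.leaf cE17590)) (BT.leaf cE17591)) (BT.node 17592 (BT.leaf cE17592) (BT.leaf cE17593))))) (BT.node 17603 (BT.node 17598 (BT.node 17596 (BT.node 17595 (BT.node 17594 (BT.leaf cE17594) (BT.leaf cE17595)) (BT.leaf cE17596)) (BT.node 17597 (BT.leaf cE17597) (BT.leaf cE17598))) (BT.node 17601 (BT.node 17600 (BT.node 17599 (BT.leaf cE17599) (BT.leaf cE17600)) (BT.leaf cE17601)) (BT.node 17602 (BT.leaf cE17602) (BT.leaf cE17603)))) (BT.node 17608 (BT.node 17606 (BT.node 17605 (BT.node 17604 (BT.leaf cE17604)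 (BT.leaf cE17605)) (BT.leaf cE17606)) (BT.node 17607 (BT.leaf cE17607) (BT.leaf cE17608))) (BT.node 17611 (BT.node 17610 (BT.node 17609 (BT.leaf cE17609) (BT.leaf cE17610)) (BT.leaf cE17611)) (BT.node 17612 (BT.leaf cE17612) (BT.leaf cE17613))))))))
noncomputable def colET_109 : BT ℕ := (BT.node 17694 (BT.node 17654 (BT.node 17634 (BT.node 17624 (BT.node 17619 (BT.node 17616 (BT.node 17615 (BT.node 17614 (BT.leaf cE17614) (BT.leaf cE17615)) (BT.leaf cE17616)) (BT.node 17618 (BT.node 17617 (BT.leaf cE17617) (BT.leaf cE17618)) (BT.leaf cE17619))) (BT.node 17622 (BT.node 17621 (BT.node 17620 (BT.leaf cE17620) (BT.leaf cE17621)) (BT.leaf cE17622)) (BT.node 17623 (BT.leaf cE17623) (BT.leaf cE17624)))) (BT.node 17629 (BT.node 17627 (BT.node 17626 (BT.node 17625 (BT.leaf cE17625) (BT.leaf cE17626)) (BT.leaf cE17627)) (BT.node 17628 (BT.leaf cE17628) (BT.leaf cE17629))) (BT.node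 17632 (BT.node 17631 (BT.node 17630 (BT.leaf cE17630) (BT.leaf cE17631)) (BT.leaf cE17632)) (BT.node 17633 (BT.leaf cE17633) (BT.leaf cE17634))))) (BT.node 17644 (BT.node 17639 (BT.node 17637 (BT.node 17636 (BT.node 17635 (BT.leaf cE17635) (BT.leaf cE17636)) (BT.leaf cE17637)) (BT.node 17638 (BT.leaf cE17638) (BT.leaf cE17639))) (BT.node 17642 (BT.node 17641 (BT.node 17640 (BT.leaf cE17640) (BT.leaf cE17641)) (BT.leaf cE17642)) (BT.node 17643 (BT.leaf cE17643) (BT.leaf cE17644)))) (BT.node 17649 (BT.node 17647 (BT.node 17646 (BT.node 17645 (BT.leaf cE17645) (BT.leaf cE17646)) (BT.leaf cE17647)) (BT.node 17648 (BT.leaf cE17648) (BT.leaf cE17649))) (BT.node 17652 (BT.node 17651 (BT.node 17650 (BT.leaf cE17650) (BT.leaf cE17651)) (BT.leaf cE17652)) (BT.node 17653 (BT.leaf cE17653) (BT.leaf cE17654)))))) (BT.node 17674 (BT.node 17664 (BT.node 17659 (BT.node 17657 (BT.node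 17656 (BT.node 17655 (BT.leaf cE17655) (BT.leaf cE17656)) (BT.leaf cE17657)) (BT.node 17658 (BT.leaf cE17658) (BT.leaf cE17659))) (BT.node 17662 (BT.node 17661 (BT.node 17660 (BT.leaf cE17660) (BT.leaf cE17661)) (BT.leaf cE17662)) (BT.node 17663 (BT.leaf cE17663) (BT.leaf cE17664)))) (BT.node 17669 (BT.node 17667 (BT.node 17666 (BT.node 17665 (BT.leaf cE17665) (BT.leaf cE17666)) (BT.leaf cE17667)) (BT.node 17668 (BT.leaf cE17668) (BT.leaf cE17669))) (BT.node 17672 (BT.node 17671 (BT.node 17670 (BT.leaf cE17670) (BT.leaf cE17671)) (BT.leaf cE17672)) (BT.node 17673 (BT.leaf cE17673) (BT.leaf cE17674))))) (BT.node 17684 (BT.node 17679 (BT.node 17677 (BT.node 17676 (BT.node 17675 (BT.leaf cE17675) (BT.leaf cE17676)) (BT.leaf cE17677)) (BT.node 17678 (BT.leaf cE17678) (BT.leaf cE17679))) (BT.node 17682 (BT.node 17681 (BT.node 17680 (BT.leaf cE17680) (BT.leaf cE17681)) (BT.leaf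 cE17682)) (BT.node 17683 (BT.leaf cE17683) (BT.leaf cE17684)))) (BT.node 17689 (BT.node 17687 (BT.node 17686 (BT.node 17685 (BT.leaf cE17685) (BT.leaf cE17686)) (BT.leaf cE17687)) (BT.node 17688 (BT.leaf cE17688) (BT.leaf cE17689))) (BT.node 17692 (BT.node 17691 (BT.node 17690 (BT.leaf cE17690) (BT.leaf cE17691)) (BT.leaf cE17692)) (BT.node 17693 (BT.leaf cE17693) (BT.leaf cE17694))))))) (BT.node 17734 (BT.node 17714 (BT.node 17704 (BT.node 17699 (BT.node 17697 (BT.node 17696 (BT.node 17695 (BT.leaf cE17695) (BT.leaf cE17696)) (BT.leaf cE17697)) (BT.node 17698 (BT.leaf cE17698) (BT.leaf cE17699))) (BT.node 17702 (BT.node 17701 (BT.node 17700 (BT.leaf cE17700) (BT.leaf cE17701)) (BT.leaf cE17702)) (BT.node 17703 (BT.leaf cE17703) (BT.leaf cE17704)))) (BT.node 17709 (BT.node 17707 (BT.node 17706 (BT.node 17705 (BT.leaf cE17705) (BT.leaf cE17706)) (BT.leaf cE17707)) (BT.node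 17708 (BT.leaf cE17708) (BT.leaf cE17709))) (BT.node 17712 (BT.node 17711 (BT.node 17710 (BT.leaf cE17710) (BT.leaf cE17711)) (BT.leaf cE17712)) (BT.node 17713 (BT.leaf cE17713) (BT.leaf cE17714))))) (BT.node 17724 (BT.node 17719 (BT.node 17717 (BT.node 17716 (BT.node 17715 (BT.leaf cE17715) (BT.leaf cE17716)) (BT.leaf cE17717)) (BT.node 17718 (BT.leaf cE17718) (BT.leaf cE17719))) (BT.node 17722 (BT.node 17721 (BT.node 17720 (BT.leaf cE17720) (BT.leaf cE17721)) (BT.leaf cE17722)) (BT.node 17723 (BT.leaf cE17723) (BT.leaf cE17724)))) (BT.node 17729 (BT.node 17727 (BT.node 17726 (BT.node 17725 (BT.leaf cE17725) (BT.leaf cE17726)) (BT.leaf cE17727)) (BT.node 17728 (BT.leaf cE17728) (BT.leaf cE17729))) (BT.node 17732 (BT.node 17731 (BT.node 17730 (BT.leaf cE17730) (BT.leaf cE17731)) (BT.leaf cE17732)) (BT.node 17733 (BT.leaf cE17733) (BT.leaf cE17734)))))) (BT.node 17754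 (BT.node 17744 (BT.node 17739 (BT.node 17737 (BT.node 17736 (BT.node 17735 (BT.leaf cE17735) (BT.leaf cE17736)) (BT.leaf cE17737)) (BT.node 17738 (BT.leaf cE17738) (BT.leaf cE17739))) (BT.node 17742 (BT.node 17741 (BT.node 17740 (BT.leaf cE17740) (BT.leaf cE17741)) (BT.leaf cE17742)) (BT.node 17743 (BT.leaf cE17743) (BT.leaf cE17744)))) (BT.node 17749 (BT.node 17747 (BT.node 17746 (BT.node 17745 (BT.leaf cE17745) (BT.leaf cE17746)) (BT.leaf cE17747)) (BT.node 17748 (BT.leaf cE17748) (BT.leaf cE17749))) (BT.node 17752 (BT.node 17751 (BT.node 17750 (BT.leaf cE17750) (BT.leaf cE17751)) (BT.leaf cE17752)) (BT.node 17753 (BT.leaf cE17753) (BT.leaf cE17754))))) (BT.node 17764 (BT.node 17759 (BT.node 17757 (BT.node 17756 (BT.node 17755 (BT.leaf cE17755) (BT.leaf cE17756)) (BT.leaf cE17757)) (BT.node 17758 (BT.leaf cE17758) (BT.leaf cE17759))) (BT.node 17762 (BT.node 17761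 (BT.node 17760 (BT.leaf cE17760) (BT.leaf cE17761)) (BT.leaf cE17762)) (BT.node 17763 (BT.leaf cE17763) (BT.leaf cE17764)))) (BT.node 17769 (BT.node 17767 (BT.node 17766 (BT.node 17765 (BT.leaf cE17765) (BT.leaf cE17766)) (BT.leaf cE17767)) (BT.node 17768 (BT.leaf cE17768) (BT.leaf cE17769))) (BT.node 17772 (BT.node 17771 (BT.node 17770 (BT.leaf cE17770) (BT.leaf cE17771)) (BT.leaf cE17772)) (BT.node 17773 (BT.leaf cE17773) (BT.leaf cE17774))))))))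
noncomputable def colET_110 : BT ℕ := (BT.node 17855 (BT.node 17815 (BT.node 17795 (BT.node 17785 (BT.node 17780 (BT.node 17777 (BT.node 17776 (BT.node 17775 (BT.leaf cE17775) (BT.leaf cE17776)) (BT.leaf cE17777)) (BT.node 17779 (BT.node 17778 (BT.leaf cE17778) (BT.leaf cE17779)) (BT.leaf cE17780))) (BT.node 17783 (BT.node 17782 (BT.node 17781 (BT.leaf cE17781) (BT.leaf cE17782)) (BT.leaf cE17783)) (BT.node 17784 (BT.leaf cE17784) (BT.leaf cE17785)))) (BT.node 17790 (BT.node 17788 (BT.node 17787 (BT.node 17786 (BT.leaf cE17786) (BT.leaf cE17787)) (BT.leaf cE17788)) (BT.node 17789 (BT.leaf cE17789) (BT.leaf cE17790))) (BT.node 17793 (BT.node 17792 (BT.node 17791 (BT.leaf cE17791) (BT.leaf cE17792)) (BT.leaf cE17793)) (BT.node 17794 (BT.leaf cE17794) (BT.leaf cE17795))))) (BT.node 17805 (BT.node 17800 (BT.node 17798 (BT.node 17797 (BT.node 17796 (BT.leaf cE17796) (BT.leaf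 cE17797)) (BT.leaf cE17798)) (BT.node 17799 (BT.leaf cE17799) (BT.leaf cE17800))) (BT.node 17803 (BT.node 17802 (BT.node 17801 (BT.leaf cE17801) (BT.leaf cE17802)) (BT.leaf cE17803)) (BT.node 17804 (BT.leaf cE17804) (BT.leaf cE17805)))) (BT.node 17810 (BT.node 17808 (BT.node 17807 (BT.node 17806 (BT.leaf cE17806) (BT.leaf cE17807)) (BT.leaf cE17808)) (BT.node 17809 (BT.leaf cE17809) (BT.leaf cE17810))) (BT.node 17813 (BT.node 17812 (BT.node 17811 (BT.leaf cE17811) (BT.leaf cE17812)) (BT.leaf cE17813)) (BT.node 17814 (BT.leaf cE17814) (BT.leaf cE17815)))))) (BT.node 17835 (BT.node 17825 (BT.node 17820 (BT.node 17818 (BT.node 17817 (BT.node 17816 (BT.leaf cE17816) (BT.leaf cE17817)) (BT.leaf cE17818)) (BT.node 17819 (BT.leaf cE17819) (BT.leaf cE17820))) (BT.node 17823 (BT.node 17822 (BT.node 17821 (BT.leaf cE17821) (BT.leaf cE17822)) (BT.leaf cE17823)) (BT.node 17824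 (BT.leaf cE17824) (BT.leaf cE17825)))) (BT.node 17830 (BT.node 17828 (BT.node 17827 (BT.node 17826 (BT.leaf cE17826) (BT.leaf cE17827)) (BT.leaf cE17828)) (BT.node 17829 (BT.leaf cE17829) (BT.leaf cE17830))) (BT.node 17833 (BT.node 17832 (BT.node 17831 (BT.leaf cE17831) (BT.leaf cE17832)) (BT.leaf cE17833)) (BT.node 17834 (BT.leaf cE17834) (BT.leaf cE17835))))) (BT.node 17845 (BT.node 17840 (BT.node 17838 (BT.node 17837 (BT.node 17836 (BT.leaf cE17836) (BT.leaf cE17837)) (BT.leaf cE17838)) (BT.node 17839 (BT.leaf cE17839) (BT.leaf cE17840))) (BT.node 17843 (BT.node 17842 (BT.node 17841 (BT.leaf cE17841) (BT.leaf cE17842)) (BT.leaf cE17843)) (BT.node 17844 (BT.leaf cE17844) (BT.leaf cE17845)))) (BT.node 17850 (BT.node 17848 (BT.node 17847 (BT.node 17846 (BT.leaf cE17846) (BT.leaf cE17847)) (BT.leaf cE17848)) (BT.node 17849 (BT.leaf cE17849) (BT.leaf cE17850))) (BT.node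 17853 (BT.node 17852 (BT.node 17851 (BT.leaf cE17851) (BT.leaf cE17852)) (BT.leaf cE17853)) (BT.node 17854 (BT.leaf cE17854) (BT.leaf cE17855))))))) (BT.node 17896 (BT.node 17876 (BT.node 17866 (BT.node 17861 (BT.node 17858 (BT.node 17857 (BT.node 17856 (BT.leaf cE17856) (BT.leaf cE17857)) (BT.leaf cE17858)) (BT.node 17860 (BT.node 17859 (BT.leaf cE17859) (BT.leaf cE17860)) (BT.leaf cE17861))) (BT.node 17864 (BT.node 17863 (BT.node 17862 (BT.leaf cE17862) (BT.leaf cE17863)) (BT.leaf cE17864)) (BT.node 17865 (BT.leaf cE17865) (BT.leaf cE17866)))) (BT.node 17871 (BT.node 17869 (BT.node 17868 (BT.node 17867 (BT.leaf cE17867) (BT.leaf cE17868)) (BT.leaf cE17869)) (BT.node 17870 (BT.leaf cE17870) (BT.leaf cE17871))) (BT.node 17874 (BT.node 17873 (BT.node 17872 (BT.leaf cE17872) (BT.leaf cE17873)) (BT.leaf cE17874)) (BT.node 17875 (BT.leaf cE17875) (BT.leaf cE17876)))))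 (BT.node 17886 (BT.node 17881 (BT.node 17879 (BT.node 17878 (BT.node 17877 (BT.leaf cE17877) (BT.leaf cE17878)) (BT.leaf cE17879)) (BT.node 17880 (BT.leaf cE17880) (BT.leaf cE17881))) (BT.node 17884 (BT.node 17883 (BT.node 17882 (BT.leaf cE17882) (BT.leaf cE17883)) (BT.leaf cE17884)) (BT.node 17885 (BT.leaf cE17885) (BT.leaf cE17886)))) (BT.node 17891 (BT.node 17889 (BT.node 17888 (BT.node 17887 (BT.leaf cE17887) (BT.leaf cE17888)) (BT.leaf cE17889)) (BT.node 17890 (BT.leaf cE17890) (BT.leaf cE17891))) (BT.node 17894 (BT.node 17893 (BT.node 17892 (BT.leaf cE17892) (BT.leaf cE17893)) (BT.leaf cE17894)) (BT.node 17895 (BT.leaf cE17895) (BT.leaf cE17896)))))) (BT.node 17916 (BT.node 17906 (BT.node 17901 (BT.node 17899 (BT.node 17898 (BT.node 17897 (BT.leaf cE17897) (BT.leaf cE17898)) (BT.leaf cE17899)) (BT.node 17900 (BT.leaf cE17900) (BT.leaf cE17901))) (BT.node 17904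 (BT.node 17903 (BT.node 17902 (BT.leaf cE17902) (BT.leaf cE17903)) (BT.leaf cE17904)) (BT.node 17905 (BT.leaf cE17905) (BT.leaf cE17906)))) (BT.node 17911 (BT.node 17909 (BT.node 17908 (BT.node 17907 (BT.leaf cE17907) (BT.leaf cE17908)) (BT.leaf cE17909)) (BT.node 17910 (BT.leaf cE17910) (BT.leaf cE17911))) (BT.node 17914 (BT.node 17913 (BT.node 17912 (BT.leaf cE17912) (BT.leaf cE17913)) (BT.leaf cE17914)) (BT.node 17915 (BT.leaf cE17915) (BT.leaf cE17916))))) (BT.node 17926 (BT.node 17921 (BT.node 17919 (BT.node 17918 (BT.node 17917 (BT.leaf cE17917) (BT.leaf cE17918)) (BT.leaf cE17919)) (BT.node 17920 (BT.leaf cE17920) (BT.leaf cE17921))) (BT.node 17924 (BT.node 17923 (BT.node 17922 (BT.leaf cE17922) (BT.leaf cE17923)) (BT.leaf cE17924)) (BT.node 17925 (BT.leaf cE17925) (BT.leaf cE17926)))) (BT.node 17931 (BT.node 17929 (BT.node 17928 (BT.node 17927 (BT.leaf cE17927)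 (BT.leaf cE17928)) (BT.leaf cE17929)) (BT.node 17930 (BT.leaf cE17930) (BT.leaf cE17931))) (BT.node 17934 (BT.node 17933 (BT.node 17932 (BT.leaf cE17932) (BT.leaf cE17933)) (BT.leaf cE17934)) (BT.node 17935 (BT.leaf cE17935) (BT.leaf cE17936))))))))
noncomputable def colET_111 : BT ℕ := (BT.node 18017 (BT.node 17977 (BT.node 17957 (BT.node 17947 (BT.node 17942 (BT.node 17939 (BT.node 17938 (BT.node 17937 (BT.leaf cE17937) (BT.leaf cE17938)) (BT.leaf cE17939)) (BT.node 17941 (BT.node 17940 (BT.leaf cE17940) (BT.leaf cE17941)) (BT.leaf cE17942))) (BT.node 17945 (BT.node 17944 (BT.node 17943 (BT.leaf cE17943) (BT.leaf cE17944)) (BT.leaf cE17945)) (BT.node 17946 (BT.leaf cE17946) (BT.leaf cE17947)))) (BT.node 17952 (BT.node 17950 (BT.node 17949 (BT.node 17948 (BT.leaf cE17948) (BT.leaf cE17949)) (BT.leaf cE17950)) (BT.node 17951 (BT.leaf cE17951) (BT.leaf cE17952))) (BT.node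 17955 (BT.node 17954 (BT.node 17953 (BT.leaf cE17953) (BT.leaf cE17954)) (BT.leaf cE17955)) (BT.node 17956 (BT.leaf cE17956) (BT.leaf cE17957))))) (BT.node 17967 (BT.node 17962 (BT.node 17960 (BT.node 17959 (BT.node 17958 (BT.leaf cE17958) (BT.leaf cE17959)) (BT.leaf cE17960)) (BT.node 17961 (BT.leaf cE17961) (BT.leaf cE17962))) (BT.node 17965 (BT.node 17964 (BT.node 17963 (BT.leaf cE17963) (BT.leaf cE17964)) (BT.leaf cE17965)) (BT.node 17966 (BT.leaf cE17966) (BT.leaf cE17967)))) (BT.node 17972 (BT.node 17970 (BT.node 17969 (BT.node 17968 (BT.leaf cE17968) (BT.leaf cE17969)) (BT.leaf cE17970)) (BT.node 17971 (BT.leaf cE17971) (BT.leaf cE17972))) (BT.node 17975 (BT.node 17974 (BT.node 17973 (BT.leaf cE17973) (BT.leaf cE17974)) (BT.leaf cE17975)) (BT.node 17976 (BT.leaf cE17976) (BT.leaf cE17977)))))) (BT.node 17997 (BT.node 17987 (BT.node 17982 (BT.node 17980 (BT.node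 17979 (BT.node 17978 (BT.leaf cE17978) (BT.leaf cE17979)) (BT.leaf cE17980)) (BT.node 17981 (BT.leaf cE17981) (BT.leaf cE17982))) (BT.node 17985 (BT.node 17984 (BT.node 17983 (BT.leaf cE17983) (BT.leaf cE17984)) (BT.leaf cE17985)) (BT.node 17986 (BT.leaf cE17986) (BT.leaf cE17987)))) (BT.node 17992 (BT.node 17990 (BT.node 17989 (BT.node 17988 (BT.leaf cE17988) (BT.leaf cE17989)) (BT.leaf cE17990)) (BT.node 17991 (BT.leaf cE17991) (BT.leaf cE17992))) (BT.node 17995 (BT.node 17994 (BT.node 17993 (BT.leaf cE17993) (BT.leaf cE17994)) (BT.leaf cE17995)) (BT.node 17996 (BT.leaf cE17996) (BT.leaf cE17997))))) (BT.node 18007 (BT.node 18002 (BT.node 18000 (BT.node 17999 (BT.node 17998 (BT.leaf cE17998) (BT.leaf cE17999)) (BT.leaf cE18000)) (BT.node 18001 (BT.leaf cE18001) (BT.leaf cE18002))) (BT.node 18005 (BT.node 18004 (BT.node 18003 (BT.leaf cE18003) (BT.leaf cE18004)) (BT.leaf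 cE18005)) (BT.node 18006 (BT.leaf cE18006) (BT.leaf cE18007)))) (BT.node 18012 (BT.node 18010 (BT.node 18009 (BT.node 18008 (BT.leaf cE18008) (BT.leaf cE18009)) (BT.leaf cE18010)) (BT.node 18011 (BT.leaf cE18011) (BT.leaf cE18012))) (BT.node 18015 (BT.node 18014 (BT.node 18013 (BT.leaf cE18013) (BT.leaf cE18014)) (BT.leaf cE18015)) (BT.node 18016 (BT.leaf cE18016) (BT.leaf cE18017))))))) (BT.node 18057 (BT.node 18037 (BT.node 18027 (BT.node 18022 (BT.node 18020 (BT.node 18019 (BT.node 18018 (BT.leaf cE18018) (BT.leaf cE18019)) (BT.leaf cE18020)) (BT.node 18021 (BT.leaf cE18021) (BT.leaf cE18022))) (BT.node 18025 (BT.node 18024 (BT.node 18023 (BT.leaf cE18023) (BT.leaf cE18024)) (BT.leaf cE18025)) (BT.node 18026 (BT.leaf cE18026) (BT.leaf cE18027)))) (BT.node 18032 (BT.node 18030 (BT.node 18029 (BT.node 18028 (BT.leaf cE18028) (BT.leaf cE18029)) (BT.leaf cE18030)) (BT.node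 18031 (BT.leaf cE18031) (BT.leaf cE18032))) (BT.node 18035 (BT.node 18034 (BT.node 18033 (BT.leaf cE18033) (BT.leaf cE18034)) (BT.leaf cE18035)) (BT.node 18036 (BT.leaf cE18036) (BT.leaf cE18037))))) (BT.node 18047 (BT.node 18042 (BT.node 18040 (BT.node 18039 (BT.node 18038 (BT.leaf cE18038) (BT.leaf cE18039)) (BT.leaf cE18040)) (BT.node 18041 (BT.leaf cE18041) (BT.leaf cE18042))) (BT.node 18045 (BT.node 18044 (BT.node 18043 (BT.leaf cE18043) (BT.leaf cE18044)) (BT.leaf cE18045)) (BT.node 18046 (BT.leaf cE18046) (BT.leaf cE18047)))) (BT.node 18052 (BT.node 18050 (BT.node 18049 (BT.node 18048 (BT.leaf cE18048) (BT.leaf cE18049)) (BT.leaf cE18050)) (BT.node 18051 (BT.leaf cE18051) (BT.leaf cE18052))) (BT.node 18055 (BT.node 18054 (BT.node 18053 (BT.leaf cE18053) (BT.leaf cE18054)) (BT.leaf cE18055)) (BT.node 18056 (BT.leaf cE18056) (BT.leaf cE18057)))))) (BT.node 18077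 (BT.node 18067 (BT.node 18062 (BT.node 18060 (BT.node 18059 (BT.node 18058 (BT.leaf cE18058) (BT.leaf cE18059)) (BT.leaf cE18060)) (BT.node 18061 (BT.leaf cE18061) (BT.leaf cE18062))) (BT.node 18065 (BT.node 18064 (BT.node 18063 (BT.leaf cE18063) (BT.leaf cE18064)) (BT.leaf cE18065)) (BT.node 18066 (BT.leaf cE18066) (BT.leaf cE18067)))) (BT.node 18072 (BT.node 18070 (BT.node 18069 (BT.node 18068 (BT.leaf cE18068) (BT.leaf cE18069)) (BT.leaf cE18070)) (BT.node 18071 (BT.leaf cE18071) (BT.leaf cE18072))) (BT.node 18075 (BT.node 18074 (BT.node 18073 (BT.leaf cE18073) (BT.leaf cE18074)) (BT.leaf cE18075)) (BT.node 18076 (BT.leaf cE18076) (BT.leaf cE18077))))) (BT.node 18087 (BT.node 18082 (BT.node 18080 (BT.node 18079 (BT.node 18078 (BT.leaf cE18078) (BT.leaf cE18079)) (BT.leaf cE18080)) (BT.node 18081 (BT.leaf cE18081) (BT.leaf cE18082))) (BT.node 18085 (BT.node 18084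 (BT.node 18083 (BT.leaf cE18083) (BT.leaf cE18084)) (BT.leaf cE18085)) (BT.node 18086 (BT.leaf cE18086) (BT.leaf cE18087)))) (BT.node 18092 (BT.node 18090 (BT.node 18089 (BT.node 18088 (BT.leaf cE18088) (BT.leaf cE18089)) (BT.leaf cE18090)) (BT.node 18091 (BT.leaf cE18091) (BT.leaf cE18092))) (BT.node 18095 (BT.node 18094 (BT.node 18093 (BT.leaf cE18093) (BT.leaf cE18094)) (BT.leaf cE18095)) (BT.node 18096 (BT.leaf cE18096) (BT.leaf cE18097))))))))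
noncomputable def colET_112 : BT ℕ := (BT.node 18178 (BT.node 18138 (BT.node 18118 (BT.node 18108 (BT.node 18103 (BT.node 18100 (BT.node 18099 (BT.node 18098 (BT.leaf cE18098) (BT.leaf cE18099)) (BT.leaf cE18100)) (BT.node 18102 (BT.node 18101 (BT.leaf cE18101) (BT.leaf cE18102)) (BT.leaf cE18103))) (BT.node 18106 (BT.node 18105 (BT.node 18104 (BT.leaf cE18104) (BT.leaf cE18105)) (BT.leaf cE18106)) (BT.node 18107 (BT.leaf cE18107) (BT.leaf cE18108)))) (BT.node 18113 (BT.node 18111 (BT.node 18110 (BT.node 18109 (BT.leaf cE18109) (BT.leaf cE18110)) (BT.leaf cE18111)) (BT.node 18112 (BT.leaf cE18112) (BT.leaf cE18113))) (BT.node 18116 (BT.node 18115 (BT.node 18114 (BT.leaf cE18114) (BT.leaf cE18115)) (BT.leaf cE18116)) (BT.node 18117 (BT.leaf cE18117) (BT.leaf cE18118))))) (BT.node 18128 (BT.node 18123 (BT.node 18121 (BT.node 18120 (BT.node 18119 (BT.leaf cE18119) (BT.leaf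 cE18120)) (BT.leaf cE18121)) (BT.node 18122 (BT.leaf cE18122) (BT.leaf cE18123))) (BT.node 18126 (BT.node 18125 (BT.node 18124 (BT.leaf cE18124) (BT.leaf cE18125)) (BT.leaf cE18126)) (BT.node 18127 (BT.leaf cE18127) (BT.leaf cE18128)))) (BT.node 18133 (BT.node 18131 (BT.node 18130 (BT.node 18129 (BT.leaf cE18129) (BT.leaf cE18130)) (BT.leaf cE18131)) (BT.node 18132 (BT.leaf cE18132) (BT.leaf cE18133))) (BT.node 18136 (BT.node 18135 (BT.node 18134 (BT.leaf cE18134) (BT.leaf cE18135)) (BT.leaf cE18136)) (BT.node 18137 (BT.leaf cE18137) (BT.leaf cE18138)))))) (BT.node 18158 (BT.node 18148 (BT.node 18143 (BT.node 18141 (BT.node 18140 (BT.node 18139 (BT.leaf cE18139) (BT.leaf cE18140)) (BT.leaf cE18141)) (BT.node 18142 (BT.leaf cE18142) (BT.leaf cE18143))) (BT.node 18146 (BT.node 18145 (BT.node 18144 (BT.leaf cE18144) (BT.leaf cE18145)) (BT.leaf cE18146)) (BT.node 18147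 (BT.leaf cE18147) (BT.leaf cE18148)))) (BT.node 18153 (BT.node 18151 (BT.node 18150 (BT.node 18149 (BT.leaf cE18149) (BT.leaf cE18150)) (BT.leaf cE18151)) (BT.node 18152 (BT.leaf cE18152) (BT.leaf cE18153))) (BT.node 18156 (BT.node 18155 (BT.node 18154 (BT.leaf cE18154) (BT.leaf cE18155)) (BT.leaf cE18156)) (BT.node 18157 (BT.leaf cE18157) (BT.leaf cE18158))))) (BT.node 18168 (BT.node 18163 (BT.node 18161 (BT.node 18160 (BT.node 18159 (BT.leaf cE18159) (BT.leaf cE18160)) (BT.leaf cE18161)) (BT.node 18162 (BT.leaf cE18162) (BT.leaf cE18163))) (BT.node 18166 (BT.node 18165 (BT.node 18164 (BT.leaf cE18164) (BT.leaf cE18165)) (BT.leaf cE18166)) (BT.node 18167 (BT.leaf cE18167) (BT.leaf cE18168)))) (BT.node 18173 (BT.node 18171 (BT.node 18170 (BT.node 18169 (BT.leaf cE18169) (BT.leaf cE18170)) (BT.leaf cE18171)) (BT.node 18172 (BT.leaf cE18172) (BT.leaf cE18173))) (BT.node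 18176 (BT.node 18175 (BT.node 18174 (BT.leaf cE18174) (BT.leaf cE18175)) (BT.leaf cE18176)) (BT.node 18177 (BT.leaf cE18177) (BT.leaf cE18178))))))) (BT.node 18219 (BT.node 18199 (BT.node 18189 (BT.node 18184 (BT.node 18181 (BT.node 18180 (BT.node 18179 (BT.leaf cE18179) (BT.leaf cE18180)) (BT.leaf cE18181)) (BT.node 18183 (BT.node 18182 (BT.leaf cE18182) (BT.leaf cE18183)) (BT.leaf cE18184))) (BT.node 18187 (BT.node 18186 (BT.node 18185 (BT.leaf cE18185) (BT.leaf cE18186)) (BT.leaf cE18187)) (BT.node 18188 (BT.leaf cE18188) (BT.leaf cE18189)))) (BT.node 18194 (BT.node 18192 (BT.node 18191 (BT.node 18190 (BT.leaf cE18190) (BT.leaf cE18191)) (BT.leaf cE18192)) (BT.node 18193 (BT.leaf cE18193) (BT.leaf cE18194))) (BT.node 18197 (BT.node 18196 (BT.node 18195 (BT.leaf cE18195) (BT.leaf cE18196)) (BT.leaf cE18197)) (BT.node 18198 (BT.leaf cE18198) (BT.leaf cE18199)))))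 (BT.node 18209 (BT.node 18204 (BT.node 18202 (BT.node 18201 (BT.node 18200 (BT.leaf cE18200) (BT.leaf cE18201)) (BT.leaf cE18202)) (BT.node 18203 (BT.leaf cE18203) (BT.leaf cE18204))) (BT.node 18207 (BT.node 18206 (BT.node 18205 (BT.leaf cE18205) (BT.leaf cE18206)) (BT.leaf cE18207)) (BT.node 18208 (BT.leaf cE18208) (BT.leaf cE18209)))) (BT.node 18214 (BT.node 18212 (BT.node 18211 (BT.node 18210 (BT.leaf cE18210) (BT.leaf cE18211)) (BT.leaf cE18212)) (BT.node 18213 (BT.leaf cE18213) (BT.leaf cE18214))) (BT.node 18217 (BT.node 18216 (BT.node 18215 (BT.leaf cE18215) (BT.leaf cE18216)) (BT.leaf cE18217)) (BT.node 18218 (BT.leaf cE18218) (BT.leaf cE18219)))))) (BT.node 18239 (BT.node 18229 (BT.node 18224 (BT.node 18222 (BT.node 18221 (BT.node 18220 (BT.leaf cE18220) (BT.leaf cE18221)) (BT.leaf cE18222)) (BT.node 18223 (BT.leaf cE18223) (BT.leaf cE18224))) (BT.node 18227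 (BT.node 18226 (BT.node 18225 (BT.leaf cE18225) (BT.leaf cE18226)) (BT.leaf cE18227)) (BT.node 18228 (BT.leaf cE18228) (BT.leaf cE18229)))) (BT.node 18234 (BT.node 18232 (BT.node 18231 (BT.node 18230 (BT.leaf cE18230) (BT.leaf cE18231)) (BT.leaf cE18232)) (BT.node 18233 (BT.leaf cE18233) (BT.leaf cE18234))) (BT.node 18237 (BT.node 18236 (BT.node 18235 (BT.leaf cE18235) (BT.leaf cE18236)) (BT.leaf cE18237)) (BT.node 18238 (BT.leaf cE18238) (BT.leaf cE18239))))) (BT.node 18249 (BT.node 18244 (BT.node 18242 (BT.node 18241 (BT.node 18240 (BT.leaf cE18240) (BT.leaf cE18241)) (BT.leaf cE18242)) (BT.node 18243 (BT.leaf cE18243) (BT.leaf cE18244))) (BT.node 18247 (BT.node 18246 (BT.node 18245 (BT.leaf cE18245) (BT.leaf cE18246)) (BT.leaf cE18247)) (BT.node 18248 (BT.leaf cE18248) (BT.leaf cE18249)))) (BT.node 18254 (BT.node 18252 (BT.node 18251 (BT.node 18250 (BT.leaf cE18250)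 (BT.leaf cE18251)) (BT.leaf cE18252)) (BT.node 18253 (BT.leaf cE18253) (BT.leaf cE18254))) (BT.node 18257 (BT.node 18256 (BT.node 18255 (BT.leaf cE18255) (BT.leaf cE18256)) (BT.leaf cE18257)) (BT.node 18258 (BT.leaf cE18258) (BT.leaf cE18259))))))))
noncomputable def colET_113 : BT ℕ := (BT.node 18340 (BT.node 18300 (BT.node 18280 (BT.node 18270 (BT.node 18265 (BT.node 18262 (BT.node 18261 (BT.node 18260 (BT.leaf cE18260) (BT.leaf cE18261)) (BT.leaf cE18262)) (BT.node 18264 (BT.node 18263 (BT.leaf cE18263) (BT.leaf cE18264)) (BT.leaf cE18265))) (BT.node 18268 (BT.node 18267 (BT.node 18266 (BT.leaf cE18266) (BT.leaf cE18267)) (BT.leaf cE18268)) (BT.node 18269 (BT.leaf cE18269) (BT.leaf cE18270)))) (BT.node 18275 (BT.node 18273 (BT.node 18272 (BT.node 18271 (BT.leaf cE18271) (BT.leaf cE18272)) (BT.leaf cE18273)) (BT.node 18274 (BT.leaf cE18274) (BT.leaf cE18275))) (BT.node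 18278 (BT.node 18277 (BT.node 18276 (BT.leaf cE18276) (BT.leaf cE18277)) (BT.leaf cE18278)) (BT.node 18279 (BT.leaf cE18279) (BT.leaf cE18280))))) (BT.node 18290 (BT.node 18285 (BT.node 18283 (BT.node 18282 (BT.node 18281 (BT.leaf cE18281) (BT.leaf cE18282)) (BT.leaf cE18283)) (BT.node 18284 (BT.leaf cE18284) (BT.leaf cE18285))) (BT.node 18288 (BT.node 18287 (BT.node 18286 (BT.leaf cE18286) (BT.leaf cE18287)) (BT.leaf cE18288)) (BT.node 18289 (BT.leaf cE18289) (BT.leaf cE18290)))) (BT.node 18295 (BT.node 18293 (BT.node 18292 (BT.node 18291 (BT.leaf cE18291) (BT.leaf cE18292)) (BT.leaf cE18293)) (BT.node 18294 (BT.leaf cE18294) (BT.leaf cE18295))) (BT.node 18298 (BT.node 18297 (BT.node 18296 (BT.leaf cE18296) (BT.leaf cE18297)) (BT.leaf cE18298)) (BT.node 18299 (BT.leaf cE18299) (BT.leaf cE18300)))))) (BT.node 18320 (BT.node 18310 (BT.node 18305 (BT.node 18303 (BT.node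 18302 (BT.node 18301 (BT.leaf cE18301) (BT.leaf cE18302)) (BT.leaf cE18303)) (BT.node 18304 (BT.leaf cE18304) (BT.leaf cE18305))) (BT.node 18308 (BT.node 18307 (BT.node 18306 (BT.leaf cE18306) (BT.leaf cE18307)) (BT.leaf cE18308)) (BT.node 18309 (BT.leaf cE18309) (BT.leaf cE18310)))) (BT.node 18315 (BT.node 18313 (BT.node 18312 (BT.node 18311 (BT.leaf cE18311) (BT.leaf cE18312)) (BT.leaf cE18313)) (BT.node 18314 (BT.leaf cE18314) (BT.leaf cE18315))) (BT.node 18318 (BT.node 18317 (BT.node 18316 (BT.leaf cE18316) (BT.leaf cE18317)) (BT.leaf cE18318)) (BT.node 18319 (BT.leaf cE18319) (BT.leaf cE18320))))) (BT.node 18330 (BT.node 18325 (BT.node 18323 (BT.node 18322 (BT.node 18321 (BT.leaf cE18321) (BT.leaf cE18322)) (BT.leaf cE18323)) (BT.node 18324 (BT.leaf cE18324) (BT.leaf cE18325))) (BT.node 18328 (BT.node 18327 (BT.node 18326 (BT.leaf cE18326) (BT.leaf cE18327)) (BT.leaf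 cE18328)) (BT.node 18329 (BT.leaf cE18329) (BT.leaf cE18330)))) (BT.node 18335 (BT.node 18333 (BT.node 18332 (BT.node 18331 (BT.leaf cE18331) (BT.leaf cE18332)) (BT.leaf cE18333)) (BT.node 18334 (BT.leaf cE18334) (BT.leaf cE18335))) (BT.node 18338 (BT.node 18337 (BT.node 18336 (BT.leaf cE18336) (BT.leaf cE18337)) (BT.leaf cE18338)) (BT.node 18339 (BT.leaf cE18339) (BT.leaf cE18340))))))) (BT.node 18381 (BT.node 18361 (BT.node 18351 (BT.node 18346 (BT.node 18343 (BT.node 18342 (BT.node 18341 (BT.leaf cE18341) (BT.leaf cE18342)) (BT.leaf cE18343)) (BT.node 18345 (BT.node 18344 (BT.leaf cE18344) (BT.leaf cE18345)) (BT.leaf cE18346))) (BT.node 18349 (BT.node 18348 (BT.node 18347 (BT.leaf cE18347) (BT.leaf cE18348)) (BT.leaf cE18349)) (BT.node 18350 (BT.leaf cE18350) (BT.leaf cE18351)))) (BT.node 18356 (BT.node 18354 (BT.node 18353 (BT.node 18352 (BT.leaf cE18352) (BT.leaf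 cE18353)) (BT.leaf cE18354)) (BT.node 18355 (BT.leaf cE18355) (BT.leaf cE18356))) (BT.node 18359 (BT.node 18358 (BT.node 18357 (BT.leaf cE18357) (BT.leaf cE18358)) (BT.leaf cE18359)) (BT.node 18360 (BT.leaf cE18360) (BT.leaf cE18361))))) (BT.node 18371 (BT.node 18366 (BT.node 18364 (BT.node 18363 (BT.node 18362 (BT.leaf cE18362) (BT.leaf cE18363)) (BT.leaf cE18364)) (BT.node 18365 (BT.leaf cE18365) (BT.leaf cE18366))) (BT.node 18369 (BT.node 18368 (BT.node 18367 (BT.leaf cE18367) (BT.leaf cE18368)) (BT.leaf cE18369)) (BT.node 18370 (BT.leaf cE18370) (BT.leaf cE18371)))) (BT.node 18376 (BT.node 18374 (BT.node 18373 (BT.node 18372 (BT.leaf cE18372) (BT.leaf cE18373)) (BT.leaf cE18374)) (BT.node 18375 (BT.leaf cE18375) (BT.leaf cE18376))) (BT.node 18379 (BT.node 18378 (BT.node 18377 (BT.leaf cE18377) (BT.leaf cE18378)) (BT.leaf cE18379)) (BT.node 18380 (BT.leaf cE18380)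 (BT.leaf cE18381)))))) (BT.node 18401 (BT.node 18391 (BT.node 18386 (BT.node 18384 (BT.node 18383 (BT.node 18382 (BT.leaf cE18382) (BT.leaf cE18383)) (BT.leaf cE18384)) (BT.node 18385 (BT.leaf cE18385) (BT.leaf cE18386))) (BT.node 18389 (BT.node 18388 (BT.node 18387 (BT.leaf cE18387) (BT.leaf cE18388)) (BT.leaf cE18389)) (BT.node 18390 (BT.leaf cE18390) (BT.leaf cE18391)))) (BT.node 18396 (BT.node 18394 (BT.node 18393 (BT.node 18392 (BT.leaf cE18392) (BT.leaf cE18393)) (BT.leaf cE18394)) (BT.node 18395 (BT.leaf cE18395) (BT.leaf cE18396))) (BT.node 18399 (BT.node 18398 (BT.node 18397 (BT.leaf cE18397) (BT.leaf cE18398)) (BT.leaf cE18399)) (BT.node 18400 (BT.leaf cE18400) (BT.leaf cE18401))))) (BT.node 18411 (BT.node 18406 (BT.node 18404 (BT.node 18403 (BT.node 18402 (BT.leaf cE18402) (BT.leaf cE18403)) (BT.leaf cE18404)) (BT.node 18405 (BT.leaf cE18405) (BT.leaf cE18406)))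 (BT.node 18409 (BT.node 18408 (BT.node 18407 (BT.leaf cE18407) (BT.leaf cE18408)) (BT.leaf cE18409)) (BT.node 18410 (BT.leaf cE18410) (BT.leaf cE18411)))) (BT.node 18416 (BT.node 18414 (BT.node 18413 (BT.node 18412 (BT.leaf cE18412) (BT.leaf cE18413)) (BT.leaf cE18414)) (BT.node 18415 (BT.leaf cE18415) (BT.leaf cE18416))) (BT.node 18419 (BT.node 18418 (BT.node 18417 (BT.leaf cE18417) (BT.leaf cE18418)) (BT.leaf cE18419)) (BT.node 18420 (BT.leaf cE18420) (BT.leaf cE18421))))))))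
noncomputable def colET_114 : BT ℕ := (BT.node 18502 (BT.node 18462 (BT.node 18442 (BT.node 18432 (BT.node 18427 (BT.node 18424 (BT.node 18423 (BT.node 18422 (BT.leaf cE18422) (BT.leaf cE18423)) (BT.leaf cE18424)) (BT.node 18426 (BT.node 18425 (BT.leaf cE18425) (BT.leaf cE18426)) (BT.leaf cE18427))) (BT.node 18430 (BT.node 18429 (BT.node 18428 (BT.leaf cE18428) (BT.leaf cE18429)) (BT.leaf cE18430)) (BT.node 18431 (BT.leaf cE18431) (BT.leaf cE18432)))) (BT.node 18437 (BT.node 18435 (BT.node 18434 (BT.node 18433 (BT.leaf cE18433) (BT.leaf cE18434)) (BT.leaf cE18435)) (BT.node 18436 (BT.leaf cE18436) (BT.leaf cE18437))) (BT.node 18440 (BT.node 18439 (BT.node 18438 (BT.leaf cE18438) (BT.leaf cE18439)) (BT.leaf cE18440)) (BT.node 18441 (BT.leaf cE18441) (BT.leaf cE18442))))) (BT.node 18452 (BT.node 18447 (BT.node 18445 (BT.node 18444 (BT.node 18443 (BT.leaf cE18443) (BT.leaf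 cE18444)) (BT.leaf cE18445)) (BT.node 18446 (BT.leaf cE18446) (BT.leaf cE18447))) (BT.node 18450 (BT.node 18449 (BT.node 18448 (BT.leaf cE18448) (BT.leaf cE18449)) (BT.leaf cE18450)) (BT.node 18451 (BT.leaf cE18451) (BT.leaf cE18452)))) (BT.node 18457 (BT.node 18455 (BT.node 18454 (BT.node 18453 (BT.leaf cE18453) (BT.leaf cE18454)) (BT.leaf cE18455)) (BT.node 18456 (BT.leaf cE18456) (BT.leaf cE18457))) (BT.node 18460 (BT.node 18459 (BT.node 18458 (BT.leaf cE18458) (BT.leaf cE18459)) (BT.leaf cE18460)) (BT.node 18461 (BT.leaf cE18461) (BT.leaf cE18462)))))) (BT.node 18482 (BT.node 18472 (BT.node 18467 (BT.node 18465 (BT.node 18464 (BT.node 18463 (BT.leaf cE18463) (BT.leaf cE18464)) (BT.leaf cE18465)) (BT.node 18466 (BT.leaf cE18466) (BT.leaf cE18467))) (BT.node 18470 (BT.node 18469 (BT.node 18468 (BT.leaf cE18468) (BT.leaf cE18469)) (BT.leaf cE18470)) (BT.node 18471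 (BT.leaf cE18471) (BT.leaf cE18472)))) (BT.node 18477 (BT.node 18475 (BT.node 18474 (BT.node 18473 (BT.leaf cE18473) (BT.leaf cE18474)) (BT.leaf cE18475)) (BT.node 18476 (BT.leaf cE18476) (BT.leaf cE18477))) (BT.node 18480 (BT.node 18479 (BT.node 18478 (BT.leaf cE18478) (BT.leaf cE18479)) (BT.leaf cE18480)) (BT.node 18481 (BT.leaf cE18481) (BT.leaf cE18482))))) (BT.node 18492 (BT.node 18487 (BT.node 18485 (BT.node 18484 (BT.node 18483 (BT.leaf cE18483) (BT.leaf cE18484)) (BT.leaf cE18485)) (BT.node 18486 (BT.leaf cE18486) (BT.leaf cE18487))) (BT.node 18490 (BT.node 18489 (BT.node 18488 (BT.leaf cE18488) (BT.leaf cE18489)) (BT.leaf cE18490)) (BT.node 18491 (BT.leaf cE18491) (BT.leaf cE18492)))) (BT.node 18497 (BT.node 18495 (BT.node 18494 (BT.node 18493 (BT.leaf cE18493) (BT.leaf cE18494)) (BT.leaf cE18495)) (BT.node 18496 (BT.leaf cE18496) (BT.leaf cE18497))) (BT.node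 18500 (BT.node 18499 (BT.node 18498 (BT.leaf cE18498) (BT.leaf cE18499)) (BT.leaf cE18500)) (BT.node 18501 (BT.leaf cE18501) (BT.leaf cE18502))))))) (BT.node 18543 (BT.node 18523 (BT.node 18513 (BT.node 18508 (BT.node 18505 (BT.node 18504 (BT.node 18503 (BT.leaf cE18503) (BT.leaf cE18504)) (BT.leaf cE18505)) (BT.node 18507 (BT.node 18506 (BT.leaf cE18506) (BT.leaf cE18507)) (BT.leaf cE18508))) (BT.node 18511 (BT.node 18510 (BT.node 18509 (BT.leaf cE18509) (BT.leaf cE18510)) (BT.leaf cE18511)) (BT.node 18512 (BT.leaf cE18512) (BT.leaf cE18513)))) (BT.node 18518 (BT.node 18516 (BT.node 18515 (BT.node 18514 (BT.leaf cE18514) (BT.leaf cE18515)) (BT.leaf cE18516)) (BT.node 18517 (BT.leaf cE18517) (BT.leaf cE18518))) (BT.node 18521 (BT.node 18520 (BT.node 18519 (BT.leaf cE18519) (BT.leaf cE18520)) (BT.leaf cE18521)) (BT.node 18522 (BT.leaf cE18522) (BT.leaf cE18523)))))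 (BT.node 18533 (BT.node 18528 (BT.node 18526 (BT.node 18525 (BT.node 18524 (BT.leaf cE18524) (BT.leaf cE18525)) (BT.leaf cE18526)) (BT.node 18527 (BT.leaf cE18527) (BT.leaf cE18528))) (BT.node 18531 (BT.node 18530 (BT.node 18529 (BT.leaf cE18529) (BT.leaf cE18530)) (BT.leaf cE18531)) (BT.node 18532 (BT.leaf cE18532) (BT.leaf cE18533)))) (BT.node 18538 (BT.node 18536 (BT.node 18535 (BT.node 18534 (BT.leaf cE18534) (BT.leaf cE18535)) (BT.leaf cE18536)) (BT.node 18537 (BT.leaf cE18537) (BT.leaf cE18538))) (BT.node 18541 (BT.node 18540 (BT.node 18539 (BT.leaf cE18539) (BT.leaf cE18540)) (BT.leaf cE18541)) (BT.node 18542 (BT.leaf cE18542) (BT.leaf cE18543)))))) (BT.node 18563 (BT.node 18553 (BT.node 18548 (BT.node 18546 (BT.node 18545 (BT.node 18544 (BT.leaf cE18544) (BT.leaf cE18545)) (BT.leaf cE18546)) (BT.node 18547 (BT.leaf cE18547) (BT.leaf cE18548))) (BT.node 18551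 (BT.node 18550 (BT.node 18549 (BT.leaf cE18549) (BT.leaf cE18550)) (BT.leaf cE18551)) (BT.node 18552 (BT.leaf cE18552) (BT.leaf cE18553)))) (BT.node 18558 (BT.node 18556 (BT.node 18555 (BT.node 18554 (BT.leaf cE18554) (BT.leaf cE18555)) (BT.leaf cE18556)) (BT.node 18557 (BT.leaf cE18557) (BT.leaf cE18558))) (BT.node 18561 (BT.node 18560 (BT.node 18559 (BT.leaf cE18559) (BT.leaf cE18560)) (BT.leaf cE18561)) (BT.node 18562 (BT.leaf cE18562) (BT.leaf cE18563))))) (BT.node 18573 (BT.node 18568 (BT.node 18566 (BT.node 18565 (BT.node 18564 (BT.leaf cE18564) (BT.leaf cE18565)) (BT.leaf cE18566)) (BT.node 18567 (BT.leaf cE18567) (BT.leaf cE18568))) (BT.node 18571 (BT.node 18570 (BT.node 18569 (BT.leaf cE18569) (BT.leaf cE18570)) (BT.leaf cE18571)) (BT.node 18572 (BT.leaf cE18572) (BT.leaf cE18573)))) (BT.node 18578 (BT.node 18576 (BT.node 18575 (BT.node 18574 (BT.leaf cE18574)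 (BT.leaf cE18575)) (BT.leaf cE18576)) (BT.node 18577 (BT.leaf cE18577) (BT.leaf cE18578))) (BT.node 18581 (BT.node 18580 (BT.node 18579 (BT.leaf cE18579) (BT.leaf cE18580)) (BT.leaf cE18581)) (BT.node 18582 (BT.leaf cE18582) (BT.leaf cE18583))))))))
noncomputable def colET_115 : BT ℕ := (BT.node 18664 (BT.node 18624 (BT.node 18604 (BT.node 18594 (BT.node 18589 (BT.node 18586 (BT.node 18585 (BT.node 18584 (BT.leaf cE18584) (BT.leaf cE18585)) (BT.leaf cE18586)) (BT.node 18588 (BT.node 18587 (BT.leaf cE18587) (BT.leaf cE18588)) (BT.leaf cE18589))) (BT.node 18592 (BT.node 18591 (BT.node 18590 (BT.leaf cE18590) (BT.leaf cE18591)) (BT.leaf cE18592)) (BT.node 18593 (BT.leaf cE18593) (BT.leaf cE18594)))) (BT.node 18599 (BT.node 18597 (BT.node 18596 (BT.node 18595 (BT.leaf cE18595) (BT.leaf cE18596)) (BT.leaf cE18597)) (BT.node 18598 (BT.leaf cE18598) (BT.leaf cE18599))) (BT.node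 18602 (BT.node 18601 (BT.node 18600 (BT.leaf cE18600) (BT.leaf cE18601)) (BT.leaf cE18602)) (BT.node 18603 (BT.leaf cE18603) (BT.leaf cE18604))))) (BT.node 18614 (BT.node 18609 (BT.node 18607 (BT.node 18606 (BT.node 18605 (BT.leaf cE18605) (BT.leaf cE18606)) (BT.leaf cE18607)) (BT.node 18608 (BT.leaf cE18608) (BT.leaf cE18609))) (BT.node 18612 (BT.node 18611 (BT.node 18610 (BT.leaf cE18610) (BT.leaf cE18611)) (BT.leaf cE18612)) (BT.node 18613 (BT.leaf cE18613) (BT.leaf cE18614)))) (BT.node 18619 (BT.node 18617 (BT.node 18616 (BT.node 18615 (BT.leaf cE18615) (BT.leaf cE18616)) (BT.leaf cE18617)) (BT.node 18618 (BT.leaf cE18618) (BT.leaf cE18619))) (BT.node 18622 (BT.node 18621 (BT.node 18620 (BT.leaf cE18620) (BT.leaf cE18621)) (BT.leaf cE18622)) (BT.node 18623 (BT.leaf cE18623) (BT.leaf cE18624)))))) (BT.node 18644 (BT.node 18634 (BT.node 18629 (BT.node 18627 (BT.node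 18626 (BT.node 18625 (BT.leaf cE18625) (BT.leaf cE18626)) (BT.leaf cE18627)) (BT.node 18628 (BT.leaf cE18628) (BT.leaf cE18629))) (BT.node 18632 (BT.node 18631 (BT.node 18630 (BT.leaf cE18630) (BT.leaf cE18631)) (BT.leaf cE18632)) (BT.node 18633 (BT.leaf cE18633) (BT.leaf cE18634)))) (BT.node 18639 (BT.node 18637 (BT.node 18636 (BT.node 18635 (BT.leaf cE18635) (BT.leaf cE18636)) (BT.leaf cE18637)) (BT.node 18638 (BT.leaf cE18638) (BT.leaf cE18639))) (BT.node 18642 (BT.node 18641 (BT.node 18640 (BT.leaf cE18640) (BT.leaf cE18641)) (BT.leaf cE18642)) (BT.node 18643 (BT.leaf cE18643) (BT.leaf cE18644))))) (BT.node 18654 (BT.node 18649 (BT.node 18647 (BT.node 18646 (BT.node 18645 (BT.leaf cE18645) (BT.leaf cE18646)) (BT.leaf cE18647)) (BT.node 18648 (BT.leaf cE18648) (BT.leaf cE18649))) (BT.node 18652 (BT.node 18651 (BT.node 18650 (BT.leaf cE18650) (BT.leaf cE18651)) (BT.leaf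 cE18652)) (BT.node 18653 (BT.leaf cE18653) (BT.leaf cE18654)))) (BT.node 18659 (BT.node 18657 (BT.node 18656 (BT.node 18655 (BT.leaf cE18655) (BT.leaf cE18656)) (BT.leaf cE18657)) (BT.node 18658 (BT.leaf cE18658) (BT.leaf cE18659))) (BT.node 18662 (BT.node 18661 (BT.node 18660 (BT.leaf cE18660) (BT.leaf cE18661)) (BT.leaf cE18662)) (BT.node 18663 (BT.leaf cE18663) (BT.leaf cE18664))))))) (BT.node 18704 (BT.node 18684 (BT.node 18674 (BT.node 18669 (BT.node 18667 (BT.node 18666 (BT.node 18665 (BT.leaf cE18665) (BT.leaf cE18666)) (BT.leaf cE18667)) (BT.node 18668 (BT.leaf cE18668) (BT.leaf cE18669))) (BT.node 18672 (BT.node 18671 (BT.node 18670 (BT.leaf cE18670) (BT.leaf cE18671)) (BT.leaf cE18672)) (BT.node 18673 (BT.leaf cE18673) (BT.leaf cE18674)))) (BT.node 18679 (BT.node 18677 (BT.node 18676 (BT.node 18675 (BT.leaf cE18675) (BT.leaf cE18676)) (BT.leaf cE18677)) (BT.node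 18678 (BT.leaf cE18678) (BT.leaf cE18679))) (BT.node 18682 (BT.node 18681 (BT.node 18680 (BT.leaf cE18680) (BT.leaf cE18681)) (BT.leaf cE18682)) (BT.node 18683 (BT.leaf cE18683) (BT.leaf cE18684))))) (BT.node 18694 (BT.node 18689 (BT.node 18687 (BT.node 18686 (BT.node 18685 (BT.leaf cE18685) (BT.leaf cE18686)) (BT.leaf cE18687)) (BT.node 18688 (BT.leaf cE18688) (BT.leaf cE18689))) (BT.node 18692 (BT.node 18691 (BT.node 18690 (BT.leaf cE18690) (BT.leaf cE18691)) (BT.leaf cE18692)) (BT.node 18693 (BT.leaf cE18693) (BT.leaf cE18694)))) (BT.node 18699 (BT.node 18697 (BT.node 18696 (BT.node 18695 (BT.leaf cE18695) (BT.leaf cE18696)) (BT.leaf cE18697)) (BT.node 18698 (BT.leaf cE18698) (BT.leaf cE18699))) (BT.node 18702 (BT.node 18701 (BT.node 18700 (BT.leaf cE18700) (BT.leaf cE18701)) (BT.leaf cE18702)) (BT.node 18703 (BT.leaf cE18703) (BT.leaf cE18704)))))) (BT.node 18724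 (BT.node 18714 (BT.node 18709 (BT.node 18707 (BT.node 18706 (BT.node 18705 (BT.leaf cE18705) (BT.leaf cE18706)) (BT.leaf cE18707)) (BT.node 18708 (BT.leaf cE18708) (BT.leaf cE18709))) (BT.node 18712 (BT.node 18711 (BT.node 18710 (BT.leaf cE18710) (BT.leaf cE18711)) (BT.leaf cE18712)) (BT.node 18713 (BT.leaf cE18713) (BT.leaf cE18714)))) (BT.node 18719 (BT.node 18717 (BT.node 18716 (BT.node 18715 (BT.leaf cE18715) (BT.leaf cE18716)) (BT.leaf cE18717)) (BT.node 18718 (BT.leaf cE18718) (BT.leaf cE18719))) (BT.node 18722 (BT.node 18721 (BT.node 18720 (BT.leaf cE18720) (BT.leaf cE18721)) (BT.leaf cE18722)) (BT.node 18723 (BT.leaf cE18723) (BT.leaf cE18724))))) (BT.node 18734 (BT.node 18729 (BT.node 18727 (BT.node 18726 (BT.node 18725 (BT.leaf cE18725) (BT.leaf cE18726)) (BT.leaf cE18727)) (BT.node 18728 (BT.leaf cE18728) (BT.leaf cE18729))) (BT.node 18732 (BT.node 18731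 (BT.node 18730 (BT.leaf cE18730) (BT.leaf cE18731)) (BT.leaf cE18732)) (BT.node 18733 (BT.leaf cE18733) (BT.leaf cE18734)))) (BT.node 18739 (BT.node 18737 (BT.node 18736 (BT.node 18735 (BT.leaf cE18735) (BT.leaf cE18736)) (BT.leaf cE18737)) (BT.node 18738 (BT.leaf cE18738) (BT.leaf cE18739))) (BT.node 18742 (BT.node 18741 (BT.node 18740 (BT.leaf cE18740) (BT.leaf cE18741)) (BT.leaf cE18742)) (BT.node 18743 (BT.leaf cE18743) (BT.leaf cE18744))))))))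
noncomputable def colET_116 : BT ℕ := (BT.node 18825 (BT.node 18785 (BT.node 18765 (BT.node 18755 (BT.node 18750 (BT.node 18747 (BT.node 18746 (BT.node 18745 (BT.leaf cE18745) (BT.leaf cE18746)) (BT.leaf cE18747)) (BT.node 18749 (BT.node 18748 (BT.leaf cE18748) (BT.leaf cE18749)) (BT.leaf cE18750))) (BT.node 18753 (BT.node 18752 (BT.node 18751 (BT.leaf cE18751) (BT.leaf cE18752)) (BT.leaf cE18753)) (BT.node 18754 (BT.leaf cE18754) (BT.leaf cE18755)))) (BT.node 18760 (BT.node 18758 (BT.node 18757 (BT.node 18756 (BT.leaf cE18756) (BT.leaf cE18757)) (BT.leaf cE18758)) (BT.node 18759 (BT.leaf cE18759) (BT.leaf cE18760))) (BT.node 18763 (BT.node 18762 (BT.node 18761 (BT.leaf cE18761) (BT.leaf cE18762)) (BT.leaf cE18763)) (BT.node 18764 (BT.leaf cE18764) (BT.leaf cE18765))))) (BT.node 18775 (BT.node 18770 (BT.node 18768 (BT.node 18767 (BT.node 18766 (BT.leaf cE18766) (BT.leaf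 cE18767)) (BT.leaf cE18768)) (BT.node 18769 (BT.leaf cE18769) (BT.leaf cE18770))) (BT.node 18773 (BT.node 18772 (BT.node 18771 (BT.leaf cE18771) (BT.leaf cE18772)) (BT.leaf cE18773)) (BT.node 18774 (BT.leaf cE18774) (BT.leaf cE18775)))) (BT.node 18780 (BT.node 18778 (BT.node 18777 (BT.node 18776 (BT.leaf cE18776) (BT.leaf cE18777)) (BT.leaf cE18778)) (BT.node 18779 (BT.leaf cE18779) (BT.leaf cE18780))) (BT.node 18783 (BT.node 18782 (BT.node 18781 (BT.leaf cE18781) (BT.leaf cE18782)) (BT.leaf cE18783)) (BT.node 18784 (BT.leaf cE18784) (BT.leaf cE18785)))))) (BT.node 18805 (BT.node 18795 (BT.node 18790 (BT.node 18788 (BT.node 18787 (BT.node 18786 (BT.leaf cE18786) (BT.leaf cE18787)) (BT.leaf cE18788)) (BT.node 18789 (BT.leaf cE18789) (BT.leaf cE18790))) (BT.node 18793 (BT.node 18792 (BT.node 18791 (BT.leaf cE18791) (BT.leaf cE18792)) (BT.leaf cE18793)) (BT.node 18794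 (BT.leaf cE18794) (BT.leaf cE18795)))) (BT.node 18800 (BT.node 18798 (BT.node 18797 (BT.node 18796 (BT.leaf cE18796) (BT.leaf cE18797)) (BT.leaf cE18798)) (BT.node 18799 (BT.leaf cE18799) (BT.leaf cE18800))) (BT.node 18803 (BT.node 18802 (BT.node 18801 (BT.leaf cE18801) (BT.leaf cE18802)) (BT.leaf cE18803)) (BT.node 18804 (BT.leaf cE18804) (BT.leaf cE18805))))) (BT.node 18815 (BT.node 18810 (BT.node 18808 (BT.node 18807 (BT.node 18806 (BT.leaf cE18806) (BT.leaf cE18807)) (BT.leaf cE18808)) (BT.node 18809 (BT.leaf cE18809) (BT.leaf cE18810))) (BT.node 18813 (BT.node 18812 (BT.node 18811 (BT.leaf cE18811) (BT.leaf cE18812)) (BT.leaf cE18813)) (BT.node 18814 (BT.leaf cE18814) (BT.leaf cE18815)))) (BT.node 18820 (BT.node 18818 (BT.node 18817 (BT.node 18816 (BT.leaf cE18816) (BT.leaf cE18817)) (BT.leaf cE18818)) (BT.node 18819 (BT.leaf cE18819) (BT.leaf cE18820))) (BT.node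 18823 (BT.node 18822 (BT.node 18821 (BT.leaf cE18821) (BT.leaf cE18822)) (BT.leaf cE18823)) (BT.node 18824 (BT.leaf cE18824) (BT.leaf cE18825))))))) (BT.node 18866 (BT.node 18846 (BT.node 18836 (BT.node 18831 (BT.node 18828 (BT.node 18827 (BT.node 18826 (BT.leaf cE18826) (BT.leaf cE18827)) (BT.leaf cE18828)) (BT.node 18830 (BT.node 18829 (BT.leaf cE18829) (BT.leaf cE18830)) (BT.leaf cE18831))) (BT.node 18834 (BT.node 18833 (BT.node 18832 (BT.leaf cE18832) (BT.leaf cE18833)) (BT.leaf cE18834)) (BT.node 18835 (BT.leaf cE18835) (BT.leaf cE18836)))) (BT.node 18841 (BT.node 18839 (BT.node 18838 (BT.node 18837 (BT.leaf cE18837) (BT.leaf cE18838)) (BT.leaf cE18839)) (BT.node 18840 (BT.leaf cE18840) (BT.leaf cE18841))) (BT.node 18844 (BT.node 18843 (BT.node 18842 (BT.leaf cE18842) (BT.leaf cE18843)) (BT.leaf cE18844)) (BT.node 18845 (BT.leaf cE18845) (BT.leaf cE18846)))))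 (BT.node 18856 (BT.node 18851 (BT.node 18849 (BT.node 18848 (BT.node 18847 (BT.leaf cE18847) (BT.leaf cE18848)) (BT.leaf cE18849)) (BT.node 18850 (BT.leaf cE18850) (BT.leaf cE18851))) (BT.node 18854 (BT.node 18853 (BT.node 18852 (BT.leaf cE18852) (BT.leaf cE18853)) (BT.leaf cE18854)) (BT.node 18855 (BT.leaf cE18855) (BT.leaf cE18856)))) (BT.node 18861 (BT.node 18859 (BT.node 18858 (BT.node 18857 (BT.leaf cE18857) (BT.leaf cE18858)) (BT.leaf cE18859)) (BT.node 18860 (BT.leaf cE18860) (BT.leaf cE18861))) (BT.node 18864 (BT.node 18863 (BT.node 18862 (BT.leaf cE18862) (BT.leaf cE18863)) (BT.leaf cE18864)) (BT.node 18865 (BT.leaf cE18865) (BT.leaf cE18866)))))) (BT.node 18886 (BT.node 18876 (BT.node 18871 (BT.node 18869 (BT.node 18868 (BT.node 18867 (BT.leaf cE18867) (BT.leaf cE18868)) (BT.leaf cE18869)) (BT.node 18870 (BT.leaf cE18870) (BT.leaf cE18871))) (BT.node 18874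 (BT.node 18873 (BT.node 18872 (BT.leaf cE18872) (BT.leaf cE18873)) (BT.leaf cE18874)) (BT.node 18875 (BT.leaf cE18875) (BT.leaf cE18876)))) (BT.node 18881 (BT.node 18879 (BT.node 18878 (BT.node 18877 (BT.leaf cE18877) (BT.leaf cE18878)) (BT.leaf cE18879)) (BT.node 18880 (BT.leaf cE18880) (BT.leaf cE18881))) (BT.node 18884 (BT.node 18883 (BT.node 18882 (BT.leaf cE18882) (BT.leaf cE18883)) (BT.leaf cE18884)) (BT.node 18885 (BT.leaf cE18885) (BT.leaf cE18886))))) (BT.node 18896 (BT.node 18891 (BT.node 18889 (BT.node 18888 (BT.node 18887 (BT.leaf cE18887) (BT.leaf cE18888)) (BT.leaf cE18889)) (BT.node 18890 (BT.leaf cE18890) (BT.leaf cE18891))) (BT.node 18894 (BT.node 18893 (BT.node 18892 (BT.leaf cE18892) (BT.leaf cE18893)) (BT.leaf cE18894)) (BT.node 18895 (BT.leaf cE18895) (BT.leaf cE18896)))) (BT.node 18901 (BT.node 18899 (BT.node 18898 (BT.node 18897 (BT.leaf cE18897)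 (BT.leaf cE18898)) (BT.leaf cE18899)) (BT.node 18900 (BT.leaf cE18900) (BT.leaf cE18901))) (BT.node 18904 (BT.node 18903 (BT.node 18902 (BT.leaf cE18902) (BT.leaf cE18903)) (BT.leaf cE18904)) (BT.node 18905 (BT.leaf cE18905) (BT.leaf cE18906))))))))
noncomputable def colET_117 : BT ℕ := (BT.node 18987 (BT.node 18947 (BT.node 18927 (BT.node 18917 (BT.node 18912 (BT.node 18909 (BT.node 18908 (BT.node 18907 (BT.leaf cE18907) (BT.leaf cE18908)) (BT.leaf cE18909)) (BT.node 18911 (BT.node 18910 (BT.leaf cE18910) (BT.leaf cE18911)) (BT.leaf cE18912))) (BT.node 18915 (BT.node 18914 (BT.node 18913 (BT.leaf cE18913) (BT.leaf cE18914)) (BT.leaf cE18915)) (BT.node 18916 (BT.leaf cE18916) (BT.leaf cE18917)))) (BT.node 18922 (BT.node 18920 (BT.node 18919 (BT.node 18918 (BT.leaf cE18918) (BT.leaf cE18919)) (BT.leaf cE18920)) (BT.node 18921 (BT.leaf cE18921) (BT.leaf cE18922))) (BT.node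 18925 (BT.node 18924 (BT.node 18923 (BT.leaf cE18923) (BT.leaf cE18924)) (BT.leaf cE18925)) (BT.node 18926 (BT.leaf cE18926) (BT.leaf cE18927))))) (BT.node 18937 (BT.node 18932 (BT.node 18930 (BT.node 18929 (BT.node 18928 (BT.leaf cE18928) (BT.leaf cE18929)) (BT.leaf cE18930)) (BT.node 18931 (BT.leaf cE18931) (BT.leaf cE18932))) (BT.node 18935 (BT.node 18934 (BT.node 18933 (BT.leaf cE18933) (BT.leaf cE18934)) (BT.leaf cE18935)) (BT.node 18936 (BT.leaf cE18936) (BT.leaf cE18937)))) (BT.node 18942 (BT.node 18940 (BT.node 18939 (BT.node 18938 (BT.leaf cE18938) (BT.leaf cE18939)) (BT.leaf cE18940)) (BT.node 18941 (BT.leaf cE18941) (BT.leaf cE18942))) (BT.node 18945 (BT.node 18944 (BT.node 18943 (BT.leaf cE18943) (BT.leaf cE18944)) (BT.leaf cE18945)) (BT.node 18946 (BT.leaf cE18946) (BT.leaf cE18947)))))) (BT.node 18967 (BT.node 18957 (BT.node 18952 (BT.node 18950 (BT.node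 18949 (BT.node 18948 (BT.leaf cE18948) (BT.leaf cE18949)) (BT.leaf cE18950)) (BT.node 18951 (BT.leaf cE18951) (BT.leaf cE18952))) (BT.node 18955 (BT.node 18954 (BT.node 18953 (BT.leaf cE18953) (BT.leaf cE18954)) (BT.leaf cE18955)) (BT.node 18956 (BT.leaf cE18956) (BT.leaf cE18957)))) (BT.node 18962 (BT.node 18960 (BT.node 18959 (BT.node 18958 (BT.leaf cE18958) (BT.leaf cE18959)) (BT.leaf cE18960)) (BT.node 18961 (BT.leaf cE18961) (BT.leaf cE18962))) (BT.node 18965 (BT.node 18964 (BT.node 18963 (BT.leaf cE18963) (BT.leaf cE18964)) (BT.leaf cE18965)) (BT.node 18966 (BT.leaf cE18966) (BT.leaf cE18967))))) (BT.node 18977 (BT.node 18972 (BT.node 18970 (BT.node 18969 (BT.node 18968 (BT.leaf cE18968) (BT.leaf cE18969)) (BT.leaf cE18970)) (BT.node 18971 (BT.leaf cE18971) (BT.leaf cE18972))) (BT.node 18975 (BT.node 18974 (BT.node 18973 (BT.leaf cE18973) (BT.leaf cE18974)) (BT.leaf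 cE18975)) (BT.node 18976 (BT.leaf cE18976) (BT.leaf cE18977)))) (BT.node 18982 (BT.node 18980 (BT.node 18979 (BT.node 18978 (BT.leaf cE18978) (BT.leaf cE18979)) (BT.leaf cE18980)) (BT.node 18981 (BT.leaf cE18981) (BT.leaf cE18982))) (BT.node 18985 (BT.node 18984 (BT.node 18983 (BT.leaf cE18983) (BT.leaf cE18984)) (BT.leaf cE18985)) (BT.node 18986 (BT.leaf cE18986) (BT.leaf cE18987))))))) (BT.node 19027 (BT.node 19007 (BT.node 18997 (BT.node 18992 (BT.node 18990 (BT.node 18989 (BT.node 18988 (BT.leaf cE18988) (BT.leaf cE18989)) (BT.leaf cE18990)) (BT.node 18991 (BT.leaf cE18991) (BT.leaf cE18992))) (BT.node 18995 (BT.node 18994 (BT.node 18993 (BT.leaf cE18993) (BT.leaf cE18994)) (BT.leaf cE18995)) (BT.node 18996 (BT.leaf cE18996) (BT.leaf cE18997)))) (BT.node 19002 (BT.node 19000 (BT.node 18999 (BT.node 18998 (BT.leaf cE18998) (BT.leaf cE18999)) (BT.leaf cE19000)) (BT.node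 19001 (BT.leaf cE19001) (BT.leaf cE19002))) (BT.node 19005 (BT.node 19004 (BT.node 19003 (BT.leaf cE19003) (BT.leaf cE19004)) (BT.leaf cE19005)) (BT.node 19006 (BT.leaf cE19006) (BT.leaf cE19007))))) (BT.node 19017 (BT.node 19012 (BT.node 19010 (BT.node 19009 (BT.node 19008 (BT.leaf cE19008) (BT.leaf cE19009)) (BT.leaf cE19010)) (BT.node 19011 (BT.leaf cE19011) (BT.leaf cE19012))) (BT.node 19015 (BT.node 19014 (BT.node 19013 (BT.leaf cE19013) (BT.leaf cE19014)) (BT.leaf cE19015)) (BT.node 19016 (BT.leaf cE19016) (BT.leaf cE19017)))) (BT.node 19022 (BT.node 19020 (BT.node 19019 (BT.node 19018 (BT.leaf cE19018) (BT.leaf cE19019)) (BT.leaf cE19020)) (BT.node 19021 (BT.leaf cE19021) (BT.leaf cE19022))) (BT.node 19025 (BT.node 19024 (BT.node 19023 (BT.leaf cE19023) (BT.leaf cE19024)) (BT.leaf cE19025)) (BT.node 19026 (BT.leaf cE19026) (BT.leaf cE19027)))))) (BT.node 19047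 (BT.node 19037 (BT.node 19032 (BT.node 19030 (BT.node 19029 (BT.node 19028 (BT.leaf cE19028) (BT.leaf cE19029)) (BT.leaf cE19030)) (BT.node 19031 (BT.leaf cE19031) (BT.leaf cE19032))) (BT.node 19035 (BT.node 19034 (BT.node 19033 (BT.leaf cE19033) (BT.leaf cE19034)) (BT.leaf cE19035)) (BT.node 19036 (BT.leaf cE19036) (BT.leaf cE19037)))) (BT.node 19042 (BT.node 19040 (BT.node 19039 (BT.node 19038 (BT.leaf cE19038) (BT.leaf cE19039)) (BT.leaf cE19040)) (BT.node 19041 (BT.leaf cE19041) (BT.leaf cE19042))) (BT.node 19045 (BT.node 19044 (BT.node 19043 (BT.leaf cE19043) (BT.leaf cE19044)) (BT.leaf cE19045)) (BT.node 19046 (BT.leaf cE19046) (BT.leaf cE19047))))) (BT.node 19057 (BT.node 19052 (BT.node 19050 (BT.node 19049 (BT.node 19048 (BT.leaf cE19048) (BT.leaf cE19049)) (BT.leaf cE19050)) (BT.node 19051 (BT.leaf cE19051) (BT.leaf cE19052))) (BT.node 19055 (BT.node 19054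 (BT.node 19053 (BT.leaf cE19053) (BT.leaf cE19054)) (BT.leaf cE19055)) (BT.node 19056 (BT.leaf cE19056) (BT.leaf cE19057)))) (BT.node 19062 (BT.node 19060 (BT.node 19059 (BT.node 19058 (BT.leaf cE19058) (BT.leaf cE19059)) (BT.leaf cE19060)) (BT.node 19061 (BT.leaf cE19061) (BT.leaf cE19062))) (BT.node 19065 (BT.node 19064 (BT.node 19063 (BT.leaf cE19063) (BT.leaf cE19064)) (BT.leaf cE19065)) (BT.node 19066 (BT.leaf cE19066) (BT.leaf cE19067))))))))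
noncomputable def colET_118 : BT ℕ := (BT.node 19148 (BT.node 19108 (BT.node 19088 (BT.node 19078 (BT.node 19073 (BT.node 19070 (BT.node 19069 (BT.node 19068 (BT.leaf cE19068) (BT.leaf cE19069)) (BT.leaf cE19070)) (BT.node 19072 (BT.node 19071 (BT.leaf cE19071) (BT.leaf cE19072)) (BT.leaf cE19073))) (BT.node 19076 (BT.node 19075 (BT.node 19074 (BT.leaf cE19074) (BT.leaf cE19075)) (BT.leaf cE19076)) (BT.node 19077 (BT.leaf cE19077) (BT.leaf cE19078)))) (BT.node 19083 (BT.node 19081 (BT.node 19080 (BT.node 19079 (BT.leaf cE19079) (BT.leaf cE19080)) (BT.leaf cE19081)) (BT.node 19082 (BT.leaf cE19082) (BT.leaf cE19083))) (BT.node 19086 (BT.node 19085 (BT.node 19084 (BT.leaf cE19084) (BT.leaf cE19085)) (BT.leaf cE19086)) (BT.node 19087 (BT.leaf cE19087) (BT.leaf cE19088))))) (BT.node 19098 (BT.node 19093 (BT.node 19091 (BT.node 19090 (BT.node 19089 (BT.leaf cE19089) (BT.leaf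 cE19090)) (BT.leaf cE19091)) (BT.node 19092 (BT.leaf cE19092) (BT.leaf cE19093))) (BT.node 19096 (BT.node 19095 (BT.node 19094 (BT.leaf cE19094) (BT.leaf cE19095)) (BT.leaf cE19096)) (BT.node 19097 (BT.leaf cE19097) (BT.leaf cE19098)))) (BT.node 19103 (BT.node 19101 (BT.node 19100 (BT.node 19099 (BT.leaf cE19099) (BT.leaf cE19100)) (BT.leaf cE19101)) (BT.node 19102 (BT.leaf cE19102) (BT.leaf cE19103))) (BT.node 19106 (BT.node 19105 (BT.node 19104 (BT.leaf cE19104) (BT.leaf cE19105)) (BT.leaf cE19106)) (BT.node 19107 (BT.leaf cE19107) (BT.leaf cE19108)))))) (BT.node 19128 (BT.node 19118 (BT.node 19113 (BT.node 19111 (BT.node 19110 (BT.node 19109 (BT.leaf cE19109) (BT.leaf cE19110)) (BT.leaf cE19111)) (BT.node 19112 (BT.leaf cE19112) (BT.leaf cE19113))) (BT.node 19116 (BT.node 19115 (BT.node 19114 (BT.leaf cE19114) (BT.leaf cE19115)) (BT.leaf cE19116)) (BT.node 19117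 (BT.leaf cE19117) (BT.leaf cE19118)))) (BT.node 19123 (BT.node 19121 (BT.node 19120 (BT.node 19119 (BT.leaf cE19119) (BT.leaf cE19120)) (BT.leaf cE19121)) (BT.node 19122 (BT.leaf cE19122) (BT.leaf cE19123))) (BT.node 19126 (BT.node 19125 (BT.node 19124 (BT.leaf cE19124) (BT.leaf cE19125)) (BT.leaf cE19126)) (BT.node 19127 (BT.leaf cE19127) (BT.leaf cE19128))))) (BT.node 19138 (BT.node 19133 (BT.node 19131 (BT.node 19130 (BT.node 19129 (BT.leaf cE19129) (BT.leaf cE19130)) (BT.leaf cE19131)) (BT.node 19132 (BT.leaf cE19132) (BT.leaf cE19133))) (BT.node 19136 (BT.node 19135 (BT.node 19134 (BT.leaf cE19134) (BT.leaf cE19135)) (BT.leaf cE19136)) (BT.node 19137 (BT.leaf cE19137) (BT.leaf cE19138)))) (BT.node 19143 (BT.node 19141 (BT.node 19140 (BT.node 19139 (BT.leaf cE19139) (BT.leaf cE19140)) (BT.leaf cE19141)) (BT.node 19142 (BT.leaf cE19142) (BT.leaf cE19143))) (BT.node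 19146 (BT.node 19145 (BT.node 19144 (BT.leaf cE19144) (BT.leaf cE19145)) (BT.leaf cE19146)) (BT.node 19147 (BT.leaf cE19147) (BT.leaf cE19148))))))) (BT.node 19189 (BT.node 19169 (BT.node 19159 (BT.node 19154 (BT.node 19151 (BT.node 19150 (BT.node 19149 (BT.leaf cE19149) (BT.leaf cE19150)) (BT.leaf cE19151)) (BT.node 19153 (BT.node 19152 (BT.leaf cE19152) (BT.leaf cE19153)) (BT.leaf cE19154))) (BT.node 19157 (BT.node 19156 (BT.node 19155 (BT.leaf cE19155) (BT.leaf cE19156)) (BT.leaf cE19157)) (BT.node 19158 (BT.leaf cE19158) (BT.leaf cE19159)))) (BT.node 19164 (BT.node 19162 (BT.node 19161 (BT.node 19160 (BT.leaf cE19160) (BT.leaf cE19161)) (BT.leaf cE19162)) (BT.node 19163 (BT.leaf cE19163) (BT.leaf cE19164))) (BT.node 19167 (BT.node 19166 (BT.node 19165 (BT.leaf cE19165) (BT.leaf cE19166)) (BT.leaf cE19167)) (BT.node 19168 (BT.leaf cE19168) (BT.leaf cE19169)))))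 (BT.node 19179 (BT.node 19174 (BT.node 19172 (BT.node 19171 (BT.node 19170 (BT.leaf cE19170) (BT.leaf cE19171)) (BT.leaf cE19172)) (BT.node 19173 (BT.leaf cE19173) (BT.leaf cE19174))) (BT.node 19177 (BT.node 19176 (BT.node 19175 (BT.leaf cE19175) (BT.leaf cE19176)) (BT.leaf cE19177)) (BT.node 19178 (BT.leaf cE19178) (BT.leaf cE19179)))) (BT.node 19184 (BT.node 19182 (BT.node 19181 (BT.node 19180 (BT.leaf cE19180) (BT.leaf cE19181)) (BT.leaf cE19182)) (BT.node 19183 (BT.leaf cE19183) (BT.leaf cE19184))) (BT.node 19187 (BT.node 19186 (BT.node 19185 (BT.leaf cE19185) (BT.leaf cE19186)) (BT.leaf cE19187)) (BT.node 19188 (BT.leaf cE19188) (BT.leaf cE19189)))))) (BT.node 19209 (BT.node 19199 (BT.node 19194 (BT.node 19192 (BT.node 19191 (BT.node 19190 (BT.leaf cE19190) (BT.leaf cE19191)) (BT.leaf cE19192)) (BT.node 19193 (BT.leaf cE19193) (BT.leaf cE19194))) (BT.node 19197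 (BT.node 19196 (BT.node 19195 (BT.leaf cE19195) (BT.leaf cE19196)) (BT.leaf cE19197)) (BT.node 19198 (BT.leaf cE19198) (BT.leaf cE19199)))) (BT.node 19204 (BT.node 19202 (BT.node 19201 (BT.node 19200 (BT.leaf cE19200) (BT.leaf cE19201)) (BT.leaf cE19202)) (BT.node 19203 (BT.leaf cE19203) (BT.leaf cE19204))) (BT.node 19207 (BT.node 19206 (BT.node 19205 (BT.leaf cE19205) (BT.leaf cE19206)) (BT.leaf cE19207)) (BT.node 19208 (BT.leaf cE19208) (BT.leaf cE19209))))) (BT.node 19219 (BT.node 19214 (BT.node 19212 (BT.node 19211 (BT.node 19210 (BT.leaf cE19210) (BT.leaf cE19211)) (BT.leaf cE19212)) (BT.node 19213 (BT.leaf cE19213) (BT.leaf cE19214))) (BT.node 19217 (BT.node 19216 (BT.node 19215 (BT.leaf cE19215) (BT.leaf cE19216)) (BT.leaf cE19217)) (BT.node 19218 (BT.leaf cE19218) (BT.leaf cE19219)))) (BT.node 19224 (BT.node 19222 (BT.node 19221 (BT.node 19220 (BT.leaf cE19220)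 (BT.leaf cE19221)) (BT.leaf cE19222)) (BT.node 19223 (BT.leaf cE19223) (BT.leaf cE19224))) (BT.node 19227 (BT.node 19226 (BT.node 19225 (BT.leaf cE19225) (BT.leaf cE19226)) (BT.leaf cE19227)) (BT.node 19228 (BT.leaf cE19228) (BT.leaf cE19229))))))))
noncomputable def colET_119 : BT ℕ := (BT.node 19310 (BT.node 19270 (BT.node 19250 (BT.node 19240 (BT.node 19235 (BT.node 19232 (BT.node 19231 (BT.node 19230 (BT.leaf cE19230) (BT.leaf cE19231)) (BT.leaf cE19232)) (BT.node 19234 (BT.node 19233 (BT.leaf cE19233) (BT.leaf cE19234)) (BT.leaf cE19235))) (BT.node 19238 (BT.node 19237 (BT.node 19236 (BT.leaf cE19236) (BT.leaf cE19237)) (BT.leaf cE19238)) (BT.node 19239 (BT.leaf cE19239) (BT.leaf cE19240)))) (BT.node 19245 (BT.node 19243 (BT.node 19242 (BT.node 19241 (BT.leaf cE19241) (BT.leaf cE19242)) (BT.leaf cE19243)) (BT.node 19244 (BT.leaf cE19244) (BT.leaf cE19245))) (BT.node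 19248 (BT.node 19247 (BT.node 19246 (BT.leaf cE19246) (BT.leaf cE19247)) (BT.leaf cE19248)) (BT.node 19249 (BT.leaf cE19249) (BT.leaf cE19250))))) (BT.node 19260 (BT.node 19255 (BT.node 19253 (BT.node 19252 (BT.node 19251 (BT.leaf cE19251) (BT.leaf cE19252)) (BT.leaf cE19253)) (BT.node 19254 (BT.leaf cE19254) (BT.leaf cE19255))) (BT.node 19258 (BT.node 19257 (BT.node 19256 (BT.leaf cE19256) (BT.leaf cE19257)) (BT.leaf cE19258)) (BT.node 19259 (BT.leaf cE19259) (BT.leaf cE19260)))) (BT.node 19265 (BT.node 19263 (BT.node 19262 (BT.node 19261 (BT.leaf cE19261) (BT.leaf cE19262)) (BT.leaf cE19263)) (BT.node 19264 (BT.leaf cE19264) (BT.leaf cE19265))) (BT.node 19268 (BT.node 19267 (BT.node 19266 (BT.leaf cE19266) (BT.leaf cE19267)) (BT.leaf cE19268)) (BT.node 19269 (BT.leaf cE19269) (BT.leaf cE19270)))))) (BT.node 19290 (BT.node 19280 (BT.node 19275 (BT.node 19273 (BT.node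 19272 (BT.node 19271 (BT.leaf cE19271) (BT.leaf cE19272)) (BT.leaf cE19273)) (BT.node 19274 (BT.leaf cE19274) (BT.leaf cE19275))) (BT.node 19278 (BT.node 19277 (BT.node 19276 (BT.leaf cE19276) (BT.leaf cE19277)) (BT.leaf cE19278)) (BT.node 19279 (BT.leaf cE19279) (BT.leaf cE19280)))) (BT.node 19285 (BT.node 19283 (BT.node 19282 (BT.node 19281 (BT.leaf cE19281) (BT.leaf cE19282)) (BT.leaf cE19283)) (BT.node 19284 (BT.leaf cE19284) (BT.leaf cE19285))) (BT.node 19288 (BT.node 19287 (BT.node 19286 (BT.leaf cE19286) (BT.leaf cE19287)) (BT.leaf cE19288)) (BT.node 19289 (BT.leaf cE19289) (BT.leaf cE19290))))) (BT.node 19300 (BT.node 19295 (BT.node 19293 (BT.node 19292 (BT.node 19291 (BT.leaf cE19291) (BT.leaf cE19292)) (BT.leaf cE19293)) (BT.node 19294 (BT.leaf cE19294) (BT.leaf cE19295))) (BT.node 19298 (BT.node 19297 (BT.node 19296 (BT.leaf cE19296) (BT.leaf cE19297)) (BT.leaf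 cE19298)) (BT.node 19299 (BT.leaf cE19299) (BT.leaf cE19300)))) (BT.node 19305 (BT.node 19303 (BT.node 19302 (BT.node 19301 (BT.leaf cE19301) (BT.leaf cE19302)) (BT.leaf cE19303)) (BT.node 19304 (BT.leaf cE19304) (BT.leaf cE19305))) (BT.node 19308 (BT.node 19307 (BT.node 19306 (BT.leaf cE19306) (BT.leaf cE19307)) (BT.leaf cE19308)) (BT.node 19309 (BT.leaf cE19309) (BT.leaf cE19310))))))) (BT.node 19350 (BT.node 19330 (BT.node 19320 (BT.node 19315 (BT.node 19313 (BT.node 19312 (BT.node 19311 (BT.leaf cE19311) (BT.leaf cE19312)) (BT.leaf cE19313)) (BT.node 19314 (BT.leaf cE19314) (BT.leaf cE19315))) (BT.node 19318 (BT.node 19317 (BT.node 19316 (BT.leaf cE19316) (BT.leaf cE19317)) (BT.leaf cE19318)) (BT.node 19319 (BT.leaf cE19319) (BT.leaf cE19320)))) (BT.node 19325 (BT.node 19323 (BT.node 19322 (BT.node 19321 (BT.leaf cE19321) (BT.leaf cE19322)) (BT.leaf cE19323)) (BT.node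 19324 (BT.leaf cE19324) (BT.leaf cE19325))) (BT.node 19328 (BT.node 19327 (BT.node 19326 (BT.leaf cE19326) (BT.leaf cE19327)) (BT.leaf cE19328)) (BT.node 19329 (BT.leaf cE19329) (BT.leaf cE19330))))) (BT.node 19340 (BT.node 19335 (BT.node 19333 (BT.node 19332 (BT.node 19331 (BT.leaf cE19331) (BT.leaf cE19332)) (BT.leaf cE19333)) (BT.node 19334 (BT.leaf cE19334) (BT.leaf cE19335))) (BT.node 19338 (BT.node 19337 (BT.node 19336 (BT.leaf cE19336) (BT.leaf cE19337)) (BT.leaf cE19338)) (BT.node 19339 (BT.leaf cE19339) (BT.leaf cE19340)))) (BT.node 19345 (BT.node 19343 (BT.node 19342 (BT.node 19341 (BT.leaf cE19341) (BT.leaf cE19342)) (BT.leaf cE19343)) (BT.node 19344 (BT.leaf cE19344) (BT.leaf cE19345))) (BT.node 19348 (BT.node 19347 (BT.node 19346 (BT.leaf cE19346) (BT.leaf cE19347)) (BT.leaf cE19348)) (BT.node 19349 (BT.leaf cE19349) (BT.leaf cE19350)))))) (BT.node 19370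 (BT.node 19360 (BT.node 19355 (BT.node 19353 (BT.node 19352 (BT.node 19351 (BT.leaf cE19351) (BT.leaf cE19352)) (BT.leaf cE19353)) (BT.node 19354 (BT.leaf cE19354) (BT.leaf cE19355))) (BT.node 19358 (BT.node 19357 (BT.node 19356 (BT.leaf cE19356) (BT.leaf cE19357)) (BT.leaf cE19358)) (BT.node 19359 (BT.leaf cE19359) (BT.leaf cE19360)))) (BT.node 19365 (BT.node 19363 (BT.node 19362 (BT.node 19361 (BT.leaf cE19361) (BT.leaf cE19362)) (BT.leaf cE19363)) (BT.node 19364 (BT.leaf cE19364) (BT.leaf cE19365))) (BT.node 19368 (BT.node 19367 (BT.node 19366 (BT.leaf cE19366) (BT.leaf cE19367)) (BT.leaf cE19368)) (BT.node 19369 (BT.leaf cE19369) (BT.leaf cE19370))))) (BT.node 19380 (BT.node 19375 (BT.node 19373 (BT.node 19372 (BT.node 19371 (BT.leaf cE19371) (BT.leaf cE19372)) (BT.leaf cE19373)) (BT.node 19374 (BT.leaf cE19374) (BT.leaf cE19375))) (BT.node 19378 (BT.node 19377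 (BT.node 19376 (BT.leaf cE19376) (BT.leaf cE19377)) (BT.leaf cE19378)) (BT.node 19379 (BT.leaf cE19379) (BT.leaf cE19380)))) (BT.node 19385 (BT.node 19383 (BT.node 19382 (BT.node 19381 (BT.leaf cE19381) (BT.leaf cE19382)) (BT.leaf cE19383)) (BT.node 19384 (BT.leaf cE19384) (BT.leaf cE19385))) (BT.node 19388 (BT.node 19387 (BT.node 19386 (BT.leaf cE19386) (BT.leaf cE19387)) (BT.leaf cE19388)) (BT.node 19389 (BT.leaf cE19389) (BT.leaf cE19390))))))))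
noncomputable def colET_120 : BT ℕ := (BT.node 19471 (BT.node 19431 (BT.node 19411 (BT.node 19401 (BT.node 19396 (BT.node 19393 (BT.node 19392 (BT.node 19391 (BT.leaf cE19391) (BT.leaf cE19392)) (BT.leaf cE19393)) (BT.node 19395 (BT.node 19394 (BT.leaf cE19394) (BT.leaf cE19395)) (BT.leaf cE19396))) (BT.node 19399 (BT.node 19398 (BT.node 19397 (BT.leaf cE19397) (BT.leaf cE19398)) (BT.leaf cE19399)) (BT.node 19400 (BT.leaf cE19400) (BT.leaf cE19401)))) (BT.node 19406 (BT.node 19404 (BT.node 19403 (BT.node 19402 (BT.leaf cE19402) (BT.leaf cE19403)) (BT.leaf cE19404)) (BT.node 19405 (BT.leaf cE19405) (BT.leaf cE19406))) (BT.node 19409 (BT.node 19408 (BT.node 19407 (BT.leaf cE19407) (BT.leaf cE19408)) (BT.leaf cE19409)) (BT.node 19410 (BT.leaf cE19410) (BT.leaf cE19411))))) (BT.node 19421 (BT.node 19416 (BT.node 19414 (BT.node 19413 (BT.node 19412 (BT.leaf cE19412) (BT.leaf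 cE19413)) (BT.leaf cE19414)) (BT.node 19415 (BT.leaf cE19415) (BT.leaf cE19416))) (BT.node 19419 (BT.node 19418 (BT.node 19417 (BT.leaf cE19417) (BT.leaf cE19418)) (BT.leaf cE19419)) (BT.node 19420 (BT.leaf cE19420) (BT.leaf cE19421)))) (BT.node 19426 (BT.node 19424 (BT.node 19423 (BT.node 19422 (BT.leaf cE19422) (BT.leaf cE19423)) (BT.leaf cE19424)) (BT.node 19425 (BT.leaf cE19425) (BT.leaf cE19426))) (BT.node 19429 (BT.node 19428 (BT.node 19427 (BT.leaf cE19427) (BT.leaf cE19428)) (BT.leaf cE19429)) (BT.node 19430 (BT.leaf cE19430) (BT.leaf cE19431)))))) (BT.node 19451 (BT.node 19441 (BT.node 19436 (BT.node 19434 (BT.node 19433 (BT.node 19432 (BT.leaf cE19432) (BT.leaf cE19433)) (BT.leaf cE19434)) (BT.node 19435 (BT.leaf cE19435) (BT.leaf cE19436))) (BT.node 19439 (BT.node 19438 (BT.node 19437 (BT.leaf cE19437) (BT.leaf cE19438)) (BT.leaf cE19439)) (BT.node 19440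 (BT.leaf cE19440) (BT.leaf cE19441)))) (BT.node 19446 (BT.node 19444 (BT.node 19443 (BT.node 19442 (BT.leaf cE19442) (BT.leaf cE19443)) (BT.leaf cE19444)) (BT.node 19445 (BT.leaf cE19445) (BT.leaf cE19446))) (BT.node 19449 (BT.node 19448 (BT.node 19447 (BT.leaf cE19447) (BT.leaf cE19448)) (BT.leaf cE19449)) (BT.node 19450 (BT.leaf cE19450) (BT.leaf cE19451))))) (BT.node 19461 (BT.node 19456 (BT.node 19454 (BT.node 19453 (BT.node 19452 (BT.leaf cE19452) (BT.leaf cE19453)) (BT.leaf cE19454)) (BT.node 19455 (BT.leaf cE19455) (BT.leaf cE19456))) (BT.node 19459 (BT.node 19458 (BT.node 19457 (BT.leaf cE19457) (BT.leaf cE19458)) (BT.leaf cE19459)) (BT.node 19460 (BT.leaf cE19460) (BT.leaf cE19461)))) (BT.node 19466 (BT.node 19464 (BT.node 19463 (BT.node 19462 (BT.leaf cE19462) (BT.leaf cE19463)) (BT.leaf cE19464)) (BT.node 19465 (BT.leaf cE19465) (BT.leaf cE19466))) (BT.node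 19469 (BT.node 19468 (BT.node 19467 (BT.leaf cE19467) (BT.leaf cE19468)) (BT.leaf cE19469)) (BT.node 19470 (BT.leaf cE19470) (BT.leaf cE19471))))))) (BT.node 19512 (BT.node 19492 (BT.node 19482 (BT.node 19477 (BT.node 19474 (BT.node 19473 (BT.node 19472 (BT.leaf cE19472) (BT.leaf cE19473)) (BT.leaf cE19474)) (BT.node 19476 (BT.node 19475 (BT.leaf cE19475) (BT.leaf cE19476)) (BT.leaf cE19477))) (BT.node 19480 (BT.node 19479 (BT.node 19478 (BT.leaf cE19478) (BT.leaf cE19479)) (BT.leaf cE19480)) (BT.node 19481 (BT.leaf cE19481) (BT.leaf cE19482)))) (BT.node 19487 (BT.node 19485 (BT.node 19484 (BT.node 19483 (BT.leaf cE19483) (BT.leaf cE19484)) (BT.leaf cE19485)) (BT.node 19486 (BT.leaf cE19486) (BT.leaf cE19487))) (BT.node 19490 (BT.node 19489 (BT.node 19488 (BT.leaf cE19488) (BT.leaf cE19489)) (BT.leaf cE19490)) (BT.node 19491 (BT.leaf cE19491) (BT.leaf cE19492)))))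 (BT.node 19502 (BT.node 19497 (BT.node 19495 (BT.node 19494 (BT.node 19493 (BT.leaf cE19493) (BT.leaf cE19494)) (BT.leaf cE19495)) (BT.node 19496 (BT.leaf cE19496) (BT.leaf cE19497))) (BT.node 19500 (BT.node 19499 (BT.node 19498 (BT.leaf cE19498) (BT.leaf cE19499)) (BT.leaf cE19500)) (BT.node 19501 (BT.leaf cE19501) (BT.leaf cE19502)))) (BT.node 19507 (BT.node 19505 (BT.node 19504 (BT.node 19503 (BT.leaf cE19503) (BT.leaf cE19504)) (BT.leaf cE19505)) (BT.node 19506 (BT.leaf cE19506) (BT.leaf cE19507))) (BT.node 19510 (BT.node 19509 (BT.node 19508 (BT.leaf cE19508) (BT.leaf cE19509)) (BT.leaf cE19510)) (BT.node 19511 (BT.leaf cE19511) (BT.leaf cE19512)))))) (BT.node 19532 (BT.node 19522 (BT.node 19517 (BT.node 19515 (BT.node 19514 (BT.node 19513 (BT.leaf cE19513) (BT.leaf cE19514)) (BT.leaf cE19515)) (BT.node 19516 (BT.leaf cE19516) (BT.leaf cE19517))) (BT.node 19520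 (BT.node 19519 (BT.node 19518 (BT.leaf cE19518) (BT.leaf cE19519)) (BT.leaf cE19520)) (BT.node 19521 (BT.leaf cE19521) (BT.leaf cE19522)))) (BT.node 19527 (BT.node 19525 (BT.node 19524 (BT.node 19523 (BT.leaf cE19523) (BT.leaf cE19524)) (BT.leaf cE19525)) (BT.node 19526 (BT.leaf cE19526) (BT.leaf cE19527))) (BT.node 19530 (BT.node 19529 (BT.node 19528 (BT.leaf cE19528) (BT.leaf cE19529)) (BT.leaf cE19530)) (BT.node 19531 (BT.leaf cE19531) (BT.leaf cE19532))))) (BT.node 19542 (BT.node 19537 (BT.node 19535 (BT.node 19534 (BT.node 19533 (BT.leaf cE19533) (BT.leaf cE19534)) (BT.leaf cE19535)) (BT.node 19536 (BT.leaf cE19536) (BT.leaf cE19537))) (BT.node 19540 (BT.node 19539 (BT.node 19538 (BT.leaf cE19538) (BT.leaf cE19539)) (BT.leaf cE19540)) (BT.node 19541 (BT.leaf cE19541) (BT.leaf cE19542)))) (BT.node 19547 (BT.node 19545 (BT.node 19544 (BT.node 19543 (BT.leaf cE19543)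 (BT.leaf cE19544)) (BT.leaf cE19545)) (BT.node 19546 (BT.leaf cE19546) (BT.leaf cE19547))) (BT.node 19550 (BT.node 19549 (BT.node 19548 (BT.leaf cE19548) (BT.leaf cE19549)) (BT.leaf cE19550)) (BT.node 19551 (BT.leaf cE19551) (BT.leaf cE19552))))))))
noncomputable def colET_121 : BT ℕ := (BT.node 19633 (BT.node 19593 (BT.node 19573 (BT.node 19563 (BT.node 19558 (BT.node 19555 (BT.node 19554 (BT.node 19553 (BT.leaf cE19553) (BT.leaf cE19554)) (BT.leaf cE19555)) (BT.node 19557 (BT.node 19556 (BT.leaf cE19556) (BT.leaf cE19557)) (BT.leaf cE19558))) (BT.node 19561 (BT.node 19560 (BT.node 19559 (BT.leaf cE19559) (BT.leaf cE19560)) (BT.leaf cE19561)) (BT.node 19562 (BT.leaf cE19562) (BT.leaf cE19563)))) (BT.node 19568 (BT.node 19566 (BT.node 19565 (BT.node 19564 (BT.leaf cE19564) (BT.leaf cE19565)) (BT.leaf cE19566)) (BT.node 19567 (BT.leaf cE19567) (BT.leaf cE19568))) (BT.node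 19571 (BT.node 19570 (BT.node 19569 (BT.leaf cE19569) (BT.leaf cE19570)) (BT.leaf cE19571)) (BT.node 19572 (BT.leaf cE19572) (BT.leaf cE19573))))) (BT.node 19583 (BT.node 19578 (BT.node 19576 (BT.node 19575 (BT.node 19574 (BT.leaf cE19574) (BT.leaf cE19575)) (BT.leaf cE19576)) (BT.node 19577 (BT.leaf cE19577) (BT.leaf cE19578))) (BT.node 19581 (BT.node 19580 (BT.node 19579 (BT.leaf cE19579) (BT.leaf cE19580)) (BT.leaf cE19581)) (BT.node 19582 (BT.leaf cE19582) (BT.leaf cE19583)))) (BT.node 19588 (BT.node 19586 (BT.node 19585 (BT.node 19584 (BT.leaf cE19584) (BT.leaf cE19585)) (BT.leaf cE19586)) (BT.node 19587 (BT.leaf cE19587) (BT.leaf cE19588))) (BT.node 19591 (BT.node 19590 (BT.node 19589 (BT.leaf cE19589) (BT.leaf cE19590)) (BT.leaf cE19591)) (BT.node 19592 (BT.leaf cE19592) (BT.leaf cE19593)))))) (BT.node 19613 (BT.node 19603 (BT.node 19598 (BT.node 19596 (BT.node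 19595 (BT.node 19594 (BT.leaf cE19594) (BT.leaf cE19595)) (BT.leaf cE19596)) (BT.node 19597 (BT.leaf cE19597) (BT.leaf cE19598))) (BT.node 19601 (BT.node 19600 (BT.node 19599 (BT.leaf cE19599) (BT.leaf cE19600)) (BT.leaf cE19601)) (BT.node 19602 (BT.leaf cE19602) (BT.leaf cE19603)))) (BT.node 19608 (BT.node 19606 (BT.node 19605 (BT.node 19604 (BT.leaf cE19604) (BT.leaf cE19605)) (BT.leaf cE19606)) (BT.node 19607 (BT.leaf cE19607) (BT.leaf cE19608))) (BT.node 19611 (BT.node 19610 (BT.node 19609 (BT.leaf cE19609) (BT.leaf cE19610)) (BT.leaf cE19611)) (BT.node 19612 (BT.leaf cE19612) (BT.leaf cE19613))))) (BT.node 19623 (BT.node 19618 (BT.node 19616 (BT.node 19615 (BT.node 19614 (BT.leaf cE19614) (BT.leaf cE19615)) (BT.leaf cE19616)) (BT.node 19617 (BT.leaf cE19617) (BT.leaf cE19618))) (BT.node 19621 (BT.node 19620 (BT.node 19619 (BT.leaf cE19619) (BT.leaf cE19620)) (BT.leaf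 cE19621)) (BT.node 19622 (BT.leaf cE19622) (BT.leaf cE19623)))) (BT.node 19628 (BT.node 19626 (BT.node 19625 (BT.node 19624 (BT.leaf cE19624) (BT.leaf cE19625)) (BT.leaf cE19626)) (BT.node 19627 (BT.leaf cE19627) (BT.leaf cE19628))) (BT.node 19631 (BT.node 19630 (BT.node 19629 (BT.leaf cE19629) (BT.leaf cE19630)) (BT.leaf cE19631)) (BT.node 19632 (BT.leaf cE19632) (BT.leaf cE19633))))))) (BT.node 19673 (BT.node 19653 (BT.node 19643 (BT.node 19638 (BT.node 19636 (BT.node 19635 (BT.node 19634 (BT.leaf cE19634) (BT.leaf cE19635)) (BT.leaf cE19636)) (BT.node 19637 (BT.leaf cE19637) (BT.leaf cE19638))) (BT.node 19641 (BT.node 19640 (BT.node 19639 (BT.leaf cE19639) (BT.leaf cE19640)) (BT.leaf cE19641)) (BT.node 19642 (BT.leaf cE19642) (BT.leaf cE19643)))) (BT.node 19648 (BT.node 19646 (BT.node 19645 (BT.node 19644 (BT.leaf cE19644) (BT.leaf cE19645)) (BT.leaf cE19646)) (BT.node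 19647 (BT.leaf cE19647) (BT.leaf cE19648))) (BT.node 19651 (BT.node 19650 (BT.node 19649 (BT.leaf cE19649) (BT.leaf cE19650)) (BT.leaf cE19651)) (BT.node 19652 (BT.leaf cE19652) (BT.leaf cE19653))))) (BT.node 19663 (BT.node 19658 (BT.node 19656 (BT.node 19655 (BT.node 19654 (BT.leaf cE19654) (BT.leaf cE19655)) (BT.leaf cE19656)) (BT.node 19657 (BT.leaf cE19657) (BT.leaf cE19658))) (BT.node 19661 (BT.node 19660 (BT.node 19659 (BT.leaf cE19659) (BT.leaf cE19660)) (BT.leaf cE19661)) (BT.node 19662 (BT.leaf cE19662) (BT.leaf cE19663)))) (BT.node 19668 (BT.node 19666 (BT.node 19665 (BT.node 19664 (BT.leaf cE19664) (BT.leaf cE19665)) (BT.leaf cE19666)) (BT.node 19667 (BT.leaf cE19667) (BT.leaf cE19668))) (BT.node 19671 (BT.node 19670 (BT.node 19669 (BT.leaf cE19669) (BT.leaf cE19670)) (BT.leaf cE19671)) (BT.node 19672 (BT.leaf cE19672) (BT.leaf cE19673)))))) (BT.node 19693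 (BT.node 19683 (BT.node 19678 (BT.node 19676 (BT.node 19675 (BT.node 19674 (BT.leaf cE19674) (BT.leaf cE19675)) (BT.leaf cE19676)) (BT.node 19677 (BT.leaf cE19677) (BT.leaf cE19678))) (BT.node 19681 (BT.node 19680 (BT.node 19679 (BT.leaf cE19679) (BT.leaf cE19680)) (BT.leaf cE19681)) (BT.node 19682 (BT.leaf cE19682) (BT.leaf cE19683)))) (BT.node 19688 (BT.node 19686 (BT.node 19685 (BT.node 19684 (BT.leaf cE19684) (BT.leaf cE19685)) (BT.leaf cE19686)) (BT.node 19687 (BT.leaf cE19687) (BT.leaf cE19688))) (BT.node 19691 (BT.node 19690 (BT.node 19689 (BT.leaf cE19689) (BT.leaf cE19690)) (BT.leaf cE19691)) (BT.node 19692 (BT.leaf cE19692) (BT.leaf cE19693))))) (BT.node 19703 (BT.node 19698 (BT.node 19696 (BT.node 19695 (BT.node 19694 (BT.leaf cE19694) (BT.leaf cE19695)) (BT.leaf cE19696)) (BT.node 19697 (BT.leaf cE19697) (BT.leaf cE19698))) (BT.node 19701 (BT.node 19700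 (BT.node 19699 (BT.leaf cE19699) (BT.leaf cE19700)) (BT.leaf cE19701)) (BT.node 19702 (BT.leaf cE19702) (BT.leaf cE19703)))) (BT.node 19708 (BT.node 19706 (BT.node 19705 (BT.node 19704 (BT.leaf cE19704) (BT.leaf cE19705)) (BT.leaf cE19706)) (BT.node 19707 (BT.leaf cE19707) (BT.leaf cE19708))) (BT.node 19711 (BT.node 19710 (BT.node 19709 (BT.leaf cE19709) (BT.leaf cE19710)) (BT.leaf cE19711)) (BT.node 19712 (BT.leaf cE19712) (BT.leaf cE19713))))))))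
noncomputable def colET_122 : BT ℕ := (BT.node 19794 (BT.node 19754 (BT.node 19734 (BT.node 19724 (BT.node 19719 (BT.node 19716 (BT.node 19715 (BT.node 19714 (BT.leaf cE19714) (BT.leaf cE19715)) (BT.leaf cE19716)) (BT.node 19718 (BT.node 19717 (BT.leaf cE19717) (BT.leaf cE19718)) (BT.leaf cE19719))) (BT.node 19722 (BT.node 19721 (BT.node 19720 (BT.leaf cE19720) (BT.leaf cE19721)) (BT.leaf cE19722)) (BT.node 19723 (BT.leaf cE19723) (BT.leaf cE19724)))) (BT.node 19729 (BT.node 19727 (BT.node 19726 (BT.node 19725 (BT.leaf cE19725) (BT.leaf cE19726)) (BT.leaf cE19727)) (BT.node 19728 (BT.leaf cE19728) (BT.leaf cE19729))) (BT.node 19732 (BT.node 19731 (BT.node 19730 (BT.leaf cE19730) (BT.leaf cE19731)) (BT.leaf cE19732)) (BT.node 19733 (BT.leaf cE19733) (BT.leaf cE19734))))) (BT.node 19744 (BT.node 19739 (BT.node 19737 (BT.node 19736 (BT.node 19735 (BT.leaf cE19735) (BT.leaf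 cE19736)) (BT.leaf cE19737)) (BT.node 19738 (BT.leaf cE19738) (BT.leaf cE19739))) (BT.node 19742 (BT.node 19741 (BT.node 19740 (BT.leaf cE19740) (BT.leaf cE19741)) (BT.leaf cE19742)) (BT.node 19743 (BT.leaf cE19743) (BT.leaf cE19744)))) (BT.node 19749 (BT.node 19747 (BT.node 19746 (BT.node 19745 (BT.leaf cE19745) (BT.leaf cE19746)) (BT.leaf cE19747)) (BT.node 19748 (BT.leaf cE19748) (BT.leaf cE19749))) (BT.node 19752 (BT.node 19751 (BT.node 19750 (BT.leaf cE19750) (BT.leaf cE19751)) (BT.leaf cE19752)) (BT.node 19753 (BT.leaf cE19753) (BT.leaf cE19754)))))) (BT.node 19774 (BT.node 19764 (BT.node 19759 (BT.node 19757 (BT.node 19756 (BT.node 19755 (BT.leaf cE19755) (BT.leaf cE19756)) (BT.leaf cE19757)) (BT.node 19758 (BT.leaf cE19758) (BT.leaf cE19759))) (BT.node 19762 (BT.node 19761 (BT.node 19760 (BT.leaf cE19760) (BT.leaf cE19761)) (BT.leaf cE19762)) (BT.node 19763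 (BT.leaf cE19763) (BT.leaf cE19764)))) (BT.node 19769 (BT.node 19767 (BT.node 19766 (BT.node 19765 (BT.leaf cE19765) (BT.leaf cE19766)) (BT.leaf cE19767)) (BT.node 19768 (BT.leaf cE19768) (BT.leaf cE19769))) (BT.node 19772 (BT.node 19771 (BT.node 19770 (BT.leaf cE19770) (BT.leaf cE19771)) (BT.leaf cE19772)) (BT.node 19773 (BT.leaf cE19773) (BT.leaf cE19774))))) (BT.node 19784 (BT.node 19779 (BT.node 19777 (BT.node 19776 (BT.node 19775 (BT.leaf cE19775) (BT.leaf cE19776)) (BT.leaf cE19777)) (BT.node 19778 (BT.leaf cE19778) (BT.leaf cE19779))) (BT.node 19782 (BT.node 19781 (BT.node 19780 (BT.leaf cE19780) (BT.leaf cE19781)) (BT.leaf cE19782)) (BT.node 19783 (BT.leaf cE19783) (BT.leaf cE19784)))) (BT.node 19789 (BT.node 19787 (BT.node 19786 (BT.node 19785 (BT.leaf cE19785) (BT.leaf cE19786)) (BT.leaf cE19787)) (BT.node 19788 (BT.leaf cE19788) (BT.leaf cE19789))) (BT.node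 19792 (BT.node 19791 (BT.node 19790 (BT.leaf cE19790) (BT.leaf cE19791)) (BT.leaf cE19792)) (BT.node 19793 (BT.leaf cE19793) (BT.leaf cE19794))))))) (BT.node 19835 (BT.node 19815 (BT.node 19805 (BT.node 19800 (BT.node 19797 (BT.node 19796 (BT.node 19795 (BT.leaf cE19795) (BT.leaf cE19796)) (BT.leaf cE19797)) (BT.node 19799 (BT.node 19798 (BT.leaf cE19798) (BT.leaf cE19799)) (BT.leaf cE19800))) (BT.node 19803 (BT.node 19802 (BT.node 19801 (BT.leaf cE19801) (BT.leaf cE19802)) (BT.leaf cE19803)) (BT.node 19804 (BT.leaf cE19804) (BT.leaf cE19805)))) (BT.node 19810 (BT.node 19808 (BT.node 19807 (BT.node 19806 (BT.leaf cE19806) (BT.leaf cE19807)) (BT.leaf cE19808)) (BT.node 19809 (BT.leaf cE19809) (BT.leaf cE19810))) (BT.node 19813 (BT.node 19812 (BT.node 19811 (BT.leaf cE19811) (BT.leaf cE19812)) (BT.leaf cE19813)) (BT.node 19814 (BT.leaf cE19814) (BT.leaf cE19815)))))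 (BT.node 19825 (BT.node 19820 (BT.node 19818 (BT.node 19817 (BT.node 19816 (BT.leaf cE19816) (BT.leaf cE19817)) (BT.leaf cE19818)) (BT.node 19819 (BT.leaf cE19819) (BT.leaf cE19820))) (BT.node 19823 (BT.node 19822 (BT.node 19821 (BT.leaf cE19821) (BT.leaf cE19822)) (BT.leaf cE19823)) (BT.node 19824 (BT.leaf cE19824) (BT.leaf cE19825)))) (BT.node 19830 (BT.node 19828 (BT.node 19827 (BT.node 19826 (BT.leaf cE19826) (BT.leaf cE19827)) (BT.leaf cE19828)) (BT.node 19829 (BT.leaf cE19829) (BT.leaf cE19830))) (BT.node 19833 (BT.node 19832 (BT.node 19831 (BT.leaf cE19831) (BT.leaf cE19832)) (BT.leaf cE19833)) (BT.node 19834 (BT.leaf cE19834) (BT.leaf cE19835)))))) (BT.node 19855 (BT.node 19845 (BT.node 19840 (BT.node 19838 (BT.node 19837 (BT.node 19836 (BT.leaf cE19836) (BT.leaf cE19837)) (BT.leaf cE19838)) (BT.node 19839 (BT.leaf cE19839) (BT.leaf cE19840))) (BT.node 19843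 (BT.node 19842 (BT.node 19841 (BT.leaf cE19841) (BT.leaf cE19842)) (BT.leaf cE19843)) (BT.node 19844 (BT.leaf cE19844) (BT.leaf cE19845)))) (BT.node 19850 (BT.node 19848 (BT.node 19847 (BT.node 19846 (BT.leaf cE19846) (BT.leaf cE19847)) (BT.leaf cE19848)) (BT.node 19849 (BT.leaf cE19849) (BT.leaf cE19850))) (BT.node 19853 (BT.node 19852 (BT.node 19851 (BT.leaf cE19851) (BT.leaf cE19852)) (BT.leaf cE19853)) (BT.node 19854 (BT.leaf cE19854) (BT.leaf cE19855))))) (BT.node 19865 (BT.node 19860 (BT.node 19858 (BT.node 19857 (BT.node 19856 (BT.leaf cE19856) (BT.leaf cE19857)) (BT.leaf cE19858)) (BT.node 19859 (BT.leaf cE19859) (BT.leaf cE19860))) (BT.node 19863 (BT.node 19862 (BT.node 19861 (BT.leaf cE19861) (BT.leaf cE19862)) (BT.leaf cE19863)) (BT.node 19864 (BT.leaf cE19864) (BT.leaf cE19865)))) (BT.node 19870 (BT.node 19868 (BT.node 19867 (BT.node 19866 (BT.leaf cE19866)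 (BT.leaf cE19867)) (BT.leaf cE19868)) (BT.node 19869 (BT.leaf cE19869) (BT.leaf cE19870))) (BT.node 19873 (BT.node 19872 (BT.node 19871 (BT.leaf cE19871) (BT.leaf cE19872)) (BT.leaf cE19873)) (BT.node 19874 (BT.leaf cE19874) (BT.leaf cE19875))))))))
noncomputable def colET_123 : BT ℕ := (BT.node 19956 (BT.node 19916 (BT.node 19896 (BT.node 19886 (BT.node 19881 (BT.node 19878 (BT.node 19877 (BT.node 19876 (BT.leaf cE19876) (BT.leaf cE19877)) (BT.leaf cE19878)) (BT.node 19880 (BT.node 19879 (BT.leaf cE19879) (BT.leaf cE19880)) (BT.leaf cE19881))) (BT.node 19884 (BT.node 19883 (BT.node 19882 (BT.leaf cE19882) (BT.leaf cE19883)) (BT.leaf cE19884)) (BT.node 19885 (BT.leaf cE19885) (BT.leaf cE19886)))) (BT.node 19891 (BT.node 19889 (BT.node 19888 (BT.node 19887 (BT.leaf cE19887) (BT.leaf cE19888)) (BT.leaf cE19889)) (BT.node 19890 (BT.leaf cE19890) (BT.leaf cE19891))) (BT.node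 19894 (BT.node 19893 (BT.node 19892 (BT.leaf cE19892) (BT.leaf cE19893)) (BT.leaf cE19894)) (BT.node 19895 (BT.leaf cE19895) (BT.leaf cE19896))))) (BT.node 19906 (BT.node 19901 (BT.node 19899 (BT.node 19898 (BT.node 19897 (BT.leaf cE19897) (BT.leaf cE19898)) (BT.leaf cE19899)) (BT.node 19900 (BT.leaf cE19900) (BT.leaf cE19901))) (BT.node 19904 (BT.node 19903 (BT.node 19902 (BT.leaf cE19902) (BT.leaf cE19903)) (BT.leaf cE19904)) (BT.node 19905 (BT.leaf cE19905) (BT.leaf cE19906)))) (BT.node 19911 (BT.node 19909 (BT.node 19908 (BT.node 19907 (BT.leaf cE19907) (BT.leaf cE19908)) (BT.leaf cE19909)) (BT.node 19910 (BT.leaf cE19910) (BT.leaf cE19911))) (BT.node 19914 (BT.node 19913 (BT.node 19912 (BT.leaf cE19912) (BT.leaf cE19913)) (BT.leaf cE19914)) (BT.node 19915 (BT.leaf cE19915) (BT.leaf cE19916)))))) (BT.node 19936 (BT.node 19926 (BT.node 19921 (BT.node 19919 (BT.node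 19918 (BT.node 19917 (BT.leaf cE19917) (BT.leaf cE19918)) (BT.leaf cE19919)) (BT.node 19920 (BT.leaf cE19920) (BT.leaf cE19921))) (BT.node 19924 (BT.node 19923 (BT.node 19922 (BT.leaf cE19922) (BT.leaf cE19923)) (BT.leaf cE19924)) (BT.node 19925 (BT.leaf cE19925) (BT.leaf cE19926)))) (BT.node 19931 (BT.node 19929 (BT.node 19928 (BT.node 19927 (BT.leaf cE19927) (BT.leaf cE19928)) (BT.leaf cE19929)) (BT.node 19930 (BT.leaf cE19930) (BT.leaf cE19931))) (BT.node 19934 (BT.node 19933 (BT.node 19932 (BT.leaf cE19932) (BT.leaf cE19933)) (BT.leaf cE19934)) (BT.node 19935 (BT.leaf cE19935) (BT.leaf cE19936))))) (BT.node 19946 (BT.node 19941 (BT.node 19939 (BT.node 19938 (BT.node 19937 (BT.leaf cE19937) (BT.leaf cE19938)) (BT.leaf cE19939)) (BT.node 19940 (BT.leaf cE19940) (BT.leaf cE19941))) (BT.node 19944 (BT.node 19943 (BT.node 19942 (BT.leaf cE19942) (BT.leaf cE19943)) (BT.leaf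 cE19944)) (BT.node 19945 (BT.leaf cE19945) (BT.leaf cE19946)))) (BT.node 19951 (BT.node 19949 (BT.node 19948 (BT.node 19947 (BT.leaf cE19947) (BT.leaf cE19948)) (BT.leaf cE19949)) (BT.node 19950 (BT.leaf cE19950) (BT.leaf cE19951))) (BT.node 19954 (BT.node 19953 (BT.node 19952 (BT.leaf cE19952) (BT.leaf cE19953)) (BT.leaf cE19954)) (BT.node 19955 (BT.leaf cE19955) (BT.leaf cE19956))))))) (BT.node 19996 (BT.node 19976 (BT.node 19966 (BT.node 19961 (BT.node 19959 (BT.node 19958 (BT.node 19957 (BT.leaf cE19957) (BT.leaf cE19958)) (BT.leaf cE19959)) (BT.node 19960 (BT.leaf cE19960) (BT.leaf cE19961))) (BT.node 19964 (BT.node 19963 (BT.node 19962 (BT.leaf cE19962) (BT.leaf cE19963)) (BT.leaf cE19964)) (BT.node 19965 (BT.leaf cE19965) (BT.leaf cE19966)))) (BT.node 19971 (BT.node 19969 (BT.node 19968 (BT.node 19967 (BT.leaf cE19967) (BT.leaf cE19968)) (BT.leaf cE19969)) (BT.node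 19970 (BT.leaf cE19970) (BT.leaf cE19971))) (BT.node 19974 (BT.node 19973 (BT.node 19972 (BT.leaf cE19972) (BT.leaf cE19973)) (BT.leaf cE19974)) (BT.node 19975 (BT.leaf cE19975) (BT.leaf cE19976))))) (BT.node 19986 (BT.node 19981 (BT.node 19979 (BT.node 19978 (BT.node 19977 (BT.leaf cE19977) (BT.leaf cE19978)) (BT.leaf cE19979)) (BT.node 19980 (BT.leaf cE19980) (BT.leaf cE19981))) (BT.node 19984 (BT.node 19983 (BT.node 19982 (BT.leaf cE19982) (BT.leaf cE19983)) (BT.leaf cE19984)) (BT.node 19985 (BT.leaf cE19985) (BT.leaf cE19986)))) (BT.node 19991 (BT.node 19989 (BT.node 19988 (BT.node 19987 (BT.leaf cE19987) (BT.leaf cE19988)) (BT.leaf cE19989)) (BT.node 19990 (BT.leaf cE19990) (BT.leaf cE19991))) (BT.node 19994 (BT.node 19993 (BT.node 19992 (BT.leaf cE19992) (BT.leaf cE19993)) (BT.leaf cE19994)) (BT.node 19995 (BT.leaf cE19995) (BT.leaf cE19996)))))) (BT.node 20016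 (BT.node 20006 (BT.node 20001 (BT.node 19999 (BT.node 19998 (BT.node 19997 (BT.leaf cE19997) (BT.leaf cE19998)) (BT.leaf cE19999)) (BT.node 20000 (BT.leaf cE20000) (BT.leaf cE20001))) (BT.node 20004 (BT.node 20003 (BT.node 20002 (BT.leaf cE20002) (BT.leaf cE20003)) (BT.leaf cE20004)) (BT.node 20005 (BT.leaf cE20005) (BT.leaf cE20006)))) (BT.node 20011 (BT.node 20009 (BT.node 20008 (BT.node 20007 (BT.leaf cE20007) (BT.leaf cE20008)) (BT.leaf cE20009)) (BT.node 20010 (BT.leaf cE20010) (BT.leaf cE20011))) (BT.node 20014 (BT.node 20013 (BT.node 20012 (BT.leaf cE20012) (BT.leaf cE20013)) (BT.leaf cE20014)) (BT.node 20015 (BT.leaf cE20015) (BT.leaf cE20016))))) (BT.node 20026 (BT.node 20021 (BT.node 20019 (BT.node 20018 (BT.node 20017 (BT.leaf cE20017) (BT.leaf cE20018)) (BT.leaf cE20019)) (BT.node 20020 (BT.leaf cE20020) (BT.leaf cE20021))) (BT.node 20024 (BT.node 20023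 (BT.node 20022 (BT.leaf cE20022) (BT.leaf cE20023)) (BT.leaf cE20024)) (BT.node 20025 (BT.leaf cE20025) (BT.leaf cE20026)))) (BT.node 20031 (BT.node 20029 (BT.node 20028 (BT.node 20027 (BT.leaf cE20027) (BT.leaf cE20028)) (BT.leaf cE20029)) (BT.node 20030 (BT.leaf cE20030) (BT.leaf cE20031))) (BT.node 20034 (BT.node 20033 (BT.node 20032 (BT.leaf cE20032) (BT.leaf cE20033)) (BT.leaf cE20034)) (BT.node 20035 (BT.leaf cE20035) (BT.leaf cE20036))))))))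
noncomputable def colET_124 : BT ℕ := (BT.node 20117 (BT.node 20077 (BT.node 20057 (BT.node 20047 (BT.node 20042 (BT.node 20039 (BT.node 20038 (BT.node 20037 (BT.leaf cE20037) (BT.leaf cE20038)) (BT.leaf cE20039)) (BT.node 20041 (BT.node 20040 (BT.leaf cE20040) (BT.leaf cE20041)) (BT.leaf cE20042))) (BT.node 20045 (BT.node 20044 (BT.node 20043 (BT.leaf cE20043) (BT.leaf cE20044)) (BT.leaf cE20045)) (BT.node 20046 (BT.leaf cE20046) (BT.leaf cE20047)))) (BT.node 20052 (BT.node 20050 (BT.node 20049 (BT.node 20048 (BT.leaf cE20048) (BT.leaf cE20049)) (BT.leaf cE20050)) (BT.node 20051 (BT.leaf cE20051) (BT.leaf cE20052))) (BT.node 20055 (BT.node 20054 (BT.node 20053 (BT.leaf cE20053) (BT.leaf cE20054)) (BT.leaf cE20055)) (BT.node 20056 (BT.leaf cE20056) (BT.leaf cE20057))))) (BT.node 20067 (BT.node 20062 (BT.node 20060 (BT.node 20059 (BT.node 20058 (BT.leaf cE20058) (BT.leaf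 cE20059)) (BT.leaf cE20060)) (BT.node 20061 (BT.leaf cE20061) (BT.leaf cE20062))) (BT.node 20065 (BT.node 20064 (BT.node 20063 (BT.leaf cE20063) (BT.leaf cE20064)) (BT.leaf cE20065)) (BT.node 20066 (BT.leaf cE20066) (BT.leaf cE20067)))) (BT.node 20072 (BT.node 20070 (BT.node 20069 (BT.node 20068 (BT.leaf cE20068) (BT.leaf cE20069)) (BT.leaf cE20070)) (BT.node 20071 (BT.leaf cE20071) (BT.leaf cE20072))) (BT.node 20075 (BT.node 20074 (BT.node 20073 (BT.leaf cE20073) (BT.leaf cE20074)) (BT.leaf cE20075)) (BT.node 20076 (BT.leaf cE20076) (BT.leaf cE20077)))))) (BT.node 20097 (BT.node 20087 (BT.node 20082 (BT.node 20080 (BT.node 20079 (BT.node 20078 (BT.leaf cE20078) (BT.leaf cE20079)) (BT.leaf cE20080)) (BT.node 20081 (BT.leaf cE20081) (BT.leaf cE20082))) (BT.node 20085 (BT.node 20084 (BT.node 20083 (BT.leaf cE20083) (BT.leaf cE20084)) (BT.leaf cE20085)) (BT.node 20086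 (BT.leaf cE20086) (BT.leaf cE20087)))) (BT.node 20092 (BT.node 20090 (BT.node 20089 (BT.node 20088 (BT.leaf cE20088) (BT.leaf cE20089)) (BT.leaf cE20090)) (BT.node 20091 (BT.leaf cE20091) (BT.leaf cE20092))) (BT.node 20095 (BT.node 20094 (BT.node 20093 (BT.leaf cE20093) (BT.leaf cE20094)) (BT.leaf cE20095)) (BT.node 20096 (BT.leaf cE20096) (BT.leaf cE20097))))) (BT.node 20107 (BT.node 20102 (BT.node 20100 (BT.node 20099 (BT.node 20098 (BT.leaf cE20098) (BT.leaf cE20099)) (BT.leaf cE20100)) (BT.node 20101 (BT.leaf cE20101) (BT.leaf cE20102))) (BT.node 20105 (BT.node 20104 (BT.node 20103 (BT.leaf cE20103) (BT.leaf cE20104)) (BT.leaf cE20105)) (BT.node 20106 (BT.leaf cE20106) (BT.leaf cE20107)))) (BT.node 20112 (BT.node 20110 (BT.node 20109 (BT.node 20108 (BT.leaf cE20108) (BT.leaf cE20109)) (BT.leaf cE20110)) (BT.node 20111 (BT.leaf cE20111) (BT.leaf cE20112))) (BT.node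 20115 (BT.node 20114 (BT.node 20113 (BT.leaf cE20113) (BT.leaf cE20114)) (BT.leaf cE20115)) (BT.node 20116 (BT.leaf cE20116) (BT.leaf cE20117))))))) (BT.node 20158 (BT.node 20138 (BT.node 20128 (BT.node 20123 (BT.node 20120 (BT.node 20119 (BT.node 20118 (BT.leaf cE20118) (BT.leaf cE20119)) (BT.leaf cE20120)) (BT.node 20122 (BT.node 20121 (BT.leaf cE20121) (BT.leaf cE20122)) (BT.leaf cE20123))) (BT.node 20126 (BT.node 20125 (BT.node 20124 (BT.leaf cE20124) (BT.leaf cE20125)) (BT.leaf cE20126)) (BT.node 20127 (BT.leaf cE20127) (BT.leaf cE20128)))) (BT.node 20133 (BT.node 20131 (BT.node 20130 (BT.node 20129 (BT.leaf cE20129) (BT.leaf cE20130)) (BT.leaf cE20131)) (BT.node 20132 (BT.leaf cE20132) (BT.leaf cE20133))) (BT.node 20136 (BT.node 20135 (BT.node 20134 (BT.leaf cE20134) (BT.leaf cE20135)) (BT.leaf cE20136)) (BT.node 20137 (BT.leaf cE20137) (BT.leaf cE20138)))))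 (BT.node 20148 (BT.node 20143 (BT.node 20141 (BT.node 20140 (BT.node 20139 (BT.leaf cE20139) (BT.leaf cE20140)) (BT.leaf cE20141)) (BT.node 20142 (BT.leaf cE20142) (BT.leaf cE20143))) (BT.node 20146 (BT.node 20145 (BT.node 20144 (BT.leaf cE20144) (BT.leaf cE20145)) (BT.leaf cE20146)) (BT.node 20147 (BT.leaf cE20147) (BT.leaf cE20148)))) (BT.node 20153 (BT.node 20151 (BT.node 20150 (BT.node 20149 (BT.leaf cE20149) (BT.leaf cE20150)) (BT.leaf cE20151)) (BT.node 20152 (BT.leaf cE20152) (BT.leaf cE20153))) (BT.node 20156 (BT.node 20155 (BT.node 20154 (BT.leaf cE20154) (BT.leaf cE20155)) (BT.leaf cE20156)) (BT.node 20157 (BT.leaf cE20157) (BT.leaf cE20158)))))) (BT.node 20178 (BT.node 20168 (BT.node 20163 (BT.node 20161 (BT.node 20160 (BT.node 20159 (BT.leaf cE20159) (BT.leaf cE20160)) (BT.leaf cE20161)) (BT.node 20162 (BT.leaf cE20162) (BT.leaf cE20163))) (BT.node 20166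 (BT.node 20165 (BT.node 20164 (BT.leaf cE20164) (BT.leaf cE20165)) (BT.leaf cE20166)) (BT.node 20167 (BT.leaf cE20167) (BT.leaf cE20168)))) (BT.node 20173 (BT.node 20171 (BT.node 20170 (BT.node 20169 (BT.leaf cE20169) (BT.leaf cE20170)) (BT.leaf cE20171)) (BT.node 20172 (BT.leaf cE20172) (BT.leaf cE20173))) (BT.node 20176 (BT.node 20175 (BT.node 20174 (BT.leaf cE20174) (BT.leaf cE20175)) (BT.leaf cE20176)) (BT.node 20177 (BT.leaf cE20177) (BT.leaf cE20178))))) (BT.node 20188 (BT.node 20183 (BT.node 20181 (BT.node 20180 (BT.node 20179 (BT.leaf cE20179) (BT.leaf cE20180)) (BT.leaf cE20181)) (BT.node 20182 (BT.leaf cE20182) (BT.leaf cE20183))) (BT.node 20186 (BT.node 20185 (BT.node 20184 (BT.leaf cE20184) (BT.leaf cE20185)) (BT.leaf cE20186)) (BT.node 20187 (BT.leaf cE20187) (BT.leaf cE20188)))) (BT.node 20193 (BT.node 20191 (BT.node 20190 (BT.node 20189 (BT.leaf cE20189)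 (BT.leaf cE20190)) (BT.leaf cE20191)) (BT.node 20192 (BT.leaf cE20192) (BT.leaf cE20193))) (BT.node 20196 (BT.node 20195 (BT.node 20194 (BT.leaf cE20194) (BT.leaf cE20195)) (BT.leaf cE20196)) (BT.node 20197 (BT.leaf cE20197) (BT.leaf cE20198))))))))
noncomputable def colET_125 : BT ℕ := (BT.node 20279 (BT.node 20239 (BT.node 20219 (BT.node 20209 (BT.node 20204 (BT.node 20201 (BT.node 20200 (BT.node 20199 (BT.leaf cE20199) (BT.leaf cE20200)) (BT.leaf cE20201)) (BT.node 20203 (BT.node 20202 (BT.leaf cE20202) (BT.leaf cE20203)) (BT.leaf cE20204))) (BT.node 20207 (BT.node 20206 (BT.node 20205 (BT.leaf cE20205) (BT.leaf cE20206)) (BT.leaf cE20207)) (BT.node 20208 (BT.leaf cE20208) (BT.leaf cE20209)))) (BT.node 20214 (BT.node 20212 (BT.node 20211 (BT.node 20210 (BT.leaf cE20210) (BT.leaf cE20211)) (BT.leaf cE20212)) (BT.node 20213 (BT.leaf cE20213) (BT.leaf cE20214))) (BT.node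 20217 (BT.node 20216 (BT.node 20215 (BT.leaf cE20215) (BT.leaf cE20216)) (BT.leaf cE20217)) (BT.node 20218 (BT.leaf cE20218) (BT.leaf cE20219))))) (BT.node 20229 (BT.node 20224 (BT.node 20222 (BT.node 20221 (BT.node 20220 (BT.leaf cE20220) (BT.leaf cE20221)) (BT.leaf cE20222)) (BT.node 20223 (BT.leaf cE20223) (BT.leaf cE20224))) (BT.node 20227 (BT.node 20226 (BT.node 20225 (BT.leaf cE20225) (BT.leaf cE20226)) (BT.leaf cE20227)) (BT.node 20228 (BT.leaf cE20228) (BT.leaf cE20229)))) (BT.node 20234 (BT.node 20232 (BT.node 20231 (BT.node 20230 (BT.leaf cE20230) (BT.leaf cE20231)) (BT.leaf cE20232)) (BT.node 20233 (BT.leaf cE20233) (BT.leaf cE20234))) (BT.node 20237 (BT.node 20236 (BT.node 20235 (BT.leaf cE20235) (BT.leaf cE20236)) (BT.leaf cE20237)) (BT.node 20238 (BT.leaf cE20238) (BT.leaf cE20239)))))) (BT.node 20259 (BT.node 20249 (BT.node 20244 (BT.node 20242 (BT.node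 20241 (BT.node 20240 (BT.leaf cE20240) (BT.leaf cE20241)) (BT.leaf cE20242)) (BT.node 20243 (BT.leaf cE20243) (BT.leaf cE20244))) (BT.node 20247 (BT.node 20246 (BT.node 20245 (BT.leaf cE20245) (BT.leaf cE20246)) (BT.leaf cE20247)) (BT.node 20248 (BT.leaf cE20248) (BT.leaf cE20249)))) (BT.node 20254 (BT.node 20252 (BT.node 20251 (BT.node 20250 (BT.leaf cE20250) (BT.leaf cE20251)) (BT.leaf cE20252)) (BT.node 20253 (BT.leaf cE20253) (BT.leaf cE20254))) (BT.node 20257 (BT.node 20256 (BT.node 20255 (BT.leaf cE20255) (BT.leaf cE20256)) (BT.leaf cE20257)) (BT.node 20258 (BT.leaf cE20258) (BT.leaf cE20259))))) (BT.node 20269 (BT.node 20264 (BT.node 20262 (BT.node 20261 (BT.node 20260 (BT.leaf cE20260) (BT.leaf cE20261)) (BT.leaf cE20262)) (BT.node 20263 (BT.leaf cE20263) (BT.leaf cE20264))) (BT.node 20267 (BT.node 20266 (BT.node 20265 (BT.leaf cE20265) (BT.leaf cE20266)) (BT.leaf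 cE20267)) (BT.node 20268 (BT.leaf cE20268) (BT.leaf cE20269)))) (BT.node 20274 (BT.node 20272 (BT.node 20271 (BT.node 20270 (BT.leaf cE20270) (BT.leaf cE20271)) (BT.leaf cE20272)) (BT.node 20273 (BT.leaf cE20273) (BT.leaf cE20274))) (BT.node 20277 (BT.node 20276 (BT.node 20275 (BT.leaf cE20275) (BT.leaf cE20276)) (BT.leaf cE20277)) (BT.node 20278 (BT.leaf cE20278) (BT.leaf cE20279))))))) (BT.node 20319 (BT.node 20299 (BT.node 20289 (BT.node 20284 (BT.node 20282 (BT.node 20281 (BT.node 20280 (BT.leaf cE20280) (BT.leaf cE20281)) (BT.leaf cE20282)) (BT.node 20283 (BT.leaf cE20283) (BT.leaf cE20284))) (BT.node 20287 (BT.node 20286 (BT.node 20285 (BT.leaf cE20285) (BT.leaf cE20286)) (BT.leaf cE20287)) (BT.node 20288 (BT.leaf cE20288) (BT.leaf cE20289)))) (BT.node 20294 (BT.node 20292 (BT.node 20291 (BT.node 20290 (BT.leaf cE20290) (BT.leaf cE20291)) (BT.leaf cE20292)) (BT.node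 20293 (BT.leaf cE20293) (BT.leaf cE20294))) (BT.node 20297 (BT.node 20296 (BT.node 20295 (BT.leaf cE20295) (BT.leaf cE20296)) (BT.leaf cE20297)) (BT.node 20298 (BT.leaf cE20298) (BT.leaf cE20299))))) (BT.node 20309 (BT.node 20304 (BT.node 20302 (BT.node 20301 (BT.node 20300 (BT.leaf cE20300) (BT.leaf cE20301)) (BT.leaf cE20302)) (BT.node 20303 (BT.leaf cE20303) (BT.leaf cE20304))) (BT.node 20307 (BT.node 20306 (BT.node 20305 (BT.leaf cE20305) (BT.leaf cE20306)) (BT.leaf cE20307)) (BT.node 20308 (BT.leaf cE20308) (BT.leaf cE20309)))) (BT.node 20314 (BT.node 20312 (BT.node 20311 (BT.node 20310 (BT.leaf cE20310) (BT.leaf cE20311)) (BT.leaf cE20312)) (BT.node 20313 (BT.leaf cE20313) (BT.leaf cE20314))) (BT.node 20317 (BT.node 20316 (BT.node 20315 (BT.leaf cE20315) (BT.leaf cE20316)) (BT.leaf cE20317)) (BT.node 20318 (BT.leaf cE20318) (BT.leaf cE20319)))))) (BT.node 20339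 (BT.node 20329 (BT.node 20324 (BT.node 20322 (BT.node 20321 (BT.node 20320 (BT.leaf cE20320) (BT.leaf cE20321)) (BT.leaf cE20322)) (BT.node 20323 (BT.leaf cE20323) (BT.leaf cE20324))) (BT.node 20327 (BT.node 20326 (BT.node 20325 (BT.leaf cE20325) (BT.leaf cE20326)) (BT.leaf cE20327)) (BT.node 20328 (BT.leaf cE20328) (BT.leaf cE20329)))) (BT.node 20334 (BT.node 20332 (BT.node 20331 (BT.node 20330 (BT.leaf cE20330) (BT.leaf cE20331)) (BT.leaf cE20332)) (BT.node 20333 (BT.leaf cE20333) (BT.leaf cE20334))) (BT.node 20337 (BT.node 20336 (BT.node 20335 (BT.leaf cE20335) (BT.leaf cE20336)) (BT.leaf cE20337)) (BT.node 20338 (BT.leaf cE20338) (BT.leaf cE20339))))) (BT.node 20349 (BT.node 20344 (BT.node 20342 (BT.node 20341 (BT.node 20340 (BT.leaf cE20340) (BT.leaf cE20341)) (BT.leaf cE20342)) (BT.node 20343 (BT.leaf cE20343) (BT.leaf cE20344))) (BT.node 20347 (BT.node 20346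 (BT.node 20345 (BT.leaf cE20345) (BT.leaf cE20346)) (BT.leaf cE20347)) (BT.node 20348 (BT.leaf cE20348) (BT.leaf cE20349)))) (BT.node 20354 (BT.node 20352 (BT.node 20351 (BT.node 20350 (BT.leaf cE20350) (BT.leaf cE20351)) (BT.leaf cE20352)) (BT.node 20353 (BT.leaf cE20353) (BT.leaf cE20354))) (BT.node 20357 (BT.node 20356 (BT.node 20355 (BT.leaf cE20355) (BT.leaf cE20356)) (BT.leaf cE20357)) (BT.node 20358 (BT.leaf cE20358) (BT.leaf cE20359))))))))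
noncomputable def colET_126 : BT ℕ := (BT.node 20440 (BT.node 20400 (BT.node 20380 (BT.node 20370 (BT.node 20365 (BT.node 20362 (BT.node 20361 (BT.node 20360 (BT.leaf cE20360) (BT.leaf cE20361)) (BT.leaf cE20362)) (BT.node 20364 (BT.node 20363 (BT.leaf cE20363) (BT.leaf cE20364)) (BT.leaf cE20365))) (BT.node 20368 (BT.node 20367 (BT.node 20366 (BT.leaf cE20366) (BT.leaf cE20367)) (BT.leaf cE20368)) (BT.node 20369 (BT.leaf cE20369) (BT.leaf cE20370)))) (BT.node 20375 (BT.node 20373 (BT.node 20372 (BT.node 20371 (BT.leaf cE20371) (BT.leaf cE20372)) (BT.leaf cE20373)) (BT.node 20374 (BT.leaf cE20374) (BT.leaf cE20375))) (BT.node 20378 (BT.node 20377 (BT.node 20376 (BT.leaf cE20376) (BT.leaf cE20377)) (BT.leaf cE20378)) (BT.node 20379 (BT.leaf cE20379) (BT.leaf cE20380))))) (BT.node 20390 (BT.node 20385 (BT.node 20383 (BT.node 20382 (BT.node 20381 (BT.leaf cE20381) (BT.leaf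 cE20382)) (BT.leaf cE20383)) (BT.node 20384 (BT.leaf cE20384) (BT.leaf cE20385))) (BT.node 20388 (BT.node 20387 (BT.node 20386 (BT.leaf cE20386) (BT.leaf cE20387)) (BT.leaf cE20388)) (BT.node 20389 (BT.leaf cE20389) (BT.leaf cE20390)))) (BT.node 20395 (BT.node 20393 (BT.node 20392 (BT.node 20391 (BT.leaf cE20391) (BT.leaf cE20392)) (BT.leaf cE20393)) (BT.node 20394 (BT.leaf cE20394) (BT.leaf cE20395))) (BT.node 20398 (BT.node 20397 (BT.node 20396 (BT.leaf cE20396) (BT.leaf cE20397)) (BT.leaf cE20398)) (BT.node 20399 (BT.leaf cE20399) (BT.leaf cE20400)))))) (BT.node 20420 (BT.node 20410 (BT.node 20405 (BT.node 20403 (BT.node 20402 (BT.node 20401 (BT.leaf cE20401) (BT.leaf cE20402)) (BT.leaf cE20403)) (BT.node 20404 (BT.leaf cE20404) (BT.leaf cE20405))) (BT.node 20408 (BT.node 20407 (BT.node 20406 (BT.leaf cE20406) (BT.leaf cE20407)) (BT.leaf cE20408)) (BT.node 20409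 (BT.leaf cE20409) (BT.leaf cE20410)))) (BT.node 20415 (BT.node 20413 (BT.node 20412 (BT.node 20411 (BT.leaf cE20411) (BT.leaf cE20412)) (BT.leaf cE20413)) (BT.node 20414 (BT.leaf cE20414) (BT.leaf cE20415))) (BT.node 20418 (BT.node 20417 (BT.node 20416 (BT.leaf cE20416) (BT.leaf cE20417)) (BT.leaf cE20418)) (BT.node 20419 (BT.leaf cE20419) (BT.leaf cE20420))))) (BT.node 20430 (BT.node 20425 (BT.node 20423 (BT.node 20422 (BT.node 20421 (BT.leaf cE20421) (BT.leaf cE20422)) (BT.leaf cE20423)) (BT.node 20424 (BT.leaf cE20424) (BT.leaf cE20425))) (BT.node 20428 (BT.node 20427 (BT.node 20426 (BT.leaf cE20426) (BT.leaf cE20427)) (BT.leaf cE20428)) (BT.node 20429 (BT.leaf cE20429) (BT.leaf cE20430)))) (BT.node 20435 (BT.node 20433 (BT.node 20432 (BT.node 20431 (BT.leaf cE20431) (BT.leaf cE20432)) (BT.leaf cE20433)) (BT.node 20434 (BT.leaf cE20434) (BT.leaf cE20435))) (BT.node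 20438 (BT.node 20437 (BT.node 20436 (BT.leaf cE20436) (BT.leaf cE20437)) (BT.leaf cE20438)) (BT.node 20439 (BT.leaf cE20439) (BT.leaf cE20440))))))) (BT.node 20481 (BT.node 20461 (BT.node 20451 (BT.node 20446 (BT.node 20443 (BT.node 20442 (BT.node 20441 (BT.leaf cE20441) (BT.leaf cE20442)) (BT.leaf cE20443)) (BT.node 20445 (BT.node 20444 (BT.leaf cE20444) (BT.leaf cE20445)) (BT.leaf cE20446))) (BT.node 20449 (BT.node 20448 (BT.node 20447 (BT.leaf cE20447) (BT.leaf cE20448)) (BT.leaf cE20449)) (BT.node 20450 (BT.leaf cE20450) (BT.leaf cE20451)))) (BT.node 20456 (BT.node 20454 (BT.node 20453 (BT.node 20452 (BT.leaf cE20452) (BT.leaf cE20453)) (BT.leaf cE20454)) (BT.node 20455 (BT.leaf cE20455) (BT.leaf cE20456))) (BT.node 20459 (BT.node 20458 (BT.node 20457 (BT.leaf cE20457) (BT.leaf cE20458)) (BT.leaf cE20459)) (BT.node 20460 (BT.leaf cE20460) (BT.leaf cE20461)))))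 (BT.node 20471 (BT.node 20466 (BT.node 20464 (BT.node 20463 (BT.node 20462 (BT.leaf cE20462) (BT.leaf cE20463)) (BT.leaf cE20464)) (BT.node 20465 (BT.leaf cE20465) (BT.leaf cE20466))) (BT.node 20469 (BT.node 20468 (BT.node 20467 (BT.leaf cE20467) (BT.leaf cE20468)) (BT.leaf cE20469)) (BT.node 20470 (BT.leaf cE20470) (BT.leaf cE20471)))) (BT.node 20476 (BT.node 20474 (BT.node 20473 (BT.node 20472 (BT.leaf cE20472) (BT.leaf cE20473)) (BT.leaf cE20474)) (BT.node 20475 (BT.leaf cE20475) (BT.leaf cE20476))) (BT.node 20479 (BT.node 20478 (BT.node 20477 (BT.leaf cE20477) (BT.leaf cE20478)) (BT.leaf cE20479)) (BT.node 20480 (BT.leaf cE20480) (BT.leaf cE20481)))))) (BT.node 20501 (BT.node 20491 (BT.node 20486 (BT.node 20484 (BT.node 20483 (BT.node 20482 (BT.leaf cE20482) (BT.leaf cE20483)) (BT.leaf cE20484)) (BT.node 20485 (BT.leaf cE20485) (BT.leaf cE20486))) (BT.node 20489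 (BT.node 20488 (BT.node 20487 (BT.leaf cE20487) (BT.leaf cE20488)) (BT.leaf cE20489)) (BT.node 20490 (BT.leaf cE20490) (BT.leaf cE20491)))) (BT.node 20496 (BT.node 20494 (BT.node 20493 (BT.node 20492 (BT.leaf cE20492) (BT.leaf cE20493)) (BT.leaf cE20494)) (BT.node 20495 (BT.leaf cE20495) (BT.leaf cE20496))) (BT.node 20499 (BT.node 20498 (BT.node 20497 (BT.leaf cE20497) (BT.leaf cE20498)) (BT.leaf cE20499)) (BT.node 20500 (BT.leaf cE20500) (BT.leaf cE20501))))) (BT.node 20511 (BT.node 20506 (BT.node 20504 (BT.node 20503 (BT.node 20502 (BT.leaf cE20502) (BT.leaf cE20503)) (BT.leaf cE20504)) (BT.node 20505 (BT.leaf cE20505) (BT.leaf cE20506))) (BT.node 20509 (BT.node 20508 (BT.node 20507 (BT.leaf cE20507) (BT.leaf cE20508)) (BT.leaf cE20509)) (BT.node 20510 (BT.leaf cE20510) (BT.leaf cE20511)))) (BT.node 20516 (BT.node 20514 (BT.node 20513 (BT.node 20512 (BT.leaf cE20512)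 (BT.leaf cE20513)) (BT.leaf cE20514)) (BT.node 20515 (BT.leaf cE20515) (BT.leaf cE20516))) (BT.node 20519 (BT.node 20518 (BT.node 20517 (BT.leaf cE20517) (BT.leaf cE20518)) (BT.leaf cE20519)) (BT.node 20520 (BT.leaf cE20520) (BT.leaf cE20521))))))))
noncomputable def colET_127 : BT ℕ := (BT.node 20602 (BT.node 20562 (BT.node 20542 (BT.node 20532 (BT.node 20527 (BT.node 20524 (BT.node 20523 (BT.node 20522 (BT.leaf cE20522) (BT.leaf cE20523)) (BT.leaf cE20524)) (BT.node 20526 (BT.node 20525 (BT.leaf cE20525) (BT.leaf cE20526)) (BT.leaf cE20527))) (BT.node 20530 (BT.node 20529 (BT.node 20528 (BT.leaf cE20528) (BT.leaf cE20529)) (BT.leaf cE20530)) (BT.node 20531 (BT.leaf cE20531) (BT.leaf cE20532)))) (BT.node 20537 (BT.node 20535 (BT.node 20534 (BT.node 20533 (BT.leaf cE20533) (BT.leaf cE20534)) (BT.leaf cE20535)) (BT.node 20536 (BT.leaf cE20536) (BT.leaf cE20537))) (BT.node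 20540 (BT.node 20539 (BT.node 20538 (BT.leaf cE20538) (BT.leaf cE20539)) (BT.leaf cE20540)) (BT.node 20541 (BT.leaf cE20541) (BT.leaf cE20542))))) (BT.node 20552 (BT.node 20547 (BT.node 20545 (BT.node 20544 (BT.node 20543 (BT.leaf cE20543) (BT.leaf cE20544)) (BT.leaf cE20545)) (BT.node 20546 (BT.leaf cE20546) (BT.leaf cE20547))) (BT.node 20550 (BT.node 20549 (BT.node 20548 (BT.leaf cE20548) (BT.leaf cE20549)) (BT.leaf cE20550)) (BT.node 20551 (BT.leaf cE20551) (BT.leaf cE20552)))) (BT.node 20557 (BT.node 20555 (BT.node 20554 (BT.node 20553 (BT.leaf cE20553) (BT.leaf cE20554)) (BT.leaf cE20555)) (BT.node 20556 (BT.leaf cE20556) (BT.leaf cE20557))) (BT.node 20560 (BT.node 20559 (BT.node 20558 (BT.leaf cE20558) (BT.leaf cE20559)) (BT.leaf cE20560)) (BT.node 20561 (BT.leaf cE20561) (BT.leaf cE20562)))))) (BT.node 20582 (BT.node 20572 (BT.node 20567 (BT.node 20565 (BT.node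 20564 (BT.node 20563 (BT.leaf cE20563) (BT.leaf cE20564)) (BT.leaf cE20565)) (BT.node 20566 (BT.leaf cE20566) (BT.leaf cE20567))) (BT.node 20570 (BT.node 20569 (BT.node 20568 (BT.leaf cE20568) (BT.leaf cE20569)) (BT.leaf cE20570)) (BT.node 20571 (BT.leaf cE20571) (BT.leaf cE20572)))) (BT.node 20577 (BT.node 20575 (BT.node 20574 (BT.node 20573 (BT.leaf cE20573) (BT.leaf cE20574)) (BT.leaf cE20575)) (BT.node 20576 (BT.leaf cE20576) (BT.leaf cE20577))) (BT.node 20580 (BT.node 20579 (BT.node 20578 (BT.leaf cE20578) (BT.leaf cE20579)) (BT.leaf cE20580)) (BT.node 20581 (BT.leaf cE20581) (BT.leaf cE20582))))) (BT.node 20592 (BT.node 20587 (BT.node 20585 (BT.node 20584 (BT.node 20583 (BT.leaf cE20583) (BT.leaf cE20584)) (BT.leaf cE20585)) (BT.node 20586 (BT.leaf cE20586) (BT.leaf cE20587))) (BT.node 20590 (BT.node 20589 (BT.node 20588 (BT.leaf cE20588) (BT.leaf cE20589)) (BT.leaf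 cE20590)) (BT.node 20591 (BT.leaf cE20591) (BT.leaf cE20592)))) (BT.node 20597 (BT.node 20595 (BT.node 20594 (BT.node 20593 (BT.leaf cE20593) (BT.leaf cE20594)) (BT.leaf cE20595)) (BT.node 20596 (BT.leaf cE20596) (BT.leaf cE20597))) (BT.node 20600 (BT.node 20599 (BT.node 20598 (BT.leaf cE20598) (BT.leaf cE20599)) (BT.leaf cE20600)) (BT.node 20601 (BT.leaf cE20601) (BT.leaf cE20602))))))) (BT.node 20642 (BT.node 20622 (BT.node 20612 (BT.node 20607 (BT.node 20605 (BT.node 20604 (BT.node 20603 (BT.leaf cE20603) (BT.leaf cE20604)) (BT.leaf cE20605)) (BT.node 20606 (BT.leaf cE20606) (BT.leaf cE20607))) (BT.node 20610 (BT.node 20609 (BT.node 20608 (BT.leaf cE20608) (BT.leaf cE20609)) (BT.leaf cE20610)) (BT.node 20611 (BT.leaf cE20611) (BT.leaf cE20612)))) (BT.node 20617 (BT.node 20615 (BT.node 20614 (BT.node 20613 (BT.leaf cE20613) (BT.leaf cE20614)) (BT.leaf cE20615)) (BT.node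 20616 (BT.leaf cE20616) (BT.leaf cE20617))) (BT.node 20620 (BT.node 20619 (BT.node 20618 (BT.leaf cE20618) (BT.leaf cE20619)) (BT.leaf cE20620)) (BT.node 20621 (BT.leaf cE20621) (BT.leaf cE20622))))) (BT.node 20632 (BT.node 20627 (BT.node 20625 (BT.node 20624 (BT.node 20623 (BT.leaf cE20623) (BT.leaf cE20624)) (BT.leaf cE20625)) (BT.node 20626 (BT.leaf cE20626) (BT.leaf cE20627))) (BT.node 20630 (BT.node 20629 (BT.node 20628 (BT.leaf cE20628) (BT.leaf cE20629)) (BT.leaf cE20630)) (BT.node 20631 (BT.leaf cE20631) (BT.leaf cE20632)))) (BT.node 20637 (BT.node 20635 (BT.node 20634 (BT.node 20633 (BT.leaf cE20633) (BT.leaf cE20634)) (BT.leaf cE20635)) (BT.node 20636 (BT.leaf cE20636) (BT.leaf cE20637))) (BT.node 20640 (BT.node 20639 (BT.node 20638 (BT.leaf cE20638) (BT.leaf cE20639)) (BT.leaf cE20640)) (BT.node 20641 (BT.leaf cE20641) (BT.leaf cE20642)))))) (BT.node 20662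 (BT.node 20652 (BT.node 20647 (BT.node 20645 (BT.node 20644 (BT.node 20643 (BT.leaf cE20643) (BT.leaf cE20644)) (BT.leaf cE20645)) (BT.node 20646 (BT.leaf cE20646) (BT.leaf cE20647))) (BT.node 20650 (BT.node 20649 (BT.node 20648 (BT.leaf cE20648) (BT.leaf cE20649)) (BT.leaf cE20650)) (BT.node 20651 (BT.leaf cE20651) (BT.leaf cE20652)))) (BT.node 20657 (BT.node 20655 (BT.node 20654 (BT.node 20653 (BT.leaf cE20653) (BT.leaf cE20654)) (BT.leaf cE20655)) (BT.node 20656 (BT.leaf cE20656) (BT.leaf cE20657))) (BT.node 20660 (BT.node 20659 (BT.node 20658 (BT.leaf cE20658) (BT.leaf cE20659)) (BT.leaf cE20660)) (BT.node 20661 (BT.leaf cE20661) (BT.leaf cE20662))))) (BT.node 20672 (BT.node 20667 (BT.node 20665 (BT.node 20664 (BT.node 20663 (BT.leaf cE20663) (BT.leaf cE20664)) (BT.leaf cE20665)) (BT.node 20666 (BT.leaf cE20666) (BT.leaf cE20667))) (BT.node 20670 (BT.node 20669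 (BT.node 20668 (BT.leaf cE20668) (BT.leaf cE20669)) (BT.leaf cE20670)) (BT.node 20671 (BT.leaf cE20671) (BT.leaf cE20672)))) (BT.node 20677 (BT.node 20675 (BT.node 20674 (BT.node 20673 (BT.leaf cE20673) (BT.leaf cE20674)) (BT.leaf cE20675)) (BT.node 20676 (BT.leaf cE20676) (BT.leaf cE20677))) (BT.node 20680 (BT.node 20679 (BT.node 20678 (BT.leaf cE20678) (BT.leaf cE20679)) (BT.leaf cE20680)) (BT.node 20681 (BT.leaf cE20681) (BT.leaf cE20682))))))))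
noncomputable def colET : BT ℕ := (BT.node 10341 (BT.node 5170 (BT.node 2585 (BT.node 1292 (BT.node 646 (BT.node 323 (BT.node 161 colET_0 colET_1) (BT.node 485 colET_2 colET_3)) (BT.node 969 (BT.node 808 colET_4 colET_5) (BT.node 1131 colET_6 colET_7))) (BT.node 1939 (BT.node 1616 (BT.node 1454 colET_8 colET_9) (BT.node 1778 colET_10 colET_11)) (BT.node 2262 (BT.node 2101 colET_12 colET_13) (BT.node 2424 colET_14 colET_15)))) (BT.node 3878 (BT.node 3232 (BT.node 2909 (BT.node 2747 colET_16 colET_17) (BT.node 3071 colET_18 colET_19)) (BT.node 3555 (BT.node 3394 colET_20 colET_21) (BT.node 3717 colET_22 colET_23))) (BT.node 4524 (BT.node 4201 (BT.node 4040 colET_24 colET_25) (BT.node 4363 colET_26 colET_27)) (BT.node 4847 (BT.node 4686 colET_28 colET_29) (BT.node 5009 colET_30 colET_31))))) (BT.node 7756 (BT.node 6463 (BT.node 5817 (BT.node 5494 (BT.node 5332 colET_32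 colET_33) (BT.node 5656 colET_34 colET_35)) (BT.node 6140 (BT.node 5979 colET_36 colET_37) (BT.node 6302 colET_38 colET_39))) (BT.node 7110 (BT.node 6787 (BT.node 6625 colET_40 colET_41) (BT.node 6949 colET_42 colET_43)) (BT.node 7433 (BT.node 7272 colET_44 colET_45) (BT.node 7595 colET_46 colET_47)))) (BT.node 9049 (BT.node 8403 (BT.node 8080 (BT.node 7918 colET_48 colET_49) (BT.node 8242 colET_50 colET_51)) (BT.node 8726 (BT.node 8565 colET_52 colET_53) (BT.node 8888 colET_54 colET_55))) (BT.node 9695 (BT.node 9372 (BT.node 9211 colET_56 colET_57) (BT.node 9534 colET_58 colET_59)) (BT.node 10018 (BT.node 9857 colET_60 colET_61) (BT.node 10180 colET_62 colET_63)))))) (BT.node 15512 (BT.node 12927 (BT.node 11634 (BT.node 10988 (BT.node 10665 (BT.node 10503 colET_64 colET_65) (BT.node 10827 colET_66 colET_67)) (BT.node 11311 (BT.node 11150 colET_68 colET_69) (BT.node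 11473 colET_70 colET_71))) (BT.node 12281 (BT.node 11958 (BT.node 11796 colET_72 colET_73) (BT.node 12120 colET_74 colET_75)) (BT.node 12604 (BT.node 12443 colET_76 colET_77) (BT.node 12766 colET_78 colET_79)))) (BT.node 14220 (BT.node 13574 (BT.node 13251 (BT.node 13089 colET_80 colET_81) (BT.node 13413 colET_82 colET_83)) (BT.node 13897 (BT.node 13736 colET_84 colET_85) (BT.node 14059 colET_86 colET_87))) (BT.node 14866 (BT.node 14543 (BT.node 14382 colET_88 colET_89) (BT.node 14705 colET_90 colET_91)) (BT.node 15189 (BT.node 15028 colET_92 colET_93) (BT.node 15351 colET_94 colET_95))))) (BT.node 18097 (BT.node 16805 (BT.node 16159 (BT.node 15836 (BT.node 15674 colET_96 colET_97) (BT.node 15998 colET_98 colET_99)) (BT.node 16482 (BT.node 16321 colET_100 colET_101) (BT.node 16644 colET_102 colET_103))) (BT.node 17451 (BT.node 17128 (BT.node 16967 colET_104 colET_105)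 (BT.node 17290 colET_106 colET_107)) (BT.node 17774 (BT.node 17613 colET_108 colET_109) (BT.node 17936 colET_110 colET_111)))) (BT.node 19390 (BT.node 18744 (BT.node 18421 (BT.node 18259 colET_112 colET_113) (BT.node 18583 colET_114 colET_115)) (BT.node 19067 (BT.node 18906 colET_116 colET_117) (BT.node 19229 colET_118 colET_119))) (BT.node 20036 (BT.node 19713 (BT.node 19552 colET_120 colET_121) (BT.node 19875 colET_122 colET_123)) (BT.node 20359 (BT.node 20198 colET_124 colET_125) (BT.node 20521 colET_126 colET_127)))))))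
/-- justification chunks -/
noncomputable def colJT_0 : BT ℕ := (BT.node 80 (BT.node 40 (BT.node 20 (BT.node 10 (BT.node 5 (BT.node 2 (BT.node 1 (BT.node 0 (BT.leaf cJ0) (BT.leaf cJ1)) (BT.leaf cJ2)) (BT.node 4 (BT.node 3 (BT.leaf cJ3) (BT.leaf cJ4)) (BT.leaf cJ5))) (BT.node 8 (BT.node 7 (BT.node 6 (BT.leaf cJ6) (BT.leaf cJ7)) (BT.leaf cJ8)) (BT.node 9 (BT.leaf cJ9) (BT.leaf cJ10)))) (BT.node 15 (BT.node 13 (BT.node 12 (BT.node 11 (BT.leaf cJ11) (BT.leaf cJ12)) (BT.leaf cJ13)) (BT.node 14 (BT.leaf cJ14) (BT.leaf cJ15))) (BT.node 18 (BT.node 17 (BT.node 16 (BT.leaf cJ16) (BT.leaf cJ17)) (BT.leaf cJ18)) (BT.node 19 (BT.leaf cJ19) (BT.leaf cJ20))))) (BT.node 30 (BT.node 25 (BT.node 23 (BT.node 22 (BT.node 21 (BT.leaf cJ21) (BT.leaf cJ22)) (BT.leaf cJ23)) (BT.node 24 (BT.leaf cJ24) (BT.leaf cJ25))) (BT.node 28 (BT.node 27 (BT.node 26 (BT.leaf cJ26) (BT.leaf cJ27)) (BT.leaf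 cJ28)) (BT.node 29 (BT.leaf cJ29) (BT.leaf cJ30)))) (BT.node 35 (BT.node 33 (BT.node 32 (BT.node 31 (BT.leaf cJ31) (BT.leaf cJ32)) (BT.leaf cJ33)) (BT.node 34 (BT.leaf cJ34) (BT.leaf cJ35))) (BT.node 38 (BT.node 37 (BT.node 36 (BT.leaf cJ36) (BT.leaf cJ37)) (BT.leaf cJ38)) (BT.node 39 (BT.leaf cJ39) (BT.leaf cJ40)))))) (BT.node 60 (BT.node 50 (BT.node 45 (BT.node 43 (BT.node 42 (BT.node 41 (BT.leaf cJ41) (BT.leaf cJ42)) (BT.leaf cJ43)) (BT.node 44 (BT.leaf cJ44) (BT.leaf cJ45))) (BT.node 48 (BT.node 47 (BT.node 46 (BT.leaf cJ46) (BT.leaf cJ47)) (BT.leaf cJ48)) (BT.node 49 (BT.leaf cJ49) (BT.leaf cJ50)))) (BT.node 55 (BT.node 53 (BT.node 52 (BT.node 51 (BT.leaf cJ51) (BT.leaf cJ52)) (BT.leaf cJ53)) (BT.node 54 (BT.leaf cJ54) (BT.leaf cJ55))) (BT.node 58 (BT.node 57 (BT.node 56 (BT.leaf cJ56) (BT.leaf cJ57)) (BT.leaf cJ58)) (BT.node 59 (BT.leaf cJ59) (BT.leaf cJ60)))))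 (BT.node 70 (BT.node 65 (BT.node 63 (BT.node 62 (BT.node 61 (BT.leaf cJ61) (BT.leaf cJ62)) (BT.leaf cJ63)) (BT.node 64 (BT.leaf cJ64) (BT.leaf cJ65))) (BT.node 68 (BT.node 67 (BT.node 66 (BT.leaf cJ66) (BT.leaf cJ67)) (BT.leaf cJ68)) (BT.node 69 (BT.leaf cJ69) (BT.leaf cJ70)))) (BT.node 75 (BT.node 73 (BT.node 72 (BT.node 71 (BT.leaf cJ71) (BT.leaf cJ72)) (BT.leaf cJ73)) (BT.node 74 (BT.leaf cJ74) (BT.leaf cJ75))) (BT.node 78 (BT.node 77 (BT.node 76 (BT.leaf cJ76) (BT.leaf cJ77)) (BT.leaf cJ78)) (BT.node 79 (BT.leaf cJ79) (BT.leaf cJ80))))))) (BT.node 121 (BT.node 101 (BT.node 91 (BT.node 86 (BT.node 83 (BT.node 82 (BT.node 81 (BT.leaf cJ81) (BT.leaf cJ82)) (BT.leaf cJ83)) (BT.node 85 (BT.node 84 (BT.leaf cJ84) (BT.leaf cJ85)) (BT.leaf cJ86))) (BT.node 89 (BT.node 88 (BT.node 87 (BT.leaf cJ87) (BT.leaf cJ88)) (BT.leaf cJ89)) (BT.node 90 (BT.leaf cJ90) (BT.leaf cJ91))))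 (BT.node 96 (BT.node 94 (BT.node 93 (BT.node 92 (BT.leaf cJ92) (BT.leaf cJ93)) (BT.leaf cJ94)) (BT.node 95 (BT.leaf cJ95) (BT.leaf cJ96))) (BT.node 99 (BT.node 98 (BT.node 97 (BT.leaf cJ97) (BT.leaf cJ98)) (BT.leaf cJ99)) (BT.node 100 (BT.leaf cJ100) (BT.leaf cJ101))))) (BT.node 111 (BT.node 106 (BT.node 104 (BT.node 103 (BT.node 102 (BT.leaf cJ102) (BT.leaf cJ103)) (BT.leaf cJ104)) (BT.node 105 (BT.leaf cJ105) (BT.leaf cJ106))) (BT.node 109 (BT.node 108 (BT.node 107 (BT.leaf cJ107) (BT.leaf cJ108)) (BT.leaf cJ109)) (BT.node 110 (BT.leaf cJ110) (BT.leaf cJ111)))) (BT.node 116 (BT.node 114 (BT.node 113 (BT.node 112 (BT.leaf cJ112) (BT.leaf cJ113)) (BT.leaf cJ114)) (BT.node 115 (BT.leaf cJ115) (BT.leaf cJ116))) (BT.node 119 (BT.node 118 (BT.node 117 (BT.leaf cJ117) (BT.leaf cJ118)) (BT.leaf cJ119)) (BT.node 120 (BT.leaf cJ120) (BT.leaf cJ121)))))) (BT.node 141 (BT.node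 131 (BT.node 126 (BT.node 124 (BT.node 123 (BT.node 122 (BT.leaf cJ122) (BT.leaf cJ123)) (BT.leaf cJ124)) (BT.node 125 (BT.leaf cJ125) (BT.leaf cJ126))) (BT.node 129 (BT.node 128 (BT.node 127 (BT.leaf cJ127) (BT.leaf cJ128)) (BT.leaf cJ129)) (BT.node 130 (BT.leaf cJ130) (BT.leaf cJ131)))) (BT.node 136 (BT.node 134 (BT.node 133 (BT.node 132 (BT.leaf cJ132) (BT.leaf cJ133)) (BT.leaf cJ134)) (BT.node 135 (BT.leaf cJ135) (BT.leaf cJ136))) (BT.node 139 (BT.node 138 (BT.node 137 (BT.leaf cJ137) (BT.leaf cJ138)) (BT.leaf cJ139)) (BT.node 140 (BT.leaf cJ140) (BT.leaf cJ141))))) (BT.node 151 (BT.node 146 (BT.node 144 (BT.node 143 (BT.node 142 (BT.leaf cJ142) (BT.leaf cJ143)) (BT.leaf cJ144)) (BT.node 145 (BT.leaf cJ145) (BT.leaf cJ146))) (BT.node 149 (BT.node 148 (BT.node 147 (BT.leaf cJ147) (BT.leaf cJ148)) (BT.leaf cJ149)) (BT.node 150 (BT.leaf cJ150) (BT.leaf cJ151)))) (BT.node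 156 (BT.node 154 (BT.node 153 (BT.node 152 (BT.leaf cJ152) (BT.leaf cJ153)) (BT.leaf cJ154)) (BT.node 155 (BT.leaf cJ155) (BT.leaf cJ156))) (BT.node 159 (BT.node 158 (BT.node 157 (BT.leaf cJ157) (BT.leaf cJ158)) (BT.leaf cJ159)) (BT.node 160 (BT.leaf cJ160) (BT.leaf cJ161))))))))
noncomputable def colJT_1 : BT ℕ := (BT.node 242 (BT.node 202 (BT.node 182 (BT.node 172 (BT.node 167 (BT.node 164 (BT.node 163 (BT.node 162 (BT.leaf cJ162) (BT.leaf cJ163)) (BT.leaf cJ164)) (BT.node 166 (BT.node 165 (BT.leaf cJ165) (BT.leaf cJ166)) (BT.leaf cJ167))) (BT.node 170 (BT.node 169 (BT.node 168 (BT.leaf cJ168) (BT.leaf cJ169)) (BT.leaf cJ170)) (BT.node 171 (BT.leaf cJ171) (BT.leaf cJ172)))) (BT.node 177 (BT.node 175 (BT.node 174 (BT.node 173 (BT.leaf cJ173) (BT.leaf cJ174)) (BT.leaf cJ175)) (BT.node 176 (BT.leaf cJ176) (BT.leaf cJ177))) (BT.node 180 (BT.node 179 (BT.node 178 (BT.leaf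 cJ178) (BT.leaf cJ179)) (BT.leaf cJ180)) (BT.node 181 (BT.leaf cJ181) (BT.leaf cJ182))))) (BT.node 192 (BT.node 187 (BT.node 185 (BT.node 184 (BT.node 183 (BT.leaf cJ183) (BT.leaf cJ184)) (BT.leaf cJ185)) (BT.node 186 (BT.leaf cJ186) (BT.leaf cJ187))) (BT.node 190 (BT.node 189 (BT.node 188 (BT.leaf cJ188) (BT.leaf cJ189)) (BT.leaf cJ190)) (BT.node 191 (BT.leaf cJ191) (BT.leaf cJ192)))) (BT.node 197 (BT.node 195 (BT.node 194 (BT.node 193 (BT.leaf cJ193) (BT.leaf cJ194)) (BT.leaf cJ195)) (BT.node 196 (BT.leaf cJ196) (BT.leaf cJ197))) (BT.node 200 (BT.node 199 (BT.node 198 (BT.leaf cJ198) (BT.leaf cJ199)) (BT.leaf cJ200)) (BT.node 201 (BT.leaf cJ201) (BT.leaf cJ202)))))) (BT.node 222 (BT.node 212 (BT.node 207 (BT.node 205 (BT.node 204 (BT.node 203 (BT.leaf cJ203) (BT.leaf cJ204)) (BT.leaf cJ205)) (BT.node 206 (BT.leaf cJ206) (BT.leaf cJ207))) (BT.node 210 (BT.node 209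 (BT.node 208 (BT.leaf cJ208) (BT.leaf cJ209)) (BT.leaf cJ210)) (BT.node 211 (BT.leaf cJ211) (BT.leaf cJ212)))) (BT.node 217 (BT.node 215 (BT.node 214 (BT.node 213 (BT.leaf cJ213) (BT.leaf cJ214)) (BT.leaf cJ215)) (BT.node 216 (BT.leaf cJ216) (BT.leaf cJ217))) (BT.node 220 (BT.node 219 (BT.node 218 (BT.leaf cJ218) (BT.leaf cJ219)) (BT.leaf cJ220)) (BT.node 221 (BT.leaf cJ221) (BT.leaf cJ222))))) (BT.node 232 (BT.node 227 (BT.node 225 (BT.node 224 (BT.node 223 (BT.leaf cJ223) (BT.leaf cJ224)) (BT.leaf cJ225)) (BT.node 226 (BT.leaf cJ226) (BT.leaf cJ227))) (BT.node 230 (BT.node 229 (BT.node 228 (BT.leaf cJ228) (BT.leaf cJ229)) (BT.leaf cJ230)) (BT.node 231 (BT.leaf cJ231) (BT.leaf cJ232)))) (BT.node 237 (BT.node 235 (BT.node 234 (BT.node 233 (BT.leaf cJ233) (BT.leaf cJ234)) (BT.leaf cJ235)) (BT.node 236 (BT.leaf cJ236) (BT.leaf cJ237))) (BT.node 240 (BT.node 239 (BT.node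 238 (BT.leaf cJ238) (BT.leaf cJ239)) (BT.leaf cJ240)) (BT.node 241 (BT.leaf cJ241) (BT.leaf cJ242))))))) (BT.node 283 (BT.node 263 (BT.node 253 (BT.node 248 (BT.node 245 (BT.node 244 (BT.node 243 (BT.leaf cJ243) (BT.leaf cJ244)) (BT.leaf cJ245)) (BT.node 247 (BT.node 246 (BT.leaf cJ246) (BT.leaf cJ247)) (BT.leaf cJ248))) (BT.node 251 (BT.node 250 (BT.node 249 (BT.leaf cJ249) (BT.leaf cJ250)) (BT.leaf cJ251)) (BT.node 252 (BT.leaf cJ252) (BT.leaf cJ253)))) (BT.node 258 (BT.node 256 (BT.node 255 (BT.node 254 (BT.leaf cJ254) (BT.leaf cJ255)) (BT.leaf cJ256)) (BT.node 257 (BT.leaf cJ257) (BT.leaf cJ258))) (BT.node 261 (BT.node 260 (BT.node 259 (BT.leaf cJ259) (BT.leaf cJ260)) (BT.leaf cJ261)) (BT.node 262 (BT.leaf cJ262) (BT.leaf cJ263))))) (BT.node 273 (BT.node 268 (BT.node 266 (BT.node 265 (BT.node 264 (BT.leaf cJ264) (BT.leaf cJ265)) (BT.leaf cJ266)) (BT.node 267 (BT.leaf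 cJ267) (BT.leaf cJ268))) (BT.node 271 (BT.node 270 (BT.node 269 (BT.leaf cJ269) (BT.leaf cJ270)) (BT.leaf cJ271)) (BT.node 272 (BT.leaf cJ272) (BT.leaf cJ273)))) (BT.node 278 (BT.node 276 (BT.node 275 (BT.node 274 (BT.leaf cJ274) (BT.leaf cJ275)) (BT.leaf cJ276)) (BT.node 277 (BT.leaf cJ277) (BT.leaf cJ278))) (BT.node 281 (BT.node 280 (BT.node 279 (BT.leaf cJ279) (BT.leaf cJ280)) (BT.leaf cJ281)) (BT.node 282 (BT.leaf cJ282) (BT.leaf cJ283)))))) (BT.node 303 (BT.node 293 (BT.node 288 (BT.node 286 (BT.node 285 (BT.node 284 (BT.leaf cJ284) (BT.leaf cJ285)) (BT.leaf cJ286)) (BT.node 287 (BT.leaf cJ287) (BT.leaf cJ288))) (BT.node 291 (BT.node 290 (BT.node 289 (BT.leaf cJ289) (BT.leaf cJ290)) (BT.leaf cJ291)) (BT.node 292 (BT.leaf cJ292) (BT.leaf cJ293)))) (BT.node 298 (BT.node 296 (BT.node 295 (BT.node 294 (BT.leaf cJ294) (BT.leaf cJ295)) (BT.leaf cJ296)) (BT.node 297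 (BT.leaf cJ297) (BT.leaf cJ298))) (BT.node 301 (BT.node 300 (BT.node 299 (BT.leaf cJ299) (BT.leaf cJ300)) (BT.leaf cJ301)) (BT.node 302 (BT.leaf cJ302) (BT.leaf cJ303))))) (BT.node 313 (BT.node 308 (BT.node 306 (BT.node 305 (BT.node 304 (BT.leaf cJ304) (BT.leaf cJ305)) (BT.leaf cJ306)) (BT.node 307 (BT.leaf cJ307) (BT.leaf cJ308))) (BT.node 311 (BT.node 310 (BT.node 309 (BT.leaf cJ309) (BT.leaf cJ310)) (BT.leaf cJ311)) (BT.node 312 (BT.leaf cJ312) (BT.leaf cJ313)))) (BT.node 318 (BT.node 316 (BT.node 315 (BT.node 314 (BT.leaf cJ314) (BT.leaf cJ315)) (BT.leaf cJ316)) (BT.node 317 (BT.leaf cJ317) (BT.leaf cJ318))) (BT.node 321 (BT.node 320 (BT.node 319 (BT.leaf cJ319) (BT.leaf cJ320)) (BT.leaf cJ321)) (BT.node 322 (BT.leaf cJ322) (BT.leaf cJ323))))))))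
noncomputable def colJT_2 : BT ℕ := (BT.node 404 (BT.node 364 (BT.node 344 (BT.node 334 (BT.node 329 (BT.node 326 (BT.node 325 (BT.node 324 (BT.leaf cJ324) (BT.leaf cJ325)) (BT.leaf cJ326)) (BT.node 328 (BT.node 327 (BT.leaf cJ327) (BT.leaf cJ328)) (BT.leaf cJ329))) (BT.node 332 (BT.node 331 (BT.node 330 (BT.leaf cJ330) (BT.leaf cJ331)) (BT.leaf cJ332)) (BT.node 333 (BT.leaf cJ333) (BT.leaf cJ334)))) (BT.node 339 (BT.node 337 (BT.node 336 (BT.node 335 (BT.leaf cJ335) (BT.leaf cJ336)) (BT.leaf cJ337)) (BT.node 338 (BT.leaf cJ338) (BT.leaf cJ339))) (BT.node 342 (BT.node 341 (BT.node 340 (BT.leaf cJ340) (BT.leaf cJ341)) (BT.leaf cJ342)) (BT.node 343 (BT.leaf cJ343) (BT.leaf cJ344))))) (BT.node 354 (BT.node 349 (BT.node 347 (BT.node 346 (BT.node 345 (BT.leaf cJ345) (BT.leaf cJ346)) (BT.leaf cJ347)) (BT.node 348 (BT.leaf cJ348) (BT.leaf cJ349))) (BT.node 352 (BT.node 351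 (BT.node 350 (BT.leaf cJ350) (BT.leaf cJ351)) (BT.leaf cJ352)) (BT.node 353 (BT.leaf cJ353) (BT.leaf cJ354)))) (BT.node 359 (BT.node 357 (BT.node 356 (BT.node 355 (BT.leaf cJ355) (BT.leaf cJ356)) (BT.leaf cJ357)) (BT.node 358 (BT.leaf cJ358) (BT.leaf cJ359))) (BT.node 362 (BT.node 361 (BT.node 360 (BT.leaf cJ360) (BT.leaf cJ361)) (BT.leaf cJ362)) (BT.node 363 (BT.leaf cJ363) (BT.leaf cJ364)))))) (BT.node 384 (BT.node 374 (BT.node 369 (BT.node 367 (BT.node 366 (BT.node 365 (BT.leaf cJ365) (BT.leaf cJ366)) (BT.leaf cJ367)) (BT.node 368 (BT.leaf cJ368) (BT.leaf cJ369))) (BT.node 372 (BT.node 371 (BT.node 370 (BT.leaf cJ370) (BT.leaf cJ371)) (BT.leaf cJ372)) (BT.node 373 (BT.leaf cJ373) (BT.leaf cJ374)))) (BT.node 379 (BT.node 377 (BT.node 376 (BT.node 375 (BT.leaf cJ375) (BT.leaf cJ376)) (BT.leaf cJ377)) (BT.node 378 (BT.leaf cJ378) (BT.leaf cJ379))) (BT.node 382 (BT.node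 381 (BT.node 380 (BT.leaf cJ380) (BT.leaf cJ381)) (BT.leaf cJ382)) (BT.node 383 (BT.leaf cJ383) (BT.leaf cJ384))))) (BT.node 394 (BT.node 389 (BT.node 387 (BT.node 386 (BT.node 385 (BT.leaf cJ385) (BT.leaf cJ386)) (BT.leaf cJ387)) (BT.node 388 (BT.leaf cJ388) (BT.leaf cJ389))) (BT.node 392 (BT.node 391 (BT.node 390 (BT.leaf cJ390) (BT.leaf cJ391)) (BT.leaf cJ392)) (BT.node 393 (BT.leaf cJ393) (BT.leaf cJ394)))) (BT.node 399 (BT.node 397 (BT.node 396 (BT.node 395 (BT.leaf cJ395) (BT.leaf cJ396)) (BT.leaf cJ397)) (BT.node 398 (BT.leaf cJ398) (BT.leaf cJ399))) (BT.node 402 (BT.node 401 (BT.node 400 (BT.leaf cJ400) (BT.leaf cJ401)) (BT.leaf cJ402)) (BT.node 403 (BT.leaf cJ403) (BT.leaf cJ404))))))) (BT.node 445 (BT.node 425 (BT.node 415 (BT.node 410 (BT.node 407 (BT.node 406 (BT.node 405 (BT.leaf cJ405) (BT.leaf cJ406)) (BT.leaf cJ407)) (BT.node 409 (BT.node 408 (BT.leaf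 cJ408) (BT.leaf cJ409)) (BT.leaf cJ410))) (BT.node 413 (BT.node 412 (BT.node 411 (BT.leaf cJ411) (BT.leaf cJ412)) (BT.leaf cJ413)) (BT.node 414 (BT.leaf cJ414) (BT.leaf cJ415)))) (BT.node 420 (BT.node 418 (BT.node 417 (BT.node 416 (BT.leaf cJ416) (BT.leaf cJ417)) (BT.leaf cJ418)) (BT.node 419 (BT.leaf cJ419) (BT.leaf cJ420))) (BT.node 423 (BT.node 422 (BT.node 421 (BT.leaf cJ421) (BT.leaf cJ422)) (BT.leaf cJ423)) (BT.node 424 (BT.leaf cJ424) (BT.leaf cJ425))))) (BT.node 435 (BT.node 430 (BT.node 428 (BT.node 427 (BT.node 426 (BT.leaf cJ426) (BT.leaf cJ427)) (BT.leaf cJ428)) (BT.node 429 (BT.leaf cJ429) (BT.leaf cJ430))) (BT.node 433 (BT.node 432 (BT.node 431 (BT.leaf cJ431) (BT.leaf cJ432)) (BT.leaf cJ433)) (BT.node 434 (BT.leaf cJ434) (BT.leaf cJ435)))) (BT.node 440 (BT.node 438 (BT.node 437 (BT.node 436 (BT.leaf cJ436) (BT.leaf cJ437)) (BT.leaf cJ438)) (BT.node 439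 (BT.leaf cJ439) (BT.leaf cJ440))) (BT.node 443 (BT.node 442 (BT.node 441 (BT.leaf cJ441) (BT.leaf cJ442)) (BT.leaf cJ443)) (BT.node 444 (BT.leaf cJ444) (BT.leaf cJ445)))))) (BT.node 465 (BT.node 455 (BT.node 450 (BT.node 448 (BT.node 447 (BT.node 446 (BT.leaf cJ446) (BT.leaf cJ447)) (BT.leaf cJ448)) (BT.node 449 (BT.leaf cJ449) (BT.leaf cJ450))) (BT.node 453 (BT.node 452 (BT.node 451 (BT.leaf cJ451) (BT.leaf cJ452)) (BT.leaf cJ453)) (BT.node 454 (BT.leaf cJ454) (BT.leaf cJ455)))) (BT.node 460 (BT.node 458 (BT.node 457 (BT.node 456 (BT.leaf cJ456) (BT.leaf cJ457)) (BT.leaf cJ458)) (BT.node 459 (BT.leaf cJ459) (BT.leaf cJ460))) (BT.node 463 (BT.node 462 (BT.node 461 (BT.leaf cJ461) (BT.leaf cJ462)) (BT.leaf cJ463)) (BT.node 464 (BT.leaf cJ464) (BT.leaf cJ465))))) (BT.node 475 (BT.node 470 (BT.node 468 (BT.node 467 (BT.node 466 (BT.leaf cJ466) (BT.leaf cJ467)) (BT.leaf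 cJ468)) (BT.node 469 (BT.leaf cJ469) (BT.leaf cJ470))) (BT.node 473 (BT.node 472 (BT.node 471 (BT.leaf cJ471) (BT.leaf cJ472)) (BT.leaf cJ473)) (BT.node 474 (BT.leaf cJ474) (BT.leaf cJ475)))) (BT.node 480 (BT.node 478 (BT.node 477 (BT.node 476 (BT.leaf cJ476) (BT.leaf cJ477)) (BT.leaf cJ478)) (BT.node 479 (BT.leaf cJ479) (BT.leaf cJ480))) (BT.node 483 (BT.node 482 (BT.node 481 (BT.leaf cJ481) (BT.leaf cJ482)) (BT.leaf cJ483)) (BT.node 484 (BT.leaf cJ484) (BT.leaf cJ485))))))))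
noncomputable def colJT_3 : BT ℕ := (BT.node 566 (BT.node 526 (BT.node 506 (BT.node 496 (BT.node 491 (BT.node 488 (BT.node 487 (BT.node 486 (BT.leaf cJ486) (BT.leaf cJ487)) (BT.leaf cJ488)) (BT.node 490 (BT.node 489 (BT.leaf cJ489) (BT.leaf cJ490)) (BT.leaf cJ491))) (BT.node 494 (BT.node 493 (BT.node 492 (BT.leaf cJ492) (BT.leaf cJ493)) (BT.leaf cJ494)) (BT.node 495 (BT.leaf cJ495) (BT.leaf cJ496)))) (BT.node 501 (BT.node 499 (BT.node 498 (BT.node 497 (BT.leaf cJ497) (BT.leaf cJ498)) (BT.leaf cJ499)) (BT.node 500 (BT.leaf cJ500) (BT.leaf cJ501))) (BT.node 504 (BT.node 503 (BT.node 502 (BT.leaf cJ502) (BT.leaf cJ503)) (BT.leaf cJ504)) (BT.node 505 (BT.leaf cJ505) (BT.leaf cJ506))))) (BT.node 516 (BT.node 511 (BT.node 509 (BT.node 508 (BT.node 507 (BT.leaf cJ507) (BT.leaf cJ508)) (BT.leaf cJ509)) (BT.node 510 (BT.leaf cJ510) (BT.leaf cJ511))) (BT.node 514 (BT.node 513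 (BT.node 512 (BT.leaf cJ512) (BT.leaf cJ513)) (BT.leaf cJ514)) (BT.node 515 (BT.leaf cJ515) (BT.leaf cJ516)))) (BT.node 521 (BT.node 519 (BT.node 518 (BT.node 517 (BT.leaf cJ517) (BT.leaf cJ518)) (BT.leaf cJ519)) (BT.node 520 (BT.leaf cJ520) (BT.leaf cJ521))) (BT.node 524 (BT.node 523 (BT.node 522 (BT.leaf cJ522) (BT.leaf cJ523)) (BT.leaf cJ524)) (BT.node 525 (BT.leaf cJ525) (BT.leaf cJ526)))))) (BT.node 546 (BT.node 536 (BT.node 531 (BT.node 529 (BT.node 528 (BT.node 527 (BT.leaf cJ527) (BT.leaf cJ528)) (BT.leaf cJ529)) (BT.node 530 (BT.leaf cJ530) (BT.leaf cJ531))) (BT.node 534 (BT.node 533 (BT.node 532 (BT.leaf cJ532) (BT.leaf cJ533)) (BT.leaf cJ534)) (BT.node 535 (BT.leaf cJ535) (BT.leaf cJ536)))) (BT.node 541 (BT.node 539 (BT.node 538 (BT.node 537 (BT.leaf cJ537) (BT.leaf cJ538)) (BT.leaf cJ539)) (BT.node 540 (BT.leaf cJ540) (BT.leaf cJ541))) (BT.node 544 (BT.node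 543 (BT.node 542 (BT.leaf cJ542) (BT.leaf cJ543)) (BT.leaf cJ544)) (BT.node 545 (BT.leaf cJ545) (BT.leaf cJ546))))) (BT.node 556 (BT.node 551 (BT.node 549 (BT.node 548 (BT.node 547 (BT.leaf cJ547) (BT.leaf cJ548)) (BT.leaf cJ549)) (BT.node 550 (BT.leaf cJ550) (BT.leaf cJ551))) (BT.node 554 (BT.node 553 (BT.node 552 (BT.leaf cJ552) (BT.leaf cJ553)) (BT.leaf cJ554)) (BT.node 555 (BT.leaf cJ555) (BT.leaf cJ556)))) (BT.node 561 (BT.node 559 (BT.node 558 (BT.node 557 (BT.leaf cJ557) (BT.leaf cJ558)) (BT.leaf cJ559)) (BT.node 560 (BT.leaf cJ560) (BT.leaf cJ561))) (BT.node 564 (BT.node 563 (BT.node 562 (BT.leaf cJ562) (BT.leaf cJ563)) (BT.leaf cJ564)) (BT.node 565 (BT.leaf cJ565) (BT.leaf cJ566))))))) (BT.node 606 (BT.node 586 (BT.node 576 (BT.node 571 (BT.node 569 (BT.node 568 (BT.node 567 (BT.leaf cJ567) (BT.leaf cJ568)) (BT.leaf cJ569)) (BT.node 570 (BT.leaf cJ570) (BT.leaf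 cJ571))) (BT.node 574 (BT.node 573 (BT.node 572 (BT.leaf cJ572) (BT.leaf cJ573)) (BT.leaf cJ574)) (BT.node 575 (BT.leaf cJ575) (BT.leaf cJ576)))) (BT.node 581 (BT.node 579 (BT.node 578 (BT.node 577 (BT.leaf cJ577) (BT.leaf cJ578)) (BT.leaf cJ579)) (BT.node 580 (BT.leaf cJ580) (BT.leaf cJ581))) (BT.node 584 (BT.node 583 (BT.node 582 (BT.leaf cJ582) (BT.leaf cJ583)) (BT.leaf cJ584)) (BT.node 585 (BT.leaf cJ585) (BT.leaf cJ586))))) (BT.node 596 (BT.node 591 (BT.node 589 (BT.node 588 (BT.node 587 (BT.leaf cJ587) (BT.leaf cJ588)) (BT.leaf cJ589)) (BT.node 590 (BT.leaf cJ590) (BT.leaf cJ591))) (BT.node 594 (BT.node 593 (BT.node 592 (BT.leaf cJ592) (BT.leaf cJ593)) (BT.leaf cJ594)) (BT.node 595 (BT.leaf cJ595) (BT.leaf cJ596)))) (BT.node 601 (BT.node 599 (BT.node 598 (BT.node 597 (BT.leaf cJ597) (BT.leaf cJ598)) (BT.leaf cJ599)) (BT.node 600 (BT.leaf cJ600) (BT.leaf cJ601)))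 (BT.node 604 (BT.node 603 (BT.node 602 (BT.leaf cJ602) (BT.leaf cJ603)) (BT.leaf cJ604)) (BT.node 605 (BT.leaf cJ605) (BT.leaf cJ606)))))) (BT.node 626 (BT.node 616 (BT.node 611 (BT.node 609 (BT.node 608 (BT.node 607 (BT.leaf cJ607) (BT.leaf cJ608)) (BT.leaf cJ609)) (BT.node 610 (BT.leaf cJ610) (BT.leaf cJ611))) (BT.node 614 (BT.node 613 (BT.node 612 (BT.leaf cJ612) (BT.leaf cJ613)) (BT.leaf cJ614)) (BT.node 615 (BT.leaf cJ615) (BT.leaf cJ616)))) (BT.node 621 (BT.node 619 (BT.node 618 (BT.node 617 (BT.leaf cJ617) (BT.leaf cJ618)) (BT.leaf cJ619)) (BT.node 620 (BT.leaf cJ620) (BT.leaf cJ621))) (BT.node 624 (BT.node 623 (BT.node 622 (BT.leaf cJ622) (BT.leaf cJ623)) (BT.leaf cJ624)) (BT.node 625 (BT.leaf cJ625) (BT.leaf cJ626))))) (BT.node 636 (BT.node 631 (BT.node 629 (BT.node 628 (BT.node 627 (BT.leaf cJ627) (BT.leaf cJ628)) (BT.leaf cJ629)) (BT.node 630 (BT.leaf cJ630)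 (BT.leaf cJ631))) (BT.node 634 (BT.node 633 (BT.node 632 (BT.leaf cJ632) (BT.leaf cJ633)) (BT.leaf cJ634)) (BT.node 635 (BT.leaf cJ635) (BT.leaf cJ636)))) (BT.node 641 (BT.node 639 (BT.node 638 (BT.node 637 (BT.leaf cJ637) (BT.leaf cJ638)) (BT.leaf cJ639)) (BT.node 640 (BT.leaf cJ640) (BT.leaf cJ641))) (BT.node 644 (BT.node 643 (BT.node 642 (BT.leaf cJ642) (BT.leaf cJ643)) (BT.leaf cJ644)) (BT.node 645 (BT.leaf cJ645) (BT.leaf cJ646))))))))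
noncomputable def colJT_4 : BT ℕ := (BT.node 727 (BT.node 687 (BT.node 667 (BT.node 657 (BT.node 652 (BT.node 649 (BT.node 648 (BT.node 647 (BT.leaf cJ647) (BT.leaf cJ648)) (BT.leaf cJ649)) (BT.node 651 (BT.node 650 (BT.leaf cJ650) (BT.leaf cJ651)) (BT.leaf cJ652))) (BT.node 655 (BT.node 654 (BT.node 653 (BT.leaf cJ653) (BT.leaf cJ654)) (BT.leaf cJ655)) (BT.node 656 (BT.leaf cJ656) (BT.leaf cJ657)))) (BT.node 662 (BT.node 660 (BT.node 659 (BT.node 658 (BT.leaf cJ658) (BT.leaf cJ659)) (BT.leaf cJ660)) (BT.node 661 (BT.leaf cJ661) (BT.leaf cJ662))) (BT.node 665 (BT.node 664 (BT.node 663 (BT.leaf cJ663) (BT.leaf cJ664)) (BT.leaf cJ665)) (BT.node 666 (BT.leaf cJ666) (BT.leaf cJ667))))) (BT.node 677 (BT.node 672 (BT.node 670 (BT.node 669 (BT.node 668 (BT.leaf cJ668) (BT.leaf cJ669)) (BT.leaf cJ670)) (BT.node 671 (BT.leaf cJ671) (BT.leaf cJ672))) (BT.node 675 (BT.node 674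 (BT.node 673 (BT.leaf cJ673) (BT.leaf cJ674)) (BT.leaf cJ675)) (BT.node 676 (BT.leaf cJ676) (BT.leaf cJ677)))) (BT.node 682 (BT.node 680 (BT.node 679 (BT.node 678 (BT.leaf cJ678) (BT.leaf cJ679)) (BT.leaf cJ680)) (BT.node 681 (BT.leaf cJ681) (BT.leaf cJ682))) (BT.node 685 (BT.node 684 (BT.node 683 (BT.leaf cJ683) (BT.leaf cJ684)) (BT.leaf cJ685)) (BT.node 686 (BT.leaf cJ686) (BT.leaf cJ687)))))) (BT.node 707 (BT.node 697 (BT.node 692 (BT.node 690 (BT.node 689 (BT.node 688 (BT.leaf cJ688) (BT.leaf cJ689)) (BT.leaf cJ690)) (BT.node 691 (BT.leaf cJ691) (BT.leaf cJ692))) (BT.node 695 (BT.node 694 (BT.node 693 (BT.leaf cJ693) (BT.leaf cJ694)) (BT.leaf cJ695)) (BT.node 696 (BT.leaf cJ696) (BT.leaf cJ697)))) (BT.node 702 (BT.node 700 (BT.node 699 (BT.node 698 (BT.leaf cJ698) (BT.leaf cJ699)) (BT.leaf cJ700)) (BT.node 701 (BT.leaf cJ701) (BT.leaf cJ702))) (BT.node 705 (BT.node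 704 (BT.node 703 (BT.leaf cJ703) (BT.leaf cJ704)) (BT.leaf cJ705)) (BT.node 706 (BT.leaf cJ706) (BT.leaf cJ707))))) (BT.node 717 (BT.node 712 (BT.node 710 (BT.node 709 (BT.node 708 (BT.leaf cJ708) (BT.leaf cJ709)) (BT.leaf cJ710)) (BT.node 711 (BT.leaf cJ711) (BT.leaf cJ712))) (BT.node 715 (BT.node 714 (BT.node 713 (BT.leaf cJ713) (BT.leaf cJ714)) (BT.leaf cJ715)) (BT.node 716 (BT.leaf cJ716) (BT.leaf cJ717)))) (BT.node 722 (BT.node 720 (BT.node 719 (BT.node 718 (BT.leaf cJ718) (BT.leaf cJ719)) (BT.leaf cJ720)) (BT.node 721 (BT.leaf cJ721) (BT.leaf cJ722))) (BT.node 725 (BT.node 724 (BT.node 723 (BT.leaf cJ723) (BT.leaf cJ724)) (BT.leaf cJ725)) (BT.node 726 (BT.leaf cJ726) (BT.leaf cJ727))))))) (BT.node 768 (BT.node 748 (BT.node 738 (BT.node 733 (BT.node 730 (BT.node 729 (BT.node 728 (BT.leaf cJ728) (BT.leaf cJ729)) (BT.leaf cJ730)) (BT.node 732 (BT.node 731 (BT.leaf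 cJ731) (BT.leaf cJ732)) (BT.leaf cJ733))) (BT.node 736 (BT.node 735 (BT.node 734 (BT.leaf cJ734) (BT.leaf cJ735)) (BT.leaf cJ736)) (BT.node 737 (BT.leaf cJ737) (BT.leaf cJ738)))) (BT.node 743 (BT.node 741 (BT.node 740 (BT.node 739 (BT.leaf cJ739) (BT.leaf cJ740)) (BT.leaf cJ741)) (BT.node 742 (BT.leaf cJ742) (BT.leaf cJ743))) (BT.node 746 (BT.node 745 (BT.node 744 (BT.leaf cJ744) (BT.leaf cJ745)) (BT.leaf cJ746)) (BT.node 747 (BT.leaf cJ747) (BT.leaf cJ748))))) (BT.node 758 (BT.node 753 (BT.node 751 (BT.node 750 (BT.node 749 (BT.leaf cJ749) (BT.leaf cJ750)) (BT.leaf cJ751)) (BT.node 752 (BT.leaf cJ752) (BT.leaf cJ753))) (BT.node 756 (BT.node 755 (BT.node 754 (BT.leaf cJ754) (BT.leaf cJ755)) (BT.leaf cJ756)) (BT.node 757 (BT.leaf cJ757) (BT.leaf cJ758)))) (BT.node 763 (BT.node 761 (BT.node 760 (BT.node 759 (BT.leaf cJ759) (BT.leaf cJ760)) (BT.leaf cJ761)) (BT.node 762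 (BT.leaf cJ762) (BT.leaf cJ763))) (BT.node 766 (BT.node 765 (BT.node 764 (BT.leaf cJ764) (BT.leaf cJ765)) (BT.leaf cJ766)) (BT.node 767 (BT.leaf cJ767) (BT.leaf cJ768)))))) (BT.node 788 (BT.node 778 (BT.node 773 (BT.node 771 (BT.node 770 (BT.node 769 (BT.leaf cJ769) (BT.leaf cJ770)) (BT.leaf cJ771)) (BT.node 772 (BT.leaf cJ772) (BT.leaf cJ773))) (BT.node 776 (BT.node 775 (BT.node 774 (BT.leaf cJ774) (BT.leaf cJ775)) (BT.leaf cJ776)) (BT.node 777 (BT.leaf cJ777) (BT.leaf cJ778)))) (BT.node 783 (BT.node 781 (BT.node 780 (BT.node 779 (BT.leaf cJ779) (BT.leaf cJ780)) (BT.leaf cJ781)) (BT.node 782 (BT.leaf cJ782) (BT.leaf cJ783))) (BT.node 786 (BT.node 785 (BT.node 784 (BT.leaf cJ784) (BT.leaf cJ785)) (BT.leaf cJ786)) (BT.node 787 (BT.leaf cJ787) (BT.leaf cJ788))))) (BT.node 798 (BT.node 793 (BT.node 791 (BT.node 790 (BT.node 789 (BT.leaf cJ789) (BT.leaf cJ790)) (BT.leaf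 cJ791)) (BT.node 792 (BT.leaf cJ792) (BT.leaf cJ793))) (BT.node 796 (BT.node 795 (BT.node 794 (BT.leaf cJ794) (BT.leaf cJ795)) (BT.leaf cJ796)) (BT.node 797 (BT.leaf cJ797) (BT.leaf cJ798)))) (BT.node 803 (BT.node 801 (BT.node 800 (BT.node 799 (BT.leaf cJ799) (BT.leaf cJ800)) (BT.leaf cJ801)) (BT.node 802 (BT.leaf cJ802) (BT.leaf cJ803))) (BT.node 806 (BT.node 805 (BT.node 804 (BT.leaf cJ804) (BT.leaf cJ805)) (BT.leaf cJ806)) (BT.node 807 (BT.leaf cJ807) (BT.leaf cJ808))))))))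
noncomputable def colJT_5 : BT ℕ := (BT.node 889 (BT.node 849 (BT.node 829 (BT.node 819 (BT.node 814 (BT.node 811 (BT.node 810 (BT.node 809 (BT.leaf cJ809) (BT.leaf cJ810)) (BT.leaf cJ811)) (BT.node 813 (BT.node 812 (BT.leaf cJ812) (BT.leaf cJ813)) (BT.leaf cJ814))) (BT.node 817 (BT.node 816 (BT.node 815 (BT.leaf cJ815) (BT.leaf cJ816)) (BT.leaf cJ817)) (BT.node 818 (BT.leaf cJ818) (BT.leaf cJ819)))) (BT.node 824 (BT.node 822 (BT.node 821 (BT.node 820 (BT.leaf cJ820) (BT.leaf cJ821)) (BT.leaf cJ822)) (BT.node 823 (BT.leaf cJ823) (BT.leaf cJ824))) (BT.node 827 (BT.node 826 (BT.node 825 (BT.leaf cJ825) (BT.leaf cJ826)) (BT.leaf cJ827)) (BT.node 828 (BT.leaf cJ828) (BT.leaf cJ829))))) (BT.node 839 (BT.node 834 (BT.node 832 (BT.node 831 (BT.node 830 (BT.leaf cJ830) (BT.leaf cJ831)) (BT.leaf cJ832)) (BT.node 833 (BT.leaf cJ833) (BT.leaf cJ834))) (BT.node 837 (BT.node 836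 (BT.node 835 (BT.leaf cJ835) (BT.leaf cJ836)) (BT.leaf cJ837)) (BT.node 838 (BT.leaf cJ838) (BT.leaf cJ839)))) (BT.node 844 (BT.node 842 (BT.node 841 (BT.node 840 (BT.leaf cJ840) (BT.leaf cJ841)) (BT.leaf cJ842)) (BT.node 843 (BT.leaf cJ843) (BT.leaf cJ844))) (BT.node 847 (BT.node 846 (BT.node 845 (BT.leaf cJ845) (BT.leaf cJ846)) (BT.leaf cJ847)) (BT.node 848 (BT.leaf cJ848) (BT.leaf cJ849)))))) (BT.node 869 (BT.node 859 (BT.node 854 (BT.node 852 (BT.node 851 (BT.node 850 (BT.leaf cJ850) (BT.leaf cJ851)) (BT.leaf cJ852)) (BT.node 853 (BT.leaf cJ853) (BT.leaf cJ854))) (BT.node 857 (BT.node 856 (BT.node 855 (BT.leaf cJ855) (BT.leaf cJ856)) (BT.leaf cJ857)) (BT.node 858 (BT.leaf cJ858) (BT.leaf cJ859)))) (BT.node 864 (BT.node 862 (BT.node 861 (BT.node 860 (BT.leaf cJ860) (BT.leaf cJ861)) (BT.leaf cJ862)) (BT.node 863 (BT.leaf cJ863) (BT.leaf cJ864))) (BT.node 867 (BT.node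 866 (BT.node 865 (BT.leaf cJ865) (BT.leaf cJ866)) (BT.leaf cJ867)) (BT.node 868 (BT.leaf cJ868) (BT.leaf cJ869))))) (BT.node 879 (BT.node 874 (BT.node 872 (BT.node 871 (BT.node 870 (BT.leaf cJ870) (BT.leaf cJ871)) (BT.leaf cJ872)) (BT.node 873 (BT.leaf cJ873) (BT.leaf cJ874))) (BT.node 877 (BT.node 876 (BT.node 875 (BT.leaf cJ875) (BT.leaf cJ876)) (BT.leaf cJ877)) (BT.node 878 (BT.leaf cJ878) (BT.leaf cJ879)))) (BT.node 884 (BT.node 882 (BT.node 881 (BT.node 880 (BT.leaf cJ880) (BT.leaf cJ881)) (BT.leaf cJ882)) (BT.node 883 (BT.leaf cJ883) (BT.leaf cJ884))) (BT.node 887 (BT.node 886 (BT.node 885 (BT.leaf cJ885) (BT.leaf cJ886)) (BT.leaf cJ887)) (BT.node 888 (BT.leaf cJ888) (BT.leaf cJ889))))))) (BT.node 929 (BT.node 909 (BT.node 899 (BT.node 894 (BT.node 892 (BT.node 891 (BT.node 890 (BT.leaf cJ890) (BT.leaf cJ891)) (BT.leaf cJ892)) (BT.node 893 (BT.leaf cJ893) (BT.leaf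 cJ894))) (BT.node 897 (BT.node 896 (BT.node 895 (BT.leaf cJ895) (BT.leaf cJ896)) (BT.leaf cJ897)) (BT.node 898 (BT.leaf cJ898) (BT.leaf cJ899)))) (BT.node 904 (BT.node 902 (BT.node 901 (BT.node 900 (BT.leaf cJ900) (BT.leaf cJ901)) (BT.leaf cJ902)) (BT.node 903 (BT.leaf cJ903) (BT.leaf cJ904))) (BT.node 907 (BT.node 906 (BT.node 905 (BT.leaf cJ905) (BT.leaf cJ906)) (BT.leaf cJ907)) (BT.node 908 (BT.leaf cJ908) (BT.leaf cJ909))))) (BT.node 919 (BT.node 914 (BT.node 912 (BT.node 911 (BT.node 910 (BT.leaf cJ910) (BT.leaf cJ911)) (BT.leaf cJ912)) (BT.node 913 (BT.leaf cJ913) (BT.leaf cJ914))) (BT.node 917 (BT.node 916 (BT.node 915 (BT.leaf cJ915) (BT.leaf cJ916)) (BT.leaf cJ917)) (BT.node 918 (BT.leaf cJ918) (BT.leaf cJ919)))) (BT.node 924 (BT.node 922 (BT.node 921 (BT.node 920 (BT.leaf cJ920) (BT.leaf cJ921)) (BT.leaf cJ922)) (BT.node 923 (BT.leaf cJ923) (BT.leaf cJ924)))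 (BT.node 927 (BT.node 926 (BT.node 925 (BT.leaf cJ925) (BT.leaf cJ926)) (BT.leaf cJ927)) (BT.node 928 (BT.leaf cJ928) (BT.leaf cJ929)))))) (BT.node 949 (BT.node 939 (BT.node 934 (BT.node 932 (BT.node 931 (BT.node 930 (BT.leaf cJ930) (BT.leaf cJ931)) (BT.leaf cJ932)) (BT.node 933 (BT.leaf cJ933) (BT.leaf cJ934))) (BT.node 937 (BT.node 936 (BT.node 935 (BT.leaf cJ935) (BT.leaf cJ936)) (BT.leaf cJ937)) (BT.node 938 (BT.leaf cJ938) (BT.leaf cJ939)))) (BT.node 944 (BT.node 942 (BT.node 941 (BT.node 940 (BT.leaf cJ940) (BT.leaf cJ941)) (BT.leaf cJ942)) (BT.node 943 (BT.leaf cJ943) (BT.leaf cJ944))) (BT.node 947 (BT.node 946 (BT.node 945 (BT.leaf cJ945) (BT.leaf cJ946)) (BT.leaf cJ947)) (BT.node 948 (BT.leaf cJ948) (BT.leaf cJ949))))) (BT.node 959 (BT.node 954 (BT.node 952 (BT.node 951 (BT.node 950 (BT.leaf cJ950) (BT.leaf cJ951)) (BT.leaf cJ952)) (BT.node 953 (BT.leaf cJ953)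 (BT.leaf cJ954))) (BT.node 957 (BT.node 956 (BT.node 955 (BT.leaf cJ955) (BT.leaf cJ956)) (BT.leaf cJ957)) (BT.node 958 (BT.leaf cJ958) (BT.leaf cJ959)))) (BT.node 964 (BT.node 962 (BT.node 961 (BT.node 960 (BT.leaf cJ960) (BT.leaf cJ961)) (BT.leaf cJ962)) (BT.node 963 (BT.leaf cJ963) (BT.leaf cJ964))) (BT.node 967 (BT.node 966 (BT.node 965 (BT.leaf cJ965) (BT.leaf cJ966)) (BT.leaf cJ967)) (BT.node 968 (BT.leaf cJ968) (BT.leaf cJ969))))))))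
noncomputable def colJT_6 : BT ℕ := (BT.node 1050 (BT.node 1010 (BT.node 990 (BT.node 980 (BT.node 975 (BT.node 972 (BT.node 971 (BT.node 970 (BT.leaf cJ970) (BT.leaf cJ971)) (BT.leaf cJ972)) (BT.node 974 (BT.node 973 (BT.leaf cJ973) (BT.leaf cJ974)) (BT.leaf cJ975))) (BT.node 978 (BT.node 977 (BT.node 976 (BT.leaf cJ976) (BT.leaf cJ977)) (BT.leaf cJ978)) (BT.node 979 (BT.leaf cJ979) (BT.leaf cJ980)))) (BT.node 985 (BT.node 983 (BT.node 982 (BT.node 981 (BT.leaf cJ981) (BT.leaf cJ982)) (BT.leaf cJ983)) (BT.node 984 (BT.leaf cJ984) (BT.leaf cJ985))) (BT.node 988 (BT.node 987 (BT.node 986 (BT.leaf cJ986) (BT.leaf cJ987)) (BT.leaf cJ988)) (BT.node 989 (BT.leaf cJ989) (BT.leaf cJ990))))) (BT.node 1000 (BT.node 995 (BT.node 993 (BT.node 992 (BT.node 991 (BT.leaf cJ991) (BT.leaf cJ992)) (BT.leaf cJ993)) (BT.node 994 (BT.leaf cJ994) (BT.leaf cJ995))) (BT.node 998 (BT.node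 997 (BT.node 996 (BT.leaf cJ996) (BT.leaf cJ997)) (BT.leaf cJ998)) (BT.node 999 (BT.leaf cJ999) (BT.leaf cJ1000)))) (BT.node 1005 (BT.node 1003 (BT.node 1002 (BT.node 1001 (BT.leaf cJ1001) (BT.leaf cJ1002)) (BT.leaf cJ1003)) (BT.node 1004 (BT.leaf cJ1004) (BT.leaf cJ1005))) (BT.node 1008 (BT.node 1007 (BT.node 1006 (BT.leaf cJ1006) (BT.leaf cJ1007)) (BT.leaf cJ1008)) (BT.node 1009 (BT.leaf cJ1009) (BT.leaf cJ1010)))))) (BT.node 1030 (BT.node 1020 (BT.node 1015 (BT.node 1013 (BT.node 1012 (BT.node 1011 (BT.leaf cJ1011) (BT.leaf cJ1012)) (BT.leaf cJ1013)) (BT.node 1014 (BT.leaf cJ1014) (BT.leaf cJ1015))) (BT.node 1018 (BT.node 1017 (BT.node 1016 (BT.leaf cJ1016) (BT.leaf cJ1017)) (BT.leaf cJ1018)) (BT.node 1019 (BT.leaf cJ1019) (BT.leaf cJ1020)))) (BT.node 1025 (BT.node 1023 (BT.node 1022 (BT.node 1021 (BT.leaf cJ1021) (BT.leaf cJ1022)) (BT.leaf cJ1023)) (BT.node 1024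 (BT.leaf cJ1024) (BT.leaf cJ1025))) (BT.node 1028 (BT.node 1027 (BT.node 1026 (BT.leaf cJ1026) (BT.leaf cJ1027)) (BT.leaf cJ1028)) (BT.node 1029 (BT.leaf cJ1029) (BT.leaf cJ1030))))) (BT.node 1040 (BT.node 1035 (BT.node 1033 (BT.node 1032 (BT.node 1031 (BT.leaf cJ1031) (BT.leaf cJ1032)) (BT.leaf cJ1033)) (BT.node 1034 (BT.leaf cJ1034) (BT.leaf cJ1035))) (BT.node 1038 (BT.node 1037 (BT.node 1036 (BT.leaf cJ1036) (BT.leaf cJ1037)) (BT.leaf cJ1038)) (BT.node 1039 (BT.leaf cJ1039) (BT.leaf cJ1040)))) (BT.node 1045 (BT.node 1043 (BT.node 1042 (BT.node 1041 (BT.leaf cJ1041) (BT.leaf cJ1042)) (BT.leaf cJ1043)) (BT.node 1044 (BT.leaf cJ1044) (BT.leaf cJ1045))) (BT.node 1048 (BT.node 1047 (BT.node 1046 (BT.leaf cJ1046) (BT.leaf cJ1047)) (BT.leaf cJ1048)) (BT.node 1049 (BT.leaf cJ1049) (BT.leaf cJ1050))))))) (BT.node 1091 (BT.node 1071 (BT.node 1061 (BT.node 1056 (BT.node 1053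 (BT.node 1052 (BT.node 1051 (BT.leaf cJ1051) (BT.leaf cJ1052)) (BT.leaf cJ1053)) (BT.node 1055 (BT.node 1054 (BT.leaf cJ1054) (BT.leaf cJ1055)) (BT.leaf cJ1056))) (BT.node 1059 (BT.node 1058 (BT.node 1057 (BT.leaf cJ1057) (BT.leaf cJ1058)) (BT.leaf cJ1059)) (BT.node 1060 (BT.leaf cJ1060) (BT.leaf cJ1061)))) (BT.node 1066 (BT.node 1064 (BT.node 1063 (BT.node 1062 (BT.leaf cJ1062) (BT.leaf cJ1063)) (BT.leaf cJ1064)) (BT.node 1065 (BT.leaf cJ1065) (BT.leaf cJ1066))) (BT.node 1069 (BT.node 1068 (BT.node 1067 (BT.leaf cJ1067) (BT.leaf cJ1068)) (BT.leaf cJ1069)) (BT.node 1070 (BT.leaf cJ1070) (BT.leaf cJ1071))))) (BT.node 1081 (BT.node 1076 (BT.node 1074 (BT.node 1073 (BT.node 1072 (BT.leaf cJ1072) (BT.leaf cJ1073)) (BT.leaf cJ1074)) (BT.node 1075 (BT.leaf cJ1075) (BT.leaf cJ1076))) (BT.node 1079 (BT.node 1078 (BT.node 1077 (BT.leaf cJ1077) (BT.leaf cJ1078)) (BT.leaf cJ1079))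 (BT.node 1080 (BT.leaf cJ1080) (BT.leaf cJ1081)))) (BT.node 1086 (BT.node 1084 (BT.node 1083 (BT.node 1082 (BT.leaf cJ1082) (BT.leaf cJ1083)) (BT.leaf cJ1084)) (BT.node 1085 (BT.leaf cJ1085) (BT.leaf cJ1086))) (BT.node 1089 (BT.node 1088 (BT.node 1087 (BT.leaf cJ1087) (BT.leaf cJ1088)) (BT.leaf cJ1089)) (BT.node 1090 (BT.leaf cJ1090) (BT.leaf cJ1091)))))) (BT.node 1111 (BT.node 1101 (BT.node 1096 (BT.node 1094 (BT.node 1093 (BT.node 1092 (BT.leaf cJ1092) (BT.leaf cJ1093)) (BT.leaf cJ1094)) (BT.node 1095 (BT.leaf cJ1095) (BT.leaf cJ1096))) (BT.node 1099 (BT.node 1098 (BT.node 1097 (BT.leaf cJ1097) (BT.leaf cJ1098)) (BT.leaf cJ1099)) (BT.node 1100 (BT.leaf cJ1100) (BT.leaf cJ1101)))) (BT.node 1106 (BT.node 1104 (BT.node 1103 (BT.node 1102 (BT.leaf cJ1102) (BT.leaf cJ1103)) (BT.leaf cJ1104)) (BT.node 1105 (BT.leaf cJ1105) (BT.leaf cJ1106))) (BT.node 1109 (BT.node 1108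 (BT.node 1107 (BT.leaf cJ1107) (BT.leaf cJ1108)) (BT.leaf cJ1109)) (BT.node 1110 (BT.leaf cJ1110) (BT.leaf cJ1111))))) (BT.node 1121 (BT.node 1116 (BT.node 1114 (BT.node 1113 (BT.node 1112 (BT.leaf cJ1112) (BT.leaf cJ1113)) (BT.leaf cJ1114)) (BT.node 1115 (BT.leaf cJ1115) (BT.leaf cJ1116))) (BT.node 1119 (BT.node 1118 (BT.node 1117 (BT.leaf cJ1117) (BT.leaf cJ1118)) (BT.leaf cJ1119)) (BT.node 1120 (BT.leaf cJ1120) (BT.leaf cJ1121)))) (BT.node 1126 (BT.node 1124 (BT.node 1123 (BT.node 1122 (BT.leaf cJ1122) (BT.leaf cJ1123)) (BT.leaf cJ1124)) (BT.node 1125 (BT.leaf cJ1125) (BT.leaf cJ1126))) (BT.node 1129 (BT.node 1128 (BT.node 1127 (BT.leaf cJ1127) (BT.leaf cJ1128)) (BT.leaf cJ1129)) (BT.node 1130 (BT.leaf cJ1130) (BT.leaf cJ1131))))))))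
noncomputable def colJT_7 : BT ℕ := (BT.node 1212 (BT.node 1172 (BT.node 1152 (BT.node 1142 (BT.node 1137 (BT.node 1134 (BT.node 1133 (BT.node 1132 (BT.leaf cJ1132) (BT.leaf cJ1133)) (BT.leaf cJ1134)) (BT.node 1136 (BT.node 1135 (BT.leaf cJ1135) (BT.leaf cJ1136)) (BT.leaf cJ1137))) (BT.node 1140 (BT.node 1139 (BT.node 1138 (BT.leaf cJ1138) (BT.leaf cJ1139)) (BT.leaf cJ1140)) (BT.node 1141 (BT.leaf cJ1141) (BT.leaf cJ1142)))) (BT.node 1147 (BT.node 1145 (BT.node 1144 (BT.node 1143 (BT.leaf cJ1143) (BT.leaf cJ1144)) (BT.leaf cJ1145)) (BT.node 1146 (BT.leaf cJ1146) (BT.leaf cJ1147))) (BT.node 1150 (BT.node 1149 (BT.node 1148 (BT.leaf cJ1148) (BT.leaf cJ1149)) (BT.leaf cJ1150)) (BT.node 1151 (BT.leaf cJ1151) (BT.leaf cJ1152))))) (BT.node 1162 (BT.node 1157 (BT.node 1155 (BT.node 1154 (BT.node 1153 (BT.leaf cJ1153) (BT.leaf cJ1154)) (BT.leaf cJ1155)) (BT.node 1156 (BT.leaf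 cJ1156) (BT.leaf cJ1157))) (BT.node 1160 (BT.node 1159 (BT.node 1158 (BT.leaf cJ1158) (BT.leaf cJ1159)) (BT.leaf cJ1160)) (BT.node 1161 (BT.leaf cJ1161) (BT.leaf cJ1162)))) (BT.node 1167 (BT.node 1165 (BT.node 1164 (BT.node 1163 (BT.leaf cJ1163) (BT.leaf cJ1164)) (BT.leaf cJ1165)) (BT.node 1166 (BT.leaf cJ1166) (BT.leaf cJ1167))) (BT.node 1170 (BT.node 1169 (BT.node 1168 (BT.leaf cJ1168) (BT.leaf cJ1169)) (BT.leaf cJ1170)) (BT.node 1171 (BT.leaf cJ1171) (BT.leaf cJ1172)))))) (BT.node 1192 (BT.node 1182 (BT.node 1177 (BT.node 1175 (BT.node 1174 (BT.node 1173 (BT.leaf cJ1173) (BT.leaf cJ1174)) (BT.leaf cJ1175)) (BT.node 1176 (BT.leaf cJ1176) (BT.leaf cJ1177))) (BT.node 1180 (BT.node 1179 (BT.node 1178 (BT.leaf cJ1178) (BT.leaf cJ1179)) (BT.leaf cJ1180)) (BT.node 1181 (BT.leaf cJ1181) (BT.leaf cJ1182)))) (BT.node 1187 (BT.node 1185 (BT.node 1184 (BT.node 1183 (BT.leaf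 cJ1183) (BT.leaf cJ1184)) (BT.leaf cJ1185)) (BT.node 1186 (BT.leaf cJ1186) (BT.leaf cJ1187))) (BT.node 1190 (BT.node 1189 (BT.node 1188 (BT.leaf cJ1188) (BT.leaf cJ1189)) (BT.leaf cJ1190)) (BT.node 1191 (BT.leaf cJ1191) (BT.leaf cJ1192))))) (BT.node 1202 (BT.node 1197 (BT.node 1195 (BT.node 1194 (BT.node 1193 (BT.leaf cJ1193) (BT.leaf cJ1194)) (BT.leaf cJ1195)) (BT.node 1196 (BT.leaf cJ1196) (BT.leaf cJ1197))) (BT.node 1200 (BT.node 1199 (BT.node 1198 (BT.leaf cJ1198) (BT.leaf cJ1199)) (BT.leaf cJ1200)) (BT.node 1201 (BT.leaf cJ1201) (BT.leaf cJ1202)))) (BT.node 1207 (BT.node 1205 (BT.node 1204 (BT.node 1203 (BT.leaf cJ1203) (BT.leaf cJ1204)) (BT.leaf cJ1205)) (BT.node 1206 (BT.leaf cJ1206) (BT.leaf cJ1207))) (BT.node 1210 (BT.node 1209 (BT.node 1208 (BT.leaf cJ1208) (BT.leaf cJ1209)) (BT.leaf cJ1210)) (BT.node 1211 (BT.leaf cJ1211) (BT.leaf cJ1212))))))) (BT.node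 1252 (BT.node 1232 (BT.node 1222 (BT.node 1217 (BT.node 1215 (BT.node 1214 (BT.node 1213 (BT.leaf cJ1213) (BT.leaf cJ1214)) (BT.leaf cJ1215)) (BT.node 1216 (BT.leaf cJ1216) (BT.leaf cJ1217))) (BT.node 1220 (BT.node 1219 (BT.node 1218 (BT.leaf cJ1218) (BT.leaf cJ1219)) (BT.leaf cJ1220)) (BT.node 1221 (BT.leaf cJ1221) (BT.leaf cJ1222)))) (BT.node 1227 (BT.node 1225 (BT.node 1224 (BT.node 1223 (BT.leaf cJ1223) (BT.leaf cJ1224)) (BT.leaf cJ1225)) (BT.node 1226 (BT.leaf cJ1226) (BT.leaf cJ1227))) (BT.node 1230 (BT.node 1229 (BT.node 1228 (BT.leaf cJ1228) (BT.leaf cJ1229)) (BT.leaf cJ1230)) (BT.node 1231 (BT.leaf cJ1231) (BT.leaf cJ1232))))) (BT.node 1242 (BT.node 1237 (BT.node 1235 (BT.node 1234 (BT.node 1233 (BT.leaf cJ1233) (BT.leaf cJ1234)) (BT.leaf cJ1235)) (BT.node 1236 (BT.leaf cJ1236) (BT.leaf cJ1237))) (BT.node 1240 (BT.node 1239 (BT.node 1238 (BT.leaf cJ1238) (BT.leaf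 cJ1239)) (BT.leaf cJ1240)) (BT.node 1241 (BT.leaf cJ1241) (BT.leaf cJ1242)))) (BT.node 1247 (BT.node 1245 (BT.node 1244 (BT.node 1243 (BT.leaf cJ1243) (BT.leaf cJ1244)) (BT.leaf cJ1245)) (BT.node 1246 (BT.leaf cJ1246) (BT.leaf cJ1247))) (BT.node 1250 (BT.node 1249 (BT.node 1248 (BT.leaf cJ1248) (BT.leaf cJ1249)) (BT.leaf cJ1250)) (BT.node 1251 (BT.leaf cJ1251) (BT.leaf cJ1252)))))) (BT.node 1272 (BT.node 1262 (BT.node 1257 (BT.node 1255 (BT.node 1254 (BT.node 1253 (BT.leaf cJ1253) (BT.leaf cJ1254)) (BT.leaf cJ1255)) (BT.node 1256 (BT.leaf cJ1256) (BT.leaf cJ1257))) (BT.node 1260 (BT.node 1259 (BT.node 1258 (BT.leaf cJ1258) (BT.leaf cJ1259)) (BT.leaf cJ1260)) (BT.node 1261 (BT.leaf cJ1261) (BT.leaf cJ1262)))) (BT.node 1267 (BT.node 1265 (BT.node 1264 (BT.node 1263 (BT.leaf cJ1263) (BT.leaf cJ1264)) (BT.leaf cJ1265)) (BT.node 1266 (BT.leaf cJ1266) (BT.leaf cJ1267)))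 (BT.node 1270 (BT.node 1269 (BT.node 1268 (BT.leaf cJ1268) (BT.leaf cJ1269)) (BT.leaf cJ1270)) (BT.node 1271 (BT.leaf cJ1271) (BT.leaf cJ1272))))) (BT.node 1282 (BT.node 1277 (BT.node 1275 (BT.node 1274 (BT.node 1273 (BT.leaf cJ1273) (BT.leaf cJ1274)) (BT.leaf cJ1275)) (BT.node 1276 (BT.leaf cJ1276) (BT.leaf cJ1277))) (BT.node 1280 (BT.node 1279 (BT.node 1278 (BT.leaf cJ1278) (BT.leaf cJ1279)) (BT.leaf cJ1280)) (BT.node 1281 (BT.leaf cJ1281) (BT.leaf cJ1282)))) (BT.node 1287 (BT.node 1285 (BT.node 1284 (BT.node 1283 (BT.leaf cJ1283) (BT.leaf cJ1284)) (BT.leaf cJ1285)) (BT.node 1286 (BT.leaf cJ1286) (BT.leaf cJ1287))) (BT.node 1290 (BT.node 1289 (BT.node 1288 (BT.leaf cJ1288) (BT.leaf cJ1289)) (BT.leaf cJ1290)) (BT.node 1291 (BT.leaf cJ1291) (BT.leaf cJ1292))))))))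
noncomputable def colJT_8 : BT ℕ := (BT.node 1373 (BT.node 1333 (BT.node 1313 (BT.node 1303 (BT.node 1298 (BT.node 1295 (BT.node 1294 (BT.node 1293 (BT.leaf cJ1293) (BT.leaf cJ1294)) (BT.leaf cJ1295)) (BT.node 1297 (BT.node 1296 (BT.leaf cJ1296) (BT.leaf cJ1297)) (BT.leaf cJ1298))) (BT.node 1301 (BT.node 1300 (BT.node 1299 (BT.leaf cJ1299) (BT.leaf cJ1300)) (BT.leaf cJ1301)) (BT.node 1302 (BT.leaf cJ1302) (BT.leaf cJ1303)))) (BT.node 1308 (BT.node 1306 (BT.node 1305 (BT.node 1304 (BT.leaf cJ1304) (BT.leaf cJ1305)) (BT.leaf cJ1306)) (BT.node 1307 (BT.leaf cJ1307) (BT.leaf cJ1308))) (BT.node 1311 (BT.node 1310 (BT.node 1309 (BT.leaf cJ1309) (BT.leaf cJ1310)) (BT.leaf cJ1311)) (BT.node 1312 (BT.leaf cJ1312) (BT.leaf cJ1313))))) (BT.node 1323 (BT.node 1318 (BT.node 1316 (BT.node 1315 (BT.node 1314 (BT.leaf cJ1314) (BT.leaf cJ1315)) (BT.leaf cJ1316)) (BT.node 1317 (BT.leaf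 cJ1317) (BT.leaf cJ1318))) (BT.node 1321 (BT.node 1320 (BT.node 1319 (BT.leaf cJ1319) (BT.leaf cJ1320)) (BT.leaf cJ1321)) (BT.node 1322 (BT.leaf cJ1322) (BT.leaf cJ1323)))) (BT.node 1328 (BT.node 1326 (BT.node 1325 (BT.node 1324 (BT.leaf cJ1324) (BT.leaf cJ1325)) (BT.leaf cJ1326)) (BT.node 1327 (BT.leaf cJ1327) (BT.leaf cJ1328))) (BT.node 1331 (BT.node 1330 (BT.node 1329 (BT.leaf cJ1329) (BT.leaf cJ1330)) (BT.leaf cJ1331)) (BT.node 1332 (BT.leaf cJ1332) (BT.leaf cJ1333)))))) (BT.node 1353 (BT.node 1343 (BT.node 1338 (BT.node 1336 (BT.node 1335 (BT.node 1334 (BT.leaf cJ1334) (BT.leaf cJ1335)) (BT.leaf cJ1336)) (BT.node 1337 (BT.leaf cJ1337) (BT.leaf cJ1338))) (BT.node 1341 (BT.node 1340 (BT.node 1339 (BT.leaf cJ1339) (BT.leaf cJ1340)) (BT.leaf cJ1341)) (BT.node 1342 (BT.leaf cJ1342) (BT.leaf cJ1343)))) (BT.node 1348 (BT.node 1346 (BT.node 1345 (BT.node 1344 (BT.leaf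 cJ1344) (BT.leaf cJ1345)) (BT.leaf cJ1346)) (BT.node 1347 (BT.leaf cJ1347) (BT.leaf cJ1348))) (BT.node 1351 (BT.node 1350 (BT.node 1349 (BT.leaf cJ1349) (BT.leaf cJ1350)) (BT.leaf cJ1351)) (BT.node 1352 (BT.leaf cJ1352) (BT.leaf cJ1353))))) (BT.node 1363 (BT.node 1358 (BT.node 1356 (BT.node 1355 (BT.node 1354 (BT.leaf cJ1354) (BT.leaf cJ1355)) (BT.leaf cJ1356)) (BT.node 1357 (BT.leaf cJ1357) (BT.leaf cJ1358))) (BT.node 1361 (BT.node 1360 (BT.node 1359 (BT.leaf cJ1359) (BT.leaf cJ1360)) (BT.leaf cJ1361)) (BT.node 1362 (BT.leaf cJ1362) (BT.leaf cJ1363)))) (BT.node 1368 (BT.node 1366 (BT.node 1365 (BT.node 1364 (BT.leaf cJ1364) (BT.leaf cJ1365)) (BT.leaf cJ1366)) (BT.node 1367 (BT.leaf cJ1367) (BT.leaf cJ1368))) (BT.node 1371 (BT.node 1370 (BT.node 1369 (BT.leaf cJ1369) (BT.leaf cJ1370)) (BT.leaf cJ1371)) (BT.node 1372 (BT.leaf cJ1372) (BT.leaf cJ1373))))))) (BT.node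 1414 (BT.node 1394 (BT.node 1384 (BT.node 1379 (BT.node 1376 (BT.node 1375 (BT.node 1374 (BT.leaf cJ1374) (BT.leaf cJ1375)) (BT.leaf cJ1376)) (BT.node 1378 (BT.node 1377 (BT.leaf cJ1377) (BT.leaf cJ1378)) (BT.leaf cJ1379))) (BT.node 1382 (BT.node 1381 (BT.node 1380 (BT.leaf cJ1380) (BT.leaf cJ1381)) (BT.leaf cJ1382)) (BT.node 1383 (BT.leaf cJ1383) (BT.leaf cJ1384)))) (BT.node 1389 (BT.node 1387 (BT.node 1386 (BT.node 1385 (BT.leaf cJ1385) (BT.leaf cJ1386)) (BT.leaf cJ1387)) (BT.node 1388 (BT.leaf cJ1388) (BT.leaf cJ1389))) (BT.node 1392 (BT.node 1391 (BT.node 1390 (BT.leaf cJ1390) (BT.leaf cJ1391)) (BT.leaf cJ1392)) (BT.node 1393 (BT.leaf cJ1393) (BT.leaf cJ1394))))) (BT.node 1404 (BT.node 1399 (BT.node 1397 (BT.node 1396 (BT.node 1395 (BT.leaf cJ1395) (BT.leaf cJ1396)) (BT.leaf cJ1397)) (BT.node 1398 (BT.leaf cJ1398) (BT.leaf cJ1399))) (BT.node 1402 (BT.node 1401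 (BT.node 1400 (BT.leaf cJ1400) (BT.leaf cJ1401)) (BT.leaf cJ1402)) (BT.node 1403 (BT.leaf cJ1403) (BT.leaf cJ1404)))) (BT.node 1409 (BT.node 1407 (BT.node 1406 (BT.node 1405 (BT.leaf cJ1405) (BT.leaf cJ1406)) (BT.leaf cJ1407)) (BT.node 1408 (BT.leaf cJ1408) (BT.leaf cJ1409))) (BT.node 1412 (BT.node 1411 (BT.node 1410 (BT.leaf cJ1410) (BT.leaf cJ1411)) (BT.leaf cJ1412)) (BT.node 1413 (BT.leaf cJ1413) (BT.leaf cJ1414)))))) (BT.node 1434 (BT.node 1424 (BT.node 1419 (BT.node 1417 (BT.node 1416 (BT.node 1415 (BT.leaf cJ1415) (BT.leaf cJ1416)) (BT.leaf cJ1417)) (BT.node 1418 (BT.leaf cJ1418) (BT.leaf cJ1419))) (BT.node 1422 (BT.node 1421 (BT.node 1420 (BT.leaf cJ1420) (BT.leaf cJ1421)) (BT.leaf cJ1422)) (BT.node 1423 (BT.leaf cJ1423) (BT.leaf cJ1424)))) (BT.node 1429 (BT.node 1427 (BT.node 1426 (BT.node 1425 (BT.leaf cJ1425) (BT.leaf cJ1426)) (BT.leaf cJ1427)) (BT.node 1428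 (BT.leaf cJ1428) (BT.leaf cJ1429))) (BT.node 1432 (BT.node 1431 (BT.node 1430 (BT.leaf cJ1430) (BT.leaf cJ1431)) (BT.leaf cJ1432)) (BT.node 1433 (BT.leaf cJ1433) (BT.leaf cJ1434))))) (BT.node 1444 (BT.node 1439 (BT.node 1437 (BT.node 1436 (BT.node 1435 (BT.leaf cJ1435) (BT.leaf cJ1436)) (BT.leaf cJ1437)) (BT.node 1438 (BT.leaf cJ1438) (BT.leaf cJ1439))) (BT.node 1442 (BT.node 1441 (BT.node 1440 (BT.leaf cJ1440) (BT.leaf cJ1441)) (BT.leaf cJ1442)) (BT.node 1443 (BT.leaf cJ1443) (BT.leaf cJ1444)))) (BT.node 1449 (BT.node 1447 (BT.node 1446 (BT.node 1445 (BT.leaf cJ1445) (BT.leaf cJ1446)) (BT.leaf cJ1447)) (BT.node 1448 (BT.leaf cJ1448) (BT.leaf cJ1449))) (BT.node 1452 (BT.node 1451 (BT.node 1450 (BT.leaf cJ1450) (BT.leaf cJ1451)) (BT.leaf cJ1452)) (BT.node 1453 (BT.leaf cJ1453) (BT.leaf cJ1454))))))))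
noncomputable def colJT_9 : BT ℕ := (BT.node 1535 (BT.node 1495 (BT.node 1475 (BT.node 1465 (BT.node 1460 (BT.node 1457 (BT.node 1456 (BT.node 1455 (BT.leaf cJ1455) (BT.leaf cJ1456)) (BT.leaf cJ1457)) (BT.node 1459 (BT.node 1458 (BT.leaf cJ1458) (BT.leaf cJ1459)) (BT.leaf cJ1460))) (BT.node 1463 (BT.node 1462 (BT.node 1461 (BT.leaf cJ1461) (BT.leaf cJ1462)) (BT.leaf cJ1463)) (BT.node 1464 (BT.leaf cJ1464) (BT.leaf cJ1465)))) (BT.node 1470 (BT.node 1468 (BT.node 1467 (BT.node 1466 (BT.leaf cJ1466) (BT.leaf cJ1467)) (BT.leaf cJ1468)) (BT.node 1469 (BT.leaf cJ1469) (BT.leaf cJ1470))) (BT.node 1473 (BT.node 1472 (BT.node 1471 (BT.leaf cJ1471) (BT.leaf cJ1472)) (BT.leaf cJ1473)) (BT.node 1474 (BT.leaf cJ1474) (BT.leaf cJ1475))))) (BT.node 1485 (BT.node 1480 (BT.node 1478 (BT.node 1477 (BT.node 1476 (BT.leaf cJ1476) (BT.leaf cJ1477)) (BT.leaf cJ1478)) (BT.node 1479 (BT.leaf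 cJ1479) (BT.leaf cJ1480))) (BT.node 1483 (BT.node 1482 (BT.node 1481 (BT.leaf cJ1481) (BT.leaf cJ1482)) (BT.leaf cJ1483)) (BT.node 1484 (BT.leaf cJ1484) (BT.leaf cJ1485)))) (BT.node 1490 (BT.node 1488 (BT.node 1487 (BT.node 1486 (BT.leaf cJ1486) (BT.leaf cJ1487)) (BT.leaf cJ1488)) (BT.node 1489 (BT.leaf cJ1489) (BT.leaf cJ1490))) (BT.node 1493 (BT.node 1492 (BT.node 1491 (BT.leaf cJ1491) (BT.leaf cJ1492)) (BT.leaf cJ1493)) (BT.node 1494 (BT.leaf cJ1494) (BT.leaf cJ1495)))))) (BT.node 1515 (BT.node 1505 (BT.node 1500 (BT.node 1498 (BT.node 1497 (BT.node 1496 (BT.leaf cJ1496) (BT.leaf cJ1497)) (BT.leaf cJ1498)) (BT.node 1499 (BT.leaf cJ1499) (BT.leaf cJ1500))) (BT.node 1503 (BT.node 1502 (BT.node 1501 (BT.leaf cJ1501) (BT.leaf cJ1502)) (BT.leaf cJ1503)) (BT.node 1504 (BT.leaf cJ1504) (BT.leaf cJ1505)))) (BT.node 1510 (BT.node 1508 (BT.node 1507 (BT.node 1506 (BT.leaf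 cJ1506) (BT.leaf cJ1507)) (BT.leaf cJ1508)) (BT.node 1509 (BT.leaf cJ1509) (BT.leaf cJ1510))) (BT.node 1513 (BT.node 1512 (BT.node 1511 (BT.leaf cJ1511) (BT.leaf cJ1512)) (BT.leaf cJ1513)) (BT.node 1514 (BT.leaf cJ1514) (BT.leaf cJ1515))))) (BT.node 1525 (BT.node 1520 (BT.node 1518 (BT.node 1517 (BT.node 1516 (BT.leaf cJ1516) (BT.leaf cJ1517)) (BT.leaf cJ1518)) (BT.node 1519 (BT.leaf cJ1519) (BT.leaf cJ1520))) (BT.node 1523 (BT.node 1522 (BT.node 1521 (BT.leaf cJ1521) (BT.leaf cJ1522)) (BT.leaf cJ1523)) (BT.node 1524 (BT.leaf cJ1524) (BT.leaf cJ1525)))) (BT.node 1530 (BT.node 1528 (BT.node 1527 (BT.node 1526 (BT.leaf cJ1526) (BT.leaf cJ1527)) (BT.leaf cJ1528)) (BT.node 1529 (BT.leaf cJ1529) (BT.leaf cJ1530))) (BT.node 1533 (BT.node 1532 (BT.node 1531 (BT.leaf cJ1531) (BT.leaf cJ1532)) (BT.leaf cJ1533)) (BT.node 1534 (BT.leaf cJ1534) (BT.leaf cJ1535))))))) (BT.node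 1576 (BT.node 1556 (BT.node 1546 (BT.node 1541 (BT.node 1538 (BT.node 1537 (BT.node 1536 (BT.leaf cJ1536) (BT.leaf cJ1537)) (BT.leaf cJ1538)) (BT.node 1540 (BT.node 1539 (BT.leaf cJ1539) (BT.leaf cJ1540)) (BT.leaf cJ1541))) (BT.node 1544 (BT.node 1543 (BT.node 1542 (BT.leaf cJ1542) (BT.leaf cJ1543)) (BT.leaf cJ1544)) (BT.node 1545 (BT.leaf cJ1545) (BT.leaf cJ1546)))) (BT.node 1551 (BT.node 1549 (BT.node 1548 (BT.node 1547 (BT.leaf cJ1547) (BT.leaf cJ1548)) (BT.leaf cJ1549)) (BT.node 1550 (BT.leaf cJ1550) (BT.leaf cJ1551))) (BT.node 1554 (BT.node 1553 (BT.node 1552 (BT.leaf cJ1552) (BT.leaf cJ1553)) (BT.leaf cJ1554)) (BT.node 1555 (BT.leaf cJ1555) (BT.leaf cJ1556))))) (BT.node 1566 (BT.node 1561 (BT.node 1559 (BT.node 1558 (BT.node 1557 (BT.leaf cJ1557) (BT.leaf cJ1558)) (BT.leaf cJ1559)) (BT.node 1560 (BT.leaf cJ1560) (BT.leaf cJ1561))) (BT.node 1564 (BT.node 1563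 (BT.node 1562 (BT.leaf cJ1562) (BT.leaf cJ1563)) (BT.leaf cJ1564)) (BT.node 1565 (BT.leaf cJ1565) (BT.leaf cJ1566)))) (BT.node 1571 (BT.node 1569 (BT.node 1568 (BT.node 1567 (BT.leaf cJ1567) (BT.leaf cJ1568)) (BT.leaf cJ1569)) (BT.node 1570 (BT.leaf cJ1570) (BT.leaf cJ1571))) (BT.node 1574 (BT.node 1573 (BT.node 1572 (BT.leaf cJ1572) (BT.leaf cJ1573)) (BT.leaf cJ1574)) (BT.node 1575 (BT.leaf cJ1575) (BT.leaf cJ1576)))))) (BT.node 1596 (BT.node 1586 (BT.node 1581 (BT.node 1579 (BT.node 1578 (BT.node 1577 (BT.leaf cJ1577) (BT.leaf cJ1578)) (BT.leaf cJ1579)) (BT.node 1580 (BT.leaf cJ1580) (BT.leaf cJ1581))) (BT.node 1584 (BT.node 1583 (BT.node 1582 (BT.leaf cJ1582) (BT.leaf cJ1583)) (BT.leaf cJ1584)) (BT.node 1585 (BT.leaf cJ1585) (BT.leaf cJ1586)))) (BT.node 1591 (BT.node 1589 (BT.node 1588 (BT.node 1587 (BT.leaf cJ1587) (BT.leaf cJ1588)) (BT.leaf cJ1589)) (BT.node 1590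 (BT.leaf cJ1590) (BT.leaf cJ1591))) (BT.node 1594 (BT.node 1593 (BT.node 1592 (BT.leaf cJ1592) (BT.leaf cJ1593)) (BT.leaf cJ1594)) (BT.node 1595 (BT.leaf cJ1595) (BT.leaf cJ1596))))) (BT.node 1606 (BT.node 1601 (BT.node 1599 (BT.node 1598 (BT.node 1597 (BT.leaf cJ1597) (BT.leaf cJ1598)) (BT.leaf cJ1599)) (BT.node 1600 (BT.leaf cJ1600) (BT.leaf cJ1601))) (BT.node 1604 (BT.node 1603 (BT.node 1602 (BT.leaf cJ1602) (BT.leaf cJ1603)) (BT.leaf cJ1604)) (BT.node 1605 (BT.leaf cJ1605) (BT.leaf cJ1606)))) (BT.node 1611 (BT.node 1609 (BT.node 1608 (BT.node 1607 (BT.leaf cJ1607) (BT.leaf cJ1608)) (BT.leaf cJ1609)) (BT.node 1610 (BT.leaf cJ1610) (BT.leaf cJ1611))) (BT.node 1614 (BT.node 1613 (BT.node 1612 (BT.leaf cJ1612) (BT.leaf cJ1613)) (BT.leaf cJ1614)) (BT.node 1615 (BT.leaf cJ1615) (BT.leaf cJ1616))))))))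
noncomputable def colJT_10 : BT ℕ := (BT.node 1697 (BT.node 1657 (BT.node 1637 (BT.node 1627 (BT.node 1622 (BT.node 1619 (BT.node 1618 (BT.node 1617 (BT.leaf cJ1617) (BT.leaf cJ1618)) (BT.leaf cJ1619)) (BT.node 1621 (BT.node 1620 (BT.leaf cJ1620) (BT.leaf cJ1621)) (BT.leaf cJ1622))) (BT.node 1625 (BT.node 1624 (BT.node 1623 (BT.leaf cJ1623) (BT.leaf cJ1624)) (BT.leaf cJ1625)) (BT.node 1626 (BT.leaf cJ1626) (BT.leaf cJ1627)))) (BT.node 1632 (BT.node 1630 (BT.node 1629 (BT.node 1628 (BT.leaf cJ1628) (BT.leaf cJ1629)) (BT.leaf cJ1630)) (BT.node 1631 (BT.leaf cJ1631) (BT.leaf cJ1632))) (BT.node 1635 (BT.node 1634 (BT.node 1633 (BT.leaf cJ1633) (BT.leaf cJ1634)) (BT.leaf cJ1635)) (BT.node 1636 (BT.leaf cJ1636) (BT.leaf cJ1637))))) (BT.node 1647 (BT.node 1642 (BT.node 1640 (BT.node 1639 (BT.node 1638 (BT.leaf cJ1638) (BT.leaf cJ1639)) (BT.leaf cJ1640)) (BT.node 1641 (BT.leaf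 cJ1641) (BT.leaf cJ1642))) (BT.node 1645 (BT.node 1644 (BT.node 1643 (BT.leaf cJ1643) (BT.leaf cJ1644)) (BT.leaf cJ1645)) (BT.node 1646 (BT.leaf cJ1646) (BT.leaf cJ1647)))) (BT.node 1652 (BT.node 1650 (BT.node 1649 (BT.node 1648 (BT.leaf cJ1648) (BT.leaf cJ1649)) (BT.leaf cJ1650)) (BT.node 1651 (BT.leaf cJ1651) (BT.leaf cJ1652))) (BT.node 1655 (BT.node 1654 (BT.node 1653 (BT.leaf cJ1653) (BT.leaf cJ1654)) (BT.leaf cJ1655)) (BT.node 1656 (BT.leaf cJ1656) (BT.leaf cJ1657)))))) (BT.node 1677 (BT.node 1667 (BT.node 1662 (BT.node 1660 (BT.node 1659 (BT.node 1658 (BT.leaf cJ1658) (BT.leaf cJ1659)) (BT.leaf cJ1660)) (BT.node 1661 (BT.leaf cJ1661) (BT.leaf cJ1662))) (BT.node 1665 (BT.node 1664 (BT.node 1663 (BT.leaf cJ1663) (BT.leaf cJ1664)) (BT.leaf cJ1665)) (BT.node 1666 (BT.leaf cJ1666) (BT.leaf cJ1667)))) (BT.node 1672 (BT.node 1670 (BT.node 1669 (BT.node 1668 (BT.leaf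 cJ1668) (BT.leaf cJ1669)) (BT.leaf cJ1670)) (BT.node 1671 (BT.leaf cJ1671) (BT.leaf cJ1672))) (BT.node 1675 (BT.node 1674 (BT.node 1673 (BT.leaf cJ1673) (BT.leaf cJ1674)) (BT.leaf cJ1675)) (BT.node 1676 (BT.leaf cJ1676) (BT.leaf cJ1677))))) (BT.node 1687 (BT.node 1682 (BT.node 1680 (BT.node 1679 (BT.node 1678 (BT.leaf cJ1678) (BT.leaf cJ1679)) (BT.leaf cJ1680)) (BT.node 1681 (BT.leaf cJ1681) (BT.leaf cJ1682))) (BT.node 1685 (BT.node 1684 (BT.node 1683 (BT.leaf cJ1683) (BT.leaf cJ1684)) (BT.leaf cJ1685)) (BT.node 1686 (BT.leaf cJ1686) (BT.leaf cJ1687)))) (BT.node 1692 (BT.node 1690 (BT.node 1689 (BT.node 1688 (BT.leaf cJ1688) (BT.leaf cJ1689)) (BT.leaf cJ1690)) (BT.node 1691 (BT.leaf cJ1691) (BT.leaf cJ1692))) (BT.node 1695 (BT.node 1694 (BT.node 1693 (BT.leaf cJ1693) (BT.leaf cJ1694)) (BT.leaf cJ1695)) (BT.node 1696 (BT.leaf cJ1696) (BT.leaf cJ1697))))))) (BT.node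 1738 (BT.node 1718 (BT.node 1708 (BT.node 1703 (BT.node 1700 (BT.node 1699 (BT.node 1698 (BT.leaf cJ1698) (BT.leaf cJ1699)) (BT.leaf cJ1700)) (BT.node 1702 (BT.node 1701 (BT.leaf cJ1701) (BT.leaf cJ1702)) (BT.leaf cJ1703))) (BT.node 1706 (BT.node 1705 (BT.node 1704 (BT.leaf cJ1704) (BT.leaf cJ1705)) (BT.leaf cJ1706)) (BT.node 1707 (BT.leaf cJ1707) (BT.leaf cJ1708)))) (BT.node 1713 (BT.node 1711 (BT.node 1710 (BT.node 1709 (BT.leaf cJ1709) (BT.leaf cJ1710)) (BT.leaf cJ1711)) (BT.node 1712 (BT.leaf cJ1712) (BT.leaf cJ1713))) (BT.node 1716 (BT.node 1715 (BT.node 1714 (BT.leaf cJ1714) (BT.leaf cJ1715)) (BT.leaf cJ1716)) (BT.node 1717 (BT.leaf cJ1717) (BT.leaf cJ1718))))) (BT.node 1728 (BT.node 1723 (BT.node 1721 (BT.node 1720 (BT.node 1719 (BT.leaf cJ1719) (BT.leaf cJ1720)) (BT.leaf cJ1721)) (BT.node 1722 (BT.leaf cJ1722) (BT.leaf cJ1723))) (BT.node 1726 (BT.node 1725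 (BT.node 1724 (BT.leaf cJ1724) (BT.leaf cJ1725)) (BT.leaf cJ1726)) (BT.node 1727 (BT.leaf cJ1727) (BT.leaf cJ1728)))) (BT.node 1733 (BT.node 1731 (BT.node 1730 (BT.node 1729 (BT.leaf cJ1729) (BT.leaf cJ1730)) (BT.leaf cJ1731)) (BT.node 1732 (BT.leaf cJ1732) (BT.leaf cJ1733))) (BT.node 1736 (BT.node 1735 (BT.node 1734 (BT.leaf cJ1734) (BT.leaf cJ1735)) (BT.leaf cJ1736)) (BT.node 1737 (BT.leaf cJ1737) (BT.leaf cJ1738)))))) (BT.node 1758 (BT.node 1748 (BT.node 1743 (BT.node 1741 (BT.node 1740 (BT.node 1739 (BT.leaf cJ1739) (BT.leaf cJ1740)) (BT.leaf cJ1741)) (BT.node 1742 (BT.leaf cJ1742) (BT.leaf cJ1743))) (BT.node 1746 (BT.node 1745 (BT.node 1744 (BT.leaf cJ1744) (BT.leaf cJ1745)) (BT.leaf cJ1746)) (BT.node 1747 (BT.leaf cJ1747) (BT.leaf cJ1748)))) (BT.node 1753 (BT.node 1751 (BT.node 1750 (BT.node 1749 (BT.leaf cJ1749) (BT.leaf cJ1750)) (BT.leaf cJ1751)) (BT.node 1752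 (BT.leaf cJ1752) (BT.leaf cJ1753))) (BT.node 1756 (BT.node 1755 (BT.node 1754 (BT.leaf cJ1754) (BT.leaf cJ1755)) (BT.leaf cJ1756)) (BT.node 1757 (BT.leaf cJ1757) (BT.leaf cJ1758))))) (BT.node 1768 (BT.node 1763 (BT.node 1761 (BT.node 1760 (BT.node 1759 (BT.leaf cJ1759) (BT.leaf cJ1760)) (BT.leaf cJ1761)) (BT.node 1762 (BT.leaf cJ1762) (BT.leaf cJ1763))) (BT.node 1766 (BT.node 1765 (BT.node 1764 (BT.leaf cJ1764) (BT.leaf cJ1765)) (BT.leaf cJ1766)) (BT.node 1767 (BT.leaf cJ1767) (BT.leaf cJ1768)))) (BT.node 1773 (BT.node 1771 (BT.node 1770 (BT.node 1769 (BT.leaf cJ1769) (BT.leaf cJ1770)) (BT.leaf cJ1771)) (BT.node 1772 (BT.leaf cJ1772) (BT.leaf cJ1773))) (BT.node 1776 (BT.node 1775 (BT.node 1774 (BT.leaf cJ1774) (BT.leaf cJ1775)) (BT.leaf cJ1776)) (BT.node 1777 (BT.leaf cJ1777) (BT.leaf cJ1778))))))))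
noncomputable def colJT_11 : BT ℕ := (BT.node 1859 (BT.node 1819 (BT.node 1799 (BT.node 1789 (BT.node 1784 (BT.node 1781 (BT.node 1780 (BT.node 1779 (BT.leaf cJ1779) (BT.leaf cJ1780)) (BT.leaf cJ1781)) (BT.node 1783 (BT.node 1782 (BT.leaf cJ1782) (BT.leaf cJ1783)) (BT.leaf cJ1784))) (BT.node 1787 (BT.node 1786 (BT.node 1785 (BT.leaf cJ1785) (BT.leaf cJ1786)) (BT.leaf cJ1787)) (BT.node 1788 (BT.leaf cJ1788) (BT.leaf cJ1789)))) (BT.node 1794 (BT.node 1792 (BT.node 1791 (BT.node 1790 (BT.leaf cJ1790) (BT.leaf cJ1791)) (BT.leaf cJ1792)) (BT.node 1793 (BT.leaf cJ1793) (BT.leaf cJ1794))) (BT.node 1797 (BT.node 1796 (BT.node 1795 (BT.leaf cJ1795) (BT.leaf cJ1796)) (BT.leaf cJ1797)) (BT.node 1798 (BT.leaf cJ1798) (BT.leaf cJ1799))))) (BT.node 1809 (BT.node 1804 (BT.node 1802 (BT.node 1801 (BT.node 1800 (BT.leaf cJ1800) (BT.leaf cJ1801)) (BT.leaf cJ1802)) (BT.node 1803 (BT.leaf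 cJ1803) (BT.leaf cJ1804))) (BT.node 1807 (BT.node 1806 (BT.node 1805 (BT.leaf cJ1805) (BT.leaf cJ1806)) (BT.leaf cJ1807)) (BT.node 1808 (BT.leaf cJ1808) (BT.leaf cJ1809)))) (BT.node 1814 (BT.node 1812 (BT.node 1811 (BT.node 1810 (BT.leaf cJ1810) (BT.leaf cJ1811)) (BT.leaf cJ1812)) (BT.node 1813 (BT.leaf cJ1813) (BT.leaf cJ1814))) (BT.node 1817 (BT.node 1816 (BT.node 1815 (BT.leaf cJ1815) (BT.leaf cJ1816)) (BT.leaf cJ1817)) (BT.node 1818 (BT.leaf cJ1818) (BT.leaf cJ1819)))))) (BT.node 1839 (BT.node 1829 (BT.node 1824 (BT.node 1822 (BT.node 1821 (BT.node 1820 (BT.leaf cJ1820) (BT.leaf cJ1821)) (BT.leaf cJ1822)) (BT.node 1823 (BT.leaf cJ1823) (BT.leaf cJ1824))) (BT.node 1827 (BT.node 1826 (BT.node 1825 (BT.leaf cJ1825) (BT.leaf cJ1826)) (BT.leaf cJ1827)) (BT.node 1828 (BT.leaf cJ1828) (BT.leaf cJ1829)))) (BT.node 1834 (BT.node 1832 (BT.node 1831 (BT.node 1830 (BT.leaf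 cJ1830) (BT.leaf cJ1831)) (BT.leaf cJ1832)) (BT.node 1833 (BT.leaf cJ1833) (BT.leaf cJ1834))) (BT.node 1837 (BT.node 1836 (BT.node 1835 (BT.leaf cJ1835) (BT.leaf cJ1836)) (BT.leaf cJ1837)) (BT.node 1838 (BT.leaf cJ1838) (BT.leaf cJ1839))))) (BT.node 1849 (BT.node 1844 (BT.node 1842 (BT.node 1841 (BT.node 1840 (BT.leaf cJ1840) (BT.leaf cJ1841)) (BT.leaf cJ1842)) (BT.node 1843 (BT.leaf cJ1843) (BT.leaf cJ1844))) (BT.node 1847 (BT.node 1846 (BT.node 1845 (BT.leaf cJ1845) (BT.leaf cJ1846)) (BT.leaf cJ1847)) (BT.node 1848 (BT.leaf cJ1848) (BT.leaf cJ1849)))) (BT.node 1854 (BT.node 1852 (BT.node 1851 (BT.node 1850 (BT.leaf cJ1850) (BT.leaf cJ1851)) (BT.leaf cJ1852)) (BT.node 1853 (BT.leaf cJ1853) (BT.leaf cJ1854))) (BT.node 1857 (BT.node 1856 (BT.node 1855 (BT.leaf cJ1855) (BT.leaf cJ1856)) (BT.leaf cJ1857)) (BT.node 1858 (BT.leaf cJ1858) (BT.leaf cJ1859))))))) (BT.node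 1899 (BT.node 1879 (BT.node 1869 (BT.node 1864 (BT.node 1862 (BT.node 1861 (BT.node 1860 (BT.leaf cJ1860) (BT.leaf cJ1861)) (BT.leaf cJ1862)) (BT.node 1863 (BT.leaf cJ1863) (BT.leaf cJ1864))) (BT.node 1867 (BT.node 1866 (BT.node 1865 (BT.leaf cJ1865) (BT.leaf cJ1866)) (BT.leaf cJ1867)) (BT.node 1868 (BT.leaf cJ1868) (BT.leaf cJ1869)))) (BT.node 1874 (BT.node 1872 (BT.node 1871 (BT.node 1870 (BT.leaf cJ1870) (BT.leaf cJ1871)) (BT.leaf cJ1872)) (BT.node 1873 (BT.leaf cJ1873) (BT.leaf cJ1874))) (BT.node 1877 (BT.node 1876 (BT.node 1875 (BT.leaf cJ1875) (BT.leaf cJ1876)) (BT.leaf cJ1877)) (BT.node 1878 (BT.leaf cJ1878) (BT.leaf cJ1879))))) (BT.node 1889 (BT.node 1884 (BT.node 1882 (BT.node 1881 (BT.node 1880 (BT.leaf cJ1880) (BT.leaf cJ1881)) (BT.leaf cJ1882)) (BT.node 1883 (BT.leaf cJ1883) (BT.leaf cJ1884))) (BT.node 1887 (BT.node 1886 (BT.node 1885 (BT.leaf cJ1885) (BT.leaf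 cJ1886)) (BT.leaf cJ1887)) (BT.node 1888 (BT.leaf cJ1888) (BT.leaf cJ1889)))) (BT.node 1894 (BT.node 1892 (BT.node 1891 (BT.node 1890 (BT.leaf cJ1890) (BT.leaf cJ1891)) (BT.leaf cJ1892)) (BT.node 1893 (BT.leaf cJ1893) (BT.leaf cJ1894))) (BT.node 1897 (BT.node 1896 (BT.node 1895 (BT.leaf cJ1895) (BT.leaf cJ1896)) (BT.leaf cJ1897)) (BT.node 1898 (BT.leaf cJ1898) (BT.leaf cJ1899)))))) (BT.node 1919 (BT.node 1909 (BT.node 1904 (BT.node 1902 (BT.node 1901 (BT.node 1900 (BT.leaf cJ1900) (BT.leaf cJ1901)) (BT.leaf cJ1902)) (BT.node 1903 (BT.leaf cJ1903) (BT.leaf cJ1904))) (BT.node 1907 (BT.node 1906 (BT.node 1905 (BT.leaf cJ1905) (BT.leaf cJ1906)) (BT.leaf cJ1907)) (BT.node 1908 (BT.leaf cJ1908) (BT.leaf cJ1909)))) (BT.node 1914 (BT.node 1912 (BT.node 1911 (BT.node 1910 (BT.leaf cJ1910) (BT.leaf cJ1911)) (BT.leaf cJ1912)) (BT.node 1913 (BT.leaf cJ1913) (BT.leaf cJ1914)))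 (BT.node 1917 (BT.node 1916 (BT.node 1915 (BT.leaf cJ1915) (BT.leaf cJ1916)) (BT.leaf cJ1917)) (BT.node 1918 (BT.leaf cJ1918) (BT.leaf cJ1919))))) (BT.node 1929 (BT.node 1924 (BT.node 1922 (BT.node 1921 (BT.node 1920 (BT.leaf cJ1920) (BT.leaf cJ1921)) (BT.leaf cJ1922)) (BT.node 1923 (BT.leaf cJ1923) (BT.leaf cJ1924))) (BT.node 1927 (BT.node 1926 (BT.node 1925 (BT.leaf cJ1925) (BT.leaf cJ1926)) (BT.leaf cJ1927)) (BT.node 1928 (BT.leaf cJ1928) (BT.leaf cJ1929)))) (BT.node 1934 (BT.node 1932 (BT.node 1931 (BT.node 1930 (BT.leaf cJ1930) (BT.leaf cJ1931)) (BT.leaf cJ1932)) (BT.node 1933 (BT.leaf cJ1933) (BT.leaf cJ1934))) (BT.node 1937 (BT.node 1936 (BT.node 1935 (BT.leaf cJ1935) (BT.leaf cJ1936)) (BT.leaf cJ1937)) (BT.node 1938 (BT.leaf cJ1938) (BT.leaf cJ1939))))))))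
noncomputable def colJT_12 : BT ℕ := (BT.node 2020 (BT.node 1980 (BT.node 1960 (BT.node 1950 (BT.node 1945 (BT.node 1942 (BT.node 1941 (BT.node 1940 (BT.leaf cJ1940) (BT.leaf cJ1941)) (BT.leaf cJ1942)) (BT.node 1944 (BT.node 1943 (BT.leaf cJ1943) (BT.leaf cJ1944)) (BT.leaf cJ1945))) (BT.node 1948 (BT.node 1947 (BT.node 1946 (BT.leaf cJ1946) (BT.leaf cJ1947)) (BT.leaf cJ1948)) (BT.node 1949 (BT.leaf cJ1949) (BT.leaf cJ1950)))) (BT.node 1955 (BT.node 1953 (BT.node 1952 (BT.node 1951 (BT.leaf cJ1951) (BT.leaf cJ1952)) (BT.leaf cJ1953)) (BT.node 1954 (BT.leaf cJ1954) (BT.leaf cJ1955))) (BT.node 1958 (BT.node 1957 (BT.node 1956 (BT.leaf cJ1956) (BT.leaf cJ1957)) (BT.leaf cJ1958)) (BT.node 1959 (BT.leaf cJ1959) (BT.leaf cJ1960))))) (BT.node 1970 (BT.node 1965 (BT.node 1963 (BT.node 1962 (BT.node 1961 (BT.leaf cJ1961) (BT.leaf cJ1962)) (BT.leaf cJ1963)) (BT.node 1964 (BT.leaf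 cJ1964) (BT.leaf cJ1965))) (BT.node 1968 (BT.node 1967 (BT.node 1966 (BT.leaf cJ1966) (BT.leaf cJ1967)) (BT.leaf cJ1968)) (BT.node 1969 (BT.leaf cJ1969) (BT.leaf cJ1970)))) (BT.node 1975 (BT.node 1973 (BT.node 1972 (BT.node 1971 (BT.leaf cJ1971) (BT.leaf cJ1972)) (BT.leaf cJ1973)) (BT.node 1974 (BT.leaf cJ1974) (BT.leaf cJ1975))) (BT.node 1978 (BT.node 1977 (BT.node 1976 (BT.leaf cJ1976) (BT.leaf cJ1977)) (BT.leaf cJ1978)) (BT.node 1979 (BT.leaf cJ1979) (BT.leaf cJ1980)))))) (BT.node 2000 (BT.node 1990 (BT.node 1985 (BT.node 1983 (BT.node 1982 (BT.node 1981 (BT.leaf cJ1981) (BT.leaf cJ1982)) (BT.leaf cJ1983)) (BT.node 1984 (BT.leaf cJ1984) (BT.leaf cJ1985))) (BT.node 1988 (BT.node 1987 (BT.node 1986 (BT.leaf cJ1986) (BT.leaf cJ1987)) (BT.leaf cJ1988)) (BT.node 1989 (BT.leaf cJ1989) (BT.leaf cJ1990)))) (BT.node 1995 (BT.node 1993 (BT.node 1992 (BT.node 1991 (BT.leaf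 cJ1991) (BT.leaf cJ1992)) (BT.leaf cJ1993)) (BT.node 1994 (BT.leaf cJ1994) (BT.leaf cJ1995))) (BT.node 1998 (BT.node 1997 (BT.node 1996 (BT.leaf cJ1996) (BT.leaf cJ1997)) (BT.leaf cJ1998)) (BT.node 1999 (BT.leaf cJ1999) (BT.leaf cJ2000))))) (BT.node 2010 (BT.node 2005 (BT.node 2003 (BT.node 2002 (BT.node 2001 (BT.leaf cJ2001) (BT.leaf cJ2002)) (BT.leaf cJ2003)) (BT.node 2004 (BT.leaf cJ2004) (BT.leaf cJ2005))) (BT.node 2008 (BT.node 2007 (BT.node 2006 (BT.leaf cJ2006) (BT.leaf cJ2007)) (BT.leaf cJ2008)) (BT.node 2009 (BT.leaf cJ2009) (BT.leaf cJ2010)))) (BT.node 2015 (BT.node 2013 (BT.node 2012 (BT.node 2011 (BT.leaf cJ2011) (BT.leaf cJ2012)) (BT.leaf cJ2013)) (BT.node 2014 (BT.leaf cJ2014) (BT.leaf cJ2015))) (BT.node 2018 (BT.node 2017 (BT.node 2016 (BT.leaf cJ2016) (BT.leaf cJ2017)) (BT.leaf cJ2018)) (BT.node 2019 (BT.leaf cJ2019) (BT.leaf cJ2020))))))) (BT.node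 2061 (BT.node 2041 (BT.node 2031 (BT.node 2026 (BT.node 2023 (BT.node 2022 (BT.node 2021 (BT.leaf cJ2021) (BT.leaf cJ2022)) (BT.leaf cJ2023)) (BT.node 2025 (BT.node 2024 (BT.leaf cJ2024) (BT.leaf cJ2025)) (BT.leaf cJ2026))) (BT.node 2029 (BT.node 2028 (BT.node 2027 (BT.leaf cJ2027) (BT.leaf cJ2028)) (BT.leaf cJ2029)) (BT.node 2030 (BT.leaf cJ2030) (BT.leaf cJ2031)))) (BT.node 2036 (BT.node 2034 (BT.node 2033 (BT.node 2032 (BT.leaf cJ2032) (BT.leaf cJ2033)) (BT.leaf cJ2034)) (BT.node 2035 (BT.leaf cJ2035) (BT.leaf cJ2036))) (BT.node 2039 (BT.node 2038 (BT.node 2037 (BT.leaf cJ2037) (BT.leaf cJ2038)) (BT.leaf cJ2039)) (BT.node 2040 (BT.leaf cJ2040) (BT.leaf cJ2041))))) (BT.node 2051 (BT.node 2046 (BT.node 2044 (BT.node 2043 (BT.node 2042 (BT.leaf cJ2042) (BT.leaf cJ2043)) (BT.leaf cJ2044)) (BT.node 2045 (BT.leaf cJ2045) (BT.leaf cJ2046))) (BT.node 2049 (BT.node 2048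 (BT.node 2047 (BT.leaf cJ2047) (BT.leaf cJ2048)) (BT.leaf cJ2049)) (BT.node 2050 (BT.leaf cJ2050) (BT.leaf cJ2051)))) (BT.node 2056 (BT.node 2054 (BT.node 2053 (BT.node 2052 (BT.leaf cJ2052) (BT.leaf cJ2053)) (BT.leaf cJ2054)) (BT.node 2055 (BT.leaf cJ2055) (BT.leaf cJ2056))) (BT.node 2059 (BT.node 2058 (BT.node 2057 (BT.leaf cJ2057) (BT.leaf cJ2058)) (BT.leaf cJ2059)) (BT.node 2060 (BT.leaf cJ2060) (BT.leaf cJ2061)))))) (BT.node 2081 (BT.node 2071 (BT.node 2066 (BT.node 2064 (BT.node 2063 (BT.node 2062 (BT.leaf cJ2062) (BT.leaf cJ2063)) (BT.leaf cJ2064)) (BT.node 2065 (BT.leaf cJ2065) (BT.leaf cJ2066))) (BT.node 2069 (BT.node 2068 (BT.node 2067 (BT.leaf cJ2067) (BT.leaf cJ2068)) (BT.leaf cJ2069)) (BT.node 2070 (BT.leaf cJ2070) (BT.leaf cJ2071)))) (BT.node 2076 (BT.node 2074 (BT.node 2073 (BT.node 2072 (BT.leaf cJ2072) (BT.leaf cJ2073)) (BT.leaf cJ2074)) (BT.node 2075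 (BT.leaf cJ2075) (BT.leaf cJ2076))) (BT.node 2079 (BT.node 2078 (BT.node 2077 (BT.leaf cJ2077) (BT.leaf cJ2078)) (BT.leaf cJ2079)) (BT.node 2080 (BT.leaf cJ2080) (BT.leaf cJ2081))))) (BT.node 2091 (BT.node 2086 (BT.node 2084 (BT.node 2083 (BT.node 2082 (BT.leaf cJ2082) (BT.leaf cJ2083)) (BT.leaf cJ2084)) (BT.node 2085 (BT.leaf cJ2085) (BT.leaf cJ2086))) (BT.node 2089 (BT.node 2088 (BT.node 2087 (BT.leaf cJ2087) (BT.leaf cJ2088)) (BT.leaf cJ2089)) (BT.node 2090 (BT.leaf cJ2090) (BT.leaf cJ2091)))) (BT.node 2096 (BT.node 2094 (BT.node 2093 (BT.node 2092 (BT.leaf cJ2092) (BT.leaf cJ2093)) (BT.leaf cJ2094)) (BT.node 2095 (BT.leaf cJ2095) (BT.leaf cJ2096))) (BT.node 2099 (BT.node 2098 (BT.node 2097 (BT.leaf cJ2097) (BT.leaf cJ2098)) (BT.leaf cJ2099)) (BT.node 2100 (BT.leaf cJ2100) (BT.leaf cJ2101))))))))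
noncomputable def colJT_13 : BT ℕ := (BT.node 2182 (BT.node 2142 (BT.node 2122 (BT.node 2112 (BT.node 2107 (BT.node 2104 (BT.node 2103 (BT.node 2102 (BT.leaf cJ2102) (BT.leaf cJ2103)) (BT.leaf cJ2104)) (BT.node 2106 (BT.node 2105 (BT.leaf cJ2105) (BT.leaf cJ2106)) (BT.leaf cJ2107))) (BT.node 2110 (BT.node 2109 (BT.node 2108 (BT.leaf cJ2108) (BT.leaf cJ2109)) (BT.leaf cJ2110)) (BT.node 2111 (BT.leaf cJ2111) (BT.leaf cJ2112)))) (BT.node 2117 (BT.node 2115 (BT.node 2114 (BT.node 2113 (BT.leaf cJ2113) (BT.leaf cJ2114)) (BT.leaf cJ2115)) (BT.node 2116 (BT.leaf cJ2116) (BT.leaf cJ2117))) (BT.node 2120 (BT.node 2119 (BT.node 2118 (BT.leaf cJ2118) (BT.leaf cJ2119)) (BT.leaf cJ2120)) (BT.node 2121 (BT.leaf cJ2121) (BT.leaf cJ2122))))) (BT.node 2132 (BT.node 2127 (BT.node 2125 (BT.node 2124 (BT.node 2123 (BT.leaf cJ2123) (BT.leaf cJ2124)) (BT.leaf cJ2125)) (BT.node 2126 (BT.leaf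 cJ2126) (BT.leaf cJ2127))) (BT.node 2130 (BT.node 2129 (BT.node 2128 (BT.leaf cJ2128) (BT.leaf cJ2129)) (BT.leaf cJ2130)) (BT.node 2131 (BT.leaf cJ2131) (BT.leaf cJ2132)))) (BT.node 2137 (BT.node 2135 (BT.node 2134 (BT.node 2133 (BT.leaf cJ2133) (BT.leaf cJ2134)) (BT.leaf cJ2135)) (BT.node 2136 (BT.leaf cJ2136) (BT.leaf cJ2137))) (BT.node 2140 (BT.node 2139 (BT.node 2138 (BT.leaf cJ2138) (BT.leaf cJ2139)) (BT.leaf cJ2140)) (BT.node 2141 (BT.leaf cJ2141) (BT.leaf cJ2142)))))) (BT.node 2162 (BT.node 2152 (BT.node 2147 (BT.node 2145 (BT.node 2144 (BT.node 2143 (BT.leaf cJ2143) (BT.leaf cJ2144)) (BT.leaf cJ2145)) (BT.node 2146 (BT.leaf cJ2146) (BT.leaf cJ2147))) (BT.node 2150 (BT.node 2149 (BT.node 2148 (BT.leaf cJ2148) (BT.leaf cJ2149)) (BT.leaf cJ2150)) (BT.node 2151 (BT.leaf cJ2151) (BT.leaf cJ2152)))) (BT.node 2157 (BT.node 2155 (BT.node 2154 (BT.node 2153 (BT.leaf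 cJ2153) (BT.leaf cJ2154)) (BT.leaf cJ2155)) (BT.node 2156 (BT.leaf cJ2156) (BT.leaf cJ2157))) (BT.node 2160 (BT.node 2159 (BT.node 2158 (BT.leaf cJ2158) (BT.leaf cJ2159)) (BT.leaf cJ2160)) (BT.node 2161 (BT.leaf cJ2161) (BT.leaf cJ2162))))) (BT.node 2172 (BT.node 2167 (BT.node 2165 (BT.node 2164 (BT.node 2163 (BT.leaf cJ2163) (BT.leaf cJ2164)) (BT.leaf cJ2165)) (BT.node 2166 (BT.leaf cJ2166) (BT.leaf cJ2167))) (BT.node 2170 (BT.node 2169 (BT.node 2168 (BT.leaf cJ2168) (BT.leaf cJ2169)) (BT.leaf cJ2170)) (BT.node 2171 (BT.leaf cJ2171) (BT.leaf cJ2172)))) (BT.node 2177 (BT.node 2175 (BT.node 2174 (BT.node 2173 (BT.leaf cJ2173) (BT.leaf cJ2174)) (BT.leaf cJ2175)) (BT.node 2176 (BT.leaf cJ2176) (BT.leaf cJ2177))) (BT.node 2180 (BT.node 2179 (BT.node 2178 (BT.leaf cJ2178) (BT.leaf cJ2179)) (BT.leaf cJ2180)) (BT.node 2181 (BT.leaf cJ2181) (BT.leaf cJ2182))))))) (BT.node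 2222 (BT.node 2202 (BT.node 2192 (BT.node 2187 (BT.node 2185 (BT.node 2184 (BT.node 2183 (BT.leaf cJ2183) (BT.leaf cJ2184)) (BT.leaf cJ2185)) (BT.node 2186 (BT.leaf cJ2186) (BT.leaf cJ2187))) (BT.node 2190 (BT.node 2189 (BT.node 2188 (BT.leaf cJ2188) (BT.leaf cJ2189)) (BT.leaf cJ2190)) (BT.node 2191 (BT.leaf cJ2191) (BT.leaf cJ2192)))) (BT.node 2197 (BT.node 2195 (BT.node 2194 (BT.node 2193 (BT.leaf cJ2193) (BT.leaf cJ2194)) (BT.leaf cJ2195)) (BT.node 2196 (BT.leaf cJ2196) (BT.leaf cJ2197))) (BT.node 2200 (BT.node 2199 (BT.node 2198 (BT.leaf cJ2198) (BT.leaf cJ2199)) (BT.leaf cJ2200)) (BT.node 2201 (BT.leaf cJ2201) (BT.leaf cJ2202))))) (BT.node 2212 (BT.node 2207 (BT.node 2205 (BT.node 2204 (BT.node 2203 (BT.leaf cJ2203) (BT.leaf cJ2204)) (BT.leaf cJ2205)) (BT.node 2206 (BT.leaf cJ2206) (BT.leaf cJ2207))) (BT.node 2210 (BT.node 2209 (BT.node 2208 (BT.leaf cJ2208) (BT.leaf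 cJ2209)) (BT.leaf cJ2210)) (BT.node 2211 (BT.leaf cJ2211) (BT.leaf cJ2212)))) (BT.node 2217 (BT.node 2215 (BT.node 2214 (BT.node 2213 (BT.leaf cJ2213) (BT.leaf cJ2214)) (BT.leaf cJ2215)) (BT.node 2216 (BT.leaf cJ2216) (BT.leaf cJ2217))) (BT.node 2220 (BT.node 2219 (BT.node 2218 (BT.leaf cJ2218) (BT.leaf cJ2219)) (BT.leaf cJ2220)) (BT.node 2221 (BT.leaf cJ2221) (BT.leaf cJ2222)))))) (BT.node 2242 (BT.node 2232 (BT.node 2227 (BT.node 2225 (BT.node 2224 (BT.node 2223 (BT.leaf cJ2223) (BT.leaf cJ2224)) (BT.leaf cJ2225)) (BT.node 2226 (BT.leaf cJ2226) (BT.leaf cJ2227))) (BT.node 2230 (BT.node 2229 (BT.node 2228 (BT.leaf cJ2228) (BT.leaf cJ2229)) (BT.leaf cJ2230)) (BT.node 2231 (BT.leaf cJ2231) (BT.leaf cJ2232)))) (BT.node 2237 (BT.node 2235 (BT.node 2234 (BT.node 2233 (BT.leaf cJ2233) (BT.leaf cJ2234)) (BT.leaf cJ2235)) (BT.node 2236 (BT.leaf cJ2236) (BT.leaf cJ2237)))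 (BT.node 2240 (BT.node 2239 (BT.node 2238 (BT.leaf cJ2238) (BT.leaf cJ2239)) (BT.leaf cJ2240)) (BT.node 2241 (BT.leaf cJ2241) (BT.leaf cJ2242))))) (BT.node 2252 (BT.node 2247 (BT.node 2245 (BT.node 2244 (BT.node 2243 (BT.leaf cJ2243) (BT.leaf cJ2244)) (BT.leaf cJ2245)) (BT.node 2246 (BT.leaf cJ2246) (BT.leaf cJ2247))) (BT.node 2250 (BT.node 2249 (BT.node 2248 (BT.leaf cJ2248) (BT.leaf cJ2249)) (BT.leaf cJ2250)) (BT.node 2251 (BT.leaf cJ2251) (BT.leaf cJ2252)))) (BT.node 2257 (BT.node 2255 (BT.node 2254 (BT.node 2253 (BT.leaf cJ2253) (BT.leaf cJ2254)) (BT.leaf cJ2255)) (BT.node 2256 (BT.leaf cJ2256) (BT.leaf cJ2257))) (BT.node 2260 (BT.node 2259 (BT.node 2258 (BT.leaf cJ2258) (BT.leaf cJ2259)) (BT.leaf cJ2260)) (BT.node 2261 (BT.leaf cJ2261) (BT.leaf cJ2262))))))))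
noncomputable def colJT_14 : BT ℕ := (BT.node 2343 (BT.node 2303 (BT.node 2283 (BT.node 2273 (BT.node 2268 (BT.node 2265 (BT.node 2264 (BT.node 2263 (BT.leaf cJ2263) (BT.leaf cJ2264)) (BT.leaf cJ2265)) (BT.node 2267 (BT.node 2266 (BT.leaf cJ2266) (BT.leaf cJ2267)) (BT.leaf cJ2268))) (BT.node 2271 (BT.node 2270 (BT.node 2269 (BT.leaf cJ2269) (BT.leaf cJ2270)) (BT.leaf cJ2271)) (BT.node 2272 (BT.leaf cJ2272) (BT.leaf cJ2273)))) (BT.node 2278 (BT.node 2276 (BT.node 2275 (BT.node 2274 (BT.leaf cJ2274) (BT.leaf cJ2275)) (BT.leaf cJ2276)) (BT.node 2277 (BT.leaf cJ2277) (BT.leaf cJ2278))) (BT.node 2281 (BT.node 2280 (BT.node 2279 (BT.leaf cJ2279) (BT.leaf cJ2280)) (BT.leaf cJ2281)) (BT.node 2282 (BT.leaf cJ2282) (BT.leaf cJ2283))))) (BT.node 2293 (BT.node 2288 (BT.node 2286 (BT.node 2285 (BT.node 2284 (BT.leaf cJ2284) (BT.leaf cJ2285)) (BT.leaf cJ2286)) (BT.node 2287 (BT.leaf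 cJ2287) (BT.leaf cJ2288))) (BT.node 2291 (BT.node 2290 (BT.node 2289 (BT.leaf cJ2289) (BT.leaf cJ2290)) (BT.leaf cJ2291)) (BT.node 2292 (BT.leaf cJ2292) (BT.leaf cJ2293)))) (BT.node 2298 (BT.node 2296 (BT.node 2295 (BT.node 2294 (BT.leaf cJ2294) (BT.leaf cJ2295)) (BT.leaf cJ2296)) (BT.node 2297 (BT.leaf cJ2297) (BT.leaf cJ2298))) (BT.node 2301 (BT.node 2300 (BT.node 2299 (BT.leaf cJ2299) (BT.leaf cJ2300)) (BT.leaf cJ2301)) (BT.node 2302 (BT.leaf cJ2302) (BT.leaf cJ2303)))))) (BT.node 2323 (BT.node 2313 (BT.node 2308 (BT.node 2306 (BT.node 2305 (BT.node 2304 (BT.leaf cJ2304) (BT.leaf cJ2305)) (BT.leaf cJ2306)) (BT.node 2307 (BT.leaf cJ2307) (BT.leaf cJ2308))) (BT.node 2311 (BT.node 2310 (BT.node 2309 (BT.leaf cJ2309) (BT.leaf cJ2310)) (BT.leaf cJ2311)) (BT.node 2312 (BT.leaf cJ2312) (BT.leaf cJ2313)))) (BT.node 2318 (BT.node 2316 (BT.node 2315 (BT.node 2314 (BT.leaf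 cJ2314) (BT.leaf cJ2315)) (BT.leaf cJ2316)) (BT.node 2317 (BT.leaf cJ2317) (BT.leaf cJ2318))) (BT.node 2321 (BT.node 2320 (BT.node 2319 (BT.leaf cJ2319) (BT.leaf cJ2320)) (BT.leaf cJ2321)) (BT.node 2322 (BT.leaf cJ2322) (BT.leaf cJ2323))))) (BT.node 2333 (BT.node 2328 (BT.node 2326 (BT.node 2325 (BT.node 2324 (BT.leaf cJ2324) (BT.leaf cJ2325)) (BT.leaf cJ2326)) (BT.node 2327 (BT.leaf cJ2327) (BT.leaf cJ2328))) (BT.node 2331 (BT.node 2330 (BT.node 2329 (BT.leaf cJ2329) (BT.leaf cJ2330)) (BT.leaf cJ2331)) (BT.node 2332 (BT.leaf cJ2332) (BT.leaf cJ2333)))) (BT.node 2338 (BT.node 2336 (BT.node 2335 (BT.node 2334 (BT.leaf cJ2334) (BT.leaf cJ2335)) (BT.leaf cJ2336)) (BT.node 2337 (BT.leaf cJ2337) (BT.leaf cJ2338))) (BT.node 2341 (BT.node 2340 (BT.node 2339 (BT.leaf cJ2339) (BT.leaf cJ2340)) (BT.leaf cJ2341)) (BT.node 2342 (BT.leaf cJ2342) (BT.leaf cJ2343))))))) (BT.node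 2384 (BT.node 2364 (BT.node 2354 (BT.node 2349 (BT.node 2346 (BT.node 2345 (BT.node 2344 (BT.leaf cJ2344) (BT.leaf cJ2345)) (BT.leaf cJ2346)) (BT.node 2348 (BT.node 2347 (BT.leaf cJ2347) (BT.leaf cJ2348)) (BT.leaf cJ2349))) (BT.node 2352 (BT.node 2351 (BT.node 2350 (BT.leaf cJ2350) (BT.leaf cJ2351)) (BT.leaf cJ2352)) (BT.node 2353 (BT.leaf cJ2353) (BT.leaf cJ2354)))) (BT.node 2359 (BT.node 2357 (BT.node 2356 (BT.node 2355 (BT.leaf cJ2355) (BT.leaf cJ2356)) (BT.leaf cJ2357)) (BT.node 2358 (BT.leaf cJ2358) (BT.leaf cJ2359))) (BT.node 2362 (BT.node 2361 (BT.node 2360 (BT.leaf cJ2360) (BT.leaf cJ2361)) (BT.leaf cJ2362)) (BT.node 2363 (BT.leaf cJ2363) (BT.leaf cJ2364))))) (BT.node 2374 (BT.node 2369 (BT.node 2367 (BT.node 2366 (BT.node 2365 (BT.leaf cJ2365) (BT.leaf cJ2366)) (BT.leaf cJ2367)) (BT.node 2368 (BT.leaf cJ2368) (BT.leaf cJ2369))) (BT.node 2372 (BT.node 2371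 (BT.node 2370 (BT.leaf cJ2370) (BT.leaf cJ2371)) (BT.leaf cJ2372)) (BT.node 2373 (BT.leaf cJ2373) (BT.leaf cJ2374)))) (BT.node 2379 (BT.node 2377 (BT.node 2376 (BT.node 2375 (BT.leaf cJ2375) (BT.leaf cJ2376)) (BT.leaf cJ2377)) (BT.node 2378 (BT.leaf cJ2378) (BT.leaf cJ2379))) (BT.node 2382 (BT.node 2381 (BT.node 2380 (BT.leaf cJ2380) (BT.leaf cJ2381)) (BT.leaf cJ2382)) (BT.node 2383 (BT.leaf cJ2383) (BT.leaf cJ2384)))))) (BT.node 2404 (BT.node 2394 (BT.node 2389 (BT.node 2387 (BT.node 2386 (BT.node 2385 (BT.leaf cJ2385) (BT.leaf cJ2386)) (BT.leaf cJ2387)) (BT.node 2388 (BT.leaf cJ2388) (BT.leaf cJ2389))) (BT.node 2392 (BT.node 2391 (BT.node 2390 (BT.leaf cJ2390) (BT.leaf cJ2391)) (BT.leaf cJ2392)) (BT.node 2393 (BT.leaf cJ2393) (BT.leaf cJ2394)))) (BT.node 2399 (BT.node 2397 (BT.node 2396 (BT.node 2395 (BT.leaf cJ2395) (BT.leaf cJ2396)) (BT.leaf cJ2397)) (BT.node 2398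 (BT.leaf cJ2398) (BT.leaf cJ2399))) (BT.node 2402 (BT.node 2401 (BT.node 2400 (BT.leaf cJ2400) (BT.leaf cJ2401)) (BT.leaf cJ2402)) (BT.node 2403 (BT.leaf cJ2403) (BT.leaf cJ2404))))) (BT.node 2414 (BT.node 2409 (BT.node 2407 (BT.node 2406 (BT.node 2405 (BT.leaf cJ2405) (BT.leaf cJ2406)) (BT.leaf cJ2407)) (BT.node 2408 (BT.leaf cJ2408) (BT.leaf cJ2409))) (BT.node 2412 (BT.node 2411 (BT.node 2410 (BT.leaf cJ2410) (BT.leaf cJ2411)) (BT.leaf cJ2412)) (BT.node 2413 (BT.leaf cJ2413) (BT.leaf cJ2414)))) (BT.node 2419 (BT.node 2417 (BT.node 2416 (BT.node 2415 (BT.leaf cJ2415) (BT.leaf cJ2416)) (BT.leaf cJ2417)) (BT.node 2418 (BT.leaf cJ2418) (BT.leaf cJ2419))) (BT.node 2422 (BT.node 2421 (BT.node 2420 (BT.leaf cJ2420) (BT.leaf cJ2421)) (BT.leaf cJ2422)) (BT.node 2423 (BT.leaf cJ2423) (BT.leaf cJ2424))))))))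
noncomputable def colJT_15 : BT ℕ := (BT.node 2505 (BT.node 2465 (BT.node 2445 (BT.node 2435 (BT.node 2430 (BT.node 2427 (BT.node 2426 (BT.node 2425 (BT.leaf cJ2425) (BT.leaf cJ2426)) (BT.leaf cJ2427)) (BT.node 2429 (BT.node 2428 (BT.leaf cJ2428) (BT.leaf cJ2429)) (BT.leaf cJ2430))) (BT.node 2433 (BT.node 2432 (BT.node 2431 (BT.leaf cJ2431) (BT.leaf cJ2432)) (BT.leaf cJ2433)) (BT.node 2434 (BT.leaf cJ2434) (BT.leaf cJ2435)))) (BT.node 2440 (BT.node 2438 (BT.node 2437 (BT.node 2436 (BT.leaf cJ2436) (BT.leaf cJ2437)) (BT.leaf cJ2438)) (BT.node 2439 (BT.leaf cJ2439) (BT.leaf cJ2440))) (BT.node 2443 (BT.node 2442 (BT.node 2441 (BT.leaf cJ2441) (BT.leaf cJ2442)) (BT.leaf cJ2443)) (BT.node 2444 (BT.leaf cJ2444) (BT.leaf cJ2445))))) (BT.node 2455 (BT.node 2450 (BT.node 2448 (BT.node 2447 (BT.node 2446 (BT.leaf cJ2446) (BT.leaf cJ2447)) (BT.leaf cJ2448)) (BT.node 2449 (BT.leaf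 cJ2449) (BT.leaf cJ2450))) (BT.node 2453 (BT.node 2452 (BT.node 2451 (BT.leaf cJ2451) (BT.leaf cJ2452)) (BT.leaf cJ2453)) (BT.node 2454 (BT.leaf cJ2454) (BT.leaf cJ2455)))) (BT.node 2460 (BT.node 2458 (BT.node 2457 (BT.node 2456 (BT.leaf cJ2456) (BT.leaf cJ2457)) (BT.leaf cJ2458)) (BT.node 2459 (BT.leaf cJ2459) (BT.leaf cJ2460))) (BT.node 2463 (BT.node 2462 (BT.node 2461 (BT.leaf cJ2461) (BT.leaf cJ2462)) (BT.leaf cJ2463)) (BT.node 2464 (BT.leaf cJ2464) (BT.leaf cJ2465)))))) (BT.node 2485 (BT.node 2475 (BT.node 2470 (BT.node 2468 (BT.node 2467 (BT.node 2466 (BT.leaf cJ2466) (BT.leaf cJ2467)) (BT.leaf cJ2468)) (BT.node 2469 (BT.leaf cJ2469) (BT.leaf cJ2470))) (BT.node 2473 (BT.node 2472 (BT.node 2471 (BT.leaf cJ2471) (BT.leaf cJ2472)) (BT.leaf cJ2473)) (BT.node 2474 (BT.leaf cJ2474) (BT.leaf cJ2475)))) (BT.node 2480 (BT.node 2478 (BT.node 2477 (BT.node 2476 (BT.leaf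 cJ2476) (BT.leaf cJ2477)) (BT.leaf cJ2478)) (BT.node 2479 (BT.leaf cJ2479) (BT.leaf cJ2480))) (BT.node 2483 (BT.node 2482 (BT.node 2481 (BT.leaf cJ2481) (BT.leaf cJ2482)) (BT.leaf cJ2483)) (BT.node 2484 (BT.leaf cJ2484) (BT.leaf cJ2485))))) (BT.node 2495 (BT.node 2490 (BT.node 2488 (BT.node 2487 (BT.node 2486 (BT.leaf cJ2486) (BT.leaf cJ2487)) (BT.leaf cJ2488)) (BT.node 2489 (BT.leaf cJ2489) (BT.leaf cJ2490))) (BT.node 2493 (BT.node 2492 (BT.node 2491 (BT.leaf cJ2491) (BT.leaf cJ2492)) (BT.leaf cJ2493)) (BT.node 2494 (BT.leaf cJ2494) (BT.leaf cJ2495)))) (BT.node 2500 (BT.node 2498 (BT.node 2497 (BT.node 2496 (BT.leaf cJ2496) (BT.leaf cJ2497)) (BT.leaf cJ2498)) (BT.node 2499 (BT.leaf cJ2499) (BT.leaf cJ2500))) (BT.node 2503 (BT.node 2502 (BT.node 2501 (BT.leaf cJ2501) (BT.leaf cJ2502)) (BT.leaf cJ2503)) (BT.node 2504 (BT.leaf cJ2504) (BT.leaf cJ2505))))))) (BT.node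 2545 (BT.node 2525 (BT.node 2515 (BT.node 2510 (BT.node 2508 (BT.node 2507 (BT.node 2506 (BT.leaf cJ2506) (BT.leaf cJ2507)) (BT.leaf cJ2508)) (BT.node 2509 (BT.leaf cJ2509) (BT.leaf cJ2510))) (BT.node 2513 (BT.node 2512 (BT.node 2511 (BT.leaf cJ2511) (BT.leaf cJ2512)) (BT.leaf cJ2513)) (BT.node 2514 (BT.leaf cJ2514) (BT.leaf cJ2515)))) (BT.node 2520 (BT.node 2518 (BT.node 2517 (BT.node 2516 (BT.leaf cJ2516) (BT.leaf cJ2517)) (BT.leaf cJ2518)) (BT.node 2519 (BT.leaf cJ2519) (BT.leaf cJ2520))) (BT.node 2523 (BT.node 2522 (BT.node 2521 (BT.leaf cJ2521) (BT.leaf cJ2522)) (BT.leaf cJ2523)) (BT.node 2524 (BT.leaf cJ2524) (BT.leaf cJ2525))))) (BT.node 2535 (BT.node 2530 (BT.node 2528 (BT.node 2527 (BT.node 2526 (BT.leaf cJ2526) (BT.leaf cJ2527)) (BT.leaf cJ2528)) (BT.node 2529 (BT.leaf cJ2529) (BT.leaf cJ2530))) (BT.node 2533 (BT.node 2532 (BT.node 2531 (BT.leaf cJ2531) (BT.leaf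 cJ2532)) (BT.leaf cJ2533)) (BT.node 2534 (BT.leaf cJ2534) (BT.leaf cJ2535)))) (BT.node 2540 (BT.node 2538 (BT.node 2537 (BT.node 2536 (BT.leaf cJ2536) (BT.leaf cJ2537)) (BT.leaf cJ2538)) (BT.node 2539 (BT.leaf cJ2539) (BT.leaf cJ2540))) (BT.node 2543 (BT.node 2542 (BT.node 2541 (BT.leaf cJ2541) (BT.leaf cJ2542)) (BT.leaf cJ2543)) (BT.node 2544 (BT.leaf cJ2544) (BT.leaf cJ2545)))))) (BT.node 2565 (BT.node 2555 (BT.node 2550 (BT.node 2548 (BT.node 2547 (BT.node 2546 (BT.leaf cJ2546) (BT.leaf cJ2547)) (BT.leaf cJ2548)) (BT.node 2549 (BT.leaf cJ2549) (BT.leaf cJ2550))) (BT.node 2553 (BT.node 2552 (BT.node 2551 (BT.leaf cJ2551) (BT.leaf cJ2552)) (BT.leaf cJ2553)) (BT.node 2554 (BT.leaf cJ2554) (BT.leaf cJ2555)))) (BT.node 2560 (BT.node 2558 (BT.node 2557 (BT.node 2556 (BT.leaf cJ2556) (BT.leaf cJ2557)) (BT.leaf cJ2558)) (BT.node 2559 (BT.leaf cJ2559) (BT.leaf cJ2560)))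 (BT.node 2563 (BT.node 2562 (BT.node 2561 (BT.leaf cJ2561) (BT.leaf cJ2562)) (BT.leaf cJ2563)) (BT.node 2564 (BT.leaf cJ2564) (BT.leaf cJ2565))))) (BT.node 2575 (BT.node 2570 (BT.node 2568 (BT.node 2567 (BT.node 2566 (BT.leaf cJ2566) (BT.leaf cJ2567)) (BT.leaf cJ2568)) (BT.node 2569 (BT.leaf cJ2569) (BT.leaf cJ2570))) (BT.node 2573 (BT.node 2572 (BT.node 2571 (BT.leaf cJ2571) (BT.leaf cJ2572)) (BT.leaf cJ2573)) (BT.node 2574 (BT.leaf cJ2574) (BT.leaf cJ2575)))) (BT.node 2580 (BT.node 2578 (BT.node 2577 (BT.node 2576 (BT.leaf cJ2576) (BT.leaf cJ2577)) (BT.leaf cJ2578)) (BT.node 2579 (BT.leaf cJ2579) (BT.leaf cJ2580))) (BT.node 2583 (BT.node 2582 (BT.node 2581 (BT.leaf cJ2581) (BT.leaf cJ2582)) (BT.leaf cJ2583)) (BT.node 2584 (BT.leaf cJ2584) (BT.leaf cJ2585))))))))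
noncomputable def colJT_16 : BT ℕ := (BT.node 2666 (BT.node 2626 (BT.node 2606 (BT.node 2596 (BT.node 2591 (BT.node 2588 (BT.node 2587 (BT.node 2586 (BT.leaf cJ2586) (BT.leaf cJ2587)) (BT.leaf cJ2588)) (BT.node 2590 (BT.node 2589 (BT.leaf cJ2589) (BT.leaf cJ2590)) (BT.leaf cJ2591))) (BT.node 2594 (BT.node 2593 (BT.node 2592 (BT.leaf cJ2592) (BT.leaf cJ2593)) (BT.leaf cJ2594)) (BT.node 2595 (BT.leaf cJ2595) (BT.leaf cJ2596)))) (BT.node 2601 (BT.node 2599 (BT.node 2598 (BT.node 2597 (BT.leaf cJ2597) (BT.leaf cJ2598)) (BT.leaf cJ2599)) (BT.node 2600 (BT.leaf cJ2600) (BT.leaf cJ2601))) (BT.node 2604 (BT.node 2603 (BT.node 2602 (BT.leaf cJ2602) (BT.leaf cJ2603)) (BT.leaf cJ2604)) (BT.node 2605 (BT.leaf cJ2605) (BT.leaf cJ2606))))) (BT.node 2616 (BT.node 2611 (BT.node 2609 (BT.node 2608 (BT.node 2607 (BT.leaf cJ2607) (BT.leaf cJ2608)) (BT.leaf cJ2609)) (BT.node 2610 (BT.leaf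 cJ2610) (BT.leaf cJ2611))) (BT.node 2614 (BT.node 2613 (BT.node 2612 (BT.leaf cJ2612) (BT.leaf cJ2613)) (BT.leaf cJ2614)) (BT.node 2615 (BT.leaf cJ2615) (BT.leaf cJ2616)))) (BT.node 2621 (BT.node 2619 (BT.node 2618 (BT.node 2617 (BT.leaf cJ2617) (BT.leaf cJ2618)) (BT.leaf cJ2619)) (BT.node 2620 (BT.leaf cJ2620) (BT.leaf cJ2621))) (BT.node 2624 (BT.node 2623 (BT.node 2622 (BT.leaf cJ2622) (BT.leaf cJ2623)) (BT.leaf cJ2624)) (BT.node 2625 (BT.leaf cJ2625) (BT.leaf cJ2626)))))) (BT.node 2646 (BT.node 2636 (BT.node 2631 (BT.node 2629 (BT.node 2628 (BT.node 2627 (BT.leaf cJ2627) (BT.leaf cJ2628)) (BT.leaf cJ2629)) (BT.node 2630 (BT.leaf cJ2630) (BT.leaf cJ2631))) (BT.node 2634 (BT.node 2633 (BT.node 2632 (BT.leaf cJ2632) (BT.leaf cJ2633)) (BT.leaf cJ2634)) (BT.node 2635 (BT.leaf cJ2635) (BT.leaf cJ2636)))) (BT.node 2641 (BT.node 2639 (BT.node 2638 (BT.node 2637 (BT.leaf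 cJ2637) (BT.leaf cJ2638)) (BT.leaf cJ2639)) (BT.node 2640 (BT.leaf cJ2640) (BT.leaf cJ2641))) (BT.node 2644 (BT.node 2643 (BT.node 2642 (BT.leaf cJ2642) (BT.leaf cJ2643)) (BT.leaf cJ2644)) (BT.node 2645 (BT.leaf cJ2645) (BT.leaf cJ2646))))) (BT.node 2656 (BT.node 2651 (BT.node 2649 (BT.node 2648 (BT.node 2647 (BT.leaf cJ2647) (BT.leaf cJ2648)) (BT.leaf cJ2649)) (BT.node 2650 (BT.leaf cJ2650) (BT.leaf cJ2651))) (BT.node 2654 (BT.node 2653 (BT.node 2652 (BT.leaf cJ2652) (BT.leaf cJ2653)) (BT.leaf cJ2654)) (BT.node 2655 (BT.leaf cJ2655) (BT.leaf cJ2656)))) (BT.node 2661 (BT.node 2659 (BT.node 2658 (BT.node 2657 (BT.leaf cJ2657) (BT.leaf cJ2658)) (BT.leaf cJ2659)) (BT.node 2660 (BT.leaf cJ2660) (BT.leaf cJ2661))) (BT.node 2664 (BT.node 2663 (BT.node 2662 (BT.leaf cJ2662) (BT.leaf cJ2663)) (BT.leaf cJ2664)) (BT.node 2665 (BT.leaf cJ2665) (BT.leaf cJ2666))))))) (BT.node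 2707 (BT.node 2687 (BT.node 2677 (BT.node 2672 (BT.node 2669 (BT.node 2668 (BT.node 2667 (BT.leaf cJ2667) (BT.leaf cJ2668)) (BT.leaf cJ2669)) (BT.node 2671 (BT.node 2670 (BT.leaf cJ2670) (BT.leaf cJ2671)) (BT.leaf cJ2672))) (BT.node 2675 (BT.node 2674 (BT.node 2673 (BT.leaf cJ2673) (BT.leaf cJ2674)) (BT.leaf cJ2675)) (BT.node 2676 (BT.leaf cJ2676) (BT.leaf cJ2677)))) (BT.node 2682 (BT.node 2680 (BT.node 2679 (BT.node 2678 (BT.leaf cJ2678) (BT.leaf cJ2679)) (BT.leaf cJ2680)) (BT.node 2681 (BT.leaf cJ2681) (BT.leaf cJ2682))) (BT.node 2685 (BT.node 2684 (BT.node 2683 (BT.leaf cJ2683) (BT.leaf cJ2684)) (BT.leaf cJ2685)) (BT.node 2686 (BT.leaf cJ2686) (BT.leaf cJ2687))))) (BT.node 2697 (BT.node 2692 (BT.node 2690 (BT.node 2689 (BT.node 2688 (BT.leaf cJ2688) (BT.leaf cJ2689)) (BT.leaf cJ2690)) (BT.node 2691 (BT.leaf cJ2691) (BT.leaf cJ2692))) (BT.node 2695 (BT.node 2694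 (BT.node 2693 (BT.leaf cJ2693) (BT.leaf cJ2694)) (BT.leaf cJ2695)) (BT.node 2696 (BT.leaf cJ2696) (BT.leaf cJ2697)))) (BT.node 2702 (BT.node 2700 (BT.node 2699 (BT.node 2698 (BT.leaf cJ2698) (BT.leaf cJ2699)) (BT.leaf cJ2700)) (BT.node 2701 (BT.leaf cJ2701) (BT.leaf cJ2702))) (BT.node 2705 (BT.node 2704 (BT.node 2703 (BT.leaf cJ2703) (BT.leaf cJ2704)) (BT.leaf cJ2705)) (BT.node 2706 (BT.leaf cJ2706) (BT.leaf cJ2707)))))) (BT.node 2727 (BT.node 2717 (BT.node 2712 (BT.node 2710 (BT.node 2709 (BT.node 2708 (BT.leaf cJ2708) (BT.leaf cJ2709)) (BT.leaf cJ2710)) (BT.node 2711 (BT.leaf cJ2711) (BT.leaf cJ2712))) (BT.node 2715 (BT.node 2714 (BT.node 2713 (BT.leaf cJ2713) (BT.leaf cJ2714)) (BT.leaf cJ2715)) (BT.node 2716 (BT.leaf cJ2716) (BT.leaf cJ2717)))) (BT.node 2722 (BT.node 2720 (BT.node 2719 (BT.node 2718 (BT.leaf cJ2718) (BT.leaf cJ2719)) (BT.leaf cJ2720)) (BT.node 2721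 (BT.leaf cJ2721) (BT.leaf cJ2722))) (BT.node 2725 (BT.node 2724 (BT.node 2723 (BT.leaf cJ2723) (BT.leaf cJ2724)) (BT.leaf cJ2725)) (BT.node 2726 (BT.leaf cJ2726) (BT.leaf cJ2727))))) (BT.node 2737 (BT.node 2732 (BT.node 2730 (BT.node 2729 (BT.node 2728 (BT.leaf cJ2728) (BT.leaf cJ2729)) (BT.leaf cJ2730)) (BT.node 2731 (BT.leaf cJ2731) (BT.leaf cJ2732))) (BT.node 2735 (BT.node 2734 (BT.node 2733 (BT.leaf cJ2733) (BT.leaf cJ2734)) (BT.leaf cJ2735)) (BT.node 2736 (BT.leaf cJ2736) (BT.leaf cJ2737)))) (BT.node 2742 (BT.node 2740 (BT.node 2739 (BT.node 2738 (BT.leaf cJ2738) (BT.leaf cJ2739)) (BT.leaf cJ2740)) (BT.node 2741 (BT.leaf cJ2741) (BT.leaf cJ2742))) (BT.node 2745 (BT.node 2744 (BT.node 2743 (BT.leaf cJ2743) (BT.leaf cJ2744)) (BT.leaf cJ2745)) (BT.node 2746 (BT.leaf cJ2746) (BT.leaf cJ2747))))))))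
noncomputable def colJT_17 : BT ℕ := (BT.node 2828 (BT.node 2788 (BT.node 2768 (BT.node 2758 (BT.node 2753 (BT.node 2750 (BT.node 2749 (BT.node 2748 (BT.leaf cJ2748) (BT.leaf cJ2749)) (BT.leaf cJ2750)) (BT.node 2752 (BT.node 2751 (BT.leaf cJ2751) (BT.leaf cJ2752)) (BT.leaf cJ2753))) (BT.node 2756 (BT.node 2755 (BT.node 2754 (BT.leaf cJ2754) (BT.leaf cJ2755)) (BT.leaf cJ2756)) (BT.node 2757 (BT.leaf cJ2757) (BT.leaf cJ2758)))) (BT.node 2763 (BT.node 2761 (BT.node 2760 (BT.node 2759 (BT.leaf cJ2759) (BT.leaf cJ2760)) (BT.leaf cJ2761)) (BT.node 2762 (BT.leaf cJ2762) (BT.leaf cJ2763))) (BT.node 2766 (BT.node 2765 (BT.node 2764 (BT.leaf cJ2764) (BT.leaf cJ2765)) (BT.leaf cJ2766)) (BT.node 2767 (BT.leaf cJ2767) (BT.leaf cJ2768))))) (BT.node 2778 (BT.node 2773 (BT.node 2771 (BT.node 2770 (BT.node 2769 (BT.leaf cJ2769) (BT.leaf cJ2770)) (BT.leaf cJ2771)) (BT.node 2772 (BT.leaf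 cJ2772) (BT.leaf cJ2773))) (BT.node 2776 (BT.node 2775 (BT.node 2774 (BT.leaf cJ2774) (BT.leaf cJ2775)) (BT.leaf cJ2776)) (BT.node 2777 (BT.leaf cJ2777) (BT.leaf cJ2778)))) (BT.node 2783 (BT.node 2781 (BT.node 2780 (BT.node 2779 (BT.leaf cJ2779) (BT.leaf cJ2780)) (BT.leaf cJ2781)) (BT.node 2782 (BT.leaf cJ2782) (BT.leaf cJ2783))) (BT.node 2786 (BT.node 2785 (BT.node 2784 (BT.leaf cJ2784) (BT.leaf cJ2785)) (BT.leaf cJ2786)) (BT.node 2787 (BT.leaf cJ2787) (BT.leaf cJ2788)))))) (BT.node 2808 (BT.node 2798 (BT.node 2793 (BT.node 2791 (BT.node 2790 (BT.node 2789 (BT.leaf cJ2789) (BT.leaf cJ2790)) (BT.leaf cJ2791)) (BT.node 2792 (BT.leaf cJ2792) (BT.leaf cJ2793))) (BT.node 2796 (BT.node 2795 (BT.node 2794 (BT.leaf cJ2794) (BT.leaf cJ2795)) (BT.leaf cJ2796)) (BT.node 2797 (BT.leaf cJ2797) (BT.leaf cJ2798)))) (BT.node 2803 (BT.node 2801 (BT.node 2800 (BT.node 2799 (BT.leaf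 cJ2799) (BT.leaf cJ2800)) (BT.leaf cJ2801)) (BT.node 2802 (BT.leaf cJ2802) (BT.leaf cJ2803))) (BT.node 2806 (BT.node 2805 (BT.node 2804 (BT.leaf cJ2804) (BT.leaf cJ2805)) (BT.leaf cJ2806)) (BT.node 2807 (BT.leaf cJ2807) (BT.leaf cJ2808))))) (BT.node 2818 (BT.node 2813 (BT.node 2811 (BT.node 2810 (BT.node 2809 (BT.leaf cJ2809) (BT.leaf cJ2810)) (BT.leaf cJ2811)) (BT.node 2812 (BT.leaf cJ2812) (BT.leaf cJ2813))) (BT.node 2816 (BT.node 2815 (BT.node 2814 (BT.leaf cJ2814) (BT.leaf cJ2815)) (BT.leaf cJ2816)) (BT.node 2817 (BT.leaf cJ2817) (BT.leaf cJ2818)))) (BT.node 2823 (BT.node 2821 (BT.node 2820 (BT.node 2819 (BT.leaf cJ2819) (BT.leaf cJ2820)) (BT.leaf cJ2821)) (BT.node 2822 (BT.leaf cJ2822) (BT.leaf cJ2823))) (BT.node 2826 (BT.node 2825 (BT.node 2824 (BT.leaf cJ2824) (BT.leaf cJ2825)) (BT.leaf cJ2826)) (BT.node 2827 (BT.leaf cJ2827) (BT.leaf cJ2828))))))) (BT.node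 2869 (BT.node 2849 (BT.node 2839 (BT.node 2834 (BT.node 2831 (BT.node 2830 (BT.node 2829 (BT.leaf cJ2829) (BT.leaf cJ2830)) (BT.leaf cJ2831)) (BT.node 2833 (BT.node 2832 (BT.leaf cJ2832) (BT.leaf cJ2833)) (BT.leaf cJ2834))) (BT.node 2837 (BT.node 2836 (BT.node 2835 (BT.leaf cJ2835) (BT.leaf cJ2836)) (BT.leaf cJ2837)) (BT.node 2838 (BT.leaf cJ2838) (BT.leaf cJ2839)))) (BT.node 2844 (BT.node 2842 (BT.node 2841 (BT.node 2840 (BT.leaf cJ2840) (BT.leaf cJ2841)) (BT.leaf cJ2842)) (BT.node 2843 (BT.leaf cJ2843) (BT.leaf cJ2844))) (BT.node 2847 (BT.node 2846 (BT.node 2845 (BT.leaf cJ2845) (BT.leaf cJ2846)) (BT.leaf cJ2847)) (BT.node 2848 (BT.leaf cJ2848) (BT.leaf cJ2849))))) (BT.node 2859 (BT.node 2854 (BT.node 2852 (BT.node 2851 (BT.node 2850 (BT.leaf cJ2850) (BT.leaf cJ2851)) (BT.leaf cJ2852)) (BT.node 2853 (BT.leaf cJ2853) (BT.leaf cJ2854))) (BT.node 2857 (BT.node 2856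 (BT.node 2855 (BT.leaf cJ2855) (BT.leaf cJ2856)) (BT.leaf cJ2857)) (BT.node 2858 (BT.leaf cJ2858) (BT.leaf cJ2859)))) (BT.node 2864 (BT.node 2862 (BT.node 2861 (BT.node 2860 (BT.leaf cJ2860) (BT.leaf cJ2861)) (BT.leaf cJ2862)) (BT.node 2863 (BT.leaf cJ2863) (BT.leaf cJ2864))) (BT.node 2867 (BT.node 2866 (BT.node 2865 (BT.leaf cJ2865) (BT.leaf cJ2866)) (BT.leaf cJ2867)) (BT.node 2868 (BT.leaf cJ2868) (BT.leaf cJ2869)))))) (BT.node 2889 (BT.node 2879 (BT.node 2874 (BT.node 2872 (BT.node 2871 (BT.node 2870 (BT.leaf cJ2870) (BT.leaf cJ2871)) (BT.leaf cJ2872)) (BT.node 2873 (BT.leaf cJ2873) (BT.leaf cJ2874))) (BT.node 2877 (BT.node 2876 (BT.node 2875 (BT.leaf cJ2875) (BT.leaf cJ2876)) (BT.leaf cJ2877)) (BT.node 2878 (BT.leaf cJ2878) (BT.leaf cJ2879)))) (BT.node 2884 (BT.node 2882 (BT.node 2881 (BT.node 2880 (BT.leaf cJ2880) (BT.leaf cJ2881)) (BT.leaf cJ2882)) (BT.node 2883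 (BT.leaf cJ2883) (BT.leaf cJ2884))) (BT.node 2887 (BT.node 2886 (BT.node 2885 (BT.leaf cJ2885) (BT.leaf cJ2886)) (BT.leaf cJ2887)) (BT.node 2888 (BT.leaf cJ2888) (BT.leaf cJ2889))))) (BT.node 2899 (BT.node 2894 (BT.node 2892 (BT.node 2891 (BT.node 2890 (BT.leaf cJ2890) (BT.leaf cJ2891)) (BT.leaf cJ2892)) (BT.node 2893 (BT.leaf cJ2893) (BT.leaf cJ2894))) (BT.node 2897 (BT.node 2896 (BT.node 2895 (BT.leaf cJ2895) (BT.leaf cJ2896)) (BT.leaf cJ2897)) (BT.node 2898 (BT.leaf cJ2898) (BT.leaf cJ2899)))) (BT.node 2904 (BT.node 2902 (BT.node 2901 (BT.node 2900 (BT.leaf cJ2900) (BT.leaf cJ2901)) (BT.leaf cJ2902)) (BT.node 2903 (BT.leaf cJ2903) (BT.leaf cJ2904))) (BT.node 2907 (BT.node 2906 (BT.node 2905 (BT.leaf cJ2905) (BT.leaf cJ2906)) (BT.leaf cJ2907)) (BT.node 2908 (BT.leaf cJ2908) (BT.leaf cJ2909))))))))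
noncomputable def colJT_18 : BT ℕ := (BT.node 2990 (BT.node 2950 (BT.node 2930 (BT.node 2920 (BT.node 2915 (BT.node 2912 (BT.node 2911 (BT.node 2910 (BT.leaf cJ2910) (BT.leaf cJ2911)) (BT.leaf cJ2912)) (BT.node 2914 (BT.node 2913 (BT.leaf cJ2913) (BT.leaf cJ2914)) (BT.leaf cJ2915))) (BT.node 2918 (BT.node 2917 (BT.node 2916 (BT.leaf cJ2916) (BT.leaf cJ2917)) (BT.leaf cJ2918)) (BT.node 2919 (BT.leaf cJ2919) (BT.leaf cJ2920)))) (BT.node 2925 (BT.node 2923 (BT.node 2922 (BT.node 2921 (BT.leaf cJ2921) (BT.leaf cJ2922)) (BT.leaf cJ2923)) (BT.node 2924 (BT.leaf cJ2924) (BT.leaf cJ2925))) (BT.node 2928 (BT.node 2927 (BT.node 2926 (BT.leaf cJ2926) (BT.leaf cJ2927)) (BT.leaf cJ2928)) (BT.node 2929 (BT.leaf cJ2929) (BT.leaf cJ2930))))) (BT.node 2940 (BT.node 2935 (BT.node 2933 (BT.node 2932 (BT.node 2931 (BT.leaf cJ2931) (BT.leaf cJ2932)) (BT.leaf cJ2933)) (BT.node 2934 (BT.leaf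 cJ2934) (BT.leaf cJ2935))) (BT.node 2938 (BT.node 2937 (BT.node 2936 (BT.leaf cJ2936) (BT.leaf cJ2937)) (BT.leaf cJ2938)) (BT.node 2939 (BT.leaf cJ2939) (BT.leaf cJ2940)))) (BT.node 2945 (BT.node 2943 (BT.node 2942 (BT.node 2941 (BT.leaf cJ2941) (BT.leaf cJ2942)) (BT.leaf cJ2943)) (BT.node 2944 (BT.leaf cJ2944) (BT.leaf cJ2945))) (BT.node 2948 (BT.node 2947 (BT.node 2946 (BT.leaf cJ2946) (BT.leaf cJ2947)) (BT.leaf cJ2948)) (BT.node 2949 (BT.leaf cJ2949) (BT.leaf cJ2950)))))) (BT.node 2970 (BT.node 2960 (BT.node 2955 (BT.node 2953 (BT.node 2952 (BT.node 2951 (BT.leaf cJ2951) (BT.leaf cJ2952)) (BT.leaf cJ2953)) (BT.node 2954 (BT.leaf cJ2954) (BT.leaf cJ2955))) (BT.node 2958 (BT.node 2957 (BT.node 2956 (BT.leaf cJ2956) (BT.leaf cJ2957)) (BT.leaf cJ2958)) (BT.node 2959 (BT.leaf cJ2959) (BT.leaf cJ2960)))) (BT.node 2965 (BT.node 2963 (BT.node 2962 (BT.node 2961 (BT.leaf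 cJ2961) (BT.leaf cJ2962)) (BT.leaf cJ2963)) (BT.node 2964 (BT.leaf cJ2964) (BT.leaf cJ2965))) (BT.node 2968 (BT.node 2967 (BT.node 2966 (BT.leaf cJ2966) (BT.leaf cJ2967)) (BT.leaf cJ2968)) (BT.node 2969 (BT.leaf cJ2969) (BT.leaf cJ2970))))) (BT.node 2980 (BT.node 2975 (BT.node 2973 (BT.node 2972 (BT.node 2971 (BT.leaf cJ2971) (BT.leaf cJ2972)) (BT.leaf cJ2973)) (BT.node 2974 (BT.leaf cJ2974) (BT.leaf cJ2975))) (BT.node 2978 (BT.node 2977 (BT.node 2976 (BT.leaf cJ2976) (BT.leaf cJ2977)) (BT.leaf cJ2978)) (BT.node 2979 (BT.leaf cJ2979) (BT.leaf cJ2980)))) (BT.node 2985 (BT.node 2983 (BT.node 2982 (BT.node 2981 (BT.leaf cJ2981) (BT.leaf cJ2982)) (BT.leaf cJ2983)) (BT.node 2984 (BT.leaf cJ2984) (BT.leaf cJ2985))) (BT.node 2988 (BT.node 2987 (BT.node 2986 (BT.leaf cJ2986) (BT.leaf cJ2987)) (BT.leaf cJ2988)) (BT.node 2989 (BT.leaf cJ2989) (BT.leaf cJ2990))))))) (BT.node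 3031 (BT.node 3011 (BT.node 3001 (BT.node 2996 (BT.node 2993 (BT.node 2992 (BT.node 2991 (BT.leaf cJ2991) (BT.leaf cJ2992)) (BT.leaf cJ2993)) (BT.node 2995 (BT.node 2994 (BT.leaf cJ2994) (BT.leaf cJ2995)) (BT.leaf cJ2996))) (BT.node 2999 (BT.node 2998 (BT.node 2997 (BT.leaf cJ2997) (BT.leaf cJ2998)) (BT.leaf cJ2999)) (BT.node 3000 (BT.leaf cJ3000) (BT.leaf cJ3001)))) (BT.node 3006 (BT.node 3004 (BT.node 3003 (BT.node 3002 (BT.leaf cJ3002) (BT.leaf cJ3003)) (BT.leaf cJ3004)) (BT.node 3005 (BT.leaf cJ3005) (BT.leaf cJ3006))) (BT.node 3009 (BT.node 3008 (BT.node 3007 (BT.leaf cJ3007) (BT.leaf cJ3008)) (BT.leaf cJ3009)) (BT.node 3010 (BT.leaf cJ3010) (BT.leaf cJ3011))))) (BT.node 3021 (BT.node 3016 (BT.node 3014 (BT.node 3013 (BT.node 3012 (BT.leaf cJ3012) (BT.leaf cJ3013)) (BT.leaf cJ3014)) (BT.node 3015 (BT.leaf cJ3015) (BT.leaf cJ3016))) (BT.node 3019 (BT.node 3018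 (BT.node 3017 (BT.leaf cJ3017) (BT.leaf cJ3018)) (BT.leaf cJ3019)) (BT.node 3020 (BT.leaf cJ3020) (BT.leaf cJ3021)))) (BT.node 3026 (BT.node 3024 (BT.node 3023 (BT.node 3022 (BT.leaf cJ3022) (BT.leaf cJ3023)) (BT.leaf cJ3024)) (BT.node 3025 (BT.leaf cJ3025) (BT.leaf cJ3026))) (BT.node 3029 (BT.node 3028 (BT.node 3027 (BT.leaf cJ3027) (BT.leaf cJ3028)) (BT.leaf cJ3029)) (BT.node 3030 (BT.leaf cJ3030) (BT.leaf cJ3031)))))) (BT.node 3051 (BT.node 3041 (BT.node 3036 (BT.node 3034 (BT.node 3033 (BT.node 3032 (BT.leaf cJ3032) (BT.leaf cJ3033)) (BT.leaf cJ3034)) (BT.node 3035 (BT.leaf cJ3035) (BT.leaf cJ3036))) (BT.node 3039 (BT.node 3038 (BT.node 3037 (BT.leaf cJ3037) (BT.leaf cJ3038)) (BT.leaf cJ3039)) (BT.node 3040 (BT.leaf cJ3040) (BT.leaf cJ3041)))) (BT.node 3046 (BT.node 3044 (BT.node 3043 (BT.node 3042 (BT.leaf cJ3042) (BT.leaf cJ3043)) (BT.leaf cJ3044)) (BT.node 3045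 (BT.leaf cJ3045) (BT.leaf cJ3046))) (BT.node 3049 (BT.node 3048 (BT.node 3047 (BT.leaf cJ3047) (BT.leaf cJ3048)) (BT.leaf cJ3049)) (BT.node 3050 (BT.leaf cJ3050) (BT.leaf cJ3051))))) (BT.node 3061 (BT.node 3056 (BT.node 3054 (BT.node 3053 (BT.node 3052 (BT.leaf cJ3052) (BT.leaf cJ3053)) (BT.leaf cJ3054)) (BT.node 3055 (BT.leaf cJ3055) (BT.leaf cJ3056))) (BT.node 3059 (BT.node 3058 (BT.node 3057 (BT.leaf cJ3057) (BT.leaf cJ3058)) (BT.leaf cJ3059)) (BT.node 3060 (BT.leaf cJ3060) (BT.leaf cJ3061)))) (BT.node 3066 (BT.node 3064 (BT.node 3063 (BT.node 3062 (BT.leaf cJ3062) (BT.leaf cJ3063)) (BT.leaf cJ3064)) (BT.node 3065 (BT.leaf cJ3065) (BT.leaf cJ3066))) (BT.node 3069 (BT.node 3068 (BT.node 3067 (BT.leaf cJ3067) (BT.leaf cJ3068)) (BT.leaf cJ3069)) (BT.node 3070 (BT.leaf cJ3070) (BT.leaf cJ3071))))))))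
noncomputable def colJT_19 : BT ℕ := (BT.node 3152 (BT.node 3112 (BT.node 3092 (BT.node 3082 (BT.node 3077 (BT.node 3074 (BT.node 3073 (BT.node 3072 (BT.leaf cJ3072) (BT.leaf cJ3073)) (BT.leaf cJ3074)) (BT.node 3076 (BT.node 3075 (BT.leaf cJ3075) (BT.leaf cJ3076)) (BT.leaf cJ3077))) (BT.node 3080 (BT.node 3079 (BT.node 3078 (BT.leaf cJ3078) (BT.leaf cJ3079)) (BT.leaf cJ3080)) (BT.node 3081 (BT.leaf cJ3081) (BT.leaf cJ3082)))) (BT.node 3087 (BT.node 3085 (BT.node 3084 (BT.node 3083 (BT.leaf cJ3083) (BT.leaf cJ3084)) (BT.leaf cJ3085)) (BT.node 3086 (BT.leaf cJ3086) (BT.leaf cJ3087))) (BT.node 3090 (BT.node 3089 (BT.node 3088 (BT.leaf cJ3088) (BT.leaf cJ3089)) (BT.leaf cJ3090)) (BT.node 3091 (BT.leaf cJ3091) (BT.leaf cJ3092))))) (BT.node 3102 (BT.node 3097 (BT.node 3095 (BT.node 3094 (BT.node 3093 (BT.leaf cJ3093) (BT.leaf cJ3094)) (BT.leaf cJ3095)) (BT.node 3096 (BT.leaf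 cJ3096) (BT.leaf cJ3097))) (BT.node 3100 (BT.node 3099 (BT.node 3098 (BT.leaf cJ3098) (BT.leaf cJ3099)) (BT.leaf cJ3100)) (BT.node 3101 (BT.leaf cJ3101) (BT.leaf cJ3102)))) (BT.node 3107 (BT.node 3105 (BT.node 3104 (BT.node 3103 (BT.leaf cJ3103) (BT.leaf cJ3104)) (BT.leaf cJ3105)) (BT.node 3106 (BT.leaf cJ3106) (BT.leaf cJ3107))) (BT.node 3110 (BT.node 3109 (BT.node 3108 (BT.leaf cJ3108) (BT.leaf cJ3109)) (BT.leaf cJ3110)) (BT.node 3111 (BT.leaf cJ3111) (BT.leaf cJ3112)))))) (BT.node 3132 (BT.node 3122 (BT.node 3117 (BT.node 3115 (BT.node 3114 (BT.node 3113 (BT.leaf cJ3113) (BT.leaf cJ3114)) (BT.leaf cJ3115)) (BT.node 3116 (BT.leaf cJ3116) (BT.leaf cJ3117))) (BT.node 3120 (BT.node 3119 (BT.node 3118 (BT.leaf cJ3118) (BT.leaf cJ3119)) (BT.leaf cJ3120)) (BT.node 3121 (BT.leaf cJ3121) (BT.leaf cJ3122)))) (BT.node 3127 (BT.node 3125 (BT.node 3124 (BT.node 3123 (BT.leaf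 cJ3123) (BT.leaf cJ3124)) (BT.leaf cJ3125)) (BT.node 3126 (BT.leaf cJ3126) (BT.leaf cJ3127))) (BT.node 3130 (BT.node 3129 (BT.node 3128 (BT.leaf cJ3128) (BT.leaf cJ3129)) (BT.leaf cJ3130)) (BT.node 3131 (BT.leaf cJ3131) (BT.leaf cJ3132))))) (BT.node 3142 (BT.node 3137 (BT.node 3135 (BT.node 3134 (BT.node 3133 (BT.leaf cJ3133) (BT.leaf cJ3134)) (BT.leaf cJ3135)) (BT.node 3136 (BT.leaf cJ3136) (BT.leaf cJ3137))) (BT.node 3140 (BT.node 3139 (BT.node 3138 (BT.leaf cJ3138) (BT.leaf cJ3139)) (BT.leaf cJ3140)) (BT.node 3141 (BT.leaf cJ3141) (BT.leaf cJ3142)))) (BT.node 3147 (BT.node 3145 (BT.node 3144 (BT.node 3143 (BT.leaf cJ3143) (BT.leaf cJ3144)) (BT.leaf cJ3145)) (BT.node 3146 (BT.leaf cJ3146) (BT.leaf cJ3147))) (BT.node 3150 (BT.node 3149 (BT.node 3148 (BT.leaf cJ3148) (BT.leaf cJ3149)) (BT.leaf cJ3150)) (BT.node 3151 (BT.leaf cJ3151) (BT.leaf cJ3152))))))) (BT.node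 3192 (BT.node 3172 (BT.node 3162 (BT.node 3157 (BT.node 3155 (BT.node 3154 (BT.node 3153 (BT.leaf cJ3153) (BT.leaf cJ3154)) (BT.leaf cJ3155)) (BT.node 3156 (BT.leaf cJ3156) (BT.leaf cJ3157))) (BT.node 3160 (BT.node 3159 (BT.node 3158 (BT.leaf cJ3158) (BT.leaf cJ3159)) (BT.leaf cJ3160)) (BT.node 3161 (BT.leaf cJ3161) (BT.leaf cJ3162)))) (BT.node 3167 (BT.node 3165 (BT.node 3164 (BT.node 3163 (BT.leaf cJ3163) (BT.leaf cJ3164)) (BT.leaf cJ3165)) (BT.node 3166 (BT.leaf cJ3166) (BT.leaf cJ3167))) (BT.node 3170 (BT.node 3169 (BT.node 3168 (BT.leaf cJ3168) (BT.leaf cJ3169)) (BT.leaf cJ3170)) (BT.node 3171 (BT.leaf cJ3171) (BT.leaf cJ3172))))) (BT.node 3182 (BT.node 3177 (BT.node 3175 (BT.node 3174 (BT.node 3173 (BT.leaf cJ3173) (BT.leaf cJ3174)) (BT.leaf cJ3175)) (BT.node 3176 (BT.leaf cJ3176) (BT.leaf cJ3177))) (BT.node 3180 (BT.node 3179 (BT.node 3178 (BT.leaf cJ3178) (BT.leaf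 cJ3179)) (BT.leaf cJ3180)) (BT.node 3181 (BT.leaf cJ3181) (BT.leaf cJ3182)))) (BT.node 3187 (BT.node 3185 (BT.node 3184 (BT.node 3183 (BT.leaf cJ3183) (BT.leaf cJ3184)) (BT.leaf cJ3185)) (BT.node 3186 (BT.leaf cJ3186) (BT.leaf cJ3187))) (BT.node 3190 (BT.node 3189 (BT.node 3188 (BT.leaf cJ3188) (BT.leaf cJ3189)) (BT.leaf cJ3190)) (BT.node 3191 (BT.leaf cJ3191) (BT.leaf cJ3192)))))) (BT.node 3212 (BT.node 3202 (BT.node 3197 (BT.node 3195 (BT.node 3194 (BT.node 3193 (BT.leaf cJ3193) (BT.leaf cJ3194)) (BT.leaf cJ3195)) (BT.node 3196 (BT.leaf cJ3196) (BT.leaf cJ3197))) (BT.node 3200 (BT.node 3199 (BT.node 3198 (BT.leaf cJ3198) (BT.leaf cJ3199)) (BT.leaf cJ3200)) (BT.node 3201 (BT.leaf cJ3201) (BT.leaf cJ3202)))) (BT.node 3207 (BT.node 3205 (BT.node 3204 (BT.node 3203 (BT.leaf cJ3203) (BT.leaf cJ3204)) (BT.leaf cJ3205)) (BT.node 3206 (BT.leaf cJ3206) (BT.leaf cJ3207)))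 (BT.node 3210 (BT.node 3209 (BT.node 3208 (BT.leaf cJ3208) (BT.leaf cJ3209)) (BT.leaf cJ3210)) (BT.node 3211 (BT.leaf cJ3211) (BT.leaf cJ3212))))) (BT.node 3222 (BT.node 3217 (BT.node 3215 (BT.node 3214 (BT.node 3213 (BT.leaf cJ3213) (BT.leaf cJ3214)) (BT.leaf cJ3215)) (BT.node 3216 (BT.leaf cJ3216) (BT.leaf cJ3217))) (BT.node 3220 (BT.node 3219 (BT.node 3218 (BT.leaf cJ3218) (BT.leaf cJ3219)) (BT.leaf cJ3220)) (BT.node 3221 (BT.leaf cJ3221) (BT.leaf cJ3222)))) (BT.node 3227 (BT.node 3225 (BT.node 3224 (BT.node 3223 (BT.leaf cJ3223) (BT.leaf cJ3224)) (BT.leaf cJ3225)) (BT.node 3226 (BT.leaf cJ3226) (BT.leaf cJ3227))) (BT.node 3230 (BT.node 3229 (BT.node 3228 (BT.leaf cJ3228) (BT.leaf cJ3229)) (BT.leaf cJ3230)) (BT.node 3231 (BT.leaf cJ3231) (BT.leaf cJ3232))))))))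
noncomputable def colJT_20 : BT ℕ := (BT.node 3313 (BT.node 3273 (BT.node 3253 (BT.node 3243 (BT.node 3238 (BT.node 3235 (BT.node 3234 (BT.node 3233 (BT.leaf cJ3233) (BT.leaf cJ3234)) (BT.leaf cJ3235)) (BT.node 3237 (BT.node 3236 (BT.leaf cJ3236) (BT.leaf cJ3237)) (BT.leaf cJ3238))) (BT.node 3241 (BT.node 3240 (BT.node 3239 (BT.leaf cJ3239) (BT.leaf cJ3240)) (BT.leaf cJ3241)) (BT.node 3242 (BT.leaf cJ3242) (BT.leaf cJ3243)))) (BT.node 3248 (BT.node 3246 (BT.node 3245 (BT.node 3244 (BT.leaf cJ3244) (BT.leaf cJ3245)) (BT.leaf cJ3246)) (BT.node 3247 (BT.leaf cJ3247) (BT.leaf cJ3248))) (BT.node 3251 (BT.node 3250 (BT.node 3249 (BT.leaf cJ3249) (BT.leaf cJ3250)) (BT.leaf cJ3251)) (BT.node 3252 (BT.leaf cJ3252) (BT.leaf cJ3253))))) (BT.node 3263 (BT.node 3258 (BT.node 3256 (BT.node 3255 (BT.node 3254 (BT.leaf cJ3254) (BT.leaf cJ3255)) (BT.leaf cJ3256)) (BT.node 3257 (BT.leaf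 cJ3257) (BT.leaf cJ3258))) (BT.node 3261 (BT.node 3260 (BT.node 3259 (BT.leaf cJ3259) (BT.leaf cJ3260)) (BT.leaf cJ3261)) (BT.node 3262 (BT.leaf cJ3262) (BT.leaf cJ3263)))) (BT.node 3268 (BT.node 3266 (BT.node 3265 (BT.node 3264 (BT.leaf cJ3264) (BT.leaf cJ3265)) (BT.leaf cJ3266)) (BT.node 3267 (BT.leaf cJ3267) (BT.leaf cJ3268))) (BT.node 3271 (BT.node 3270 (BT.node 3269 (BT.leaf cJ3269) (BT.leaf cJ3270)) (BT.leaf cJ3271)) (BT.node 3272 (BT.leaf cJ3272) (BT.leaf cJ3273)))))) (BT.node 3293 (BT.node 3283 (BT.node 3278 (BT.node 3276 (BT.node 3275 (BT.node 3274 (BT.leaf cJ3274) (BT.leaf cJ3275)) (BT.leaf cJ3276)) (BT.node 3277 (BT.leaf cJ3277) (BT.leaf cJ3278))) (BT.node 3281 (BT.node 3280 (BT.node 3279 (BT.leaf cJ3279) (BT.leaf cJ3280)) (BT.leaf cJ3281)) (BT.node 3282 (BT.leaf cJ3282) (BT.leaf cJ3283)))) (BT.node 3288 (BT.node 3286 (BT.node 3285 (BT.node 3284 (BT.leaf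 cJ3284) (BT.leaf cJ3285)) (BT.leaf cJ3286)) (BT.node 3287 (BT.leaf cJ3287) (BT.leaf cJ3288))) (BT.node 3291 (BT.node 3290 (BT.node 3289 (BT.leaf cJ3289) (BT.leaf cJ3290)) (BT.leaf cJ3291)) (BT.node 3292 (BT.leaf cJ3292) (BT.leaf cJ3293))))) (BT.node 3303 (BT.node 3298 (BT.node 3296 (BT.node 3295 (BT.node 3294 (BT.leaf cJ3294) (BT.leaf cJ3295)) (BT.leaf cJ3296)) (BT.node 3297 (BT.leaf cJ3297) (BT.leaf cJ3298))) (BT.node 3301 (BT.node 3300 (BT.node 3299 (BT.leaf cJ3299) (BT.leaf cJ3300)) (BT.leaf cJ3301)) (BT.node 3302 (BT.leaf cJ3302) (BT.leaf cJ3303)))) (BT.node 3308 (BT.node 3306 (BT.node 3305 (BT.node 3304 (BT.leaf cJ3304) (BT.leaf cJ3305)) (BT.leaf cJ3306)) (BT.node 3307 (BT.leaf cJ3307) (BT.leaf cJ3308))) (BT.node 3311 (BT.node 3310 (BT.node 3309 (BT.leaf cJ3309) (BT.leaf cJ3310)) (BT.leaf cJ3311)) (BT.node 3312 (BT.leaf cJ3312) (BT.leaf cJ3313))))))) (BT.node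 3354 (BT.node 3334 (BT.node 3324 (BT.node 3319 (BT.node 3316 (BT.node 3315 (BT.node 3314 (BT.leaf cJ3314) (BT.leaf cJ3315)) (BT.leaf cJ3316)) (BT.node 3318 (BT.node 3317 (BT.leaf cJ3317) (BT.leaf cJ3318)) (BT.leaf cJ3319))) (BT.node 3322 (BT.node 3321 (BT.node 3320 (BT.leaf cJ3320) (BT.leaf cJ3321)) (BT.leaf cJ3322)) (BT.node 3323 (BT.leaf cJ3323) (BT.leaf cJ3324)))) (BT.node 3329 (BT.node 3327 (BT.node 3326 (BT.node 3325 (BT.leaf cJ3325) (BT.leaf cJ3326)) (BT.leaf cJ3327)) (BT.node 3328 (BT.leaf cJ3328) (BT.leaf cJ3329))) (BT.node 3332 (BT.node 3331 (BT.node 3330 (BT.leaf cJ3330) (BT.leaf cJ3331)) (BT.leaf cJ3332)) (BT.node 3333 (BT.leaf cJ3333) (BT.leaf cJ3334))))) (BT.node 3344 (BT.node 3339 (BT.node 3337 (BT.node 3336 (BT.node 3335 (BT.leaf cJ3335) (BT.leaf cJ3336)) (BT.leaf cJ3337)) (BT.node 3338 (BT.leaf cJ3338) (BT.leaf cJ3339))) (BT.node 3342 (BT.node 3341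 (BT.node 3340 (BT.leaf cJ3340) (BT.leaf cJ3341)) (BT.leaf cJ3342)) (BT.node 3343 (BT.leaf cJ3343) (BT.leaf cJ3344)))) (BT.node 3349 (BT.node 3347 (BT.node 3346 (BT.node 3345 (BT.leaf cJ3345) (BT.leaf cJ3346)) (BT.leaf cJ3347)) (BT.node 3348 (BT.leaf cJ3348) (BT.leaf cJ3349))) (BT.node 3352 (BT.node 3351 (BT.node 3350 (BT.leaf cJ3350) (BT.leaf cJ3351)) (BT.leaf cJ3352)) (BT.node 3353 (BT.leaf cJ3353) (BT.leaf cJ3354)))))) (BT.node 3374 (BT.node 3364 (BT.node 3359 (BT.node 3357 (BT.node 3356 (BT.node 3355 (BT.leaf cJ3355) (BT.leaf cJ3356)) (BT.leaf cJ3357)) (BT.node 3358 (BT.leaf cJ3358) (BT.leaf cJ3359))) (BT.node 3362 (BT.node 3361 (BT.node 3360 (BT.leaf cJ3360) (BT.leaf cJ3361)) (BT.leaf cJ3362)) (BT.node 3363 (BT.leaf cJ3363) (BT.leaf cJ3364)))) (BT.node 3369 (BT.node 3367 (BT.node 3366 (BT.node 3365 (BT.leaf cJ3365) (BT.leaf cJ3366)) (BT.leaf cJ3367)) (BT.node 3368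 (BT.leaf cJ3368) (BT.leaf cJ3369))) (BT.node 3372 (BT.node 3371 (BT.node 3370 (BT.leaf cJ3370) (BT.leaf cJ3371)) (BT.leaf cJ3372)) (BT.node 3373 (BT.leaf cJ3373) (BT.leaf cJ3374))))) (BT.node 3384 (BT.node 3379 (BT.node 3377 (BT.node 3376 (BT.node 3375 (BT.leaf cJ3375) (BT.leaf cJ3376)) (BT.leaf cJ3377)) (BT.node 3378 (BT.leaf cJ3378) (BT.leaf cJ3379))) (BT.node 3382 (BT.node 3381 (BT.node 3380 (BT.leaf cJ3380) (BT.leaf cJ3381)) (BT.leaf cJ3382)) (BT.node 3383 (BT.leaf cJ3383) (BT.leaf cJ3384)))) (BT.node 3389 (BT.node 3387 (BT.node 3386 (BT.node 3385 (BT.leaf cJ3385) (BT.leaf cJ3386)) (BT.leaf cJ3387)) (BT.node 3388 (BT.leaf cJ3388) (BT.leaf cJ3389))) (BT.node 3392 (BT.node 3391 (BT.node 3390 (BT.leaf cJ3390) (BT.leaf cJ3391)) (BT.leaf cJ3392)) (BT.node 3393 (BT.leaf cJ3393) (BT.leaf cJ3394))))))))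
noncomputable def colJT_21 : BT ℕ := (BT.node 3475 (BT.node 3435 (BT.node 3415 (BT.node 3405 (BT.node 3400 (BT.node 3397 (BT.node 3396 (BT.node 3395 (BT.leaf cJ3395) (BT.leaf cJ3396)) (BT.leaf cJ3397)) (BT.node 3399 (BT.node 3398 (BT.leaf cJ3398) (BT.leaf cJ3399)) (BT.leaf cJ3400))) (BT.node 3403 (BT.node 3402 (BT.node 3401 (BT.leaf cJ3401) (BT.leaf cJ3402)) (BT.leaf cJ3403)) (BT.node 3404 (BT.leaf cJ3404) (BT.leaf cJ3405)))) (BT.node 3410 (BT.node 3408 (BT.node 3407 (BT.node 3406 (BT.leaf cJ3406) (BT.leaf cJ3407)) (BT.leaf cJ3408)) (BT.node 3409 (BT.leaf cJ3409) (BT.leaf cJ3410))) (BT.node 3413 (BT.node 3412 (BT.node 3411 (BT.leaf cJ3411) (BT.leaf cJ3412)) (BT.leaf cJ3413)) (BT.node 3414 (BT.leaf cJ3414) (BT.leaf cJ3415))))) (BT.node 3425 (BT.node 3420 (BT.node 3418 (BT.node 3417 (BT.node 3416 (BT.leaf cJ3416) (BT.leaf cJ3417)) (BT.leaf cJ3418)) (BT.node 3419 (BT.leaf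 cJ3419) (BT.leaf cJ3420))) (BT.node 3423 (BT.node 3422 (BT.node 3421 (BT.leaf cJ3421) (BT.leaf cJ3422)) (BT.leaf cJ3423)) (BT.node 3424 (BT.leaf cJ3424) (BT.leaf cJ3425)))) (BT.node 3430 (BT.node 3428 (BT.node 3427 (BT.node 3426 (BT.leaf cJ3426) (BT.leaf cJ3427)) (BT.leaf cJ3428)) (BT.node 3429 (BT.leaf cJ3429) (BT.leaf cJ3430))) (BT.node 3433 (BT.node 3432 (BT.node 3431 (BT.leaf cJ3431) (BT.leaf cJ3432)) (BT.leaf cJ3433)) (BT.node 3434 (BT.leaf cJ3434) (BT.leaf cJ3435)))))) (BT.node 3455 (BT.node 3445 (BT.node 3440 (BT.node 3438 (BT.node 3437 (BT.node 3436 (BT.leaf cJ3436) (BT.leaf cJ3437)) (BT.leaf cJ3438)) (BT.node 3439 (BT.leaf cJ3439) (BT.leaf cJ3440))) (BT.node 3443 (BT.node 3442 (BT.node 3441 (BT.leaf cJ3441) (BT.leaf cJ3442)) (BT.leaf cJ3443)) (BT.node 3444 (BT.leaf cJ3444) (BT.leaf cJ3445)))) (BT.node 3450 (BT.node 3448 (BT.node 3447 (BT.node 3446 (BT.leaf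 cJ3446) (BT.leaf cJ3447)) (BT.leaf cJ3448)) (BT.node 3449 (BT.leaf cJ3449) (BT.leaf cJ3450))) (BT.node 3453 (BT.node 3452 (BT.node 3451 (BT.leaf cJ3451) (BT.leaf cJ3452)) (BT.leaf cJ3453)) (BT.node 3454 (BT.leaf cJ3454) (BT.leaf cJ3455))))) (BT.node 3465 (BT.node 3460 (BT.node 3458 (BT.node 3457 (BT.node 3456 (BT.leaf cJ3456) (BT.leaf cJ3457)) (BT.leaf cJ3458)) (BT.node 3459 (BT.leaf cJ3459) (BT.leaf cJ3460))) (BT.node 3463 (BT.node 3462 (BT.node 3461 (BT.leaf cJ3461) (BT.leaf cJ3462)) (BT.leaf cJ3463)) (BT.node 3464 (BT.leaf cJ3464) (BT.leaf cJ3465)))) (BT.node 3470 (BT.node 3468 (BT.node 3467 (BT.node 3466 (BT.leaf cJ3466) (BT.leaf cJ3467)) (BT.leaf cJ3468)) (BT.node 3469 (BT.leaf cJ3469) (BT.leaf cJ3470))) (BT.node 3473 (BT.node 3472 (BT.node 3471 (BT.leaf cJ3471) (BT.leaf cJ3472)) (BT.leaf cJ3473)) (BT.node 3474 (BT.leaf cJ3474) (BT.leaf cJ3475))))))) (BT.node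 3515 (BT.node 3495 (BT.node 3485 (BT.node 3480 (BT.node 3478 (BT.node 3477 (BT.node 3476 (BT.leaf cJ3476) (BT.leaf cJ3477)) (BT.leaf cJ3478)) (BT.node 3479 (BT.leaf cJ3479) (BT.leaf cJ3480))) (BT.node 3483 (BT.node 3482 (BT.node 3481 (BT.leaf cJ3481) (BT.leaf cJ3482)) (BT.leaf cJ3483)) (BT.node 3484 (BT.leaf cJ3484) (BT.leaf cJ3485)))) (BT.node 3490 (BT.node 3488 (BT.node 3487 (BT.node 3486 (BT.leaf cJ3486) (BT.leaf cJ3487)) (BT.leaf cJ3488)) (BT.node 3489 (BT.leaf cJ3489) (BT.leaf cJ3490))) (BT.node 3493 (BT.node 3492 (BT.node 3491 (BT.leaf cJ3491) (BT.leaf cJ3492)) (BT.leaf cJ3493)) (BT.node 3494 (BT.leaf cJ3494) (BT.leaf cJ3495))))) (BT.node 3505 (BT.node 3500 (BT.node 3498 (BT.node 3497 (BT.node 3496 (BT.leaf cJ3496) (BT.leaf cJ3497)) (BT.leaf cJ3498)) (BT.node 3499 (BT.leaf cJ3499) (BT.leaf cJ3500))) (BT.node 3503 (BT.node 3502 (BT.node 3501 (BT.leaf cJ3501) (BT.leaf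 cJ3502)) (BT.leaf cJ3503)) (BT.node 3504 (BT.leaf cJ3504) (BT.leaf cJ3505)))) (BT.node 3510 (BT.node 3508 (BT.node 3507 (BT.node 3506 (BT.leaf cJ3506) (BT.leaf cJ3507)) (BT.leaf cJ3508)) (BT.node 3509 (BT.leaf cJ3509) (BT.leaf cJ3510))) (BT.node 3513 (BT.node 3512 (BT.node 3511 (BT.leaf cJ3511) (BT.leaf cJ3512)) (BT.leaf cJ3513)) (BT.node 3514 (BT.leaf cJ3514) (BT.leaf cJ3515)))))) (BT.node 3535 (BT.node 3525 (BT.node 3520 (BT.node 3518 (BT.node 3517 (BT.node 3516 (BT.leaf cJ3516) (BT.leaf cJ3517)) (BT.leaf cJ3518)) (BT.node 3519 (BT.leaf cJ3519) (BT.leaf cJ3520))) (BT.node 3523 (BT.node 3522 (BT.node 3521 (BT.leaf cJ3521) (BT.leaf cJ3522)) (BT.leaf cJ3523)) (BT.node 3524 (BT.leaf cJ3524) (BT.leaf cJ3525)))) (BT.node 3530 (BT.node 3528 (BT.node 3527 (BT.node 3526 (BT.leaf cJ3526) (BT.leaf cJ3527)) (BT.leaf cJ3528)) (BT.node 3529 (BT.leaf cJ3529) (BT.leaf cJ3530)))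 (BT.node 3533 (BT.node 3532 (BT.node 3531 (BT.leaf cJ3531) (BT.leaf cJ3532)) (BT.leaf cJ3533)) (BT.node 3534 (BT.leaf cJ3534) (BT.leaf cJ3535))))) (BT.node 3545 (BT.node 3540 (BT.node 3538 (BT.node 3537 (BT.node 3536 (BT.leaf cJ3536) (BT.leaf cJ3537)) (BT.leaf cJ3538)) (BT.node 3539 (BT.leaf cJ3539) (BT.leaf cJ3540))) (BT.node 3543 (BT.node 3542 (BT.node 3541 (BT.leaf cJ3541) (BT.leaf cJ3542)) (BT.leaf cJ3543)) (BT.node 3544 (BT.leaf cJ3544) (BT.leaf cJ3545)))) (BT.node 3550 (BT.node 3548 (BT.node 3547 (BT.node 3546 (BT.leaf cJ3546) (BT.leaf cJ3547)) (BT.leaf cJ3548)) (BT.node 3549 (BT.leaf cJ3549) (BT.leaf cJ3550))) (BT.node 3553 (BT.node 3552 (BT.node 3551 (BT.leaf cJ3551) (BT.leaf cJ3552)) (BT.leaf cJ3553)) (BT.node 3554 (BT.leaf cJ3554) (BT.leaf cJ3555))))))))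
noncomputable def colJT_22 : BT ℕ := (BT.node 3636 (BT.node 3596 (BT.node 3576 (BT.node 3566 (BT.node 3561 (BT.node 3558 (BT.node 3557 (BT.node 3556 (BT.leaf cJ3556) (BT.leaf cJ3557)) (BT.leaf cJ3558)) (BT.node 3560 (BT.node 3559 (BT.leaf cJ3559) (BT.leaf cJ3560)) (BT.leaf cJ3561))) (BT.node 3564 (BT.node 3563 (BT.node 3562 (BT.leaf cJ3562) (BT.leaf cJ3563)) (BT.leaf cJ3564)) (BT.node 3565 (BT.leaf cJ3565) (BT.leaf cJ3566)))) (BT.node 3571 (BT.node 3569 (BT.node 3568 (BT.node 3567 (BT.leaf cJ3567) (BT.leaf cJ3568)) (BT.leaf cJ3569)) (BT.node 3570 (BT.leaf cJ3570) (BT.leaf cJ3571))) (BT.node 3574 (BT.node 3573 (BT.node 3572 (BT.leaf cJ3572) (BT.leaf cJ3573)) (BT.leaf cJ3574)) (BT.node 3575 (BT.leaf cJ3575) (BT.leaf cJ3576))))) (BT.node 3586 (BT.node 3581 (BT.node 3579 (BT.node 3578 (BT.node 3577 (BT.leaf cJ3577) (BT.leaf cJ3578)) (BT.leaf cJ3579)) (BT.node 3580 (BT.leaf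 cJ3580) (BT.leaf cJ3581))) (BT.node 3584 (BT.node 3583 (BT.node 3582 (BT.leaf cJ3582) (BT.leaf cJ3583)) (BT.leaf cJ3584)) (BT.node 3585 (BT.leaf cJ3585) (BT.leaf cJ3586)))) (BT.node 3591 (BT.node 3589 (BT.node 3588 (BT.node 3587 (BT.leaf cJ3587) (BT.leaf cJ3588)) (BT.leaf cJ3589)) (BT.node 3590 (BT.leaf cJ3590) (BT.leaf cJ3591))) (BT.node 3594 (BT.node 3593 (BT.node 3592 (BT.leaf cJ3592) (BT.leaf cJ3593)) (BT.leaf cJ3594)) (BT.node 3595 (BT.leaf cJ3595) (BT.leaf cJ3596)))))) (BT.node 3616 (BT.node 3606 (BT.node 3601 (BT.node 3599 (BT.node 3598 (BT.node 3597 (BT.leaf cJ3597) (BT.leaf cJ3598)) (BT.leaf cJ3599)) (BT.node 3600 (BT.leaf cJ3600) (BT.leaf cJ3601))) (BT.node 3604 (BT.node 3603 (BT.node 3602 (BT.leaf cJ3602) (BT.leaf cJ3603)) (BT.leaf cJ3604)) (BT.node 3605 (BT.leaf cJ3605) (BT.leaf cJ3606)))) (BT.node 3611 (BT.node 3609 (BT.node 3608 (BT.node 3607 (BT.leaf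 cJ3607) (BT.leaf cJ3608)) (BT.leaf cJ3609)) (BT.node 3610 (BT.leaf cJ3610) (BT.leaf cJ3611))) (BT.node 3614 (BT.node 3613 (BT.node 3612 (BT.leaf cJ3612) (BT.leaf cJ3613)) (BT.leaf cJ3614)) (BT.node 3615 (BT.leaf cJ3615) (BT.leaf cJ3616))))) (BT.node 3626 (BT.node 3621 (BT.node 3619 (BT.node 3618 (BT.node 3617 (BT.leaf cJ3617) (BT.leaf cJ3618)) (BT.leaf cJ3619)) (BT.node 3620 (BT.leaf cJ3620) (BT.leaf cJ3621))) (BT.node 3624 (BT.node 3623 (BT.node 3622 (BT.leaf cJ3622) (BT.leaf cJ3623)) (BT.leaf cJ3624)) (BT.node 3625 (BT.leaf cJ3625) (BT.leaf cJ3626)))) (BT.node 3631 (BT.node 3629 (BT.node 3628 (BT.node 3627 (BT.leaf cJ3627) (BT.leaf cJ3628)) (BT.leaf cJ3629)) (BT.node 3630 (BT.leaf cJ3630) (BT.leaf cJ3631))) (BT.node 3634 (BT.node 3633 (BT.node 3632 (BT.leaf cJ3632) (BT.leaf cJ3633)) (BT.leaf cJ3634)) (BT.node 3635 (BT.leaf cJ3635) (BT.leaf cJ3636))))))) (BT.node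 3677 (BT.node 3657 (BT.node 3647 (BT.node 3642 (BT.node 3639 (BT.node 3638 (BT.node 3637 (BT.leaf cJ3637) (BT.leaf cJ3638)) (BT.leaf cJ3639)) (BT.node 3641 (BT.node 3640 (BT.leaf cJ3640) (BT.leaf cJ3641)) (BT.leaf cJ3642))) (BT.node 3645 (BT.node 3644 (BT.node 3643 (BT.leaf cJ3643) (BT.leaf cJ3644)) (BT.leaf cJ3645)) (BT.node 3646 (BT.leaf cJ3646) (BT.leaf cJ3647)))) (BT.node 3652 (BT.node 3650 (BT.node 3649 (BT.node 3648 (BT.leaf cJ3648) (BT.leaf cJ3649)) (BT.leaf cJ3650)) (BT.node 3651 (BT.leaf cJ3651) (BT.leaf cJ3652))) (BT.node 3655 (BT.node 3654 (BT.node 3653 (BT.leaf cJ3653) (BT.leaf cJ3654)) (BT.leaf cJ3655)) (BT.node 3656 (BT.leaf cJ3656) (BT.leaf cJ3657))))) (BT.node 3667 (BT.node 3662 (BT.node 3660 (BT.node 3659 (BT.node 3658 (BT.leaf cJ3658) (BT.leaf cJ3659)) (BT.leaf cJ3660)) (BT.node 3661 (BT.leaf cJ3661) (BT.leaf cJ3662))) (BT.node 3665 (BT.node 3664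 (BT.node 3663 (BT.leaf cJ3663) (BT.leaf cJ3664)) (BT.leaf cJ3665)) (BT.node 3666 (BT.leaf cJ3666) (BT.leaf cJ3667)))) (BT.node 3672 (BT.node 3670 (BT.node 3669 (BT.node 3668 (BT.leaf cJ3668) (BT.leaf cJ3669)) (BT.leaf cJ3670)) (BT.node 3671 (BT.leaf cJ3671) (BT.leaf cJ3672))) (BT.node 3675 (BT.node 3674 (BT.node 3673 (BT.leaf cJ3673) (BT.leaf cJ3674)) (BT.leaf cJ3675)) (BT.node 3676 (BT.leaf cJ3676) (BT.leaf cJ3677)))))) (BT.node 3697 (BT.node 3687 (BT.node 3682 (BT.node 3680 (BT.node 3679 (BT.node 3678 (BT.leaf cJ3678) (BT.leaf cJ3679)) (BT.leaf cJ3680)) (BT.node 3681 (BT.leaf cJ3681) (BT.leaf cJ3682))) (BT.node 3685 (BT.node 3684 (BT.node 3683 (BT.leaf cJ3683) (BT.leaf cJ3684)) (BT.leaf cJ3685)) (BT.node 3686 (BT.leaf cJ3686) (BT.leaf cJ3687)))) (BT.node 3692 (BT.node 3690 (BT.node 3689 (BT.node 3688 (BT.leaf cJ3688) (BT.leaf cJ3689)) (BT.leaf cJ3690)) (BT.node 3691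 (BT.leaf cJ3691) (BT.leaf cJ3692))) (BT.node 3695 (BT.node 3694 (BT.node 3693 (BT.leaf cJ3693) (BT.leaf cJ3694)) (BT.leaf cJ3695)) (BT.node 3696 (BT.leaf cJ3696) (BT.leaf cJ3697))))) (BT.node 3707 (BT.node 3702 (BT.node 3700 (BT.node 3699 (BT.node 3698 (BT.leaf cJ3698) (BT.leaf cJ3699)) (BT.leaf cJ3700)) (BT.node 3701 (BT.leaf cJ3701) (BT.leaf cJ3702))) (BT.node 3705 (BT.node 3704 (BT.node 3703 (BT.leaf cJ3703) (BT.leaf cJ3704)) (BT.leaf cJ3705)) (BT.node 3706 (BT.leaf cJ3706) (BT.leaf cJ3707)))) (BT.node 3712 (BT.node 3710 (BT.node 3709 (BT.node 3708 (BT.leaf cJ3708) (BT.leaf cJ3709)) (BT.leaf cJ3710)) (BT.node 3711 (BT.leaf cJ3711) (BT.leaf cJ3712))) (BT.node 3715 (BT.node 3714 (BT.node 3713 (BT.leaf cJ3713) (BT.leaf cJ3714)) (BT.leaf cJ3715)) (BT.node 3716 (BT.leaf cJ3716) (BT.leaf cJ3717))))))))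
noncomputable def colJT_23 : BT ℕ := (BT.node 3798 (BT.node 3758 (BT.node 3738 (BT.node 3728 (BT.node 3723 (BT.node 3720 (BT.node 3719 (BT.node 3718 (BT.leaf cJ3718) (BT.leaf cJ3719)) (BT.leaf cJ3720)) (BT.node 3722 (BT.node 3721 (BT.leaf cJ3721) (BT.leaf cJ3722)) (BT.leaf cJ3723))) (BT.node 3726 (BT.node 3725 (BT.node 3724 (BT.leaf cJ3724) (BT.leaf cJ3725)) (BT.leaf cJ3726)) (BT.node 3727 (BT.leaf cJ3727) (BT.leaf cJ3728)))) (BT.node 3733 (BT.node 3731 (BT.node 3730 (BT.node 3729 (BT.leaf cJ3729) (BT.leaf cJ3730)) (BT.leaf cJ3731)) (BT.node 3732 (BT.leaf cJ3732) (BT.leaf cJ3733))) (BT.node 3736 (BT.node 3735 (BT.node 3734 (BT.leaf cJ3734) (BT.leaf cJ3735)) (BT.leaf cJ3736)) (BT.node 3737 (BT.leaf cJ3737) (BT.leaf cJ3738))))) (BT.node 3748 (BT.node 3743 (BT.node 3741 (BT.node 3740 (BT.node 3739 (BT.leaf cJ3739) (BT.leaf cJ3740)) (BT.leaf cJ3741)) (BT.node 3742 (BT.leaf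 cJ3742) (BT.leaf cJ3743))) (BT.node 3746 (BT.node 3745 (BT.node 3744 (BT.leaf cJ3744) (BT.leaf cJ3745)) (BT.leaf cJ3746)) (BT.node 3747 (BT.leaf cJ3747) (BT.leaf cJ3748)))) (BT.node 3753 (BT.node 3751 (BT.node 3750 (BT.node 3749 (BT.leaf cJ3749) (BT.leaf cJ3750)) (BT.leaf cJ3751)) (BT.node 3752 (BT.leaf cJ3752) (BT.leaf cJ3753))) (BT.node 3756 (BT.node 3755 (BT.node 3754 (BT.leaf cJ3754) (BT.leaf cJ3755)) (BT.leaf cJ3756)) (BT.node 3757 (BT.leaf cJ3757) (BT.leaf cJ3758)))))) (BT.node 3778 (BT.node 3768 (BT.node 3763 (BT.node 3761 (BT.node 3760 (BT.node 3759 (BT.leaf cJ3759) (BT.leaf cJ3760)) (BT.leaf cJ3761)) (BT.node 3762 (BT.leaf cJ3762) (BT.leaf cJ3763))) (BT.node 3766 (BT.node 3765 (BT.node 3764 (BT.leaf cJ3764) (BT.leaf cJ3765)) (BT.leaf cJ3766)) (BT.node 3767 (BT.leaf cJ3767) (BT.leaf cJ3768)))) (BT.node 3773 (BT.node 3771 (BT.node 3770 (BT.node 3769 (BT.leaf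 cJ3769) (BT.leaf cJ3770)) (BT.leaf cJ3771)) (BT.node 3772 (BT.leaf cJ3772) (BT.leaf cJ3773))) (BT.node 3776 (BT.node 3775 (BT.node 3774 (BT.leaf cJ3774) (BT.leaf cJ3775)) (BT.leaf cJ3776)) (BT.node 3777 (BT.leaf cJ3777) (BT.leaf cJ3778))))) (BT.node 3788 (BT.node 3783 (BT.node 3781 (BT.node 3780 (BT.node 3779 (BT.leaf cJ3779) (BT.leaf cJ3780)) (BT.leaf cJ3781)) (BT.node 3782 (BT.leaf cJ3782) (BT.leaf cJ3783))) (BT.node 3786 (BT.node 3785 (BT.node 3784 (BT.leaf cJ3784) (BT.leaf cJ3785)) (BT.leaf cJ3786)) (BT.node 3787 (BT.leaf cJ3787) (BT.leaf cJ3788)))) (BT.node 3793 (BT.node 3791 (BT.node 3790 (BT.node 3789 (BT.leaf cJ3789) (BT.leaf cJ3790)) (BT.leaf cJ3791)) (BT.node 3792 (BT.leaf cJ3792) (BT.leaf cJ3793))) (BT.node 3796 (BT.node 3795 (BT.node 3794 (BT.leaf cJ3794) (BT.leaf cJ3795)) (BT.leaf cJ3796)) (BT.node 3797 (BT.leaf cJ3797) (BT.leaf cJ3798))))))) (BT.node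 3838 (BT.node 3818 (BT.node 3808 (BT.node 3803 (BT.node 3801 (BT.node 3800 (BT.node 3799 (BT.leaf cJ3799) (BT.leaf cJ3800)) (BT.leaf cJ3801)) (BT.node 3802 (BT.leaf cJ3802) (BT.leaf cJ3803))) (BT.node 3806 (BT.node 3805 (BT.node 3804 (BT.leaf cJ3804) (BT.leaf cJ3805)) (BT.leaf cJ3806)) (BT.node 3807 (BT.leaf cJ3807) (BT.leaf cJ3808)))) (BT.node 3813 (BT.node 3811 (BT.node 3810 (BT.node 3809 (BT.leaf cJ3809) (BT.leaf cJ3810)) (BT.leaf cJ3811)) (BT.node 3812 (BT.leaf cJ3812) (BT.leaf cJ3813))) (BT.node 3816 (BT.node 3815 (BT.node 3814 (BT.leaf cJ3814) (BT.leaf cJ3815)) (BT.leaf cJ3816)) (BT.node 3817 (BT.leaf cJ3817) (BT.leaf cJ3818))))) (BT.node 3828 (BT.node 3823 (BT.node 3821 (BT.node 3820 (BT.node 3819 (BT.leaf cJ3819) (BT.leaf cJ3820)) (BT.leaf cJ3821)) (BT.node 3822 (BT.leaf cJ3822) (BT.leaf cJ3823))) (BT.node 3826 (BT.node 3825 (BT.node 3824 (BT.leaf cJ3824) (BT.leaf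 cJ3825)) (BT.leaf cJ3826)) (BT.node 3827 (BT.leaf cJ3827) (BT.leaf cJ3828)))) (BT.node 3833 (BT.node 3831 (BT.node 3830 (BT.node 3829 (BT.leaf cJ3829) (BT.leaf cJ3830)) (BT.leaf cJ3831)) (BT.node 3832 (BT.leaf cJ3832) (BT.leaf cJ3833))) (BT.node 3836 (BT.node 3835 (BT.node 3834 (BT.leaf cJ3834) (BT.leaf cJ3835)) (BT.leaf cJ3836)) (BT.node 3837 (BT.leaf cJ3837) (BT.leaf cJ3838)))))) (BT.node 3858 (BT.node 3848 (BT.node 3843 (BT.node 3841 (BT.node 3840 (BT.node 3839 (BT.leaf cJ3839) (BT.leaf cJ3840)) (BT.leaf cJ3841)) (BT.node 3842 (BT.leaf cJ3842) (BT.leaf cJ3843))) (BT.node 3846 (BT.node 3845 (BT.node 3844 (BT.leaf cJ3844) (BT.leaf cJ3845)) (BT.leaf cJ3846)) (BT.node 3847 (BT.leaf cJ3847) (BT.leaf cJ3848)))) (BT.node 3853 (BT.node 3851 (BT.node 3850 (BT.node 3849 (BT.leaf cJ3849) (BT.leaf cJ3850)) (BT.leaf cJ3851)) (BT.node 3852 (BT.leaf cJ3852) (BT.leaf cJ3853)))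 (BT.node 3856 (BT.node 3855 (BT.node 3854 (BT.leaf cJ3854) (BT.leaf cJ3855)) (BT.leaf cJ3856)) (BT.node 3857 (BT.leaf cJ3857) (BT.leaf cJ3858))))) (BT.node 3868 (BT.node 3863 (BT.node 3861 (BT.node 3860 (BT.node 3859 (BT.leaf cJ3859) (BT.leaf cJ3860)) (BT.leaf cJ3861)) (BT.node 3862 (BT.leaf cJ3862) (BT.leaf cJ3863))) (BT.node 3866 (BT.node 3865 (BT.node 3864 (BT.leaf cJ3864) (BT.leaf cJ3865)) (BT.leaf cJ3866)) (BT.node 3867 (BT.leaf cJ3867) (BT.leaf cJ3868)))) (BT.node 3873 (BT.node 3871 (BT.node 3870 (BT.node 3869 (BT.leaf cJ3869) (BT.leaf cJ3870)) (BT.leaf cJ3871)) (BT.node 3872 (BT.leaf cJ3872) (BT.leaf cJ3873))) (BT.node 3876 (BT.node 3875 (BT.node 3874 (BT.leaf cJ3874) (BT.leaf cJ3875)) (BT.leaf cJ3876)) (BT.node 3877 (BT.leaf cJ3877) (BT.leaf cJ3878))))))))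
noncomputable def colJT_24 : BT ℕ := (BT.node 3959 (BT.node 3919 (BT.node 3899 (BT.node 3889 (BT.node 3884 (BT.node 3881 (BT.node 3880 (BT.node 3879 (BT.leaf cJ3879) (BT.leaf cJ3880)) (BT.leaf cJ3881)) (BT.node 3883 (BT.node 3882 (BT.leaf cJ3882) (BT.leaf cJ3883)) (BT.leaf cJ3884))) (BT.node 3887 (BT.node 3886 (BT.node 3885 (BT.leaf cJ3885) (BT.leaf cJ3886)) (BT.leaf cJ3887)) (BT.node 3888 (BT.leaf cJ3888) (BT.leaf cJ3889)))) (BT.node 3894 (BT.node 3892 (BT.node 3891 (BT.node 3890 (BT.leaf cJ3890) (BT.leaf cJ3891)) (BT.leaf cJ3892)) (BT.node 3893 (BT.leaf cJ3893) (BT.leaf cJ3894))) (BT.node 3897 (BT.node 3896 (BT.node 3895 (BT.leaf cJ3895) (BT.leaf cJ3896)) (BT.leaf cJ3897)) (BT.node 3898 (BT.leaf cJ3898) (BT.leaf cJ3899))))) (BT.node 3909 (BT.node 3904 (BT.node 3902 (BT.node 3901 (BT.node 3900 (BT.leaf cJ3900) (BT.leaf cJ3901)) (BT.leaf cJ3902)) (BT.node 3903 (BT.leaf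 cJ3903) (BT.leaf cJ3904))) (BT.node 3907 (BT.node 3906 (BT.node 3905 (BT.leaf cJ3905) (BT.leaf cJ3906)) (BT.leaf cJ3907)) (BT.node 3908 (BT.leaf cJ3908) (BT.leaf cJ3909)))) (BT.node 3914 (BT.node 3912 (BT.node 3911 (BT.node 3910 (BT.leaf cJ3910) (BT.leaf cJ3911)) (BT.leaf cJ3912)) (BT.node 3913 (BT.leaf cJ3913) (BT.leaf cJ3914))) (BT.node 3917 (BT.node 3916 (BT.node 3915 (BT.leaf cJ3915) (BT.leaf cJ3916)) (BT.leaf cJ3917)) (BT.node 3918 (BT.leaf cJ3918) (BT.leaf cJ3919)))))) (BT.node 3939 (BT.node 3929 (BT.node 3924 (BT.node 3922 (BT.node 3921 (BT.node 3920 (BT.leaf cJ3920) (BT.leaf cJ3921)) (BT.leaf cJ3922)) (BT.node 3923 (BT.leaf cJ3923) (BT.leaf cJ3924))) (BT.node 3927 (BT.node 3926 (BT.node 3925 (BT.leaf cJ3925) (BT.leaf cJ3926)) (BT.leaf cJ3927)) (BT.node 3928 (BT.leaf cJ3928) (BT.leaf cJ3929)))) (BT.node 3934 (BT.node 3932 (BT.node 3931 (BT.node 3930 (BT.leaf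 cJ3930) (BT.leaf cJ3931)) (BT.leaf cJ3932)) (BT.node 3933 (BT.leaf cJ3933) (BT.leaf cJ3934))) (BT.node 3937 (BT.node 3936 (BT.node 3935 (BT.leaf cJ3935) (BT.leaf cJ3936)) (BT.leaf cJ3937)) (BT.node 3938 (BT.leaf cJ3938) (BT.leaf cJ3939))))) (BT.node 3949 (BT.node 3944 (BT.node 3942 (BT.node 3941 (BT.node 3940 (BT.leaf cJ3940) (BT.leaf cJ3941)) (BT.leaf cJ3942)) (BT.node 3943 (BT.leaf cJ3943) (BT.leaf cJ3944))) (BT.node 3947 (BT.node 3946 (BT.node 3945 (BT.leaf cJ3945) (BT.leaf cJ3946)) (BT.leaf cJ3947)) (BT.node 3948 (BT.leaf cJ3948) (BT.leaf cJ3949)))) (BT.node 3954 (BT.node 3952 (BT.node 3951 (BT.node 3950 (BT.leaf cJ3950) (BT.leaf cJ3951)) (BT.leaf cJ3952)) (BT.node 3953 (BT.leaf cJ3953) (BT.leaf cJ3954))) (BT.node 3957 (BT.node 3956 (BT.node 3955 (BT.leaf cJ3955) (BT.leaf cJ3956)) (BT.leaf cJ3957)) (BT.node 3958 (BT.leaf cJ3958) (BT.leaf cJ3959))))))) (BT.node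 4000 (BT.node 3980 (BT.node 3970 (BT.node 3965 (BT.node 3962 (BT.node 3961 (BT.node 3960 (BT.leaf cJ3960) (BT.leaf cJ3961)) (BT.leaf cJ3962)) (BT.node 3964 (BT.node 3963 (BT.leaf cJ3963) (BT.leaf cJ3964)) (BT.leaf cJ3965))) (BT.node 3968 (BT.node 3967 (BT.node 3966 (BT.leaf cJ3966) (BT.leaf cJ3967)) (BT.leaf cJ3968)) (BT.node 3969 (BT.leaf cJ3969) (BT.leaf cJ3970)))) (BT.node 3975 (BT.node 3973 (BT.node 3972 (BT.node 3971 (BT.leaf cJ3971) (BT.leaf cJ3972)) (BT.leaf cJ3973)) (BT.node 3974 (BT.leaf cJ3974) (BT.leaf cJ3975))) (BT.node 3978 (BT.node 3977 (BT.node 3976 (BT.leaf cJ3976) (BT.leaf cJ3977)) (BT.leaf cJ3978)) (BT.node 3979 (BT.leaf cJ3979) (BT.leaf cJ3980))))) (BT.node 3990 (BT.node 3985 (BT.node 3983 (BT.node 3982 (BT.node 3981 (BT.leaf cJ3981) (BT.leaf cJ3982)) (BT.leaf cJ3983)) (BT.node 3984 (BT.leaf cJ3984) (BT.leaf cJ3985))) (BT.node 3988 (BT.node 3987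 (BT.node 3986 (BT.leaf cJ3986) (BT.leaf cJ3987)) (BT.leaf cJ3988)) (BT.node 3989 (BT.leaf cJ3989) (BT.leaf cJ3990)))) (BT.node 3995 (BT.node 3993 (BT.node 3992 (BT.node 3991 (BT.leaf cJ3991) (BT.leaf cJ3992)) (BT.leaf cJ3993)) (BT.node 3994 (BT.leaf cJ3994) (BT.leaf cJ3995))) (BT.node 3998 (BT.node 3997 (BT.node 3996 (BT.leaf cJ3996) (BT.leaf cJ3997)) (BT.leaf cJ3998)) (BT.node 3999 (BT.leaf cJ3999) (BT.leaf cJ4000)))))) (BT.node 4020 (BT.node 4010 (BT.node 4005 (BT.node 4003 (BT.node 4002 (BT.node 4001 (BT.leaf cJ4001) (BT.leaf cJ4002)) (BT.leaf cJ4003)) (BT.node 4004 (BT.leaf cJ4004) (BT.leaf cJ4005))) (BT.node 4008 (BT.node 4007 (BT.node 4006 (BT.leaf cJ4006) (BT.leaf cJ4007)) (BT.leaf cJ4008)) (BT.node 4009 (BT.leaf cJ4009) (BT.leaf cJ4010)))) (BT.node 4015 (BT.node 4013 (BT.node 4012 (BT.node 4011 (BT.leaf cJ4011) (BT.leaf cJ4012)) (BT.leaf cJ4013)) (BT.node 4014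 (BT.leaf cJ4014) (BT.leaf cJ4015))) (BT.node 4018 (BT.node 4017 (BT.node 4016 (BT.leaf cJ4016) (BT.leaf cJ4017)) (BT.leaf cJ4018)) (BT.node 4019 (BT.leaf cJ4019) (BT.leaf cJ4020))))) (BT.node 4030 (BT.node 4025 (BT.node 4023 (BT.node 4022 (BT.node 4021 (BT.leaf cJ4021) (BT.leaf cJ4022)) (BT.leaf cJ4023)) (BT.node 4024 (BT.leaf cJ4024) (BT.leaf cJ4025))) (BT.node 4028 (BT.node 4027 (BT.node 4026 (BT.leaf cJ4026) (BT.leaf cJ4027)) (BT.leaf cJ4028)) (BT.node 4029 (BT.leaf cJ4029) (BT.leaf cJ4030)))) (BT.node 4035 (BT.node 4033 (BT.node 4032 (BT.node 4031 (BT.leaf cJ4031) (BT.leaf cJ4032)) (BT.leaf cJ4033)) (BT.node 4034 (BT.leaf cJ4034) (BT.leaf cJ4035))) (BT.node 4038 (BT.node 4037 (BT.node 4036 (BT.leaf cJ4036) (BT.leaf cJ4037)) (BT.leaf cJ4038)) (BT.node 4039 (BT.leaf cJ4039) (BT.leaf cJ4040))))))))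
noncomputable def colJT_25 : BT ℕ := (BT.node 4121 (BT.node 4081 (BT.node 4061 (BT.node 4051 (BT.node 4046 (BT.node 4043 (BT.node 4042 (BT.node 4041 (BT.leaf cJ4041) (BT.leaf cJ4042)) (BT.leaf cJ4043)) (BT.node 4045 (BT.node 4044 (BT.leaf cJ4044) (BT.leaf cJ4045)) (BT.leaf cJ4046))) (BT.node 4049 (BT.node 4048 (BT.node 4047 (BT.leaf cJ4047) (BT.leaf cJ4048)) (BT.leaf cJ4049)) (BT.node 4050 (BT.leaf cJ4050) (BT.leaf cJ4051)))) (BT.node 4056 (BT.node 4054 (BT.node 4053 (BT.node 4052 (BT.leaf cJ4052) (BT.leaf cJ4053)) (BT.leaf cJ4054)) (BT.node 4055 (BT.leaf cJ4055) (BT.leaf cJ4056))) (BT.node 4059 (BT.node 4058 (BT.node 4057 (BT.leaf cJ4057) (BT.leaf cJ4058)) (BT.leaf cJ4059)) (BT.node 4060 (BT.leaf cJ4060) (BT.leaf cJ4061))))) (BT.node 4071 (BT.node 4066 (BT.node 4064 (BT.node 4063 (BT.node 4062 (BT.leaf cJ4062) (BT.leaf cJ4063)) (BT.leaf cJ4064)) (BT.node 4065 (BT.leaf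 cJ4065) (BT.leaf cJ4066))) (BT.node 4069 (BT.node 4068 (BT.node 4067 (BT.leaf cJ4067) (BT.leaf cJ4068)) (BT.leaf cJ4069)) (BT.node 4070 (BT.leaf cJ4070) (BT.leaf cJ4071)))) (BT.node 4076 (BT.node 4074 (BT.node 4073 (BT.node 4072 (BT.leaf cJ4072) (BT.leaf cJ4073)) (BT.leaf cJ4074)) (BT.node 4075 (BT.leaf cJ4075) (BT.leaf cJ4076))) (BT.node 4079 (BT.node 4078 (BT.node 4077 (BT.leaf cJ4077) (BT.leaf cJ4078)) (BT.leaf cJ4079)) (BT.node 4080 (BT.leaf cJ4080) (BT.leaf cJ4081)))))) (BT.node 4101 (BT.node 4091 (BT.node 4086 (BT.node 4084 (BT.node 4083 (BT.node 4082 (BT.leaf cJ4082) (BT.leaf cJ4083)) (BT.leaf cJ4084)) (BT.node 4085 (BT.leaf cJ4085) (BT.leaf cJ4086))) (BT.node 4089 (BT.node 4088 (BT.node 4087 (BT.leaf cJ4087) (BT.leaf cJ4088)) (BT.leaf cJ4089)) (BT.node 4090 (BT.leaf cJ4090) (BT.leaf cJ4091)))) (BT.node 4096 (BT.node 4094 (BT.node 4093 (BT.node 4092 (BT.leaf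 cJ4092) (BT.leaf cJ4093)) (BT.leaf cJ4094)) (BT.node 4095 (BT.leaf cJ4095) (BT.leaf cJ4096))) (BT.node 4099 (BT.node 4098 (BT.node 4097 (BT.leaf cJ4097) (BT.leaf cJ4098)) (BT.leaf cJ4099)) (BT.node 4100 (BT.leaf cJ4100) (BT.leaf cJ4101))))) (BT.node 4111 (BT.node 4106 (BT.node 4104 (BT.node 4103 (BT.node 4102 (BT.leaf cJ4102) (BT.leaf cJ4103)) (BT.leaf cJ4104)) (BT.node 4105 (BT.leaf cJ4105) (BT.leaf cJ4106))) (BT.node 4109 (BT.node 4108 (BT.node 4107 (BT.leaf cJ4107) (BT.leaf cJ4108)) (BT.leaf cJ4109)) (BT.node 4110 (BT.leaf cJ4110) (BT.leaf cJ4111)))) (BT.node 4116 (BT.node 4114 (BT.node 4113 (BT.node 4112 (BT.leaf cJ4112) (BT.leaf cJ4113)) (BT.leaf cJ4114)) (BT.node 4115 (BT.leaf cJ4115) (BT.leaf cJ4116))) (BT.node 4119 (BT.node 4118 (BT.node 4117 (BT.leaf cJ4117) (BT.leaf cJ4118)) (BT.leaf cJ4119)) (BT.node 4120 (BT.leaf cJ4120) (BT.leaf cJ4121))))))) (BT.node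 4161 (BT.node 4141 (BT.node 4131 (BT.node 4126 (BT.node 4124 (BT.node 4123 (BT.node 4122 (BT.leaf cJ4122) (BT.leaf cJ4123)) (BT.leaf cJ4124)) (BT.node 4125 (BT.leaf cJ4125) (BT.leaf cJ4126))) (BT.node 4129 (BT.node 4128 (BT.node 4127 (BT.leaf cJ4127) (BT.leaf cJ4128)) (BT.leaf cJ4129)) (BT.node 4130 (BT.leaf cJ4130) (BT.leaf cJ4131)))) (BT.node 4136 (BT.node 4134 (BT.node 4133 (BT.node 4132 (BT.leaf cJ4132) (BT.leaf cJ4133)) (BT.leaf cJ4134)) (BT.node 4135 (BT.leaf cJ4135) (BT.leaf cJ4136))) (BT.node 4139 (BT.node 4138 (BT.node 4137 (BT.leaf cJ4137) (BT.leaf cJ4138)) (BT.leaf cJ4139)) (BT.node 4140 (BT.leaf cJ4140) (BT.leaf cJ4141))))) (BT.node 4151 (BT.node 4146 (BT.node 4144 (BT.node 4143 (BT.node 4142 (BT.leaf cJ4142) (BT.leaf cJ4143)) (BT.leaf cJ4144)) (BT.node 4145 (BT.leaf cJ4145) (BT.leaf cJ4146))) (BT.node 4149 (BT.node 4148 (BT.node 4147 (BT.leaf cJ4147) (BT.leaf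 cJ4148)) (BT.leaf cJ4149)) (BT.node 4150 (BT.leaf cJ4150) (BT.leaf cJ4151)))) (BT.node 4156 (BT.node 4154 (BT.node 4153 (BT.node 4152 (BT.leaf cJ4152) (BT.leaf cJ4153)) (BT.leaf cJ4154)) (BT.node 4155 (BT.leaf cJ4155) (BT.leaf cJ4156))) (BT.node 4159 (BT.node 4158 (BT.node 4157 (BT.leaf cJ4157) (BT.leaf cJ4158)) (BT.leaf cJ4159)) (BT.node 4160 (BT.leaf cJ4160) (BT.leaf cJ4161)))))) (BT.node 4181 (BT.node 4171 (BT.node 4166 (BT.node 4164 (BT.node 4163 (BT.node 4162 (BT.leaf cJ4162) (BT.leaf cJ4163)) (BT.leaf cJ4164)) (BT.node 4165 (BT.leaf cJ4165) (BT.leaf cJ4166))) (BT.node 4169 (BT.node 4168 (BT.node 4167 (BT.leaf cJ4167) (BT.leaf cJ4168)) (BT.leaf cJ4169)) (BT.node 4170 (BT.leaf cJ4170) (BT.leaf cJ4171)))) (BT.node 4176 (BT.node 4174 (BT.node 4173 (BT.node 4172 (BT.leaf cJ4172) (BT.leaf cJ4173)) (BT.leaf cJ4174)) (BT.node 4175 (BT.leaf cJ4175) (BT.leaf cJ4176)))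 (BT.node 4179 (BT.node 4178 (BT.node 4177 (BT.leaf cJ4177) (BT.leaf cJ4178)) (BT.leaf cJ4179)) (BT.node 4180 (BT.leaf cJ4180) (BT.leaf cJ4181))))) (BT.node 4191 (BT.node 4186 (BT.node 4184 (BT.node 4183 (BT.node 4182 (BT.leaf cJ4182) (BT.leaf cJ4183)) (BT.leaf cJ4184)) (BT.node 4185 (BT.leaf cJ4185) (BT.leaf cJ4186))) (BT.node 4189 (BT.node 4188 (BT.node 4187 (BT.leaf cJ4187) (BT.leaf cJ4188)) (BT.leaf cJ4189)) (BT.node 4190 (BT.leaf cJ4190) (BT.leaf cJ4191)))) (BT.node 4196 (BT.node 4194 (BT.node 4193 (BT.node 4192 (BT.leaf cJ4192) (BT.leaf cJ4193)) (BT.leaf cJ4194)) (BT.node 4195 (BT.leaf cJ4195) (BT.leaf cJ4196))) (BT.node 4199 (BT.node 4198 (BT.node 4197 (BT.leaf cJ4197) (BT.leaf cJ4198)) (BT.leaf cJ4199)) (BT.node 4200 (BT.leaf cJ4200) (BT.leaf cJ4201))))))))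
noncomputable def colJT_26 : BT ℕ := (BT.node 4282 (BT.node 4242 (BT.node 4222 (BT.node 4212 (BT.node 4207 (BT.node 4204 (BT.node 4203 (BT.node 4202 (BT.leaf cJ4202) (BT.leaf cJ4203)) (BT.leaf cJ4204)) (BT.node 4206 (BT.node 4205 (BT.leaf cJ4205) (BT.leaf cJ4206)) (BT.leaf cJ4207))) (BT.node 4210 (BT.node 4209 (BT.node 4208 (BT.leaf cJ4208) (BT.leaf cJ4209)) (BT.leaf cJ4210)) (BT.node 4211 (BT.leaf cJ4211) (BT.leaf cJ4212)))) (BT.node 4217 (BT.node 4215 (BT.node 4214 (BT.node 4213 (BT.leaf cJ4213) (BT.leaf cJ4214)) (BT.leaf cJ4215)) (BT.node 4216 (BT.leaf cJ4216) (BT.leaf cJ4217))) (BT.node 4220 (BT.node 4219 (BT.node 4218 (BT.leaf cJ4218) (BT.leaf cJ4219)) (BT.leaf cJ4220)) (BT.node 4221 (BT.leaf cJ4221) (BT.leaf cJ4222))))) (BT.node 4232 (BT.node 4227 (BT.node 4225 (BT.node 4224 (BT.node 4223 (BT.leaf cJ4223) (BT.leaf cJ4224)) (BT.leaf cJ4225)) (BT.node 4226 (BT.leaf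 cJ4226) (BT.leaf cJ4227))) (BT.node 4230 (BT.node 4229 (BT.node 4228 (BT.leaf cJ4228) (BT.leaf cJ4229)) (BT.leaf cJ4230)) (BT.node 4231 (BT.leaf cJ4231) (BT.leaf cJ4232)))) (BT.node 4237 (BT.node 4235 (BT.node 4234 (BT.node 4233 (BT.leaf cJ4233) (BT.leaf cJ4234)) (BT.leaf cJ4235)) (BT.node 4236 (BT.leaf cJ4236) (BT.leaf cJ4237))) (BT.node 4240 (BT.node 4239 (BT.node 4238 (BT.leaf cJ4238) (BT.leaf cJ4239)) (BT.leaf cJ4240)) (BT.node 4241 (BT.leaf cJ4241) (BT.leaf cJ4242)))))) (BT.node 4262 (BT.node 4252 (BT.node 4247 (BT.node 4245 (BT.node 4244 (BT.node 4243 (BT.leaf cJ4243) (BT.leaf cJ4244)) (BT.leaf cJ4245)) (BT.node 4246 (BT.leaf cJ4246) (BT.leaf cJ4247))) (BT.node 4250 (BT.node 4249 (BT.node 4248 (BT.leaf cJ4248) (BT.leaf cJ4249)) (BT.leaf cJ4250)) (BT.node 4251 (BT.leaf cJ4251) (BT.leaf cJ4252)))) (BT.node 4257 (BT.node 4255 (BT.node 4254 (BT.node 4253 (BT.leaf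 cJ4253) (BT.leaf cJ4254)) (BT.leaf cJ4255)) (BT.node 4256 (BT.leaf cJ4256) (BT.leaf cJ4257))) (BT.node 4260 (BT.node 4259 (BT.node 4258 (BT.leaf cJ4258) (BT.leaf cJ4259)) (BT.leaf cJ4260)) (BT.node 4261 (BT.leaf cJ4261) (BT.leaf cJ4262))))) (BT.node 4272 (BT.node 4267 (BT.node 4265 (BT.node 4264 (BT.node 4263 (BT.leaf cJ4263) (BT.leaf cJ4264)) (BT.leaf cJ4265)) (BT.node 4266 (BT.leaf cJ4266) (BT.leaf cJ4267))) (BT.node 4270 (BT.node 4269 (BT.node 4268 (BT.leaf cJ4268) (BT.leaf cJ4269)) (BT.leaf cJ4270)) (BT.node 4271 (BT.leaf cJ4271) (BT.leaf cJ4272)))) (BT.node 4277 (BT.node 4275 (BT.node 4274 (BT.node 4273 (BT.leaf cJ4273) (BT.leaf cJ4274)) (BT.leaf cJ4275)) (BT.node 4276 (BT.leaf cJ4276) (BT.leaf cJ4277))) (BT.node 4280 (BT.node 4279 (BT.node 4278 (BT.leaf cJ4278) (BT.leaf cJ4279)) (BT.leaf cJ4280)) (BT.node 4281 (BT.leaf cJ4281) (BT.leaf cJ4282))))))) (BT.node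 4323 (BT.node 4303 (BT.node 4293 (BT.node 4288 (BT.node 4285 (BT.node 4284 (BT.node 4283 (BT.leaf cJ4283) (BT.leaf cJ4284)) (BT.leaf cJ4285)) (BT.node 4287 (BT.node 4286 (BT.leaf cJ4286) (BT.leaf cJ4287)) (BT.leaf cJ4288))) (BT.node 4291 (BT.node 4290 (BT.node 4289 (BT.leaf cJ4289) (BT.leaf cJ4290)) (BT.leaf cJ4291)) (BT.node 4292 (BT.leaf cJ4292) (BT.leaf cJ4293)))) (BT.node 4298 (BT.node 4296 (BT.node 4295 (BT.node 4294 (BT.leaf cJ4294) (BT.leaf cJ4295)) (BT.leaf cJ4296)) (BT.node 4297 (BT.leaf cJ4297) (BT.leaf cJ4298))) (BT.node 4301 (BT.node 4300 (BT.node 4299 (BT.leaf cJ4299) (BT.leaf cJ4300)) (BT.leaf cJ4301)) (BT.node 4302 (BT.leaf cJ4302) (BT.leaf cJ4303))))) (BT.node 4313 (BT.node 4308 (BT.node 4306 (BT.node 4305 (BT.node 4304 (BT.leaf cJ4304) (BT.leaf cJ4305)) (BT.leaf cJ4306)) (BT.node 4307 (BT.leaf cJ4307) (BT.leaf cJ4308))) (BT.node 4311 (BT.node 4310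 (BT.node 4309 (BT.leaf cJ4309) (BT.leaf cJ4310)) (BT.leaf cJ4311)) (BT.node 4312 (BT.leaf cJ4312) (BT.leaf cJ4313)))) (BT.node 4318 (BT.node 4316 (BT.node 4315 (BT.node 4314 (BT.leaf cJ4314) (BT.leaf cJ4315)) (BT.leaf cJ4316)) (BT.node 4317 (BT.leaf cJ4317) (BT.leaf cJ4318))) (BT.node 4321 (BT.node 4320 (BT.node 4319 (BT.leaf cJ4319) (BT.leaf cJ4320)) (BT.leaf cJ4321)) (BT.node 4322 (BT.leaf cJ4322) (BT.leaf cJ4323)))))) (BT.node 4343 (BT.node 4333 (BT.node 4328 (BT.node 4326 (BT.node 4325 (BT.node 4324 (BT.leaf cJ4324) (BT.leaf cJ4325)) (BT.leaf cJ4326)) (BT.node 4327 (BT.leaf cJ4327) (BT.leaf cJ4328))) (BT.node 4331 (BT.node 4330 (BT.node 4329 (BT.leaf cJ4329) (BT.leaf cJ4330)) (BT.leaf cJ4331)) (BT.node 4332 (BT.leaf cJ4332) (BT.leaf cJ4333)))) (BT.node 4338 (BT.node 4336 (BT.node 4335 (BT.node 4334 (BT.leaf cJ4334) (BT.leaf cJ4335)) (BT.leaf cJ4336)) (BT.node 4337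 (BT.leaf cJ4337) (BT.leaf cJ4338))) (BT.node 4341 (BT.node 4340 (BT.node 4339 (BT.leaf cJ4339) (BT.leaf cJ4340)) (BT.leaf cJ4341)) (BT.node 4342 (BT.leaf cJ4342) (BT.leaf cJ4343))))) (BT.node 4353 (BT.node 4348 (BT.node 4346 (BT.node 4345 (BT.node 4344 (BT.leaf cJ4344) (BT.leaf cJ4345)) (BT.leaf cJ4346)) (BT.node 4347 (BT.leaf cJ4347) (BT.leaf cJ4348))) (BT.node 4351 (BT.node 4350 (BT.node 4349 (BT.leaf cJ4349) (BT.leaf cJ4350)) (BT.leaf cJ4351)) (BT.node 4352 (BT.leaf cJ4352) (BT.leaf cJ4353)))) (BT.node 4358 (BT.node 4356 (BT.node 4355 (BT.node 4354 (BT.leaf cJ4354) (BT.leaf cJ4355)) (BT.leaf cJ4356)) (BT.node 4357 (BT.leaf cJ4357) (BT.leaf cJ4358))) (BT.node 4361 (BT.node 4360 (BT.node 4359 (BT.leaf cJ4359) (BT.leaf cJ4360)) (BT.leaf cJ4361)) (BT.node 4362 (BT.leaf cJ4362) (BT.leaf cJ4363))))))))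
noncomputable def colJT_27 : BT ℕ := (BT.node 4444 (BT.node 4404 (BT.node 4384 (BT.node 4374 (BT.node 4369 (BT.node 4366 (BT.node 4365 (BT.node 4364 (BT.leaf cJ4364) (BT.leaf cJ4365)) (BT.leaf cJ4366)) (BT.node 4368 (BT.node 4367 (BT.leaf cJ4367) (BT.leaf cJ4368)) (BT.leaf cJ4369))) (BT.node 4372 (BT.node 4371 (BT.node 4370 (BT.leaf cJ4370) (BT.leaf cJ4371)) (BT.leaf cJ4372)) (BT.node 4373 (BT.leaf cJ4373) (BT.leaf cJ4374)))) (BT.node 4379 (BT.node 4377 (BT.node 4376 (BT.node 4375 (BT.leaf cJ4375) (BT.leaf cJ4376)) (BT.leaf cJ4377)) (BT.node 4378 (BT.leaf cJ4378) (BT.leaf cJ4379))) (BT.node 4382 (BT.node 4381 (BT.node 4380 (BT.leaf cJ4380) (BT.leaf cJ4381)) (BT.leaf cJ4382)) (BT.node 4383 (BT.leaf cJ4383) (BT.leaf cJ4384))))) (BT.node 4394 (BT.node 4389 (BT.node 4387 (BT.node 4386 (BT.node 4385 (BT.leaf cJ4385) (BT.leaf cJ4386)) (BT.leaf cJ4387)) (BT.node 4388 (BT.leaf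 cJ4388) (BT.leaf cJ4389))) (BT.node 4392 (BT.node 4391 (BT.node 4390 (BT.leaf cJ4390) (BT.leaf cJ4391)) (BT.leaf cJ4392)) (BT.node 4393 (BT.leaf cJ4393) (BT.leaf cJ4394)))) (BT.node 4399 (BT.node 4397 (BT.node 4396 (BT.node 4395 (BT.leaf cJ4395) (BT.leaf cJ4396)) (BT.leaf cJ4397)) (BT.node 4398 (BT.leaf cJ4398) (BT.leaf cJ4399))) (BT.node 4402 (BT.node 4401 (BT.node 4400 (BT.leaf cJ4400) (BT.leaf cJ4401)) (BT.leaf cJ4402)) (BT.node 4403 (BT.leaf cJ4403) (BT.leaf cJ4404)))))) (BT.node 4424 (BT.node 4414 (BT.node 4409 (BT.node 4407 (BT.node 4406 (BT.node 4405 (BT.leaf cJ4405) (BT.leaf cJ4406)) (BT.leaf cJ4407)) (BT.node 4408 (BT.leaf cJ4408) (BT.leaf cJ4409))) (BT.node 4412 (BT.node 4411 (BT.node 4410 (BT.leaf cJ4410) (BT.leaf cJ4411)) (BT.leaf cJ4412)) (BT.node 4413 (BT.leaf cJ4413) (BT.leaf cJ4414)))) (BT.node 4419 (BT.node 4417 (BT.node 4416 (BT.node 4415 (BT.leaf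 cJ4415) (BT.leaf cJ4416)) (BT.leaf cJ4417)) (BT.node 4418 (BT.leaf cJ4418) (BT.leaf cJ4419))) (BT.node 4422 (BT.node 4421 (BT.node 4420 (BT.leaf cJ4420) (BT.leaf cJ4421)) (BT.leaf cJ4422)) (BT.node 4423 (BT.leaf cJ4423) (BT.leaf cJ4424))))) (BT.node 4434 (BT.node 4429 (BT.node 4427 (BT.node 4426 (BT.node 4425 (BT.leaf cJ4425) (BT.leaf cJ4426)) (BT.leaf cJ4427)) (BT.node 4428 (BT.leaf cJ4428) (BT.leaf cJ4429))) (BT.node 4432 (BT.node 4431 (BT.node 4430 (BT.leaf cJ4430) (BT.leaf cJ4431)) (BT.leaf cJ4432)) (BT.node 4433 (BT.leaf cJ4433) (BT.leaf cJ4434)))) (BT.node 4439 (BT.node 4437 (BT.node 4436 (BT.node 4435 (BT.leaf cJ4435) (BT.leaf cJ4436)) (BT.leaf cJ4437)) (BT.node 4438 (BT.leaf cJ4438) (BT.leaf cJ4439))) (BT.node 4442 (BT.node 4441 (BT.node 4440 (BT.leaf cJ4440) (BT.leaf cJ4441)) (BT.leaf cJ4442)) (BT.node 4443 (BT.leaf cJ4443) (BT.leaf cJ4444))))))) (BT.node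 4484 (BT.node 4464 (BT.node 4454 (BT.node 4449 (BT.node 4447 (BT.node 4446 (BT.node 4445 (BT.leaf cJ4445) (BT.leaf cJ4446)) (BT.leaf cJ4447)) (BT.node 4448 (BT.leaf cJ4448) (BT.leaf cJ4449))) (BT.node 4452 (BT.node 4451 (BT.node 4450 (BT.leaf cJ4450) (BT.leaf cJ4451)) (BT.leaf cJ4452)) (BT.node 4453 (BT.leaf cJ4453) (BT.leaf cJ4454)))) (BT.node 4459 (BT.node 4457 (BT.node 4456 (BT.node 4455 (BT.leaf cJ4455) (BT.leaf cJ4456)) (BT.leaf cJ4457)) (BT.node 4458 (BT.leaf cJ4458) (BT.leaf cJ4459))) (BT.node 4462 (BT.node 4461 (BT.node 4460 (BT.leaf cJ4460) (BT.leaf cJ4461)) (BT.leaf cJ4462)) (BT.node 4463 (BT.leaf cJ4463) (BT.leaf cJ4464))))) (BT.node 4474 (BT.node 4469 (BT.node 4467 (BT.node 4466 (BT.node 4465 (BT.leaf cJ4465) (BT.leaf cJ4466)) (BT.leaf cJ4467)) (BT.node 4468 (BT.leaf cJ4468) (BT.leaf cJ4469))) (BT.node 4472 (BT.node 4471 (BT.node 4470 (BT.leaf cJ4470) (BT.leaf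 cJ4471)) (BT.leaf cJ4472)) (BT.node 4473 (BT.leaf cJ4473) (BT.leaf cJ4474)))) (BT.node 4479 (BT.node 4477 (BT.node 4476 (BT.node 4475 (BT.leaf cJ4475) (BT.leaf cJ4476)) (BT.leaf cJ4477)) (BT.node 4478 (BT.leaf cJ4478) (BT.leaf cJ4479))) (BT.node 4482 (BT.node 4481 (BT.node 4480 (BT.leaf cJ4480) (BT.leaf cJ4481)) (BT.leaf cJ4482)) (BT.node 4483 (BT.leaf cJ4483) (BT.leaf cJ4484)))))) (BT.node 4504 (BT.node 4494 (BT.node 4489 (BT.node 4487 (BT.node 4486 (BT.node 4485 (BT.leaf cJ4485) (BT.leaf cJ4486)) (BT.leaf cJ4487)) (BT.node 4488 (BT.leaf cJ4488) (BT.leaf cJ4489))) (BT.node 4492 (BT.node 4491 (BT.node 4490 (BT.leaf cJ4490) (BT.leaf cJ4491)) (BT.leaf cJ4492)) (BT.node 4493 (BT.leaf cJ4493) (BT.leaf cJ4494)))) (BT.node 4499 (BT.node 4497 (BT.node 4496 (BT.node 4495 (BT.leaf cJ4495) (BT.leaf cJ4496)) (BT.leaf cJ4497)) (BT.node 4498 (BT.leaf cJ4498) (BT.leaf cJ4499)))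 (BT.node 4502 (BT.node 4501 (BT.node 4500 (BT.leaf cJ4500) (BT.leaf cJ4501)) (BT.leaf cJ4502)) (BT.node 4503 (BT.leaf cJ4503) (BT.leaf cJ4504))))) (BT.node 4514 (BT.node 4509 (BT.node 4507 (BT.node 4506 (BT.node 4505 (BT.leaf cJ4505) (BT.leaf cJ4506)) (BT.leaf cJ4507)) (BT.node 4508 (BT.leaf cJ4508) (BT.leaf cJ4509))) (BT.node 4512 (BT.node 4511 (BT.node 4510 (BT.leaf cJ4510) (BT.leaf cJ4511)) (BT.leaf cJ4512)) (BT.node 4513 (BT.leaf cJ4513) (BT.leaf cJ4514)))) (BT.node 4519 (BT.node 4517 (BT.node 4516 (BT.node 4515 (BT.leaf cJ4515) (BT.leaf cJ4516)) (BT.leaf cJ4517)) (BT.node 4518 (BT.leaf cJ4518) (BT.leaf cJ4519))) (BT.node 4522 (BT.node 4521 (BT.node 4520 (BT.leaf cJ4520) (BT.leaf cJ4521)) (BT.leaf cJ4522)) (BT.node 4523 (BT.leaf cJ4523) (BT.leaf cJ4524))))))))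
noncomputable def colJT_28 : BT ℕ := (BT.node 4605 (BT.node 4565 (BT.node 4545 (BT.node 4535 (BT.node 4530 (BT.node 4527 (BT.node 4526 (BT.node 4525 (BT.leaf cJ4525) (BT.leaf cJ4526)) (BT.leaf cJ4527)) (BT.node 4529 (BT.node 4528 (BT.leaf cJ4528) (BT.leaf cJ4529)) (BT.leaf cJ4530))) (BT.node 4533 (BT.node 4532 (BT.node 4531 (BT.leaf cJ4531) (BT.leaf cJ4532)) (BT.leaf cJ4533)) (BT.node 4534 (BT.leaf cJ4534) (BT.leaf cJ4535)))) (BT.node 4540 (BT.node 4538 (BT.node 4537 (BT.node 4536 (BT.leaf cJ4536) (BT.leaf cJ4537)) (BT.leaf cJ4538)) (BT.node 4539 (BT.leaf cJ4539) (BT.leaf cJ4540))) (BT.node 4543 (BT.node 4542 (BT.node 4541 (BT.leaf cJ4541) (BT.leaf cJ4542)) (BT.leaf cJ4543)) (BT.node 4544 (BT.leaf cJ4544) (BT.leaf cJ4545))))) (BT.node 4555 (BT.node 4550 (BT.node 4548 (BT.node 4547 (BT.node 4546 (BT.leaf cJ4546) (BT.leaf cJ4547)) (BT.leaf cJ4548)) (BT.node 4549 (BT.leaf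 cJ4549) (BT.leaf cJ4550))) (BT.node 4553 (BT.node 4552 (BT.node 4551 (BT.leaf cJ4551) (BT.leaf cJ4552)) (BT.leaf cJ4553)) (BT.node 4554 (BT.leaf cJ4554) (BT.leaf cJ4555)))) (BT.node 4560 (BT.node 4558 (BT.node 4557 (BT.node 4556 (BT.leaf cJ4556) (BT.leaf cJ4557)) (BT.leaf cJ4558)) (BT.node 4559 (BT.leaf cJ4559) (BT.leaf cJ4560))) (BT.node 4563 (BT.node 4562 (BT.node 4561 (BT.leaf cJ4561) (BT.leaf cJ4562)) (BT.leaf cJ4563)) (BT.node 4564 (BT.leaf cJ4564) (BT.leaf cJ4565)))))) (BT.node 4585 (BT.node 4575 (BT.node 4570 (BT.node 4568 (BT.node 4567 (BT.node 4566 (BT.leaf cJ4566) (BT.leaf cJ4567)) (BT.leaf cJ4568)) (BT.node 4569 (BT.leaf cJ4569) (BT.leaf cJ4570))) (BT.node 4573 (BT.node 4572 (BT.node 4571 (BT.leaf cJ4571) (BT.leaf cJ4572)) (BT.leaf cJ4573)) (BT.node 4574 (BT.leaf cJ4574) (BT.leaf cJ4575)))) (BT.node 4580 (BT.node 4578 (BT.node 4577 (BT.node 4576 (BT.leaf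 cJ4576) (BT.leaf cJ4577)) (BT.leaf cJ4578)) (BT.node 4579 (BT.leaf cJ4579) (BT.leaf cJ4580))) (BT.node 4583 (BT.node 4582 (BT.node 4581 (BT.leaf cJ4581) (BT.leaf cJ4582)) (BT.leaf cJ4583)) (BT.node 4584 (BT.leaf cJ4584) (BT.leaf cJ4585))))) (BT.node 4595 (BT.node 4590 (BT.node 4588 (BT.node 4587 (BT.node 4586 (BT.leaf cJ4586) (BT.leaf cJ4587)) (BT.leaf cJ4588)) (BT.node 4589 (BT.leaf cJ4589) (BT.leaf cJ4590))) (BT.node 4593 (BT.node 4592 (BT.node 4591 (BT.leaf cJ4591) (BT.leaf cJ4592)) (BT.leaf cJ4593)) (BT.node 4594 (BT.leaf cJ4594) (BT.leaf cJ4595)))) (BT.node 4600 (BT.node 4598 (BT.node 4597 (BT.node 4596 (BT.leaf cJ4596) (BT.leaf cJ4597)) (BT.leaf cJ4598)) (BT.node 4599 (BT.leaf cJ4599) (BT.leaf cJ4600))) (BT.node 4603 (BT.node 4602 (BT.node 4601 (BT.leaf cJ4601) (BT.leaf cJ4602)) (BT.leaf cJ4603)) (BT.node 4604 (BT.leaf cJ4604) (BT.leaf cJ4605))))))) (BT.node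 4646 (BT.node 4626 (BT.node 4616 (BT.node 4611 (BT.node 4608 (BT.node 4607 (BT.node 4606 (BT.leaf cJ4606) (BT.leaf cJ4607)) (BT.leaf cJ4608)) (BT.node 4610 (BT.node 4609 (BT.leaf cJ4609) (BT.leaf cJ4610)) (BT.leaf cJ4611))) (BT.node 4614 (BT.node 4613 (BT.node 4612 (BT.leaf cJ4612) (BT.leaf cJ4613)) (BT.leaf cJ4614)) (BT.node 4615 (BT.leaf cJ4615) (BT.leaf cJ4616)))) (BT.node 4621 (BT.node 4619 (BT.node 4618 (BT.node 4617 (BT.leaf cJ4617) (BT.leaf cJ4618)) (BT.leaf cJ4619)) (BT.node 4620 (BT.leaf cJ4620) (BT.leaf cJ4621))) (BT.node 4624 (BT.node 4623 (BT.node 4622 (BT.leaf cJ4622) (BT.leaf cJ4623)) (BT.leaf cJ4624)) (BT.node 4625 (BT.leaf cJ4625) (BT.leaf cJ4626))))) (BT.node 4636 (BT.node 4631 (BT.node 4629 (BT.node 4628 (BT.node 4627 (BT.leaf cJ4627) (BT.leaf cJ4628)) (BT.leaf cJ4629)) (BT.node 4630 (BT.leaf cJ4630) (BT.leaf cJ4631))) (BT.node 4634 (BT.node 4633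 (BT.node 4632 (BT.leaf cJ4632) (BT.leaf cJ4633)) (BT.leaf cJ4634)) (BT.node 4635 (BT.leaf cJ4635) (BT.leaf cJ4636)))) (BT.node 4641 (BT.node 4639 (BT.node 4638 (BT.node 4637 (BT.leaf cJ4637) (BT.leaf cJ4638)) (BT.leaf cJ4639)) (BT.node 4640 (BT.leaf cJ4640) (BT.leaf cJ4641))) (BT.node 4644 (BT.node 4643 (BT.node 4642 (BT.leaf cJ4642) (BT.leaf cJ4643)) (BT.leaf cJ4644)) (BT.node 4645 (BT.leaf cJ4645) (BT.leaf cJ4646)))))) (BT.node 4666 (BT.node 4656 (BT.node 4651 (BT.node 4649 (BT.node 4648 (BT.node 4647 (BT.leaf cJ4647) (BT.leaf cJ4648)) (BT.leaf cJ4649)) (BT.node 4650 (BT.leaf cJ4650) (BT.leaf cJ4651))) (BT.node 4654 (BT.node 4653 (BT.node 4652 (BT.leaf cJ4652) (BT.leaf cJ4653)) (BT.leaf cJ4654)) (BT.node 4655 (BT.leaf cJ4655) (BT.leaf cJ4656)))) (BT.node 4661 (BT.node 4659 (BT.node 4658 (BT.node 4657 (BT.leaf cJ4657) (BT.leaf cJ4658)) (BT.leaf cJ4659)) (BT.node 4660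 (BT.leaf cJ4660) (BT.leaf cJ4661))) (BT.node 4664 (BT.node 4663 (BT.node 4662 (BT.leaf cJ4662) (BT.leaf cJ4663)) (BT.leaf cJ4664)) (BT.node 4665 (BT.leaf cJ4665) (BT.leaf cJ4666))))) (BT.node 4676 (BT.node 4671 (BT.node 4669 (BT.node 4668 (BT.node 4667 (BT.leaf cJ4667) (BT.leaf cJ4668)) (BT.leaf cJ4669)) (BT.node 4670 (BT.leaf cJ4670) (BT.leaf cJ4671))) (BT.node 4674 (BT.node 4673 (BT.node 4672 (BT.leaf cJ4672) (BT.leaf cJ4673)) (BT.leaf cJ4674)) (BT.node 4675 (BT.leaf cJ4675) (BT.leaf cJ4676)))) (BT.node 4681 (BT.node 4679 (BT.node 4678 (BT.node 4677 (BT.leaf cJ4677) (BT.leaf cJ4678)) (BT.leaf cJ4679)) (BT.node 4680 (BT.leaf cJ4680) (BT.leaf cJ4681))) (BT.node 4684 (BT.node 4683 (BT.node 4682 (BT.leaf cJ4682) (BT.leaf cJ4683)) (BT.leaf cJ4684)) (BT.node 4685 (BT.leaf cJ4685) (BT.leaf cJ4686))))))))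
noncomputable def colJT_29 : BT ℕ := (BT.node 4767 (BT.node 4727 (BT.node 4707 (BT.node 4697 (BT.node 4692 (BT.node 4689 (BT.node 4688 (BT.node 4687 (BT.leaf cJ4687) (BT.leaf cJ4688)) (BT.leaf cJ4689)) (BT.node 4691 (BT.node 4690 (BT.leaf cJ4690) (BT.leaf cJ4691)) (BT.leaf cJ4692))) (BT.node 4695 (BT.node 4694 (BT.node 4693 (BT.leaf cJ4693) (BT.leaf cJ4694)) (BT.leaf cJ4695)) (BT.node 4696 (BT.leaf cJ4696) (BT.leaf cJ4697)))) (BT.node 4702 (BT.node 4700 (BT.node 4699 (BT.node 4698 (BT.leaf cJ4698) (BT.leaf cJ4699)) (BT.leaf cJ4700)) (BT.node 4701 (BT.leaf cJ4701) (BT.leaf cJ4702))) (BT.node 4705 (BT.node 4704 (BT.node 4703 (BT.leaf cJ4703) (BT.leaf cJ4704)) (BT.leaf cJ4705)) (BT.node 4706 (BT.leaf cJ4706) (BT.leaf cJ4707))))) (BT.node 4717 (BT.node 4712 (BT.node 4710 (BT.node 4709 (BT.node 4708 (BT.leaf cJ4708) (BT.leaf cJ4709)) (BT.leaf cJ4710)) (BT.node 4711 (BT.leaf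 cJ4711) (BT.leaf cJ4712))) (BT.node 4715 (BT.node 4714 (BT.node 4713 (BT.leaf cJ4713) (BT.leaf cJ4714)) (BT.leaf cJ4715)) (BT.node 4716 (BT.leaf cJ4716) (BT.leaf cJ4717)))) (BT.node 4722 (BT.node 4720 (BT.node 4719 (BT.node 4718 (BT.leaf cJ4718) (BT.leaf cJ4719)) (BT.leaf cJ4720)) (BT.node 4721 (BT.leaf cJ4721) (BT.leaf cJ4722))) (BT.node 4725 (BT.node 4724 (BT.node 4723 (BT.leaf cJ4723) (BT.leaf cJ4724)) (BT.leaf cJ4725)) (BT.node 4726 (BT.leaf cJ4726) (BT.leaf cJ4727)))))) (BT.node 4747 (BT.node 4737 (BT.node 4732 (BT.node 4730 (BT.node 4729 (BT.node 4728 (BT.leaf cJ4728) (BT.leaf cJ4729)) (BT.leaf cJ4730)) (BT.node 4731 (BT.leaf cJ4731) (BT.leaf cJ4732))) (BT.node 4735 (BT.node 4734 (BT.node 4733 (BT.leaf cJ4733) (BT.leaf cJ4734)) (BT.leaf cJ4735)) (BT.node 4736 (BT.leaf cJ4736) (BT.leaf cJ4737)))) (BT.node 4742 (BT.node 4740 (BT.node 4739 (BT.node 4738 (BT.leaf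 cJ4738) (BT.leaf cJ4739)) (BT.leaf cJ4740)) (BT.node 4741 (BT.leaf cJ4741) (BT.leaf cJ4742))) (BT.node 4745 (BT.node 4744 (BT.node 4743 (BT.leaf cJ4743) (BT.leaf cJ4744)) (BT.leaf cJ4745)) (BT.node 4746 (BT.leaf cJ4746) (BT.leaf cJ4747))))) (BT.node 4757 (BT.node 4752 (BT.node 4750 (BT.node 4749 (BT.node 4748 (BT.leaf cJ4748) (BT.leaf cJ4749)) (BT.leaf cJ4750)) (BT.node 4751 (BT.leaf cJ4751) (BT.leaf cJ4752))) (BT.node 4755 (BT.node 4754 (BT.node 4753 (BT.leaf cJ4753) (BT.leaf cJ4754)) (BT.leaf cJ4755)) (BT.node 4756 (BT.leaf cJ4756) (BT.leaf cJ4757)))) (BT.node 4762 (BT.node 4760 (BT.node 4759 (BT.node 4758 (BT.leaf cJ4758) (BT.leaf cJ4759)) (BT.leaf cJ4760)) (BT.node 4761 (BT.leaf cJ4761) (BT.leaf cJ4762))) (BT.node 4765 (BT.node 4764 (BT.node 4763 (BT.leaf cJ4763) (BT.leaf cJ4764)) (BT.leaf cJ4765)) (BT.node 4766 (BT.leaf cJ4766) (BT.leaf cJ4767))))))) (BT.node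 4807 (BT.node 4787 (BT.node 4777 (BT.node 4772 (BT.node 4770 (BT.node 4769 (BT.node 4768 (BT.leaf cJ4768) (BT.leaf cJ4769)) (BT.leaf cJ4770)) (BT.node 4771 (BT.leaf cJ4771) (BT.leaf cJ4772))) (BT.node 4775 (BT.node 4774 (BT.node 4773 (BT.leaf cJ4773) (BT.leaf cJ4774)) (BT.leaf cJ4775)) (BT.node 4776 (BT.leaf cJ4776) (BT.leaf cJ4777)))) (BT.node 4782 (BT.node 4780 (BT.node 4779 (BT.node 4778 (BT.leaf cJ4778) (BT.leaf cJ4779)) (BT.leaf cJ4780)) (BT.node 4781 (BT.leaf cJ4781) (BT.leaf cJ4782))) (BT.node 4785 (BT.node 4784 (BT.node 4783 (BT.leaf cJ4783) (BT.leaf cJ4784)) (BT.leaf cJ4785)) (BT.node 4786 (BT.leaf cJ4786) (BT.leaf cJ4787))))) (BT.node 4797 (BT.node 4792 (BT.node 4790 (BT.node 4789 (BT.node 4788 (BT.leaf cJ4788) (BT.leaf cJ4789)) (BT.leaf cJ4790)) (BT.node 4791 (BT.leaf cJ4791) (BT.leaf cJ4792))) (BT.node 4795 (BT.node 4794 (BT.node 4793 (BT.leaf cJ4793) (BT.leaf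 cJ4794)) (BT.leaf cJ4795)) (BT.node 4796 (BT.leaf cJ4796) (BT.leaf cJ4797)))) (BT.node 4802 (BT.node 4800 (BT.node 4799 (BT.node 4798 (BT.leaf cJ4798) (BT.leaf cJ4799)) (BT.leaf cJ4800)) (BT.node 4801 (BT.leaf cJ4801) (BT.leaf cJ4802))) (BT.node 4805 (BT.node 4804 (BT.node 4803 (BT.leaf cJ4803) (BT.leaf cJ4804)) (BT.leaf cJ4805)) (BT.node 4806 (BT.leaf cJ4806) (BT.leaf cJ4807)))))) (BT.node 4827 (BT.node 4817 (BT.node 4812 (BT.node 4810 (BT.node 4809 (BT.node 4808 (BT.leaf cJ4808) (BT.leaf cJ4809)) (BT.leaf cJ4810)) (BT.node 4811 (BT.leaf cJ4811) (BT.leaf cJ4812))) (BT.node 4815 (BT.node 4814 (BT.node 4813 (BT.leaf cJ4813) (BT.leaf cJ4814)) (BT.leaf cJ4815)) (BT.node 4816 (BT.leaf cJ4816) (BT.leaf cJ4817)))) (BT.node 4822 (BT.node 4820 (BT.node 4819 (BT.node 4818 (BT.leaf cJ4818) (BT.leaf cJ4819)) (BT.leaf cJ4820)) (BT.node 4821 (BT.leaf cJ4821) (BT.leaf cJ4822)))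 (BT.node 4825 (BT.node 4824 (BT.node 4823 (BT.leaf cJ4823) (BT.leaf cJ4824)) (BT.leaf cJ4825)) (BT.node 4826 (BT.leaf cJ4826) (BT.leaf cJ4827))))) (BT.node 4837 (BT.node 4832 (BT.node 4830 (BT.node 4829 (BT.node 4828 (BT.leaf cJ4828) (BT.leaf cJ4829)) (BT.leaf cJ4830)) (BT.node 4831 (BT.leaf cJ4831) (BT.leaf cJ4832))) (BT.node 4835 (BT.node 4834 (BT.node 4833 (BT.leaf cJ4833) (BT.leaf cJ4834)) (BT.leaf cJ4835)) (BT.node 4836 (BT.leaf cJ4836) (BT.leaf cJ4837)))) (BT.node 4842 (BT.node 4840 (BT.node 4839 (BT.node 4838 (BT.leaf cJ4838) (BT.leaf cJ4839)) (BT.leaf cJ4840)) (BT.node 4841 (BT.leaf cJ4841) (BT.leaf cJ4842))) (BT.node 4845 (BT.node 4844 (BT.node 4843 (BT.leaf cJ4843) (BT.leaf cJ4844)) (BT.leaf cJ4845)) (BT.node 4846 (BT.leaf cJ4846) (BT.leaf cJ4847))))))))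
noncomputable def colJT_30 : BT ℕ := (BT.node 4928 (BT.node 4888 (BT.node 4868 (BT.node 4858 (BT.node 4853 (BT.node 4850 (BT.node 4849 (BT.node 4848 (BT.leaf cJ4848) (BT.leaf cJ4849)) (BT.leaf cJ4850)) (BT.node 4852 (BT.node 4851 (BT.leaf cJ4851) (BT.leaf cJ4852)) (BT.leaf cJ4853))) (BT.node 4856 (BT.node 4855 (BT.node 4854 (BT.leaf cJ4854) (BT.leaf cJ4855)) (BT.leaf cJ4856)) (BT.node 4857 (BT.leaf cJ4857) (BT.leaf cJ4858)))) (BT.node 4863 (BT.node 4861 (BT.node 4860 (BT.node 4859 (BT.leaf cJ4859) (BT.leaf cJ4860)) (BT.leaf cJ4861)) (BT.node 4862 (BT.leaf cJ4862) (BT.leaf cJ4863))) (BT.node 4866 (BT.node 4865 (BT.node 4864 (BT.leaf cJ4864) (BT.leaf cJ4865)) (BT.leaf cJ4866)) (BT.node 4867 (BT.leaf cJ4867) (BT.leaf cJ4868))))) (BT.node 4878 (BT.node 4873 (BT.node 4871 (BT.node 4870 (BT.node 4869 (BT.leaf cJ4869) (BT.leaf cJ4870)) (BT.leaf cJ4871)) (BT.node 4872 (BT.leaf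 cJ4872) (BT.leaf cJ4873))) (BT.node 4876 (BT.node 4875 (BT.node 4874 (BT.leaf cJ4874) (BT.leaf cJ4875)) (BT.leaf cJ4876)) (BT.node 4877 (BT.leaf cJ4877) (BT.leaf cJ4878)))) (BT.node 4883 (BT.node 4881 (BT.node 4880 (BT.node 4879 (BT.leaf cJ4879) (BT.leaf cJ4880)) (BT.leaf cJ4881)) (BT.node 4882 (BT.leaf cJ4882) (BT.leaf cJ4883))) (BT.node 4886 (BT.node 4885 (BT.node 4884 (BT.leaf cJ4884) (BT.leaf cJ4885)) (BT.leaf cJ4886)) (BT.node 4887 (BT.leaf cJ4887) (BT.leaf cJ4888)))))) (BT.node 4908 (BT.node 4898 (BT.node 4893 (BT.node 4891 (BT.node 4890 (BT.node 4889 (BT.leaf cJ4889) (BT.leaf cJ4890)) (BT.leaf cJ4891)) (BT.node 4892 (BT.leaf cJ4892) (BT.leaf cJ4893))) (BT.node 4896 (BT.node 4895 (BT.node 4894 (BT.leaf cJ4894) (BT.leaf cJ4895)) (BT.leaf cJ4896)) (BT.node 4897 (BT.leaf cJ4897) (BT.leaf cJ4898)))) (BT.node 4903 (BT.node 4901 (BT.node 4900 (BT.node 4899 (BT.leaf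 cJ4899) (BT.leaf cJ4900)) (BT.leaf cJ4901)) (BT.node 4902 (BT.leaf cJ4902) (BT.leaf cJ4903))) (BT.node 4906 (BT.node 4905 (BT.node 4904 (BT.leaf cJ4904) (BT.leaf cJ4905)) (BT.leaf cJ4906)) (BT.node 4907 (BT.leaf cJ4907) (BT.leaf cJ4908))))) (BT.node 4918 (BT.node 4913 (BT.node 4911 (BT.node 4910 (BT.node 4909 (BT.leaf cJ4909) (BT.leaf cJ4910)) (BT.leaf cJ4911)) (BT.node 4912 (BT.leaf cJ4912) (BT.leaf cJ4913))) (BT.node 4916 (BT.node 4915 (BT.node 4914 (BT.leaf cJ4914) (BT.leaf cJ4915)) (BT.leaf cJ4916)) (BT.node 4917 (BT.leaf cJ4917) (BT.leaf cJ4918)))) (BT.node 4923 (BT.node 4921 (BT.node 4920 (BT.node 4919 (BT.leaf cJ4919) (BT.leaf cJ4920)) (BT.leaf cJ4921)) (BT.node 4922 (BT.leaf cJ4922) (BT.leaf cJ4923))) (BT.node 4926 (BT.node 4925 (BT.node 4924 (BT.leaf cJ4924) (BT.leaf cJ4925)) (BT.leaf cJ4926)) (BT.node 4927 (BT.leaf cJ4927) (BT.leaf cJ4928))))))) (BT.node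 4969 (BT.node 4949 (BT.node 4939 (BT.node 4934 (BT.node 4931 (BT.node 4930 (BT.node 4929 (BT.leaf cJ4929) (BT.leaf cJ4930)) (BT.leaf cJ4931)) (BT.node 4933 (BT.node 4932 (BT.leaf cJ4932) (BT.leaf cJ4933)) (BT.leaf cJ4934))) (BT.node 4937 (BT.node 4936 (BT.node 4935 (BT.leaf cJ4935) (BT.leaf cJ4936)) (BT.leaf cJ4937)) (BT.node 4938 (BT.leaf cJ4938) (BT.leaf cJ4939)))) (BT.node 4944 (BT.node 4942 (BT.node 4941 (BT.node 4940 (BT.leaf cJ4940) (BT.leaf cJ4941)) (BT.leaf cJ4942)) (BT.node 4943 (BT.leaf cJ4943) (BT.leaf cJ4944))) (BT.node 4947 (BT.node 4946 (BT.node 4945 (BT.leaf cJ4945) (BT.leaf cJ4946)) (BT.leaf cJ4947)) (BT.node 4948 (BT.leaf cJ4948) (BT.leaf cJ4949))))) (BT.node 4959 (BT.node 4954 (BT.node 4952 (BT.node 4951 (BT.node 4950 (BT.leaf cJ4950) (BT.leaf cJ4951)) (BT.leaf cJ4952)) (BT.node 4953 (BT.leaf cJ4953) (BT.leaf cJ4954))) (BT.node 4957 (BT.node 4956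 (BT.node 4955 (BT.leaf cJ4955) (BT.leaf cJ4956)) (BT.leaf cJ4957)) (BT.node 4958 (BT.leaf cJ4958) (BT.leaf cJ4959)))) (BT.node 4964 (BT.node 4962 (BT.node 4961 (BT.node 4960 (BT.leaf cJ4960) (BT.leaf cJ4961)) (BT.leaf cJ4962)) (BT.node 4963 (BT.leaf cJ4963) (BT.leaf cJ4964))) (BT.node 4967 (BT.node 4966 (BT.node 4965 (BT.leaf cJ4965) (BT.leaf cJ4966)) (BT.leaf cJ4967)) (BT.node 4968 (BT.leaf cJ4968) (BT.leaf cJ4969)))))) (BT.node 4989 (BT.node 4979 (BT.node 4974 (BT.node 4972 (BT.node 4971 (BT.node 4970 (BT.leaf cJ4970) (BT.leaf cJ4971)) (BT.leaf cJ4972)) (BT.node 4973 (BT.leaf cJ4973) (BT.leaf cJ4974))) (BT.node 4977 (BT.node 4976 (BT.node 4975 (BT.leaf cJ4975) (BT.leaf cJ4976)) (BT.leaf cJ4977)) (BT.node 4978 (BT.leaf cJ4978) (BT.leaf cJ4979)))) (BT.node 4984 (BT.node 4982 (BT.node 4981 (BT.node 4980 (BT.leaf cJ4980) (BT.leaf cJ4981)) (BT.leaf cJ4982)) (BT.node 4983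 (BT.leaf cJ4983) (BT.leaf cJ4984))) (BT.node 4987 (BT.node 4986 (BT.node 4985 (BT.leaf cJ4985) (BT.leaf cJ4986)) (BT.leaf cJ4987)) (BT.node 4988 (BT.leaf cJ4988) (BT.leaf cJ4989))))) (BT.node 4999 (BT.node 4994 (BT.node 4992 (BT.node 4991 (BT.node 4990 (BT.leaf cJ4990) (BT.leaf cJ4991)) (BT.leaf cJ4992)) (BT.node 4993 (BT.leaf cJ4993) (BT.leaf cJ4994))) (BT.node 4997 (BT.node 4996 (BT.node 4995 (BT.leaf cJ4995) (BT.leaf cJ4996)) (BT.leaf cJ4997)) (BT.node 4998 (BT.leaf cJ4998) (BT.leaf cJ4999)))) (BT.node 5004 (BT.node 5002 (BT.node 5001 (BT.node 5000 (BT.leaf cJ5000) (BT.leaf cJ5001)) (BT.leaf cJ5002)) (BT.node 5003 (BT.leaf cJ5003) (BT.leaf cJ5004))) (BT.node 5007 (BT.node 5006 (BT.node 5005 (BT.leaf cJ5005) (BT.leaf cJ5006)) (BT.leaf cJ5007)) (BT.node 5008 (BT.leaf cJ5008) (BT.leaf cJ5009))))))))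
noncomputable def colJT_31 : BT ℕ := (BT.node 5090 (BT.node 5050 (BT.node 5030 (BT.node 5020 (BT.node 5015 (BT.node 5012 (BT.node 5011 (BT.node 5010 (BT.leaf cJ5010) (BT.leaf cJ5011)) (BT.leaf cJ5012)) (BT.node 5014 (BT.node 5013 (BT.leaf cJ5013) (BT.leaf cJ5014)) (BT.leaf cJ5015))) (BT.node 5018 (BT.node 5017 (BT.node 5016 (BT.leaf cJ5016) (BT.leaf cJ5017)) (BT.leaf cJ5018)) (BT.node 5019 (BT.leaf cJ5019) (BT.leaf cJ5020)))) (BT.node 5025 (BT.node 5023 (BT.node 5022 (BT.node 5021 (BT.leaf cJ5021) (BT.leaf cJ5022)) (BT.leaf cJ5023)) (BT.node 5024 (BT.leaf cJ5024) (BT.leaf cJ5025))) (BT.node 5028 (BT.node 5027 (BT.node 5026 (BT.leaf cJ5026) (BT.leaf cJ5027)) (BT.leaf cJ5028)) (BT.node 5029 (BT.leaf cJ5029) (BT.leaf cJ5030))))) (BT.node 5040 (BT.node 5035 (BT.node 5033 (BT.node 5032 (BT.node 5031 (BT.leaf cJ5031) (BT.leaf cJ5032)) (BT.leaf cJ5033)) (BT.node 5034 (BT.leaf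 cJ5034) (BT.leaf cJ5035))) (BT.node 5038 (BT.node 5037 (BT.node 5036 (BT.leaf cJ5036) (BT.leaf cJ5037)) (BT.leaf cJ5038)) (BT.node 5039 (BT.leaf cJ5039) (BT.leaf cJ5040)))) (BT.node 5045 (BT.node 5043 (BT.node 5042 (BT.node 5041 (BT.leaf cJ5041) (BT.leaf cJ5042)) (BT.leaf cJ5043)) (BT.node 5044 (BT.leaf cJ5044) (BT.leaf cJ5045))) (BT.node 5048 (BT.node 5047 (BT.node 5046 (BT.leaf cJ5046) (BT.leaf cJ5047)) (BT.leaf cJ5048)) (BT.node 5049 (BT.leaf cJ5049) (BT.leaf cJ5050)))))) (BT.node 5070 (BT.node 5060 (BT.node 5055 (BT.node 5053 (BT.node 5052 (BT.node 5051 (BT.leaf cJ5051) (BT.leaf cJ5052)) (BT.leaf cJ5053)) (BT.node 5054 (BT.leaf cJ5054) (BT.leaf cJ5055))) (BT.node 5058 (BT.node 5057 (BT.node 5056 (BT.leaf cJ5056) (BT.leaf cJ5057)) (BT.leaf cJ5058)) (BT.node 5059 (BT.leaf cJ5059) (BT.leaf cJ5060)))) (BT.node 5065 (BT.node 5063 (BT.node 5062 (BT.node 5061 (BT.leaf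 cJ5061) (BT.leaf cJ5062)) (BT.leaf cJ5063)) (BT.node 5064 (BT.leaf cJ5064) (BT.leaf cJ5065))) (BT.node 5068 (BT.node 5067 (BT.node 5066 (BT.leaf cJ5066) (BT.leaf cJ5067)) (BT.leaf cJ5068)) (BT.node 5069 (BT.leaf cJ5069) (BT.leaf cJ5070))))) (BT.node 5080 (BT.node 5075 (BT.node 5073 (BT.node 5072 (BT.node 5071 (BT.leaf cJ5071) (BT.leaf cJ5072)) (BT.leaf cJ5073)) (BT.node 5074 (BT.leaf cJ5074) (BT.leaf cJ5075))) (BT.node 5078 (BT.node 5077 (BT.node 5076 (BT.leaf cJ5076) (BT.leaf cJ5077)) (BT.leaf cJ5078)) (BT.node 5079 (BT.leaf cJ5079) (BT.leaf cJ5080)))) (BT.node 5085 (BT.node 5083 (BT.node 5082 (BT.node 5081 (BT.leaf cJ5081) (BT.leaf cJ5082)) (BT.leaf cJ5083)) (BT.node 5084 (BT.leaf cJ5084) (BT.leaf cJ5085))) (BT.node 5088 (BT.node 5087 (BT.node 5086 (BT.leaf cJ5086) (BT.leaf cJ5087)) (BT.leaf cJ5088)) (BT.node 5089 (BT.leaf cJ5089) (BT.leaf cJ5090))))))) (BT.node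 5130 (BT.node 5110 (BT.node 5100 (BT.node 5095 (BT.node 5093 (BT.node 5092 (BT.node 5091 (BT.leaf cJ5091) (BT.leaf cJ5092)) (BT.leaf cJ5093)) (BT.node 5094 (BT.leaf cJ5094) (BT.leaf cJ5095))) (BT.node 5098 (BT.node 5097 (BT.node 5096 (BT.leaf cJ5096) (BT.leaf cJ5097)) (BT.leaf cJ5098)) (BT.node 5099 (BT.leaf cJ5099) (BT.leaf cJ5100)))) (BT.node 5105 (BT.node 5103 (BT.node 5102 (BT.node 5101 (BT.leaf cJ5101) (BT.leaf cJ5102)) (BT.leaf cJ5103)) (BT.node 5104 (BT.leaf cJ5104) (BT.leaf cJ5105))) (BT.node 5108 (BT.node 5107 (BT.node 5106 (BT.leaf cJ5106) (BT.leaf cJ5107)) (BT.leaf cJ5108)) (BT.node 5109 (BT.leaf cJ5109) (BT.leaf cJ5110))))) (BT.node 5120 (BT.node 5115 (BT.node 5113 (BT.node 5112 (BT.node 5111 (BT.leaf cJ5111) (BT.leaf cJ5112)) (BT.leaf cJ5113)) (BT.node 5114 (BT.leaf cJ5114) (BT.leaf cJ5115))) (BT.node 5118 (BT.node 5117 (BT.node 5116 (BT.leaf cJ5116) (BT.leaf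 cJ5117)) (BT.leaf cJ5118)) (BT.node 5119 (BT.leaf cJ5119) (BT.leaf cJ5120)))) (BT.node 5125 (BT.node 5123 (BT.node 5122 (BT.node 5121 (BT.leaf cJ5121) (BT.leaf cJ5122)) (BT.leaf cJ5123)) (BT.node 5124 (BT.leaf cJ5124) (BT.leaf cJ5125))) (BT.node 5128 (BT.node 5127 (BT.node 5126 (BT.leaf cJ5126) (BT.leaf cJ5127)) (BT.leaf cJ5128)) (BT.node 5129 (BT.leaf cJ5129) (BT.leaf cJ5130)))))) (BT.node 5150 (BT.node 5140 (BT.node 5135 (BT.node 5133 (BT.node 5132 (BT.node 5131 (BT.leaf cJ5131) (BT.leaf cJ5132)) (BT.leaf cJ5133)) (BT.node 5134 (BT.leaf cJ5134) (BT.leaf cJ5135))) (BT.node 5138 (BT.node 5137 (BT.node 5136 (BT.leaf cJ5136) (BT.leaf cJ5137)) (BT.leaf cJ5138)) (BT.node 5139 (BT.leaf cJ5139) (BT.leaf cJ5140)))) (BT.node 5145 (BT.node 5143 (BT.node 5142 (BT.node 5141 (BT.leaf cJ5141) (BT.leaf cJ5142)) (BT.leaf cJ5143)) (BT.node 5144 (BT.leaf cJ5144) (BT.leaf cJ5145)))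 (BT.node 5148 (BT.node 5147 (BT.node 5146 (BT.leaf cJ5146) (BT.leaf cJ5147)) (BT.leaf cJ5148)) (BT.node 5149 (BT.leaf cJ5149) (BT.leaf cJ5150))))) (BT.node 5160 (BT.node 5155 (BT.node 5153 (BT.node 5152 (BT.node 5151 (BT.leaf cJ5151) (BT.leaf cJ5152)) (BT.leaf cJ5153)) (BT.node 5154 (BT.leaf cJ5154) (BT.leaf cJ5155))) (BT.node 5158 (BT.node 5157 (BT.node 5156 (BT.leaf cJ5156) (BT.leaf cJ5157)) (BT.leaf cJ5158)) (BT.node 5159 (BT.leaf cJ5159) (BT.leaf cJ5160)))) (BT.node 5165 (BT.node 5163 (BT.node 5162 (BT.node 5161 (BT.leaf cJ5161) (BT.leaf cJ5162)) (BT.leaf cJ5163)) (BT.node 5164 (BT.leaf cJ5164) (BT.leaf cJ5165))) (BT.node 5168 (BT.node 5167 (BT.node 5166 (BT.leaf cJ5166) (BT.leaf cJ5167)) (BT.leaf cJ5168)) (BT.node 5169 (BT.leaf cJ5169) (BT.leaf cJ5170))))))))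
noncomputable def colJT_32 : BT ℕ := (BT.node 5251 (BT.node 5211 (BT.node 5191 (BT.node 5181 (BT.node 5176 (BT.node 5173 (BT.node 5172 (BT.node 5171 (BT.leaf cJ5171) (BT.leaf cJ5172)) (BT.leaf cJ5173)) (BT.node 5175 (BT.node 5174 (BT.leaf cJ5174) (BT.leaf cJ5175)) (BT.leaf cJ5176))) (BT.node 5179 (BT.node 5178 (BT.node 5177 (BT.leaf cJ5177) (BT.leaf cJ5178)) (BT.leaf cJ5179)) (BT.node 5180 (BT.leaf cJ5180) (BT.leaf cJ5181)))) (BT.node 5186 (BT.node 5184 (BT.node 5183 (BT.node 5182 (BT.leaf cJ5182) (BT.leaf cJ5183)) (BT.leaf cJ5184)) (BT.node 5185 (BT.leaf cJ5185) (BT.leaf cJ5186))) (BT.node 5189 (BT.node 5188 (BT.node 5187 (BT.leaf cJ5187) (BT.leaf cJ5188)) (BT.leaf cJ5189)) (BT.node 5190 (BT.leaf cJ5190) (BT.leaf cJ5191))))) (BT.node 5201 (BT.node 5196 (BT.node 5194 (BT.node 5193 (BT.node 5192 (BT.leaf cJ5192) (BT.leaf cJ5193)) (BT.leaf cJ5194)) (BT.node 5195 (BT.leaf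 cJ5195) (BT.leaf cJ5196))) (BT.node 5199 (BT.node 5198 (BT.node 5197 (BT.leaf cJ5197) (BT.leaf cJ5198)) (BT.leaf cJ5199)) (BT.node 5200 (BT.leaf cJ5200) (BT.leaf cJ5201)))) (BT.node 5206 (BT.node 5204 (BT.node 5203 (BT.node 5202 (BT.leaf cJ5202) (BT.leaf cJ5203)) (BT.leaf cJ5204)) (BT.node 5205 (BT.leaf cJ5205) (BT.leaf cJ5206))) (BT.node 5209 (BT.node 5208 (BT.node 5207 (BT.leaf cJ5207) (BT.leaf cJ5208)) (BT.leaf cJ5209)) (BT.node 5210 (BT.leaf cJ5210) (BT.leaf cJ5211)))))) (BT.node 5231 (BT.node 5221 (BT.node 5216 (BT.node 5214 (BT.node 5213 (BT.node 5212 (BT.leaf cJ5212) (BT.leaf cJ5213)) (BT.leaf cJ5214)) (BT.node 5215 (BT.leaf cJ5215) (BT.leaf cJ5216))) (BT.node 5219 (BT.node 5218 (BT.node 5217 (BT.leaf cJ5217) (BT.leaf cJ5218)) (BT.leaf cJ5219)) (BT.node 5220 (BT.leaf cJ5220) (BT.leaf cJ5221)))) (BT.node 5226 (BT.node 5224 (BT.node 5223 (BT.node 5222 (BT.leaf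 cJ5222) (BT.leaf cJ5223)) (BT.leaf cJ5224)) (BT.node 5225 (BT.leaf cJ5225) (BT.leaf cJ5226))) (BT.node 5229 (BT.node 5228 (BT.node 5227 (BT.leaf cJ5227) (BT.leaf cJ5228)) (BT.leaf cJ5229)) (BT.node 5230 (BT.leaf cJ5230) (BT.leaf cJ5231))))) (BT.node 5241 (BT.node 5236 (BT.node 5234 (BT.node 5233 (BT.node 5232 (BT.leaf cJ5232) (BT.leaf cJ5233)) (BT.leaf cJ5234)) (BT.node 5235 (BT.leaf cJ5235) (BT.leaf cJ5236))) (BT.node 5239 (BT.node 5238 (BT.node 5237 (BT.leaf cJ5237) (BT.leaf cJ5238)) (BT.leaf cJ5239)) (BT.node 5240 (BT.leaf cJ5240) (BT.leaf cJ5241)))) (BT.node 5246 (BT.node 5244 (BT.node 5243 (BT.node 5242 (BT.leaf cJ5242) (BT.leaf cJ5243)) (BT.leaf cJ5244)) (BT.node 5245 (BT.leaf cJ5245) (BT.leaf cJ5246))) (BT.node 5249 (BT.node 5248 (BT.node 5247 (BT.leaf cJ5247) (BT.leaf cJ5248)) (BT.leaf cJ5249)) (BT.node 5250 (BT.leaf cJ5250) (BT.leaf cJ5251))))))) (BT.node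 5292 (BT.node 5272 (BT.node 5262 (BT.node 5257 (BT.node 5254 (BT.node 5253 (BT.node 5252 (BT.leaf cJ5252) (BT.leaf cJ5253)) (BT.leaf cJ5254)) (BT.node 5256 (BT.node 5255 (BT.leaf cJ5255) (BT.leaf cJ5256)) (BT.leaf cJ5257))) (BT.node 5260 (BT.node 5259 (BT.node 5258 (BT.leaf cJ5258) (BT.leaf cJ5259)) (BT.leaf cJ5260)) (BT.node 5261 (BT.leaf cJ5261) (BT.leaf cJ5262)))) (BT.node 5267 (BT.node 5265 (BT.node 5264 (BT.node 5263 (BT.leaf cJ5263) (BT.leaf cJ5264)) (BT.leaf cJ5265)) (BT.node 5266 (BT.leaf cJ5266) (BT.leaf cJ5267))) (BT.node 5270 (BT.node 5269 (BT.node 5268 (BT.leaf cJ5268) (BT.leaf cJ5269)) (BT.leaf cJ5270)) (BT.node 5271 (BT.leaf cJ5271) (BT.leaf cJ5272))))) (BT.node 5282 (BT.node 5277 (BT.node 5275 (BT.node 5274 (BT.node 5273 (BT.leaf cJ5273) (BT.leaf cJ5274)) (BT.leaf cJ5275)) (BT.node 5276 (BT.leaf cJ5276) (BT.leaf cJ5277))) (BT.node 5280 (BT.node 5279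 (BT.node 5278 (BT.leaf cJ5278) (BT.leaf cJ5279)) (BT.leaf cJ5280)) (BT.node 5281 (BT.leaf cJ5281) (BT.leaf cJ5282)))) (BT.node 5287 (BT.node 5285 (BT.node 5284 (BT.node 5283 (BT.leaf cJ5283) (BT.leaf cJ5284)) (BT.leaf cJ5285)) (BT.node 5286 (BT.leaf cJ5286) (BT.leaf cJ5287))) (BT.node 5290 (BT.node 5289 (BT.node 5288 (BT.leaf cJ5288) (BT.leaf cJ5289)) (BT.leaf cJ5290)) (BT.node 5291 (BT.leaf cJ5291) (BT.leaf cJ5292)))))) (BT.node 5312 (BT.node 5302 (BT.node 5297 (BT.node 5295 (BT.node 5294 (BT.node 5293 (BT.leaf cJ5293) (BT.leaf cJ5294)) (BT.leaf cJ5295)) (BT.node 5296 (BT.leaf cJ5296) (BT.leaf cJ5297))) (BT.node 5300 (BT.node 5299 (BT.node 5298 (BT.leaf cJ5298) (BT.leaf cJ5299)) (BT.leaf cJ5300)) (BT.node 5301 (BT.leaf cJ5301) (BT.leaf cJ5302)))) (BT.node 5307 (BT.node 5305 (BT.node 5304 (BT.node 5303 (BT.leaf cJ5303) (BT.leaf cJ5304)) (BT.leaf cJ5305)) (BT.node 5306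 (BT.leaf cJ5306) (BT.leaf cJ5307))) (BT.node 5310 (BT.node 5309 (BT.node 5308 (BT.leaf cJ5308) (BT.leaf cJ5309)) (BT.leaf cJ5310)) (BT.node 5311 (BT.leaf cJ5311) (BT.leaf cJ5312))))) (BT.node 5322 (BT.node 5317 (BT.node 5315 (BT.node 5314 (BT.node 5313 (BT.leaf cJ5313) (BT.leaf cJ5314)) (BT.leaf cJ5315)) (BT.node 5316 (BT.leaf cJ5316) (BT.leaf cJ5317))) (BT.node 5320 (BT.node 5319 (BT.node 5318 (BT.leaf cJ5318) (BT.leaf cJ5319)) (BT.leaf cJ5320)) (BT.node 5321 (BT.leaf cJ5321) (BT.leaf cJ5322)))) (BT.node 5327 (BT.node 5325 (BT.node 5324 (BT.node 5323 (BT.leaf cJ5323) (BT.leaf cJ5324)) (BT.leaf cJ5325)) (BT.node 5326 (BT.leaf cJ5326) (BT.leaf cJ5327))) (BT.node 5330 (BT.node 5329 (BT.node 5328 (BT.leaf cJ5328) (BT.leaf cJ5329)) (BT.leaf cJ5330)) (BT.node 5331 (BT.leaf cJ5331) (BT.leaf cJ5332))))))))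
noncomputable def colJT_33 : BT ℕ := (BT.node 5413 (BT.node 5373 (BT.node 5353 (BT.node 5343 (BT.node 5338 (BT.node 5335 (BT.node 5334 (BT.node 5333 (BT.leaf cJ5333) (BT.leaf cJ5334)) (BT.leaf cJ5335)) (BT.node 5337 (BT.node 5336 (BT.leaf cJ5336) (BT.leaf cJ5337)) (BT.leaf cJ5338))) (BT.node 5341 (BT.node 5340 (BT.node 5339 (BT.leaf cJ5339) (BT.leaf cJ5340)) (BT.leaf cJ5341)) (BT.node 5342 (BT.leaf cJ5342) (BT.leaf cJ5343)))) (BT.node 5348 (BT.node 5346 (BT.node 5345 (BT.node 5344 (BT.leaf cJ5344) (BT.leaf cJ5345)) (BT.leaf cJ5346)) (BT.node 5347 (BT.leaf cJ5347) (BT.leaf cJ5348))) (BT.node 5351 (BT.node 5350 (BT.node 5349 (BT.leaf cJ5349) (BT.leaf cJ5350)) (BT.leaf cJ5351)) (BT.node 5352 (BT.leaf cJ5352) (BT.leaf cJ5353))))) (BT.node 5363 (BT.node 5358 (BT.node 5356 (BT.node 5355 (BT.node 5354 (BT.leaf cJ5354) (BT.leaf cJ5355)) (BT.leaf cJ5356)) (BT.node 5357 (BT.leaf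 cJ5357) (BT.leaf cJ5358))) (BT.node 5361 (BT.node 5360 (BT.node 5359 (BT.leaf cJ5359) (BT.leaf cJ5360)) (BT.leaf cJ5361)) (BT.node 5362 (BT.leaf cJ5362) (BT.leaf cJ5363)))) (BT.node 5368 (BT.node 5366 (BT.node 5365 (BT.node 5364 (BT.leaf cJ5364) (BT.leaf cJ5365)) (BT.leaf cJ5366)) (BT.node 5367 (BT.leaf cJ5367) (BT.leaf cJ5368))) (BT.node 5371 (BT.node 5370 (BT.node 5369 (BT.leaf cJ5369) (BT.leaf cJ5370)) (BT.leaf cJ5371)) (BT.node 5372 (BT.leaf cJ5372) (BT.leaf cJ5373)))))) (BT.node 5393 (BT.node 5383 (BT.node 5378 (BT.node 5376 (BT.node 5375 (BT.node 5374 (BT.leaf cJ5374) (BT.leaf cJ5375)) (BT.leaf cJ5376)) (BT.node 5377 (BT.leaf cJ5377) (BT.leaf cJ5378))) (BT.node 5381 (BT.node 5380 (BT.node 5379 (BT.leaf cJ5379) (BT.leaf cJ5380)) (BT.leaf cJ5381)) (BT.node 5382 (BT.leaf cJ5382) (BT.leaf cJ5383)))) (BT.node 5388 (BT.node 5386 (BT.node 5385 (BT.node 5384 (BT.leaf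 cJ5384) (BT.leaf cJ5385)) (BT.leaf cJ5386)) (BT.node 5387 (BT.leaf cJ5387) (BT.leaf cJ5388))) (BT.node 5391 (BT.node 5390 (BT.node 5389 (BT.leaf cJ5389) (BT.leaf cJ5390)) (BT.leaf cJ5391)) (BT.node 5392 (BT.leaf cJ5392) (BT.leaf cJ5393))))) (BT.node 5403 (BT.node 5398 (BT.node 5396 (BT.node 5395 (BT.node 5394 (BT.leaf cJ5394) (BT.leaf cJ5395)) (BT.leaf cJ5396)) (BT.node 5397 (BT.leaf cJ5397) (BT.leaf cJ5398))) (BT.node 5401 (BT.node 5400 (BT.node 5399 (BT.leaf cJ5399) (BT.leaf cJ5400)) (BT.leaf cJ5401)) (BT.node 5402 (BT.leaf cJ5402) (BT.leaf cJ5403)))) (BT.node 5408 (BT.node 5406 (BT.node 5405 (BT.node 5404 (BT.leaf cJ5404) (BT.leaf cJ5405)) (BT.leaf cJ5406)) (BT.node 5407 (BT.leaf cJ5407) (BT.leaf cJ5408))) (BT.node 5411 (BT.node 5410 (BT.node 5409 (BT.leaf cJ5409) (BT.leaf cJ5410)) (BT.leaf cJ5411)) (BT.node 5412 (BT.leaf cJ5412) (BT.leaf cJ5413))))))) (BT.node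 5454 (BT.node 5434 (BT.node 5424 (BT.node 5419 (BT.node 5416 (BT.node 5415 (BT.node 5414 (BT.leaf cJ5414) (BT.leaf cJ5415)) (BT.leaf cJ5416)) (BT.node 5418 (BT.node 5417 (BT.leaf cJ5417) (BT.leaf cJ5418)) (BT.leaf cJ5419))) (BT.node 5422 (BT.node 5421 (BT.node 5420 (BT.leaf cJ5420) (BT.leaf cJ5421)) (BT.leaf cJ5422)) (BT.node 5423 (BT.leaf cJ5423) (BT.leaf cJ5424)))) (BT.node 5429 (BT.node 5427 (BT.node 5426 (BT.node 5425 (BT.leaf cJ5425) (BT.leaf cJ5426)) (BT.leaf cJ5427)) (BT.node 5428 (BT.leaf cJ5428) (BT.leaf cJ5429))) (BT.node 5432 (BT.node 5431 (BT.node 5430 (BT.leaf cJ5430) (BT.leaf cJ5431)) (BT.leaf cJ5432)) (BT.node 5433 (BT.leaf cJ5433) (BT.leaf cJ5434))))) (BT.node 5444 (BT.node 5439 (BT.node 5437 (BT.node 5436 (BT.node 5435 (BT.leaf cJ5435) (BT.leaf cJ5436)) (BT.leaf cJ5437)) (BT.node 5438 (BT.leaf cJ5438) (BT.leaf cJ5439))) (BT.node 5442 (BT.node 5441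 (BT.node 5440 (BT.leaf cJ5440) (BT.leaf cJ5441)) (BT.leaf cJ5442)) (BT.node 5443 (BT.leaf cJ5443) (BT.leaf cJ5444)))) (BT.node 5449 (BT.node 5447 (BT.node 5446 (BT.node 5445 (BT.leaf cJ5445) (BT.leaf cJ5446)) (BT.leaf cJ5447)) (BT.node 5448 (BT.leaf cJ5448) (BT.leaf cJ5449))) (BT.node 5452 (BT.node 5451 (BT.node 5450 (BT.leaf cJ5450) (BT.leaf cJ5451)) (BT.leaf cJ5452)) (BT.node 5453 (BT.leaf cJ5453) (BT.leaf cJ5454)))))) (BT.node 5474 (BT.node 5464 (BT.node 5459 (BT.node 5457 (BT.node 5456 (BT.node 5455 (BT.leaf cJ5455) (BT.leaf cJ5456)) (BT.leaf cJ5457)) (BT.node 5458 (BT.leaf cJ5458) (BT.leaf cJ5459))) (BT.node 5462 (BT.node 5461 (BT.node 5460 (BT.leaf cJ5460) (BT.leaf cJ5461)) (BT.leaf cJ5462)) (BT.node 5463 (BT.leaf cJ5463) (BT.leaf cJ5464)))) (BT.node 5469 (BT.node 5467 (BT.node 5466 (BT.node 5465 (BT.leaf cJ5465) (BT.leaf cJ5466)) (BT.leaf cJ5467)) (BT.node 5468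 (BT.leaf cJ5468) (BT.leaf cJ5469))) (BT.node 5472 (BT.node 5471 (BT.node 5470 (BT.leaf cJ5470) (BT.leaf cJ5471)) (BT.leaf cJ5472)) (BT.node 5473 (BT.leaf cJ5473) (BT.leaf cJ5474))))) (BT.node 5484 (BT.node 5479 (BT.node 5477 (BT.node 5476 (BT.node 5475 (BT.leaf cJ5475) (BT.leaf cJ5476)) (BT.leaf cJ5477)) (BT.node 5478 (BT.leaf cJ5478) (BT.leaf cJ5479))) (BT.node 5482 (BT.node 5481 (BT.node 5480 (BT.leaf cJ5480) (BT.leaf cJ5481)) (BT.leaf cJ5482)) (BT.node 5483 (BT.leaf cJ5483) (BT.leaf cJ5484)))) (BT.node 5489 (BT.node 5487 (BT.node 5486 (BT.node 5485 (BT.leaf cJ5485) (BT.leaf cJ5486)) (BT.leaf cJ5487)) (BT.node 5488 (BT.leaf cJ5488) (BT.leaf cJ5489))) (BT.node 5492 (BT.node 5491 (BT.node 5490 (BT.leaf cJ5490) (BT.leaf cJ5491)) (BT.leaf cJ5492)) (BT.node 5493 (BT.leaf cJ5493) (BT.leaf cJ5494))))))))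
noncomputable def colJT_34 : BT ℕ := (BT.node 5575 (BT.node 5535 (BT.node 5515 (BT.node 5505 (BT.node 5500 (BT.node 5497 (BT.node 5496 (BT.node 5495 (BT.leaf cJ5495) (BT.leaf cJ5496)) (BT.leaf cJ5497)) (BT.node 5499 (BT.node 5498 (BT.leaf cJ5498) (BT.leaf cJ5499)) (BT.leaf cJ5500))) (BT.node 5503 (BT.node 5502 (BT.node 5501 (BT.leaf cJ5501) (BT.leaf cJ5502)) (BT.leaf cJ5503)) (BT.node 5504 (BT.leaf cJ5504) (BT.leaf cJ5505)))) (BT.node 5510 (BT.node 5508 (BT.node 5507 (BT.node 5506 (BT.leaf cJ5506) (BT.leaf cJ5507)) (BT.leaf cJ5508)) (BT.node 5509 (BT.leaf cJ5509) (BT.leaf cJ5510))) (BT.node 5513 (BT.node 5512 (BT.node 5511 (BT.leaf cJ5511) (BT.leaf cJ5512)) (BT.leaf cJ5513)) (BT.node 5514 (BT.leaf cJ5514) (BT.leaf cJ5515))))) (BT.node 5525 (BT.node 5520 (BT.node 5518 (BT.node 5517 (BT.node 5516 (BT.leaf cJ5516) (BT.leaf cJ5517)) (BT.leaf cJ5518)) (BT.node 5519 (BT.leaf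 cJ5519) (BT.leaf cJ5520))) (BT.node 5523 (BT.node 5522 (BT.node 5521 (BT.leaf cJ5521) (BT.leaf cJ5522)) (BT.leaf cJ5523)) (BT.node 5524 (BT.leaf cJ5524) (BT.leaf cJ5525)))) (BT.node 5530 (BT.node 5528 (BT.node 5527 (BT.node 5526 (BT.leaf cJ5526) (BT.leaf cJ5527)) (BT.leaf cJ5528)) (BT.node 5529 (BT.leaf cJ5529) (BT.leaf cJ5530))) (BT.node 5533 (BT.node 5532 (BT.node 5531 (BT.leaf cJ5531) (BT.leaf cJ5532)) (BT.leaf cJ5533)) (BT.node 5534 (BT.leaf cJ5534) (BT.leaf cJ5535)))))) (BT.node 5555 (BT.node 5545 (BT.node 5540 (BT.node 5538 (BT.node 5537 (BT.node 5536 (BT.leaf cJ5536) (BT.leaf cJ5537)) (BT.leaf cJ5538)) (BT.node 5539 (BT.leaf cJ5539) (BT.leaf cJ5540))) (BT.node 5543 (BT.node 5542 (BT.node 5541 (BT.leaf cJ5541) (BT.leaf cJ5542)) (BT.leaf cJ5543)) (BT.node 5544 (BT.leaf cJ5544) (BT.leaf cJ5545)))) (BT.node 5550 (BT.node 5548 (BT.node 5547 (BT.node 5546 (BT.leaf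 cJ5546) (BT.leaf cJ5547)) (BT.leaf cJ5548)) (BT.node 5549 (BT.leaf cJ5549) (BT.leaf cJ5550))) (BT.node 5553 (BT.node 5552 (BT.node 5551 (BT.leaf cJ5551) (BT.leaf cJ5552)) (BT.leaf cJ5553)) (BT.node 5554 (BT.leaf cJ5554) (BT.leaf cJ5555))))) (BT.node 5565 (BT.node 5560 (BT.node 5558 (BT.node 5557 (BT.node 5556 (BT.leaf cJ5556) (BT.leaf cJ5557)) (BT.leaf cJ5558)) (BT.node 5559 (BT.leaf cJ5559) (BT.leaf cJ5560))) (BT.node 5563 (BT.node 5562 (BT.node 5561 (BT.leaf cJ5561) (BT.leaf cJ5562)) (BT.leaf cJ5563)) (BT.node 5564 (BT.leaf cJ5564) (BT.leaf cJ5565)))) (BT.node 5570 (BT.node 5568 (BT.node 5567 (BT.node 5566 (BT.leaf cJ5566) (BT.leaf cJ5567)) (BT.leaf cJ5568)) (BT.node 5569 (BT.leaf cJ5569) (BT.leaf cJ5570))) (BT.node 5573 (BT.node 5572 (BT.node 5571 (BT.leaf cJ5571) (BT.leaf cJ5572)) (BT.leaf cJ5573)) (BT.node 5574 (BT.leaf cJ5574) (BT.leaf cJ5575))))))) (BT.node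 5616 (BT.node 5596 (BT.node 5586 (BT.node 5581 (BT.node 5578 (BT.node 5577 (BT.node 5576 (BT.leaf cJ5576) (BT.leaf cJ5577)) (BT.leaf cJ5578)) (BT.node 5580 (BT.node 5579 (BT.leaf cJ5579) (BT.leaf cJ5580)) (BT.leaf cJ5581))) (BT.node 5584 (BT.node 5583 (BT.node 5582 (BT.leaf cJ5582) (BT.leaf cJ5583)) (BT.leaf cJ5584)) (BT.node 5585 (BT.leaf cJ5585) (BT.leaf cJ5586)))) (BT.node 5591 (BT.node 5589 (BT.node 5588 (BT.node 5587 (BT.leaf cJ5587) (BT.leaf cJ5588)) (BT.leaf cJ5589)) (BT.node 5590 (BT.leaf cJ5590) (BT.leaf cJ5591))) (BT.node 5594 (BT.node 5593 (BT.node 5592 (BT.leaf cJ5592) (BT.leaf cJ5593)) (BT.leaf cJ5594)) (BT.node 5595 (BT.leaf cJ5595) (BT.leaf cJ5596))))) (BT.node 5606 (BT.node 5601 (BT.node 5599 (BT.node 5598 (BT.node 5597 (BT.leaf cJ5597) (BT.leaf cJ5598)) (BT.leaf cJ5599)) (BT.node 5600 (BT.leaf cJ5600) (BT.leaf cJ5601))) (BT.node 5604 (BT.node 5603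 (BT.node 5602 (BT.leaf cJ5602) (BT.leaf cJ5603)) (BT.leaf cJ5604)) (BT.node 5605 (BT.leaf cJ5605) (BT.leaf cJ5606)))) (BT.node 5611 (BT.node 5609 (BT.node 5608 (BT.node 5607 (BT.leaf cJ5607) (BT.leaf cJ5608)) (BT.leaf cJ5609)) (BT.node 5610 (BT.leaf cJ5610) (BT.leaf cJ5611))) (BT.node 5614 (BT.node 5613 (BT.node 5612 (BT.leaf cJ5612) (BT.leaf cJ5613)) (BT.leaf cJ5614)) (BT.node 5615 (BT.leaf cJ5615) (BT.leaf cJ5616)))))) (BT.node 5636 (BT.node 5626 (BT.node 5621 (BT.node 5619 (BT.node 5618 (BT.node 5617 (BT.leaf cJ5617) (BT.leaf cJ5618)) (BT.leaf cJ5619)) (BT.node 5620 (BT.leaf cJ5620) (BT.leaf cJ5621))) (BT.node 5624 (BT.node 5623 (BT.node 5622 (BT.leaf cJ5622) (BT.leaf cJ5623)) (BT.leaf cJ5624)) (BT.node 5625 (BT.leaf cJ5625) (BT.leaf cJ5626)))) (BT.node 5631 (BT.node 5629 (BT.node 5628 (BT.node 5627 (BT.leaf cJ5627) (BT.leaf cJ5628)) (BT.leaf cJ5629)) (BT.node 5630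 (BT.leaf cJ5630) (BT.leaf cJ5631))) (BT.node 5634 (BT.node 5633 (BT.node 5632 (BT.leaf cJ5632) (BT.leaf cJ5633)) (BT.leaf cJ5634)) (BT.node 5635 (BT.leaf cJ5635) (BT.leaf cJ5636))))) (BT.node 5646 (BT.node 5641 (BT.node 5639 (BT.node 5638 (BT.node 5637 (BT.leaf cJ5637) (BT.leaf cJ5638)) (BT.leaf cJ5639)) (BT.node 5640 (BT.leaf cJ5640) (BT.leaf cJ5641))) (BT.node 5644 (BT.node 5643 (BT.node 5642 (BT.leaf cJ5642) (BT.leaf cJ5643)) (BT.leaf cJ5644)) (BT.node 5645 (BT.leaf cJ5645) (BT.leaf cJ5646)))) (BT.node 5651 (BT.node 5649 (BT.node 5648 (BT.node 5647 (BT.leaf cJ5647) (BT.leaf cJ5648)) (BT.leaf cJ5649)) (BT.node 5650 (BT.leaf cJ5650) (BT.leaf cJ5651))) (BT.node 5654 (BT.node 5653 (BT.node 5652 (BT.leaf cJ5652) (BT.leaf cJ5653)) (BT.leaf cJ5654)) (BT.node 5655 (BT.leaf cJ5655) (BT.leaf cJ5656))))))))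
noncomputable def colJT_35 : BT ℕ := (BT.node 5737 (BT.node 5697 (BT.node 5677 (BT.node 5667 (BT.node 5662 (BT.node 5659 (BT.node 5658 (BT.node 5657 (BT.leaf cJ5657) (BT.leaf cJ5658)) (BT.leaf cJ5659)) (BT.node 5661 (BT.node 5660 (BT.leaf cJ5660) (BT.leaf cJ5661)) (BT.leaf cJ5662))) (BT.node 5665 (BT.node 5664 (BT.node 5663 (BT.leaf cJ5663) (BT.leaf cJ5664)) (BT.leaf cJ5665)) (BT.node 5666 (BT.leaf cJ5666) (BT.leaf cJ5667)))) (BT.node 5672 (BT.node 5670 (BT.node 5669 (BT.node 5668 (BT.leaf cJ5668) (BT.leaf cJ5669)) (BT.leaf cJ5670)) (BT.node 5671 (BT.leaf cJ5671) (BT.leaf cJ5672))) (BT.node 5675 (BT.node 5674 (BT.node 5673 (BT.leaf cJ5673) (BT.leaf cJ5674)) (BT.leaf cJ5675)) (BT.node 5676 (BT.leaf cJ5676) (BT.leaf cJ5677))))) (BT.node 5687 (BT.node 5682 (BT.node 5680 (BT.node 5679 (BT.node 5678 (BT.leaf cJ5678) (BT.leaf cJ5679)) (BT.leaf cJ5680)) (BT.node 5681 (BT.leaf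 cJ5681) (BT.leaf cJ5682))) (BT.node 5685 (BT.node 5684 (BT.node 5683 (BT.leaf cJ5683) (BT.leaf cJ5684)) (BT.leaf cJ5685)) (BT.node 5686 (BT.leaf cJ5686) (BT.leaf cJ5687)))) (BT.node 5692 (BT.node 5690 (BT.node 5689 (BT.node 5688 (BT.leaf cJ5688) (BT.leaf cJ5689)) (BT.leaf cJ5690)) (BT.node 5691 (BT.leaf cJ5691) (BT.leaf cJ5692))) (BT.node 5695 (BT.node 5694 (BT.node 5693 (BT.leaf cJ5693) (BT.leaf cJ5694)) (BT.leaf cJ5695)) (BT.node 5696 (BT.leaf cJ5696) (BT.leaf cJ5697)))))) (BT.node 5717 (BT.node 5707 (BT.node 5702 (BT.node 5700 (BT.node 5699 (BT.node 5698 (BT.leaf cJ5698) (BT.leaf cJ5699)) (BT.leaf cJ5700)) (BT.node 5701 (BT.leaf cJ5701) (BT.leaf cJ5702))) (BT.node 5705 (BT.node 5704 (BT.node 5703 (BT.leaf cJ5703) (BT.leaf cJ5704)) (BT.leaf cJ5705)) (BT.node 5706 (BT.leaf cJ5706) (BT.leaf cJ5707)))) (BT.node 5712 (BT.node 5710 (BT.node 5709 (BT.node 5708 (BT.leaf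 cJ5708) (BT.leaf cJ5709)) (BT.leaf cJ5710)) (BT.node 5711 (BT.leaf cJ5711) (BT.leaf cJ5712))) (BT.node 5715 (BT.node 5714 (BT.node 5713 (BT.leaf cJ5713) (BT.leaf cJ5714)) (BT.leaf cJ5715)) (BT.node 5716 (BT.leaf cJ5716) (BT.leaf cJ5717))))) (BT.node 5727 (BT.node 5722 (BT.node 5720 (BT.node 5719 (BT.node 5718 (BT.leaf cJ5718) (BT.leaf cJ5719)) (BT.leaf cJ5720)) (BT.node 5721 (BT.leaf cJ5721) (BT.leaf cJ5722))) (BT.node 5725 (BT.node 5724 (BT.node 5723 (BT.leaf cJ5723) (BT.leaf cJ5724)) (BT.leaf cJ5725)) (BT.node 5726 (BT.leaf cJ5726) (BT.leaf cJ5727)))) (BT.node 5732 (BT.node 5730 (BT.node 5729 (BT.node 5728 (BT.leaf cJ5728) (BT.leaf cJ5729)) (BT.leaf cJ5730)) (BT.node 5731 (BT.leaf cJ5731) (BT.leaf cJ5732))) (BT.node 5735 (BT.node 5734 (BT.node 5733 (BT.leaf cJ5733) (BT.leaf cJ5734)) (BT.leaf cJ5735)) (BT.node 5736 (BT.leaf cJ5736) (BT.leaf cJ5737))))))) (BT.node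 5777 (BT.node 5757 (BT.node 5747 (BT.node 5742 (BT.node 5740 (BT.node 5739 (BT.node 5738 (BT.leaf cJ5738) (BT.leaf cJ5739)) (BT.leaf cJ5740)) (BT.node 5741 (BT.leaf cJ5741) (BT.leaf cJ5742))) (BT.node 5745 (BT.node 5744 (BT.node 5743 (BT.leaf cJ5743) (BT.leaf cJ5744)) (BT.leaf cJ5745)) (BT.node 5746 (BT.leaf cJ5746) (BT.leaf cJ5747)))) (BT.node 5752 (BT.node 5750 (BT.node 5749 (BT.node 5748 (BT.leaf cJ5748) (BT.leaf cJ5749)) (BT.leaf cJ5750)) (BT.node 5751 (BT.leaf cJ5751) (BT.leaf cJ5752))) (BT.node 5755 (BT.node 5754 (BT.node 5753 (BT.leaf cJ5753) (BT.leaf cJ5754)) (BT.leaf cJ5755)) (BT.node 5756 (BT.leaf cJ5756) (BT.leaf cJ5757))))) (BT.node 5767 (BT.node 5762 (BT.node 5760 (BT.node 5759 (BT.node 5758 (BT.leaf cJ5758) (BT.leaf cJ5759)) (BT.leaf cJ5760)) (BT.node 5761 (BT.leaf cJ5761) (BT.leaf cJ5762))) (BT.node 5765 (BT.node 5764 (BT.node 5763 (BT.leaf cJ5763) (BT.leaf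 cJ5764)) (BT.leaf cJ5765)) (BT.node 5766 (BT.leaf cJ5766) (BT.leaf cJ5767)))) (BT.node 5772 (BT.node 5770 (BT.node 5769 (BT.node 5768 (BT.leaf cJ5768) (BT.leaf cJ5769)) (BT.leaf cJ5770)) (BT.node 5771 (BT.leaf cJ5771) (BT.leaf cJ5772))) (BT.node 5775 (BT.node 5774 (BT.node 5773 (BT.leaf cJ5773) (BT.leaf cJ5774)) (BT.leaf cJ5775)) (BT.node 5776 (BT.leaf cJ5776) (BT.leaf cJ5777)))))) (BT.node 5797 (BT.node 5787 (BT.node 5782 (BT.node 5780 (BT.node 5779 (BT.node 5778 (BT.leaf cJ5778) (BT.leaf cJ5779)) (BT.leaf cJ5780)) (BT.node 5781 (BT.leaf cJ5781) (BT.leaf cJ5782))) (BT.node 5785 (BT.node 5784 (BT.node 5783 (BT.leaf cJ5783) (BT.leaf cJ5784)) (BT.leaf cJ5785)) (BT.node 5786 (BT.leaf cJ5786) (BT.leaf cJ5787)))) (BT.node 5792 (BT.node 5790 (BT.node 5789 (BT.node 5788 (BT.leaf cJ5788) (BT.leaf cJ5789)) (BT.leaf cJ5790)) (BT.node 5791 (BT.leaf cJ5791) (BT.leaf cJ5792)))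 (BT.node 5795 (BT.node 5794 (BT.node 5793 (BT.leaf cJ5793) (BT.leaf cJ5794)) (BT.leaf cJ5795)) (BT.node 5796 (BT.leaf cJ5796) (BT.leaf cJ5797))))) (BT.node 5807 (BT.node 5802 (BT.node 5800 (BT.node 5799 (BT.node 5798 (BT.leaf cJ5798) (BT.leaf cJ5799)) (BT.leaf cJ5800)) (BT.node 5801 (BT.leaf cJ5801) (BT.leaf cJ5802))) (BT.node 5805 (BT.node 5804 (BT.node 5803 (BT.leaf cJ5803) (BT.leaf cJ5804)) (BT.leaf cJ5805)) (BT.node 5806 (BT.leaf cJ5806) (BT.leaf cJ5807)))) (BT.node 5812 (BT.node 5810 (BT.node 5809 (BT.node 5808 (BT.leaf cJ5808) (BT.leaf cJ5809)) (BT.leaf cJ5810)) (BT.node 5811 (BT.leaf cJ5811) (BT.leaf cJ5812))) (BT.node 5815 (BT.node 5814 (BT.node 5813 (BT.leaf cJ5813) (BT.leaf cJ5814)) (BT.leaf cJ5815)) (BT.node 5816 (BT.leaf cJ5816) (BT.leaf cJ5817))))))))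
noncomputable def colJT_36 : BT ℕ := (BT.node 5898 (BT.node 5858 (BT.node 5838 (BT.node 5828 (BT.node 5823 (BT.node 5820 (BT.node 5819 (BT.node 5818 (BT.leaf cJ5818) (BT.leaf cJ5819)) (BT.leaf cJ5820)) (BT.node 5822 (BT.node 5821 (BT.leaf cJ5821) (BT.leaf cJ5822)) (BT.leaf cJ5823))) (BT.node 5826 (BT.node 5825 (BT.node 5824 (BT.leaf cJ5824) (BT.leaf cJ5825)) (BT.leaf cJ5826)) (BT.node 5827 (BT.leaf cJ5827) (BT.leaf cJ5828)))) (BT.node 5833 (BT.node 5831 (BT.node 5830 (BT.node 5829 (BT.leaf cJ5829) (BT.leaf cJ5830)) (BT.leaf cJ5831)) (BT.node 5832 (BT.leaf cJ5832) (BT.leaf cJ5833))) (BT.node 5836 (BT.node 5835 (BT.node 5834 (BT.leaf cJ5834) (BT.leaf cJ5835)) (BT.leaf cJ5836)) (BT.node 5837 (BT.leaf cJ5837) (BT.leaf cJ5838))))) (BT.node 5848 (BT.node 5843 (BT.node 5841 (BT.node 5840 (BT.node 5839 (BT.leaf cJ5839) (BT.leaf cJ5840)) (BT.leaf cJ5841)) (BT.node 5842 (BT.leaf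 cJ5842) (BT.leaf cJ5843))) (BT.node 5846 (BT.node 5845 (BT.node 5844 (BT.leaf cJ5844) (BT.leaf cJ5845)) (BT.leaf cJ5846)) (BT.node 5847 (BT.leaf cJ5847) (BT.leaf cJ5848)))) (BT.node 5853 (BT.node 5851 (BT.node 5850 (BT.node 5849 (BT.leaf cJ5849) (BT.leaf cJ5850)) (BT.leaf cJ5851)) (BT.node 5852 (BT.leaf cJ5852) (BT.leaf cJ5853))) (BT.node 5856 (BT.node 5855 (BT.node 5854 (BT.leaf cJ5854) (BT.leaf cJ5855)) (BT.leaf cJ5856)) (BT.node 5857 (BT.leaf cJ5857) (BT.leaf cJ5858)))))) (BT.node 5878 (BT.node 5868 (BT.node 5863 (BT.node 5861 (BT.node 5860 (BT.node 5859 (BT.leaf cJ5859) (BT.leaf cJ5860)) (BT.leaf cJ5861)) (BT.node 5862 (BT.leaf cJ5862) (BT.leaf cJ5863))) (BT.node 5866 (BT.node 5865 (BT.node 5864 (BT.leaf cJ5864) (BT.leaf cJ5865)) (BT.leaf cJ5866)) (BT.node 5867 (BT.leaf cJ5867) (BT.leaf cJ5868)))) (BT.node 5873 (BT.node 5871 (BT.node 5870 (BT.node 5869 (BT.leaf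 cJ5869) (BT.leaf cJ5870)) (BT.leaf cJ5871)) (BT.node 5872 (BT.leaf cJ5872) (BT.leaf cJ5873))) (BT.node 5876 (BT.node 5875 (BT.node 5874 (BT.leaf cJ5874) (BT.leaf cJ5875)) (BT.leaf cJ5876)) (BT.node 5877 (BT.leaf cJ5877) (BT.leaf cJ5878))))) (BT.node 5888 (BT.node 5883 (BT.node 5881 (BT.node 5880 (BT.node 5879 (BT.leaf cJ5879) (BT.leaf cJ5880)) (BT.leaf cJ5881)) (BT.node 5882 (BT.leaf cJ5882) (BT.leaf cJ5883))) (BT.node 5886 (BT.node 5885 (BT.node 5884 (BT.leaf cJ5884) (BT.leaf cJ5885)) (BT.leaf cJ5886)) (BT.node 5887 (BT.leaf cJ5887) (BT.leaf cJ5888)))) (BT.node 5893 (BT.node 5891 (BT.node 5890 (BT.node 5889 (BT.leaf cJ5889) (BT.leaf cJ5890)) (BT.leaf cJ5891)) (BT.node 5892 (BT.leaf cJ5892) (BT.leaf cJ5893))) (BT.node 5896 (BT.node 5895 (BT.node 5894 (BT.leaf cJ5894) (BT.leaf cJ5895)) (BT.leaf cJ5896)) (BT.node 5897 (BT.leaf cJ5897) (BT.leaf cJ5898))))))) (BT.node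 5939 (BT.node 5919 (BT.node 5909 (BT.node 5904 (BT.node 5901 (BT.node 5900 (BT.node 5899 (BT.leaf cJ5899) (BT.leaf cJ5900)) (BT.leaf cJ5901)) (BT.node 5903 (BT.node 5902 (BT.leaf cJ5902) (BT.leaf cJ5903)) (BT.leaf cJ5904))) (BT.node 5907 (BT.node 5906 (BT.node 5905 (BT.leaf cJ5905) (BT.leaf cJ5906)) (BT.leaf cJ5907)) (BT.node 5908 (BT.leaf cJ5908) (BT.leaf cJ5909)))) (BT.node 5914 (BT.node 5912 (BT.node 5911 (BT.node 5910 (BT.leaf cJ5910) (BT.leaf cJ5911)) (BT.leaf cJ5912)) (BT.node 5913 (BT.leaf cJ5913) (BT.leaf cJ5914))) (BT.node 5917 (BT.node 5916 (BT.node 5915 (BT.leaf cJ5915) (BT.leaf cJ5916)) (BT.leaf cJ5917)) (BT.node 5918 (BT.leaf cJ5918) (BT.leaf cJ5919))))) (BT.node 5929 (BT.node 5924 (BT.node 5922 (BT.node 5921 (BT.node 5920 (BT.leaf cJ5920) (BT.leaf cJ5921)) (BT.leaf cJ5922)) (BT.node 5923 (BT.leaf cJ5923) (BT.leaf cJ5924))) (BT.node 5927 (BT.node 5926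 (BT.node 5925 (BT.leaf cJ5925) (BT.leaf cJ5926)) (BT.leaf cJ5927)) (BT.node 5928 (BT.leaf cJ5928) (BT.leaf cJ5929)))) (BT.node 5934 (BT.node 5932 (BT.node 5931 (BT.node 5930 (BT.leaf cJ5930) (BT.leaf cJ5931)) (BT.leaf cJ5932)) (BT.node 5933 (BT.leaf cJ5933) (BT.leaf cJ5934))) (BT.node 5937 (BT.node 5936 (BT.node 5935 (BT.leaf cJ5935) (BT.leaf cJ5936)) (BT.leaf cJ5937)) (BT.node 5938 (BT.leaf cJ5938) (BT.leaf cJ5939)))))) (BT.node 5959 (BT.node 5949 (BT.node 5944 (BT.node 5942 (BT.node 5941 (BT.node 5940 (BT.leaf cJ5940) (BT.leaf cJ5941)) (BT.leaf cJ5942)) (BT.node 5943 (BT.leaf cJ5943) (BT.leaf cJ5944))) (BT.node 5947 (BT.node 5946 (BT.node 5945 (BT.leaf cJ5945) (BT.leaf cJ5946)) (BT.leaf cJ5947)) (BT.node 5948 (BT.leaf cJ5948) (BT.leaf cJ5949)))) (BT.node 5954 (BT.node 5952 (BT.node 5951 (BT.node 5950 (BT.leaf cJ5950) (BT.leaf cJ5951)) (BT.leaf cJ5952)) (BT.node 5953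 (BT.leaf cJ5953) (BT.leaf cJ5954))) (BT.node 5957 (BT.node 5956 (BT.node 5955 (BT.leaf cJ5955) (BT.leaf cJ5956)) (BT.leaf cJ5957)) (BT.node 5958 (BT.leaf cJ5958) (BT.leaf cJ5959))))) (BT.node 5969 (BT.node 5964 (BT.node 5962 (BT.node 5961 (BT.node 5960 (BT.leaf cJ5960) (BT.leaf cJ5961)) (BT.leaf cJ5962)) (BT.node 5963 (BT.leaf cJ5963) (BT.leaf cJ5964))) (BT.node 5967 (BT.node 5966 (BT.node 5965 (BT.leaf cJ5965) (BT.leaf cJ5966)) (BT.leaf cJ5967)) (BT.node 5968 (BT.leaf cJ5968) (BT.leaf cJ5969)))) (BT.node 5974 (BT.node 5972 (BT.node 5971 (BT.node 5970 (BT.leaf cJ5970) (BT.leaf cJ5971)) (BT.leaf cJ5972)) (BT.node 5973 (BT.leaf cJ5973) (BT.leaf cJ5974))) (BT.node 5977 (BT.node 5976 (BT.node 5975 (BT.leaf cJ5975) (BT.leaf cJ5976)) (BT.leaf cJ5977)) (BT.node 5978 (BT.leaf cJ5978) (BT.leaf cJ5979))))))))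
noncomputable def colJT_37 : BT ℕ := (BT.node 6060 (BT.node 6020 (BT.node 6000 (BT.node 5990 (BT.node 5985 (BT.node 5982 (BT.node 5981 (BT.node 5980 (BT.leaf cJ5980) (BT.leaf cJ5981)) (BT.leaf cJ5982)) (BT.node 5984 (BT.node 5983 (BT.leaf cJ5983) (BT.leaf cJ5984)) (BT.leaf cJ5985))) (BT.node 5988 (BT.node 5987 (BT.node 5986 (BT.leaf cJ5986) (BT.leaf cJ5987)) (BT.leaf cJ5988)) (BT.node 5989 (BT.leaf cJ5989) (BT.leaf cJ5990)))) (BT.node 5995 (BT.node 5993 (BT.node 5992 (BT.node 5991 (BT.leaf cJ5991) (BT.leaf cJ5992)) (BT.leaf cJ5993)) (BT.node 5994 (BT.leaf cJ5994) (BT.leaf cJ5995))) (BT.node 5998 (BT.node 5997 (BT.node 5996 (BT.leaf cJ5996) (BT.leaf cJ5997)) (BT.leaf cJ5998)) (BT.node 5999 (BT.leaf cJ5999) (BT.leaf cJ6000))))) (BT.node 6010 (BT.node 6005 (BT.node 6003 (BT.node 6002 (BT.node 6001 (BT.leaf cJ6001) (BT.leaf cJ6002)) (BT.leaf cJ6003)) (BT.node 6004 (BT.leaf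 cJ6004) (BT.leaf cJ6005))) (BT.node 6008 (BT.node 6007 (BT.node 6006 (BT.leaf cJ6006) (BT.leaf cJ6007)) (BT.leaf cJ6008)) (BT.node 6009 (BT.leaf cJ6009) (BT.leaf cJ6010)))) (BT.node 6015 (BT.node 6013 (BT.node 6012 (BT.node 6011 (BT.leaf cJ6011) (BT.leaf cJ6012)) (BT.leaf cJ6013)) (BT.node 6014 (BT.leaf cJ6014) (BT.leaf cJ6015))) (BT.node 6018 (BT.node 6017 (BT.node 6016 (BT.leaf cJ6016) (BT.leaf cJ6017)) (BT.leaf cJ6018)) (BT.node 6019 (BT.leaf cJ6019) (BT.leaf cJ6020)))))) (BT.node 6040 (BT.node 6030 (BT.node 6025 (BT.node 6023 (BT.node 6022 (BT.node 6021 (BT.leaf cJ6021) (BT.leaf cJ6022)) (BT.leaf cJ6023)) (BT.node 6024 (BT.leaf cJ6024) (BT.leaf cJ6025))) (BT.node 6028 (BT.node 6027 (BT.node 6026 (BT.leaf cJ6026) (BT.leaf cJ6027)) (BT.leaf cJ6028)) (BT.node 6029 (BT.leaf cJ6029) (BT.leaf cJ6030)))) (BT.node 6035 (BT.node 6033 (BT.node 6032 (BT.node 6031 (BT.leaf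 cJ6031) (BT.leaf cJ6032)) (BT.leaf cJ6033)) (BT.node 6034 (BT.leaf cJ6034) (BT.leaf cJ6035))) (BT.node 6038 (BT.node 6037 (BT.node 6036 (BT.leaf cJ6036) (BT.leaf cJ6037)) (BT.leaf cJ6038)) (BT.node 6039 (BT.leaf cJ6039) (BT.leaf cJ6040))))) (BT.node 6050 (BT.node 6045 (BT.node 6043 (BT.node 6042 (BT.node 6041 (BT.leaf cJ6041) (BT.leaf cJ6042)) (BT.leaf cJ6043)) (BT.node 6044 (BT.leaf cJ6044) (BT.leaf cJ6045))) (BT.node 6048 (BT.node 6047 (BT.node 6046 (BT.leaf cJ6046) (BT.leaf cJ6047)) (BT.leaf cJ6048)) (BT.node 6049 (BT.leaf cJ6049) (BT.leaf cJ6050)))) (BT.node 6055 (BT.node 6053 (BT.node 6052 (BT.node 6051 (BT.leaf cJ6051) (BT.leaf cJ6052)) (BT.leaf cJ6053)) (BT.node 6054 (BT.leaf cJ6054) (BT.leaf cJ6055))) (BT.node 6058 (BT.node 6057 (BT.node 6056 (BT.leaf cJ6056) (BT.leaf cJ6057)) (BT.leaf cJ6058)) (BT.node 6059 (BT.leaf cJ6059) (BT.leaf cJ6060))))))) (BT.node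 6100 (BT.node 6080 (BT.node 6070 (BT.node 6065 (BT.node 6063 (BT.node 6062 (BT.node 6061 (BT.leaf cJ6061) (BT.leaf cJ6062)) (BT.leaf cJ6063)) (BT.node 6064 (BT.leaf cJ6064) (BT.leaf cJ6065))) (BT.node 6068 (BT.node 6067 (BT.node 6066 (BT.leaf cJ6066) (BT.leaf cJ6067)) (BT.leaf cJ6068)) (BT.node 6069 (BT.leaf cJ6069) (BT.leaf cJ6070)))) (BT.node 6075 (BT.node 6073 (BT.node 6072 (BT.node 6071 (BT.leaf cJ6071) (BT.leaf cJ6072)) (BT.leaf cJ6073)) (BT.node 6074 (BT.leaf cJ6074) (BT.leaf cJ6075))) (BT.node 6078 (BT.node 6077 (BT.node 6076 (BT.leaf cJ6076) (BT.leaf cJ6077)) (BT.leaf cJ6078)) (BT.node 6079 (BT.leaf cJ6079) (BT.leaf cJ6080))))) (BT.node 6090 (BT.node 6085 (BT.node 6083 (BT.node 6082 (BT.node 6081 (BT.leaf cJ6081) (BT.leaf cJ6082)) (BT.leaf cJ6083)) (BT.node 6084 (BT.leaf cJ6084) (BT.leaf cJ6085))) (BT.node 6088 (BT.node 6087 (BT.node 6086 (BT.leaf cJ6086) (BT.leaf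 cJ6087)) (BT.leaf cJ6088)) (BT.node 6089 (BT.leaf cJ6089) (BT.leaf cJ6090)))) (BT.node 6095 (BT.node 6093 (BT.node 6092 (BT.node 6091 (BT.leaf cJ6091) (BT.leaf cJ6092)) (BT.leaf cJ6093)) (BT.node 6094 (BT.leaf cJ6094) (BT.leaf cJ6095))) (BT.node 6098 (BT.node 6097 (BT.node 6096 (BT.leaf cJ6096) (BT.leaf cJ6097)) (BT.leaf cJ6098)) (BT.node 6099 (BT.leaf cJ6099) (BT.leaf cJ6100)))))) (BT.node 6120 (BT.node 6110 (BT.node 6105 (BT.node 6103 (BT.node 6102 (BT.node 6101 (BT.leaf cJ6101) (BT.leaf cJ6102)) (BT.leaf cJ6103)) (BT.node 6104 (BT.leaf cJ6104) (BT.leaf cJ6105))) (BT.node 6108 (BT.node 6107 (BT.node 6106 (BT.leaf cJ6106) (BT.leaf cJ6107)) (BT.leaf cJ6108)) (BT.node 6109 (BT.leaf cJ6109) (BT.leaf cJ6110)))) (BT.node 6115 (BT.node 6113 (BT.node 6112 (BT.node 6111 (BT.leaf cJ6111) (BT.leaf cJ6112)) (BT.leaf cJ6113)) (BT.node 6114 (BT.leaf cJ6114) (BT.leaf cJ6115)))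 (BT.node 6118 (BT.node 6117 (BT.node 6116 (BT.leaf cJ6116) (BT.leaf cJ6117)) (BT.leaf cJ6118)) (BT.node 6119 (BT.leaf cJ6119) (BT.leaf cJ6120))))) (BT.node 6130 (BT.node 6125 (BT.node 6123 (BT.node 6122 (BT.node 6121 (BT.leaf cJ6121) (BT.leaf cJ6122)) (BT.leaf cJ6123)) (BT.node 6124 (BT.leaf cJ6124) (BT.leaf cJ6125))) (BT.node 6128 (BT.node 6127 (BT.node 6126 (BT.leaf cJ6126) (BT.leaf cJ6127)) (BT.leaf cJ6128)) (BT.node 6129 (BT.leaf cJ6129) (BT.leaf cJ6130)))) (BT.node 6135 (BT.node 6133 (BT.node 6132 (BT.node 6131 (BT.leaf cJ6131) (BT.leaf cJ6132)) (BT.leaf cJ6133)) (BT.node 6134 (BT.leaf cJ6134) (BT.leaf cJ6135))) (BT.node 6138 (BT.node 6137 (BT.node 6136 (BT.leaf cJ6136) (BT.leaf cJ6137)) (BT.leaf cJ6138)) (BT.node 6139 (BT.leaf cJ6139) (BT.leaf cJ6140))))))))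
noncomputable def colJT_38 : BT ℕ := (BT.node 6221 (BT.node 6181 (BT.node 6161 (BT.node 6151 (BT.node 6146 (BT.node 6143 (BT.node 6142 (BT.node 6141 (BT.leaf cJ6141) (BT.leaf cJ6142)) (BT.leaf cJ6143)) (BT.node 6145 (BT.node 6144 (BT.leaf cJ6144) (BT.leaf cJ6145)) (BT.leaf cJ6146))) (BT.node 6149 (BT.node 6148 (BT.node 6147 (BT.leaf cJ6147) (BT.leaf cJ6148)) (BT.leaf cJ6149)) (BT.node 6150 (BT.leaf cJ6150) (BT.leaf cJ6151)))) (BT.node 6156 (BT.node 6154 (BT.node 6153 (BT.node 6152 (BT.leaf cJ6152) (BT.leaf cJ6153)) (BT.leaf cJ6154)) (BT.node 6155 (BT.leaf cJ6155) (BT.leaf cJ6156))) (BT.node 6159 (BT.node 6158 (BT.node 6157 (BT.leaf cJ6157) (BT.leaf cJ6158)) (BT.leaf cJ6159)) (BT.node 6160 (BT.leaf cJ6160) (BT.leaf cJ6161))))) (BT.node 6171 (BT.node 6166 (BT.node 6164 (BT.node 6163 (BT.node 6162 (BT.leaf cJ6162) (BT.leaf cJ6163)) (BT.leaf cJ6164)) (BT.node 6165 (BT.leaf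 cJ6165) (BT.leaf cJ6166))) (BT.node 6169 (BT.node 6168 (BT.node 6167 (BT.leaf cJ6167) (BT.leaf cJ6168)) (BT.leaf cJ6169)) (BT.node 6170 (BT.leaf cJ6170) (BT.leaf cJ6171)))) (BT.node 6176 (BT.node 6174 (BT.node 6173 (BT.node 6172 (BT.leaf cJ6172) (BT.leaf cJ6173)) (BT.leaf cJ6174)) (BT.node 6175 (BT.leaf cJ6175) (BT.leaf cJ6176))) (BT.node 6179 (BT.node 6178 (BT.node 6177 (BT.leaf cJ6177) (BT.leaf cJ6178)) (BT.leaf cJ6179)) (BT.node 6180 (BT.leaf cJ6180) (BT.leaf cJ6181)))))) (BT.node 6201 (BT.node 6191 (BT.node 6186 (BT.node 6184 (BT.node 6183 (BT.node 6182 (BT.leaf cJ6182) (BT.leaf cJ6183)) (BT.leaf cJ6184)) (BT.node 6185 (BT.leaf cJ6185) (BT.leaf cJ6186))) (BT.node 6189 (BT.node 6188 (BT.node 6187 (BT.leaf cJ6187) (BT.leaf cJ6188)) (BT.leaf cJ6189)) (BT.node 6190 (BT.leaf cJ6190) (BT.leaf cJ6191)))) (BT.node 6196 (BT.node 6194 (BT.node 6193 (BT.node 6192 (BT.leaf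 cJ6192) (BT.leaf cJ6193)) (BT.leaf cJ6194)) (BT.node 6195 (BT.leaf cJ6195) (BT.leaf cJ6196))) (BT.node 6199 (BT.node 6198 (BT.node 6197 (BT.leaf cJ6197) (BT.leaf cJ6198)) (BT.leaf cJ6199)) (BT.node 6200 (BT.leaf cJ6200) (BT.leaf cJ6201))))) (BT.node 6211 (BT.node 6206 (BT.node 6204 (BT.node 6203 (BT.node 6202 (BT.leaf cJ6202) (BT.leaf cJ6203)) (BT.leaf cJ6204)) (BT.node 6205 (BT.leaf cJ6205) (BT.leaf cJ6206))) (BT.node 6209 (BT.node 6208 (BT.node 6207 (BT.leaf cJ6207) (BT.leaf cJ6208)) (BT.leaf cJ6209)) (BT.node 6210 (BT.leaf cJ6210) (BT.leaf cJ6211)))) (BT.node 6216 (BT.node 6214 (BT.node 6213 (BT.node 6212 (BT.leaf cJ6212) (BT.leaf cJ6213)) (BT.leaf cJ6214)) (BT.node 6215 (BT.leaf cJ6215) (BT.leaf cJ6216))) (BT.node 6219 (BT.node 6218 (BT.node 6217 (BT.leaf cJ6217) (BT.leaf cJ6218)) (BT.leaf cJ6219)) (BT.node 6220 (BT.leaf cJ6220) (BT.leaf cJ6221))))))) (BT.node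 6262 (BT.node 6242 (BT.node 6232 (BT.node 6227 (BT.node 6224 (BT.node 6223 (BT.node 6222 (BT.leaf cJ6222) (BT.leaf cJ6223)) (BT.leaf cJ6224)) (BT.node 6226 (BT.node 6225 (BT.leaf cJ6225) (BT.leaf cJ6226)) (BT.leaf cJ6227))) (BT.node 6230 (BT.node 6229 (BT.node 6228 (BT.leaf cJ6228) (BT.leaf cJ6229)) (BT.leaf cJ6230)) (BT.node 6231 (BT.leaf cJ6231) (BT.leaf cJ6232)))) (BT.node 6237 (BT.node 6235 (BT.node 6234 (BT.node 6233 (BT.leaf cJ6233) (BT.leaf cJ6234)) (BT.leaf cJ6235)) (BT.node 6236 (BT.leaf cJ6236) (BT.leaf cJ6237))) (BT.node 6240 (BT.node 6239 (BT.node 6238 (BT.leaf cJ6238) (BT.leaf cJ6239)) (BT.leaf cJ6240)) (BT.node 6241 (BT.leaf cJ6241) (BT.leaf cJ6242))))) (BT.node 6252 (BT.node 6247 (BT.node 6245 (BT.node 6244 (BT.node 6243 (BT.leaf cJ6243) (BT.leaf cJ6244)) (BT.leaf cJ6245)) (BT.node 6246 (BT.leaf cJ6246) (BT.leaf cJ6247))) (BT.node 6250 (BT.node 6249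 (BT.node 6248 (BT.leaf cJ6248) (BT.leaf cJ6249)) (BT.leaf cJ6250)) (BT.node 6251 (BT.leaf cJ6251) (BT.leaf cJ6252)))) (BT.node 6257 (BT.node 6255 (BT.node 6254 (BT.node 6253 (BT.leaf cJ6253) (BT.leaf cJ6254)) (BT.leaf cJ6255)) (BT.node 6256 (BT.leaf cJ6256) (BT.leaf cJ6257))) (BT.node 6260 (BT.node 6259 (BT.node 6258 (BT.leaf cJ6258) (BT.leaf cJ6259)) (BT.leaf cJ6260)) (BT.node 6261 (BT.leaf cJ6261) (BT.leaf cJ6262)))))) (BT.node 6282 (BT.node 6272 (BT.node 6267 (BT.node 6265 (BT.node 6264 (BT.node 6263 (BT.leaf cJ6263) (BT.leaf cJ6264)) (BT.leaf cJ6265)) (BT.node 6266 (BT.leaf cJ6266) (BT.leaf cJ6267))) (BT.node 6270 (BT.node 6269 (BT.node 6268 (BT.leaf cJ6268) (BT.leaf cJ6269)) (BT.leaf cJ6270)) (BT.node 6271 (BT.leaf cJ6271) (BT.leaf cJ6272)))) (BT.node 6277 (BT.node 6275 (BT.node 6274 (BT.node 6273 (BT.leaf cJ6273) (BT.leaf cJ6274)) (BT.leaf cJ6275)) (BT.node 6276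 (BT.leaf cJ6276) (BT.leaf cJ6277))) (BT.node 6280 (BT.node 6279 (BT.node 6278 (BT.leaf cJ6278) (BT.leaf cJ6279)) (BT.leaf cJ6280)) (BT.node 6281 (BT.leaf cJ6281) (BT.leaf cJ6282))))) (BT.node 6292 (BT.node 6287 (BT.node 6285 (BT.node 6284 (BT.node 6283 (BT.leaf cJ6283) (BT.leaf cJ6284)) (BT.leaf cJ6285)) (BT.node 6286 (BT.leaf cJ6286) (BT.leaf cJ6287))) (BT.node 6290 (BT.node 6289 (BT.node 6288 (BT.leaf cJ6288) (BT.leaf cJ6289)) (BT.leaf cJ6290)) (BT.node 6291 (BT.leaf cJ6291) (BT.leaf cJ6292)))) (BT.node 6297 (BT.node 6295 (BT.node 6294 (BT.node 6293 (BT.leaf cJ6293) (BT.leaf cJ6294)) (BT.leaf cJ6295)) (BT.node 6296 (BT.leaf cJ6296) (BT.leaf cJ6297))) (BT.node 6300 (BT.node 6299 (BT.node 6298 (BT.leaf cJ6298) (BT.leaf cJ6299)) (BT.leaf cJ6300)) (BT.node 6301 (BT.leaf cJ6301) (BT.leaf cJ6302))))))))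
noncomputable def colJT_39 : BT ℕ := (BT.node 6383 (BT.node 6343 (BT.node 6323 (BT.node 6313 (BT.node 6308 (BT.node 6305 (BT.node 6304 (BT.node 6303 (BT.leaf cJ6303) (BT.leaf cJ6304)) (BT.leaf cJ6305)) (BT.node 6307 (BT.node 6306 (BT.leaf cJ6306) (BT.leaf cJ6307)) (BT.leaf cJ6308))) (BT.node 6311 (BT.node 6310 (BT.node 6309 (BT.leaf cJ6309) (BT.leaf cJ6310)) (BT.leaf cJ6311)) (BT.node 6312 (BT.leaf cJ6312) (BT.leaf cJ6313)))) (BT.node 6318 (BT.node 6316 (BT.node 6315 (BT.node 6314 (BT.leaf cJ6314) (BT.leaf cJ6315)) (BT.leaf cJ6316)) (BT.node 6317 (BT.leaf cJ6317) (BT.leaf cJ6318))) (BT.node 6321 (BT.node 6320 (BT.node 6319 (BT.leaf cJ6319) (BT.leaf cJ6320)) (BT.leaf cJ6321)) (BT.node 6322 (BT.leaf cJ6322) (BT.leaf cJ6323))))) (BT.node 6333 (BT.node 6328 (BT.node 6326 (BT.node 6325 (BT.node 6324 (BT.leaf cJ6324) (BT.leaf cJ6325)) (BT.leaf cJ6326)) (BT.node 6327 (BT.leaf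 cJ6327) (BT.leaf cJ6328))) (BT.node 6331 (BT.node 6330 (BT.node 6329 (BT.leaf cJ6329) (BT.leaf cJ6330)) (BT.leaf cJ6331)) (BT.node 6332 (BT.leaf cJ6332) (BT.leaf cJ6333)))) (BT.node 6338 (BT.node 6336 (BT.node 6335 (BT.node 6334 (BT.leaf cJ6334) (BT.leaf cJ6335)) (BT.leaf cJ6336)) (BT.node 6337 (BT.leaf cJ6337) (BT.leaf cJ6338))) (BT.node 6341 (BT.node 6340 (BT.node 6339 (BT.leaf cJ6339) (BT.leaf cJ6340)) (BT.leaf cJ6341)) (BT.node 6342 (BT.leaf cJ6342) (BT.leaf cJ6343)))))) (BT.node 6363 (BT.node 6353 (BT.node 6348 (BT.node 6346 (BT.node 6345 (BT.node 6344 (BT.leaf cJ6344) (BT.leaf cJ6345)) (BT.leaf cJ6346)) (BT.node 6347 (BT.leaf cJ6347) (BT.leaf cJ6348))) (BT.node 6351 (BT.node 6350 (BT.node 6349 (BT.leaf cJ6349) (BT.leaf cJ6350)) (BT.leaf cJ6351)) (BT.node 6352 (BT.leaf cJ6352) (BT.leaf cJ6353)))) (BT.node 6358 (BT.node 6356 (BT.node 6355 (BT.node 6354 (BT.leaf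 cJ6354) (BT.leaf cJ6355)) (BT.leaf cJ6356)) (BT.node 6357 (BT.leaf cJ6357) (BT.leaf cJ6358))) (BT.node 6361 (BT.node 6360 (BT.node 6359 (BT.leaf cJ6359) (BT.leaf cJ6360)) (BT.leaf cJ6361)) (BT.node 6362 (BT.leaf cJ6362) (BT.leaf cJ6363))))) (BT.node 6373 (BT.node 6368 (BT.node 6366 (BT.node 6365 (BT.node 6364 (BT.leaf cJ6364) (BT.leaf cJ6365)) (BT.leaf cJ6366)) (BT.node 6367 (BT.leaf cJ6367) (BT.leaf cJ6368))) (BT.node 6371 (BT.node 6370 (BT.node 6369 (BT.leaf cJ6369) (BT.leaf cJ6370)) (BT.leaf cJ6371)) (BT.node 6372 (BT.leaf cJ6372) (BT.leaf cJ6373)))) (BT.node 6378 (BT.node 6376 (BT.node 6375 (BT.node 6374 (BT.leaf cJ6374) (BT.leaf cJ6375)) (BT.leaf cJ6376)) (BT.node 6377 (BT.leaf cJ6377) (BT.leaf cJ6378))) (BT.node 6381 (BT.node 6380 (BT.node 6379 (BT.leaf cJ6379) (BT.leaf cJ6380)) (BT.leaf cJ6381)) (BT.node 6382 (BT.leaf cJ6382) (BT.leaf cJ6383))))))) (BT.node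 6423 (BT.node 6403 (BT.node 6393 (BT.node 6388 (BT.node 6386 (BT.node 6385 (BT.node 6384 (BT.leaf cJ6384) (BT.leaf cJ6385)) (BT.leaf cJ6386)) (BT.node 6387 (BT.leaf cJ6387) (BT.leaf cJ6388))) (BT.node 6391 (BT.node 6390 (BT.node 6389 (BT.leaf cJ6389) (BT.leaf cJ6390)) (BT.leaf cJ6391)) (BT.node 6392 (BT.leaf cJ6392) (BT.leaf cJ6393)))) (BT.node 6398 (BT.node 6396 (BT.node 6395 (BT.node 6394 (BT.leaf cJ6394) (BT.leaf cJ6395)) (BT.leaf cJ6396)) (BT.node 6397 (BT.leaf cJ6397) (BT.leaf cJ6398))) (BT.node 6401 (BT.node 6400 (BT.node 6399 (BT.leaf cJ6399) (BT.leaf cJ6400)) (BT.leaf cJ6401)) (BT.node 6402 (BT.leaf cJ6402) (BT.leaf cJ6403))))) (BT.node 6413 (BT.node 6408 (BT.node 6406 (BT.node 6405 (BT.node 6404 (BT.leaf cJ6404) (BT.leaf cJ6405)) (BT.leaf cJ6406)) (BT.node 6407 (BT.leaf cJ6407) (BT.leaf cJ6408))) (BT.node 6411 (BT.node 6410 (BT.node 6409 (BT.leaf cJ6409) (BT.leaf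 cJ6410)) (BT.leaf cJ6411)) (BT.node 6412 (BT.leaf cJ6412) (BT.leaf cJ6413)))) (BT.node 6418 (BT.node 6416 (BT.node 6415 (BT.node 6414 (BT.leaf cJ6414) (BT.leaf cJ6415)) (BT.leaf cJ6416)) (BT.node 6417 (BT.leaf cJ6417) (BT.leaf cJ6418))) (BT.node 6421 (BT.node 6420 (BT.node 6419 (BT.leaf cJ6419) (BT.leaf cJ6420)) (BT.leaf cJ6421)) (BT.node 6422 (BT.leaf cJ6422) (BT.leaf cJ6423)))))) (BT.node 6443 (BT.node 6433 (BT.node 6428 (BT.node 6426 (BT.node 6425 (BT.node 6424 (BT.leaf cJ6424) (BT.leaf cJ6425)) (BT.leaf cJ6426)) (BT.node 6427 (BT.leaf cJ6427) (BT.leaf cJ6428))) (BT.node 6431 (BT.node 6430 (BT.node 6429 (BT.leaf cJ6429) (BT.leaf cJ6430)) (BT.leaf cJ6431)) (BT.node 6432 (BT.leaf cJ6432) (BT.leaf cJ6433)))) (BT.node 6438 (BT.node 6436 (BT.node 6435 (BT.node 6434 (BT.leaf cJ6434) (BT.leaf cJ6435)) (BT.leaf cJ6436)) (BT.node 6437 (BT.leaf cJ6437) (BT.leaf cJ6438)))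 (BT.node 6441 (BT.node 6440 (BT.node 6439 (BT.leaf cJ6439) (BT.leaf cJ6440)) (BT.leaf cJ6441)) (BT.node 6442 (BT.leaf cJ6442) (BT.leaf cJ6443))))) (BT.node 6453 (BT.node 6448 (BT.node 6446 (BT.node 6445 (BT.node 6444 (BT.leaf cJ6444) (BT.leaf cJ6445)) (BT.leaf cJ6446)) (BT.node 6447 (BT.leaf cJ6447) (BT.leaf cJ6448))) (BT.node 6451 (BT.node 6450 (BT.node 6449 (BT.leaf cJ6449) (BT.leaf cJ6450)) (BT.leaf cJ6451)) (BT.node 6452 (BT.leaf cJ6452) (BT.leaf cJ6453)))) (BT.node 6458 (BT.node 6456 (BT.node 6455 (BT.node 6454 (BT.leaf cJ6454) (BT.leaf cJ6455)) (BT.leaf cJ6456)) (BT.node 6457 (BT.leaf cJ6457) (BT.leaf cJ6458))) (BT.node 6461 (BT.node 6460 (BT.node 6459 (BT.leaf cJ6459) (BT.leaf cJ6460)) (BT.leaf cJ6461)) (BT.node 6462 (BT.leaf cJ6462) (BT.leaf cJ6463))))))))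
noncomputable def colJT_40 : BT ℕ := (BT.node 6544 (BT.node 6504 (BT.node 6484 (BT.node 6474 (BT.node 6469 (BT.node 6466 (BT.node 6465 (BT.node 6464 (BT.leaf cJ6464) (BT.leaf cJ6465)) (BT.leaf cJ6466)) (BT.node 6468 (BT.node 6467 (BT.leaf cJ6467) (BT.leaf cJ6468)) (BT.leaf cJ6469))) (BT.node 6472 (BT.node 6471 (BT.node 6470 (BT.leaf cJ6470) (BT.leaf cJ6471)) (BT.leaf cJ6472)) (BT.node 6473 (BT.leaf cJ6473) (BT.leaf cJ6474)))) (BT.node 6479 (BT.node 6477 (BT.node 6476 (BT.node 6475 (BT.leaf cJ6475) (BT.leaf cJ6476)) (BT.leaf cJ6477)) (BT.node 6478 (BT.leaf cJ6478) (BT.leaf cJ6479))) (BT.node 6482 (BT.node 6481 (BT.node 6480 (BT.leaf cJ6480) (BT.leaf cJ6481)) (BT.leaf cJ6482)) (BT.node 6483 (BT.leaf cJ6483) (BT.leaf cJ6484))))) (BT.node 6494 (BT.node 6489 (BT.node 6487 (BT.node 6486 (BT.node 6485 (BT.leaf cJ6485) (BT.leaf cJ6486)) (BT.leaf cJ6487)) (BT.node 6488 (BT.leaf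 cJ6488) (BT.leaf cJ6489))) (BT.node 6492 (BT.node 6491 (BT.node 6490 (BT.leaf cJ6490) (BT.leaf cJ6491)) (BT.leaf cJ6492)) (BT.node 6493 (BT.leaf cJ6493) (BT.leaf cJ6494)))) (BT.node 6499 (BT.node 6497 (BT.node 6496 (BT.node 6495 (BT.leaf cJ6495) (BT.leaf cJ6496)) (BT.leaf cJ6497)) (BT.node 6498 (BT.leaf cJ6498) (BT.leaf cJ6499))) (BT.node 6502 (BT.node 6501 (BT.node 6500 (BT.leaf cJ6500) (BT.leaf cJ6501)) (BT.leaf cJ6502)) (BT.node 6503 (BT.leaf cJ6503) (BT.leaf cJ6504)))))) (BT.node 6524 (BT.node 6514 (BT.node 6509 (BT.node 6507 (BT.node 6506 (BT.node 6505 (BT.leaf cJ6505) (BT.leaf cJ6506)) (BT.leaf cJ6507)) (BT.node 6508 (BT.leaf cJ6508) (BT.leaf cJ6509))) (BT.node 6512 (BT.node 6511 (BT.node 6510 (BT.leaf cJ6510) (BT.leaf cJ6511)) (BT.leaf cJ6512)) (BT.node 6513 (BT.leaf cJ6513) (BT.leaf cJ6514)))) (BT.node 6519 (BT.node 6517 (BT.node 6516 (BT.node 6515 (BT.leaf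 cJ6515) (BT.leaf cJ6516)) (BT.leaf cJ6517)) (BT.node 6518 (BT.leaf cJ6518) (BT.leaf cJ6519))) (BT.node 6522 (BT.node 6521 (BT.node 6520 (BT.leaf cJ6520) (BT.leaf cJ6521)) (BT.leaf cJ6522)) (BT.node 6523 (BT.leaf cJ6523) (BT.leaf cJ6524))))) (BT.node 6534 (BT.node 6529 (BT.node 6527 (BT.node 6526 (BT.node 6525 (BT.leaf cJ6525) (BT.leaf cJ6526)) (BT.leaf cJ6527)) (BT.node 6528 (BT.leaf cJ6528) (BT.leaf cJ6529))) (BT.node 6532 (BT.node 6531 (BT.node 6530 (BT.leaf cJ6530) (BT.leaf cJ6531)) (BT.leaf cJ6532)) (BT.node 6533 (BT.leaf cJ6533) (BT.leaf cJ6534)))) (BT.node 6539 (BT.node 6537 (BT.node 6536 (BT.node 6535 (BT.leaf cJ6535) (BT.leaf cJ6536)) (BT.leaf cJ6537)) (BT.node 6538 (BT.leaf cJ6538) (BT.leaf cJ6539))) (BT.node 6542 (BT.node 6541 (BT.node 6540 (BT.leaf cJ6540) (BT.leaf cJ6541)) (BT.leaf cJ6542)) (BT.node 6543 (BT.leaf cJ6543) (BT.leaf cJ6544))))))) (BT.node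 6585 (BT.node 6565 (BT.node 6555 (BT.node 6550 (BT.node 6547 (BT.node 6546 (BT.node 6545 (BT.leaf cJ6545) (BT.leaf cJ6546)) (BT.leaf cJ6547)) (BT.node 6549 (BT.node 6548 (BT.leaf cJ6548) (BT.leaf cJ6549)) (BT.leaf cJ6550))) (BT.node 6553 (BT.node 6552 (BT.node 6551 (BT.leaf cJ6551) (BT.leaf cJ6552)) (BT.leaf cJ6553)) (BT.node 6554 (BT.leaf cJ6554) (BT.leaf cJ6555)))) (BT.node 6560 (BT.node 6558 (BT.node 6557 (BT.node 6556 (BT.leaf cJ6556) (BT.leaf cJ6557)) (BT.leaf cJ6558)) (BT.node 6559 (BT.leaf cJ6559) (BT.leaf cJ6560))) (BT.node 6563 (BT.node 6562 (BT.node 6561 (BT.leaf cJ6561) (BT.leaf cJ6562)) (BT.leaf cJ6563)) (BT.node 6564 (BT.leaf cJ6564) (BT.leaf cJ6565))))) (BT.node 6575 (BT.node 6570 (BT.node 6568 (BT.node 6567 (BT.node 6566 (BT.leaf cJ6566) (BT.leaf cJ6567)) (BT.leaf cJ6568)) (BT.node 6569 (BT.leaf cJ6569) (BT.leaf cJ6570))) (BT.node 6573 (BT.node 6572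 (BT.node 6571 (BT.leaf cJ6571) (BT.leaf cJ6572)) (BT.leaf cJ6573)) (BT.node 6574 (BT.leaf cJ6574) (BT.leaf cJ6575)))) (BT.node 6580 (BT.node 6578 (BT.node 6577 (BT.node 6576 (BT.leaf cJ6576) (BT.leaf cJ6577)) (BT.leaf cJ6578)) (BT.node 6579 (BT.leaf cJ6579) (BT.leaf cJ6580))) (BT.node 6583 (BT.node 6582 (BT.node 6581 (BT.leaf cJ6581) (BT.leaf cJ6582)) (BT.leaf cJ6583)) (BT.node 6584 (BT.leaf cJ6584) (BT.leaf cJ6585)))))) (BT.node 6605 (BT.node 6595 (BT.node 6590 (BT.node 6588 (BT.node 6587 (BT.node 6586 (BT.leaf cJ6586) (BT.leaf cJ6587)) (BT.leaf cJ6588)) (BT.node 6589 (BT.leaf cJ6589) (BT.leaf cJ6590))) (BT.node 6593 (BT.node 6592 (BT.node 6591 (BT.leaf cJ6591) (BT.leaf cJ6592)) (BT.leaf cJ6593)) (BT.node 6594 (BT.leaf cJ6594) (BT.leaf cJ6595)))) (BT.node 6600 (BT.node 6598 (BT.node 6597 (BT.node 6596 (BT.leaf cJ6596) (BT.leaf cJ6597)) (BT.leaf cJ6598)) (BT.node 6599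 (BT.leaf cJ6599) (BT.leaf cJ6600))) (BT.node 6603 (BT.node 6602 (BT.node 6601 (BT.leaf cJ6601) (BT.leaf cJ6602)) (BT.leaf cJ6603)) (BT.node 6604 (BT.leaf cJ6604) (BT.leaf cJ6605))))) (BT.node 6615 (BT.node 6610 (BT.node 6608 (BT.node 6607 (BT.node 6606 (BT.leaf cJ6606) (BT.leaf cJ6607)) (BT.leaf cJ6608)) (BT.node 6609 (BT.leaf cJ6609) (BT.leaf cJ6610))) (BT.node 6613 (BT.node 6612 (BT.node 6611 (BT.leaf cJ6611) (BT.leaf cJ6612)) (BT.leaf cJ6613)) (BT.node 6614 (BT.leaf cJ6614) (BT.leaf cJ6615)))) (BT.node 6620 (BT.node 6618 (BT.node 6617 (BT.node 6616 (BT.leaf cJ6616) (BT.leaf cJ6617)) (BT.leaf cJ6618)) (BT.node 6619 (BT.leaf cJ6619) (BT.leaf cJ6620))) (BT.node 6623 (BT.node 6622 (BT.node 6621 (BT.leaf cJ6621) (BT.leaf cJ6622)) (BT.leaf cJ6623)) (BT.node 6624 (BT.leaf cJ6624) (BT.leaf cJ6625))))))))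
noncomputable def colJT_41 : BT ℕ := (BT.node 6706 (BT.node 6666 (BT.node 6646 (BT.node 6636 (BT.node 6631 (BT.node 6628 (BT.node 6627 (BT.node 6626 (BT.leaf cJ6626) (BT.leaf cJ6627)) (BT.leaf cJ6628)) (BT.node 6630 (BT.node 6629 (BT.leaf cJ6629) (BT.leaf cJ6630)) (BT.leaf cJ6631))) (BT.node 6634 (BT.node 6633 (BT.node 6632 (BT.leaf cJ6632) (BT.leaf cJ6633)) (BT.leaf cJ6634)) (BT.node 6635 (BT.leaf cJ6635) (BT.leaf cJ6636)))) (BT.node 6641 (BT.node 6639 (BT.node 6638 (BT.node 6637 (BT.leaf cJ6637) (BT.leaf cJ6638)) (BT.leaf cJ6639)) (BT.node 6640 (BT.leaf cJ6640) (BT.leaf cJ6641))) (BT.node 6644 (BT.node 6643 (BT.node 6642 (BT.leaf cJ6642) (BT.leaf cJ6643)) (BT.leaf cJ6644)) (BT.node 6645 (BT.leaf cJ6645) (BT.leaf cJ6646))))) (BT.node 6656 (BT.node 6651 (BT.node 6649 (BT.node 6648 (BT.node 6647 (BT.leaf cJ6647) (BT.leaf cJ6648)) (BT.leaf cJ6649)) (BT.node 6650 (BT.leaf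 cJ6650) (BT.leaf cJ6651))) (BT.node 6654 (BT.node 6653 (BT.node 6652 (BT.leaf cJ6652) (BT.leaf cJ6653)) (BT.leaf cJ6654)) (BT.node 6655 (BT.leaf cJ6655) (BT.leaf cJ6656)))) (BT.node 6661 (BT.node 6659 (BT.node 6658 (BT.node 6657 (BT.leaf cJ6657) (BT.leaf cJ6658)) (BT.leaf cJ6659)) (BT.node 6660 (BT.leaf cJ6660) (BT.leaf cJ6661))) (BT.node 6664 (BT.node 6663 (BT.node 6662 (BT.leaf cJ6662) (BT.leaf cJ6663)) (BT.leaf cJ6664)) (BT.node 6665 (BT.leaf cJ6665) (BT.leaf cJ6666)))))) (BT.node 6686 (BT.node 6676 (BT.node 6671 (BT.node 6669 (BT.node 6668 (BT.node 6667 (BT.leaf cJ6667) (BT.leaf cJ6668)) (BT.leaf cJ6669)) (BT.node 6670 (BT.leaf cJ6670) (BT.leaf cJ6671))) (BT.node 6674 (BT.node 6673 (BT.node 6672 (BT.leaf cJ6672) (BT.leaf cJ6673)) (BT.leaf cJ6674)) (BT.node 6675 (BT.leaf cJ6675) (BT.leaf cJ6676)))) (BT.node 6681 (BT.node 6679 (BT.node 6678 (BT.node 6677 (BT.leaf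 cJ6677) (BT.leaf cJ6678)) (BT.leaf cJ6679)) (BT.node 6680 (BT.leaf cJ6680) (BT.leaf cJ6681))) (BT.node 6684 (BT.node 6683 (BT.node 6682 (BT.leaf cJ6682) (BT.leaf cJ6683)) (BT.leaf cJ6684)) (BT.node 6685 (BT.leaf cJ6685) (BT.leaf cJ6686))))) (BT.node 6696 (BT.node 6691 (BT.node 6689 (BT.node 6688 (BT.node 6687 (BT.leaf cJ6687) (BT.leaf cJ6688)) (BT.leaf cJ6689)) (BT.node 6690 (BT.leaf cJ6690) (BT.leaf cJ6691))) (BT.node 6694 (BT.node 6693 (BT.node 6692 (BT.leaf cJ6692) (BT.leaf cJ6693)) (BT.leaf cJ6694)) (BT.node 6695 (BT.leaf cJ6695) (BT.leaf cJ6696)))) (BT.node 6701 (BT.node 6699 (BT.node 6698 (BT.node 6697 (BT.leaf cJ6697) (BT.leaf cJ6698)) (BT.leaf cJ6699)) (BT.node 6700 (BT.leaf cJ6700) (BT.leaf cJ6701))) (BT.node 6704 (BT.node 6703 (BT.node 6702 (BT.leaf cJ6702) (BT.leaf cJ6703)) (BT.leaf cJ6704)) (BT.node 6705 (BT.leaf cJ6705) (BT.leaf cJ6706))))))) (BT.node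 6747 (BT.node 6727 (BT.node 6717 (BT.node 6712 (BT.node 6709 (BT.node 6708 (BT.node 6707 (BT.leaf cJ6707) (BT.leaf cJ6708)) (BT.leaf cJ6709)) (BT.node 6711 (BT.node 6710 (BT.leaf cJ6710) (BT.leaf cJ6711)) (BT.leaf cJ6712))) (BT.node 6715 (BT.node 6714 (BT.node 6713 (BT.leaf cJ6713) (BT.leaf cJ6714)) (BT.leaf cJ6715)) (BT.node 6716 (BT.leaf cJ6716) (BT.leaf cJ6717)))) (BT.node 6722 (BT.node 6720 (BT.node 6719 (BT.node 6718 (BT.leaf cJ6718) (BT.leaf cJ6719)) (BT.leaf cJ6720)) (BT.node 6721 (BT.leaf cJ6721) (BT.leaf cJ6722))) (BT.node 6725 (BT.node 6724 (BT.node 6723 (BT.leaf cJ6723) (BT.leaf cJ6724)) (BT.leaf cJ6725)) (BT.node 6726 (BT.leaf cJ6726) (BT.leaf cJ6727))))) (BT.node 6737 (BT.node 6732 (BT.node 6730 (BT.node 6729 (BT.node 6728 (BT.leaf cJ6728) (BT.leaf cJ6729)) (BT.leaf cJ6730)) (BT.node 6731 (BT.leaf cJ6731) (BT.leaf cJ6732))) (BT.node 6735 (BT.node 6734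 (BT.node 6733 (BT.leaf cJ6733) (BT.leaf cJ6734)) (BT.leaf cJ6735)) (BT.node 6736 (BT.leaf cJ6736) (BT.leaf cJ6737)))) (BT.node 6742 (BT.node 6740 (BT.node 6739 (BT.node 6738 (BT.leaf cJ6738) (BT.leaf cJ6739)) (BT.leaf cJ6740)) (BT.node 6741 (BT.leaf cJ6741) (BT.leaf cJ6742))) (BT.node 6745 (BT.node 6744 (BT.node 6743 (BT.leaf cJ6743) (BT.leaf cJ6744)) (BT.leaf cJ6745)) (BT.node 6746 (BT.leaf cJ6746) (BT.leaf cJ6747)))))) (BT.node 6767 (BT.node 6757 (BT.node 6752 (BT.node 6750 (BT.node 6749 (BT.node 6748 (BT.leaf cJ6748) (BT.leaf cJ6749)) (BT.leaf cJ6750)) (BT.node 6751 (BT.leaf cJ6751) (BT.leaf cJ6752))) (BT.node 6755 (BT.node 6754 (BT.node 6753 (BT.leaf cJ6753) (BT.leaf cJ6754)) (BT.leaf cJ6755)) (BT.node 6756 (BT.leaf cJ6756) (BT.leaf cJ6757)))) (BT.node 6762 (BT.node 6760 (BT.node 6759 (BT.node 6758 (BT.leaf cJ6758) (BT.leaf cJ6759)) (BT.leaf cJ6760)) (BT.node 6761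 (BT.leaf cJ6761) (BT.leaf cJ6762))) (BT.node 6765 (BT.node 6764 (BT.node 6763 (BT.leaf cJ6763) (BT.leaf cJ6764)) (BT.leaf cJ6765)) (BT.node 6766 (BT.leaf cJ6766) (BT.leaf cJ6767))))) (BT.node 6777 (BT.node 6772 (BT.node 6770 (BT.node 6769 (BT.node 6768 (BT.leaf cJ6768) (BT.leaf cJ6769)) (BT.leaf cJ6770)) (BT.node 6771 (BT.leaf cJ6771) (BT.leaf cJ6772))) (BT.node 6775 (BT.node 6774 (BT.node 6773 (BT.leaf cJ6773) (BT.leaf cJ6774)) (BT.leaf cJ6775)) (BT.node 6776 (BT.leaf cJ6776) (BT.leaf cJ6777)))) (BT.node 6782 (BT.node 6780 (BT.node 6779 (BT.node 6778 (BT.leaf cJ6778) (BT.leaf cJ6779)) (BT.leaf cJ6780)) (BT.node 6781 (BT.leaf cJ6781) (BT.leaf cJ6782))) (BT.node 6785 (BT.node 6784 (BT.node 6783 (BT.leaf cJ6783) (BT.leaf cJ6784)) (BT.leaf cJ6785)) (BT.node 6786 (BT.leaf cJ6786) (BT.leaf cJ6787))))))))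
noncomputable def colJT_42 : BT ℕ := (BT.node 6868 (BT.node 6828 (BT.node 6808 (BT.node 6798 (BT.node 6793 (BT.node 6790 (BT.node 6789 (BT.node 6788 (BT.leaf cJ6788) (BT.leaf cJ6789)) (BT.leaf cJ6790)) (BT.node 6792 (BT.node 6791 (BT.leaf cJ6791) (BT.leaf cJ6792)) (BT.leaf cJ6793))) (BT.node 6796 (BT.node 6795 (BT.node 6794 (BT.leaf cJ6794) (BT.leaf cJ6795)) (BT.leaf cJ6796)) (BT.node 6797 (BT.leaf cJ6797) (BT.leaf cJ6798)))) (BT.node 6803 (BT.node 6801 (BT.node 6800 (BT.node 6799 (BT.leaf cJ6799) (BT.leaf cJ6800)) (BT.leaf cJ6801)) (BT.node 6802 (BT.leaf cJ6802) (BT.leaf cJ6803))) (BT.node 6806 (BT.node 6805 (BT.node 6804 (BT.leaf cJ6804) (BT.leaf cJ6805)) (BT.leaf cJ6806)) (BT.node 6807 (BT.leaf cJ6807) (BT.leaf cJ6808))))) (BT.node 6818 (BT.node 6813 (BT.node 6811 (BT.node 6810 (BT.node 6809 (BT.leaf cJ6809) (BT.leaf cJ6810)) (BT.leaf cJ6811)) (BT.node 6812 (BT.leaf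 cJ6812) (BT.leaf cJ6813))) (BT.node 6816 (BT.node 6815 (BT.node 6814 (BT.leaf cJ6814) (BT.leaf cJ6815)) (BT.leaf cJ6816)) (BT.node 6817 (BT.leaf cJ6817) (BT.leaf cJ6818)))) (BT.node 6823 (BT.node 6821 (BT.node 6820 (BT.node 6819 (BT.leaf cJ6819) (BT.leaf cJ6820)) (BT.leaf cJ6821)) (BT.node 6822 (BT.leaf cJ6822) (BT.leaf cJ6823))) (BT.node 6826 (BT.node 6825 (BT.node 6824 (BT.leaf cJ6824) (BT.leaf cJ6825)) (BT.leaf cJ6826)) (BT.node 6827 (BT.leaf cJ6827) (BT.leaf cJ6828)))))) (BT.node 6848 (BT.node 6838 (BT.node 6833 (BT.node 6831 (BT.node 6830 (BT.node 6829 (BT.leaf cJ6829) (BT.leaf cJ6830)) (BT.leaf cJ6831)) (BT.node 6832 (BT.leaf cJ6832) (BT.leaf cJ6833))) (BT.node 6836 (BT.node 6835 (BT.node 6834 (BT.leaf cJ6834) (BT.leaf cJ6835)) (BT.leaf cJ6836)) (BT.node 6837 (BT.leaf cJ6837) (BT.leaf cJ6838)))) (BT.node 6843 (BT.node 6841 (BT.node 6840 (BT.node 6839 (BT.leaf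 cJ6839) (BT.leaf cJ6840)) (BT.leaf cJ6841)) (BT.node 6842 (BT.leaf cJ6842) (BT.leaf cJ6843))) (BT.node 6846 (BT.node 6845 (BT.node 6844 (BT.leaf cJ6844) (BT.leaf cJ6845)) (BT.leaf cJ6846)) (BT.node 6847 (BT.leaf cJ6847) (BT.leaf cJ6848))))) (BT.node 6858 (BT.node 6853 (BT.node 6851 (BT.node 6850 (BT.node 6849 (BT.leaf cJ6849) (BT.leaf cJ6850)) (BT.leaf cJ6851)) (BT.node 6852 (BT.leaf cJ6852) (BT.leaf cJ6853))) (BT.node 6856 (BT.node 6855 (BT.node 6854 (BT.leaf cJ6854) (BT.leaf cJ6855)) (BT.leaf cJ6856)) (BT.node 6857 (BT.leaf cJ6857) (BT.leaf cJ6858)))) (BT.node 6863 (BT.node 6861 (BT.node 6860 (BT.node 6859 (BT.leaf cJ6859) (BT.leaf cJ6860)) (BT.leaf cJ6861)) (BT.node 6862 (BT.leaf cJ6862) (BT.leaf cJ6863))) (BT.node 6866 (BT.node 6865 (BT.node 6864 (BT.leaf cJ6864) (BT.leaf cJ6865)) (BT.leaf cJ6866)) (BT.node 6867 (BT.leaf cJ6867) (BT.leaf cJ6868))))))) (BT.node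 6909 (BT.node 6889 (BT.node 6879 (BT.node 6874 (BT.node 6871 (BT.node 6870 (BT.node 6869 (BT.leaf cJ6869) (BT.leaf cJ6870)) (BT.leaf cJ6871)) (BT.node 6873 (BT.node 6872 (BT.leaf cJ6872) (BT.leaf cJ6873)) (BT.leaf cJ6874))) (BT.node 6877 (BT.node 6876 (BT.node 6875 (BT.leaf cJ6875) (BT.leaf cJ6876)) (BT.leaf cJ6877)) (BT.node 6878 (BT.leaf cJ6878) (BT.leaf cJ6879)))) (BT.node 6884 (BT.node 6882 (BT.node 6881 (BT.node 6880 (BT.leaf cJ6880) (BT.leaf cJ6881)) (BT.leaf cJ6882)) (BT.node 6883 (BT.leaf cJ6883) (BT.leaf cJ6884))) (BT.node 6887 (BT.node 6886 (BT.node 6885 (BT.leaf cJ6885) (BT.leaf cJ6886)) (BT.leaf cJ6887)) (BT.node 6888 (BT.leaf cJ6888) (BT.leaf cJ6889))))) (BT.node 6899 (BT.node 6894 (BT.node 6892 (BT.node 6891 (BT.node 6890 (BT.leaf cJ6890) (BT.leaf cJ6891)) (BT.leaf cJ6892)) (BT.node 6893 (BT.leaf cJ6893) (BT.leaf cJ6894))) (BT.node 6897 (BT.node 6896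 (BT.node 6895 (BT.leaf cJ6895) (BT.leaf cJ6896)) (BT.leaf cJ6897)) (BT.node 6898 (BT.leaf cJ6898) (BT.leaf cJ6899)))) (BT.node 6904 (BT.node 6902 (BT.node 6901 (BT.node 6900 (BT.leaf cJ6900) (BT.leaf cJ6901)) (BT.leaf cJ6902)) (BT.node 6903 (BT.leaf cJ6903) (BT.leaf cJ6904))) (BT.node 6907 (BT.node 6906 (BT.node 6905 (BT.leaf cJ6905) (BT.leaf cJ6906)) (BT.leaf cJ6907)) (BT.node 6908 (BT.leaf cJ6908) (BT.leaf cJ6909)))))) (BT.node 6929 (BT.node 6919 (BT.node 6914 (BT.node 6912 (BT.node 6911 (BT.node 6910 (BT.leaf cJ6910) (BT.leaf cJ6911)) (BT.leaf cJ6912)) (BT.node 6913 (BT.leaf cJ6913) (BT.leaf cJ6914))) (BT.node 6917 (BT.node 6916 (BT.node 6915 (BT.leaf cJ6915) (BT.leaf cJ6916)) (BT.leaf cJ6917)) (BT.node 6918 (BT.leaf cJ6918) (BT.leaf cJ6919)))) (BT.node 6924 (BT.node 6922 (BT.node 6921 (BT.node 6920 (BT.leaf cJ6920) (BT.leaf cJ6921)) (BT.leaf cJ6922)) (BT.node 6923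 (BT.leaf cJ6923) (BT.leaf cJ6924))) (BT.node 6927 (BT.node 6926 (BT.node 6925 (BT.leaf cJ6925) (BT.leaf cJ6926)) (BT.leaf cJ6927)) (BT.node 6928 (BT.leaf cJ6928) (BT.leaf cJ6929))))) (BT.node 6939 (BT.node 6934 (BT.node 6932 (BT.node 6931 (BT.node 6930 (BT.leaf cJ6930) (BT.leaf cJ6931)) (BT.leaf cJ6932)) (BT.node 6933 (BT.leaf cJ6933) (BT.leaf cJ6934))) (BT.node 6937 (BT.node 6936 (BT.node 6935 (BT.leaf cJ6935) (BT.leaf cJ6936)) (BT.leaf cJ6937)) (BT.node 6938 (BT.leaf cJ6938) (BT.leaf cJ6939)))) (BT.node 6944 (BT.node 6942 (BT.node 6941 (BT.node 6940 (BT.leaf cJ6940) (BT.leaf cJ6941)) (BT.leaf cJ6942)) (BT.node 6943 (BT.leaf cJ6943) (BT.leaf cJ6944))) (BT.node 6947 (BT.node 6946 (BT.node 6945 (BT.leaf cJ6945) (BT.leaf cJ6946)) (BT.leaf cJ6947)) (BT.node 6948 (BT.leaf cJ6948) (BT.leaf cJ6949))))))))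
noncomputable def colJT_43 : BT ℕ := (BT.node 7030 (BT.node 6990 (BT.node 6970 (BT.node 6960 (BT.node 6955 (BT.node 6952 (BT.node 6951 (BT.node 6950 (BT.leaf cJ6950) (BT.leaf cJ6951)) (BT.leaf cJ6952)) (BT.node 6954 (BT.node 6953 (BT.leaf cJ6953) (BT.leaf cJ6954)) (BT.leaf cJ6955))) (BT.node 6958 (BT.node 6957 (BT.node 6956 (BT.leaf cJ6956) (BT.leaf cJ6957)) (BT.leaf cJ6958)) (BT.node 6959 (BT.leaf cJ6959) (BT.leaf cJ6960)))) (BT.node 6965 (BT.node 6963 (BT.node 6962 (BT.node 6961 (BT.leaf cJ6961) (BT.leaf cJ6962)) (BT.leaf cJ6963)) (BT.node 6964 (BT.leaf cJ6964) (BT.leaf cJ6965))) (BT.node 6968 (BT.node 6967 (BT.node 6966 (BT.leaf cJ6966) (BT.leaf cJ6967)) (BT.leaf cJ6968)) (BT.node 6969 (BT.leaf cJ6969) (BT.leaf cJ6970))))) (BT.node 6980 (BT.node 6975 (BT.node 6973 (BT.node 6972 (BT.node 6971 (BT.leaf cJ6971) (BT.leaf cJ6972)) (BT.leaf cJ6973)) (BT.node 6974 (BT.leaf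 cJ6974) (BT.leaf cJ6975))) (BT.node 6978 (BT.node 6977 (BT.node 6976 (BT.leaf cJ6976) (BT.leaf cJ6977)) (BT.leaf cJ6978)) (BT.node 6979 (BT.leaf cJ6979) (BT.leaf cJ6980)))) (BT.node 6985 (BT.node 6983 (BT.node 6982 (BT.node 6981 (BT.leaf cJ6981) (BT.leaf cJ6982)) (BT.leaf cJ6983)) (BT.node 6984 (BT.leaf cJ6984) (BT.leaf cJ6985))) (BT.node 6988 (BT.node 6987 (BT.node 6986 (BT.leaf cJ6986) (BT.leaf cJ6987)) (BT.leaf cJ6988)) (BT.node 6989 (BT.leaf cJ6989) (BT.leaf cJ6990)))))) (BT.node 7010 (BT.node 7000 (BT.node 6995 (BT.node 6993 (BT.node 6992 (BT.node 6991 (BT.leaf cJ6991) (BT.leaf cJ6992)) (BT.leaf cJ6993)) (BT.node 6994 (BT.leaf cJ6994) (BT.leaf cJ6995))) (BT.node 6998 (BT.node 6997 (BT.node 6996 (BT.leaf cJ6996) (BT.leaf cJ6997)) (BT.leaf cJ6998)) (BT.node 6999 (BT.leaf cJ6999) (BT.leaf cJ7000)))) (BT.node 7005 (BT.node 7003 (BT.node 7002 (BT.node 7001 (BT.leaf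 cJ7001) (BT.leaf cJ7002)) (BT.leaf cJ7003)) (BT.node 7004 (BT.leaf cJ7004) (BT.leaf cJ7005))) (BT.node 7008 (BT.node 7007 (BT.node 7006 (BT.leaf cJ7006) (BT.leaf cJ7007)) (BT.leaf cJ7008)) (BT.node 7009 (BT.leaf cJ7009) (BT.leaf cJ7010))))) (BT.node 7020 (BT.node 7015 (BT.node 7013 (BT.node 7012 (BT.node 7011 (BT.leaf cJ7011) (BT.leaf cJ7012)) (BT.leaf cJ7013)) (BT.node 7014 (BT.leaf cJ7014) (BT.leaf cJ7015))) (BT.node 7018 (BT.node 7017 (BT.node 7016 (BT.leaf cJ7016) (BT.leaf cJ7017)) (BT.leaf cJ7018)) (BT.node 7019 (BT.leaf cJ7019) (BT.leaf cJ7020)))) (BT.node 7025 (BT.node 7023 (BT.node 7022 (BT.node 7021 (BT.leaf cJ7021) (BT.leaf cJ7022)) (BT.leaf cJ7023)) (BT.node 7024 (BT.leaf cJ7024) (BT.leaf cJ7025))) (BT.node 7028 (BT.node 7027 (BT.node 7026 (BT.leaf cJ7026) (BT.leaf cJ7027)) (BT.leaf cJ7028)) (BT.node 7029 (BT.leaf cJ7029) (BT.leaf cJ7030))))))) (BT.node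 7070 (BT.node 7050 (BT.node 7040 (BT.node 7035 (BT.node 7033 (BT.node 7032 (BT.node 7031 (BT.leaf cJ7031) (BT.leaf cJ7032)) (BT.leaf cJ7033)) (BT.node 7034 (BT.leaf cJ7034) (BT.leaf cJ7035))) (BT.node 7038 (BT.node 7037 (BT.node 7036 (BT.leaf cJ7036) (BT.leaf cJ7037)) (BT.leaf cJ7038)) (BT.node 7039 (BT.leaf cJ7039) (BT.leaf cJ7040)))) (BT.node 7045 (BT.node 7043 (BT.node 7042 (BT.node 7041 (BT.leaf cJ7041) (BT.leaf cJ7042)) (BT.leaf cJ7043)) (BT.node 7044 (BT.leaf cJ7044) (BT.leaf cJ7045))) (BT.node 7048 (BT.node 7047 (BT.node 7046 (BT.leaf cJ7046) (BT.leaf cJ7047)) (BT.leaf cJ7048)) (BT.node 7049 (BT.leaf cJ7049) (BT.leaf cJ7050))))) (BT.node 7060 (BT.node 7055 (BT.node 7053 (BT.node 7052 (BT.node 7051 (BT.leaf cJ7051) (BT.leaf cJ7052)) (BT.leaf cJ7053)) (BT.node 7054 (BT.leaf cJ7054) (BT.leaf cJ7055))) (BT.node 7058 (BT.node 7057 (BT.node 7056 (BT.leaf cJ7056) (BT.leaf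 cJ7057)) (BT.leaf cJ7058)) (BT.node 7059 (BT.leaf cJ7059) (BT.leaf cJ7060)))) (BT.node 7065 (BT.node 7063 (BT.node 7062 (BT.node 7061 (BT.leaf cJ7061) (BT.leaf cJ7062)) (BT.leaf cJ7063)) (BT.node 7064 (BT.leaf cJ7064) (BT.leaf cJ7065))) (BT.node 7068 (BT.node 7067 (BT.node 7066 (BT.leaf cJ7066) (BT.leaf cJ7067)) (BT.leaf cJ7068)) (BT.node 7069 (BT.leaf cJ7069) (BT.leaf cJ7070)))))) (BT.node 7090 (BT.node 7080 (BT.node 7075 (BT.node 7073 (BT.node 7072 (BT.node 7071 (BT.leaf cJ7071) (BT.leaf cJ7072)) (BT.leaf cJ7073)) (BT.node 7074 (BT.leaf cJ7074) (BT.leaf cJ7075))) (BT.node 7078 (BT.node 7077 (BT.node 7076 (BT.leaf cJ7076) (BT.leaf cJ7077)) (BT.leaf cJ7078)) (BT.node 7079 (BT.leaf cJ7079) (BT.leaf cJ7080)))) (BT.node 7085 (BT.node 7083 (BT.node 7082 (BT.node 7081 (BT.leaf cJ7081) (BT.leaf cJ7082)) (BT.leaf cJ7083)) (BT.node 7084 (BT.leaf cJ7084) (BT.leaf cJ7085)))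 (BT.node 7088 (BT.node 7087 (BT.node 7086 (BT.leaf cJ7086) (BT.leaf cJ7087)) (BT.leaf cJ7088)) (BT.node 7089 (BT.leaf cJ7089) (BT.leaf cJ7090))))) (BT.node 7100 (BT.node 7095 (BT.node 7093 (BT.node 7092 (BT.node 7091 (BT.leaf cJ7091) (BT.leaf cJ7092)) (BT.leaf cJ7093)) (BT.node 7094 (BT.leaf cJ7094) (BT.leaf cJ7095))) (BT.node 7098 (BT.node 7097 (BT.node 7096 (BT.leaf cJ7096) (BT.leaf cJ7097)) (BT.leaf cJ7098)) (BT.node 7099 (BT.leaf cJ7099) (BT.leaf cJ7100)))) (BT.node 7105 (BT.node 7103 (BT.node 7102 (BT.node 7101 (BT.leaf cJ7101) (BT.leaf cJ7102)) (BT.leaf cJ7103)) (BT.node 7104 (BT.leaf cJ7104) (BT.leaf cJ7105))) (BT.node 7108 (BT.node 7107 (BT.node 7106 (BT.leaf cJ7106) (BT.leaf cJ7107)) (BT.leaf cJ7108)) (BT.node 7109 (BT.leaf cJ7109) (BT.leaf cJ7110))))))))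
noncomputable def colJT_44 : BT ℕ := (BT.node 7191 (BT.node 7151 (BT.node 7131 (BT.node 7121 (BT.node 7116 (BT.node 7113 (BT.node 7112 (BT.node 7111 (BT.leaf cJ7111) (BT.leaf cJ7112)) (BT.leaf cJ7113)) (BT.node 7115 (BT.node 7114 (BT.leaf cJ7114) (BT.leaf cJ7115)) (BT.leaf cJ7116))) (BT.node 7119 (BT.node 7118 (BT.node 7117 (BT.leaf cJ7117) (BT.leaf cJ7118)) (BT.leaf cJ7119)) (BT.node 7120 (BT.leaf cJ7120) (BT.leaf cJ7121)))) (BT.node 7126 (BT.node 7124 (BT.node 7123 (BT.node 7122 (BT.leaf cJ7122) (BT.leaf cJ7123)) (BT.leaf cJ7124)) (BT.node 7125 (BT.leaf cJ7125) (BT.leaf cJ7126))) (BT.node 7129 (BT.node 7128 (BT.node 7127 (BT.leaf cJ7127) (BT.leaf cJ7128)) (BT.leaf cJ7129)) (BT.node 7130 (BT.leaf cJ7130) (BT.leaf cJ7131))))) (BT.node 7141 (BT.node 7136 (BT.node 7134 (BT.node 7133 (BT.node 7132 (BT.leaf cJ7132) (BT.leaf cJ7133)) (BT.leaf cJ7134)) (BT.node 7135 (BT.leaf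 cJ7135) (BT.leaf cJ7136))) (BT.node 7139 (BT.node 7138 (BT.node 7137 (BT.leaf cJ7137) (BT.leaf cJ7138)) (BT.leaf cJ7139)) (BT.node 7140 (BT.leaf cJ7140) (BT.leaf cJ7141)))) (BT.node 7146 (BT.node 7144 (BT.node 7143 (BT.node 7142 (BT.leaf cJ7142) (BT.leaf cJ7143)) (BT.leaf cJ7144)) (BT.node 7145 (BT.leaf cJ7145) (BT.leaf cJ7146))) (BT.node 7149 (BT.node 7148 (BT.node 7147 (BT.leaf cJ7147) (BT.leaf cJ7148)) (BT.leaf cJ7149)) (BT.node 7150 (BT.leaf cJ7150) (BT.leaf cJ7151)))))) (BT.node 7171 (BT.node 7161 (BT.node 7156 (BT.node 7154 (BT.node 7153 (BT.node 7152 (BT.leaf cJ7152) (BT.leaf cJ7153)) (BT.leaf cJ7154)) (BT.node 7155 (BT.leaf cJ7155) (BT.leaf cJ7156))) (BT.node 7159 (BT.node 7158 (BT.node 7157 (BT.leaf cJ7157) (BT.leaf cJ7158)) (BT.leaf cJ7159)) (BT.node 7160 (BT.leaf cJ7160) (BT.leaf cJ7161)))) (BT.node 7166 (BT.node 7164 (BT.node 7163 (BT.node 7162 (BT.leaf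 cJ7162) (BT.leaf cJ7163)) (BT.leaf cJ7164)) (BT.node 7165 (BT.leaf cJ7165) (BT.leaf cJ7166))) (BT.node 7169 (BT.node 7168 (BT.node 7167 (BT.leaf cJ7167) (BT.leaf cJ7168)) (BT.leaf cJ7169)) (BT.node 7170 (BT.leaf cJ7170) (BT.leaf cJ7171))))) (BT.node 7181 (BT.node 7176 (BT.node 7174 (BT.node 7173 (BT.node 7172 (BT.leaf cJ7172) (BT.leaf cJ7173)) (BT.leaf cJ7174)) (BT.node 7175 (BT.leaf cJ7175) (BT.leaf cJ7176))) (BT.node 7179 (BT.node 7178 (BT.node 7177 (BT.leaf cJ7177) (BT.leaf cJ7178)) (BT.leaf cJ7179)) (BT.node 7180 (BT.leaf cJ7180) (BT.leaf cJ7181)))) (BT.node 7186 (BT.node 7184 (BT.node 7183 (BT.node 7182 (BT.leaf cJ7182) (BT.leaf cJ7183)) (BT.leaf cJ7184)) (BT.node 7185 (BT.leaf cJ7185) (BT.leaf cJ7186))) (BT.node 7189 (BT.node 7188 (BT.node 7187 (BT.leaf cJ7187) (BT.leaf cJ7188)) (BT.leaf cJ7189)) (BT.node 7190 (BT.leaf cJ7190) (BT.leaf cJ7191))))))) (BT.node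 7232 (BT.node 7212 (BT.node 7202 (BT.node 7197 (BT.node 7194 (BT.node 7193 (BT.node 7192 (BT.leaf cJ7192) (BT.leaf cJ7193)) (BT.leaf cJ7194)) (BT.node 7196 (BT.node 7195 (BT.leaf cJ7195) (BT.leaf cJ7196)) (BT.leaf cJ7197))) (BT.node 7200 (BT.node 7199 (BT.node 7198 (BT.leaf cJ7198) (BT.leaf cJ7199)) (BT.leaf cJ7200)) (BT.node 7201 (BT.leaf cJ7201) (BT.leaf cJ7202)))) (BT.node 7207 (BT.node 7205 (BT.node 7204 (BT.node 7203 (BT.leaf cJ7203) (BT.leaf cJ7204)) (BT.leaf cJ7205)) (BT.node 7206 (BT.leaf cJ7206) (BT.leaf cJ7207))) (BT.node 7210 (BT.node 7209 (BT.node 7208 (BT.leaf cJ7208) (BT.leaf cJ7209)) (BT.leaf cJ7210)) (BT.node 7211 (BT.leaf cJ7211) (BT.leaf cJ7212))))) (BT.node 7222 (BT.node 7217 (BT.node 7215 (BT.node 7214 (BT.node 7213 (BT.leaf cJ7213) (BT.leaf cJ7214)) (BT.leaf cJ7215)) (BT.node 7216 (BT.leaf cJ7216) (BT.leaf cJ7217))) (BT.node 7220 (BT.node 7219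 (BT.node 7218 (BT.leaf cJ7218) (BT.leaf cJ7219)) (BT.leaf cJ7220)) (BT.node 7221 (BT.leaf cJ7221) (BT.leaf cJ7222)))) (BT.node 7227 (BT.node 7225 (BT.node 7224 (BT.node 7223 (BT.leaf cJ7223) (BT.leaf cJ7224)) (BT.leaf cJ7225)) (BT.node 7226 (BT.leaf cJ7226) (BT.leaf cJ7227))) (BT.node 7230 (BT.node 7229 (BT.node 7228 (BT.leaf cJ7228) (BT.leaf cJ7229)) (BT.leaf cJ7230)) (BT.node 7231 (BT.leaf cJ7231) (BT.leaf cJ7232)))))) (BT.node 7252 (BT.node 7242 (BT.node 7237 (BT.node 7235 (BT.node 7234 (BT.node 7233 (BT.leaf cJ7233) (BT.leaf cJ7234)) (BT.leaf cJ7235)) (BT.node 7236 (BT.leaf cJ7236) (BT.leaf cJ7237))) (BT.node 7240 (BT.node 7239 (BT.node 7238 (BT.leaf cJ7238) (BT.leaf cJ7239)) (BT.leaf cJ7240)) (BT.node 7241 (BT.leaf cJ7241) (BT.leaf cJ7242)))) (BT.node 7247 (BT.node 7245 (BT.node 7244 (BT.node 7243 (BT.leaf cJ7243) (BT.leaf cJ7244)) (BT.leaf cJ7245)) (BT.node 7246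 (BT.leaf cJ7246) (BT.leaf cJ7247))) (BT.node 7250 (BT.node 7249 (BT.node 7248 (BT.leaf cJ7248) (BT.leaf cJ7249)) (BT.leaf cJ7250)) (BT.node 7251 (BT.leaf cJ7251) (BT.leaf cJ7252))))) (BT.node 7262 (BT.node 7257 (BT.node 7255 (BT.node 7254 (BT.node 7253 (BT.leaf cJ7253) (BT.leaf cJ7254)) (BT.leaf cJ7255)) (BT.node 7256 (BT.leaf cJ7256) (BT.leaf cJ7257))) (BT.node 7260 (BT.node 7259 (BT.node 7258 (BT.leaf cJ7258) (BT.leaf cJ7259)) (BT.leaf cJ7260)) (BT.node 7261 (BT.leaf cJ7261) (BT.leaf cJ7262)))) (BT.node 7267 (BT.node 7265 (BT.node 7264 (BT.node 7263 (BT.leaf cJ7263) (BT.leaf cJ7264)) (BT.leaf cJ7265)) (BT.node 7266 (BT.leaf cJ7266) (BT.leaf cJ7267))) (BT.node 7270 (BT.node 7269 (BT.node 7268 (BT.leaf cJ7268) (BT.leaf cJ7269)) (BT.leaf cJ7270)) (BT.node 7271 (BT.leaf cJ7271) (BT.leaf cJ7272))))))))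
noncomputable def colJT_45 : BT ℕ := (BT.node 7353 (BT.node 7313 (BT.node 7293 (BT.node 7283 (BT.node 7278 (BT.node 7275 (BT.node 7274 (BT.node 7273 (BT.leaf cJ7273) (BT.leaf cJ7274)) (BT.leaf cJ7275)) (BT.node 7277 (BT.node 7276 (BT.leaf cJ7276) (BT.leaf cJ7277)) (BT.leaf cJ7278))) (BT.node 7281 (BT.node 7280 (BT.node 7279 (BT.leaf cJ7279) (BT.leaf cJ7280)) (BT.leaf cJ7281)) (BT.node 7282 (BT.leaf cJ7282) (BT.leaf cJ7283)))) (BT.node 7288 (BT.node 7286 (BT.node 7285 (BT.node 7284 (BT.leaf cJ7284) (BT.leaf cJ7285)) (BT.leaf cJ7286)) (BT.node 7287 (BT.leaf cJ7287) (BT.leaf cJ7288))) (BT.node 7291 (BT.node 7290 (BT.node 7289 (BT.leaf cJ7289) (BT.leaf cJ7290)) (BT.leaf cJ7291)) (BT.node 7292 (BT.leaf cJ7292) (BT.leaf cJ7293))))) (BT.node 7303 (BT.node 7298 (BT.node 7296 (BT.node 7295 (BT.node 7294 (BT.leaf cJ7294) (BT.leaf cJ7295)) (BT.leaf cJ7296)) (BT.node 7297 (BT.leaf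 cJ7297) (BT.leaf cJ7298))) (BT.node 7301 (BT.node 7300 (BT.node 7299 (BT.leaf cJ7299) (BT.leaf cJ7300)) (BT.leaf cJ7301)) (BT.node 7302 (BT.leaf cJ7302) (BT.leaf cJ7303)))) (BT.node 7308 (BT.node 7306 (BT.node 7305 (BT.node 7304 (BT.leaf cJ7304) (BT.leaf cJ7305)) (BT.leaf cJ7306)) (BT.node 7307 (BT.leaf cJ7307) (BT.leaf cJ7308))) (BT.node 7311 (BT.node 7310 (BT.node 7309 (BT.leaf cJ7309) (BT.leaf cJ7310)) (BT.leaf cJ7311)) (BT.node 7312 (BT.leaf cJ7312) (BT.leaf cJ7313)))))) (BT.node 7333 (BT.node 7323 (BT.node 7318 (BT.node 7316 (BT.node 7315 (BT.node 7314 (BT.leaf cJ7314) (BT.leaf cJ7315)) (BT.leaf cJ7316)) (BT.node 7317 (BT.leaf cJ7317) (BT.leaf cJ7318))) (BT.node 7321 (BT.node 7320 (BT.node 7319 (BT.leaf cJ7319) (BT.leaf cJ7320)) (BT.leaf cJ7321)) (BT.node 7322 (BT.leaf cJ7322) (BT.leaf cJ7323)))) (BT.node 7328 (BT.node 7326 (BT.node 7325 (BT.node 7324 (BT.leaf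 cJ7324) (BT.leaf cJ7325)) (BT.leaf cJ7326)) (BT.node 7327 (BT.leaf cJ7327) (BT.leaf cJ7328))) (BT.node 7331 (BT.node 7330 (BT.node 7329 (BT.leaf cJ7329) (BT.leaf cJ7330)) (BT.leaf cJ7331)) (BT.node 7332 (BT.leaf cJ7332) (BT.leaf cJ7333))))) (BT.node 7343 (BT.node 7338 (BT.node 7336 (BT.node 7335 (BT.node 7334 (BT.leaf cJ7334) (BT.leaf cJ7335)) (BT.leaf cJ7336)) (BT.node 7337 (BT.leaf cJ7337) (BT.leaf cJ7338))) (BT.node 7341 (BT.node 7340 (BT.node 7339 (BT.leaf cJ7339) (BT.leaf cJ7340)) (BT.leaf cJ7341)) (BT.node 7342 (BT.leaf cJ7342) (BT.leaf cJ7343)))) (BT.node 7348 (BT.node 7346 (BT.node 7345 (BT.node 7344 (BT.leaf cJ7344) (BT.leaf cJ7345)) (BT.leaf cJ7346)) (BT.node 7347 (BT.leaf cJ7347) (BT.leaf cJ7348))) (BT.node 7351 (BT.node 7350 (BT.node 7349 (BT.leaf cJ7349) (BT.leaf cJ7350)) (BT.leaf cJ7351)) (BT.node 7352 (BT.leaf cJ7352) (BT.leaf cJ7353))))))) (BT.node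 7393 (BT.node 7373 (BT.node 7363 (BT.node 7358 (BT.node 7356 (BT.node 7355 (BT.node 7354 (BT.leaf cJ7354) (BT.leaf cJ7355)) (BT.leaf cJ7356)) (BT.node 7357 (BT.leaf cJ7357) (BT.leaf cJ7358))) (BT.node 7361 (BT.node 7360 (BT.node 7359 (BT.leaf cJ7359) (BT.leaf cJ7360)) (BT.leaf cJ7361)) (BT.node 7362 (BT.leaf cJ7362) (BT.leaf cJ7363)))) (BT.node 7368 (BT.node 7366 (BT.node 7365 (BT.node 7364 (BT.leaf cJ7364) (BT.leaf cJ7365)) (BT.leaf cJ7366)) (BT.node 7367 (BT.leaf cJ7367) (BT.leaf cJ7368))) (BT.node 7371 (BT.node 7370 (BT.node 7369 (BT.leaf cJ7369) (BT.leaf cJ7370)) (BT.leaf cJ7371)) (BT.node 7372 (BT.leaf cJ7372) (BT.leaf cJ7373))))) (BT.node 7383 (BT.node 7378 (BT.node 7376 (BT.node 7375 (BT.node 7374 (BT.leaf cJ7374) (BT.leaf cJ7375)) (BT.leaf cJ7376)) (BT.node 7377 (BT.leaf cJ7377) (BT.leaf cJ7378))) (BT.node 7381 (BT.node 7380 (BT.node 7379 (BT.leaf cJ7379) (BT.leaf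 cJ7380)) (BT.leaf cJ7381)) (BT.node 7382 (BT.leaf cJ7382) (BT.leaf cJ7383)))) (BT.node 7388 (BT.node 7386 (BT.node 7385 (BT.node 7384 (BT.leaf cJ7384) (BT.leaf cJ7385)) (BT.leaf cJ7386)) (BT.node 7387 (BT.leaf cJ7387) (BT.leaf cJ7388))) (BT.node 7391 (BT.node 7390 (BT.node 7389 (BT.leaf cJ7389) (BT.leaf cJ7390)) (BT.leaf cJ7391)) (BT.node 7392 (BT.leaf cJ7392) (BT.leaf cJ7393)))))) (BT.node 7413 (BT.node 7403 (BT.node 7398 (BT.node 7396 (BT.node 7395 (BT.node 7394 (BT.leaf cJ7394) (BT.leaf cJ7395)) (BT.leaf cJ7396)) (BT.node 7397 (BT.leaf cJ7397) (BT.leaf cJ7398))) (BT.node 7401 (BT.node 7400 (BT.node 7399 (BT.leaf cJ7399) (BT.leaf cJ7400)) (BT.leaf cJ7401)) (BT.node 7402 (BT.leaf cJ7402) (BT.leaf cJ7403)))) (BT.node 7408 (BT.node 7406 (BT.node 7405 (BT.node 7404 (BT.leaf cJ7404) (BT.leaf cJ7405)) (BT.leaf cJ7406)) (BT.node 7407 (BT.leaf cJ7407) (BT.leaf cJ7408)))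 (BT.node 7411 (BT.node 7410 (BT.node 7409 (BT.leaf cJ7409) (BT.leaf cJ7410)) (BT.leaf cJ7411)) (BT.node 7412 (BT.leaf cJ7412) (BT.leaf cJ7413))))) (BT.node 7423 (BT.node 7418 (BT.node 7416 (BT.node 7415 (BT.node 7414 (BT.leaf cJ7414) (BT.leaf cJ7415)) (BT.leaf cJ7416)) (BT.node 7417 (BT.leaf cJ7417) (BT.leaf cJ7418))) (BT.node 7421 (BT.node 7420 (BT.node 7419 (BT.leaf cJ7419) (BT.leaf cJ7420)) (BT.leaf cJ7421)) (BT.node 7422 (BT.leaf cJ7422) (BT.leaf cJ7423)))) (BT.node 7428 (BT.node 7426 (BT.node 7425 (BT.node 7424 (BT.leaf cJ7424) (BT.leaf cJ7425)) (BT.leaf cJ7426)) (BT.node 7427 (BT.leaf cJ7427) (BT.leaf cJ7428))) (BT.node 7431 (BT.node 7430 (BT.node 7429 (BT.leaf cJ7429) (BT.leaf cJ7430)) (BT.leaf cJ7431)) (BT.node 7432 (BT.leaf cJ7432) (BT.leaf cJ7433))))))))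
noncomputable def colJT_46 : BT ℕ := (BT.node 7514 (BT.node 7474 (BT.node 7454 (BT.node 7444 (BT.node 7439 (BT.node 7436 (BT.node 7435 (BT.node 7434 (BT.leaf cJ7434) (BT.leaf cJ7435)) (BT.leaf cJ7436)) (BT.node 7438 (BT.node 7437 (BT.leaf cJ7437) (BT.leaf cJ7438)) (BT.leaf cJ7439))) (BT.node 7442 (BT.node 7441 (BT.node 7440 (BT.leaf cJ7440) (BT.leaf cJ7441)) (BT.leaf cJ7442)) (BT.node 7443 (BT.leaf cJ7443) (BT.leaf cJ7444)))) (BT.node 7449 (BT.node 7447 (BT.node 7446 (BT.node 7445 (BT.leaf cJ7445) (BT.leaf cJ7446)) (BT.leaf cJ7447)) (BT.node 7448 (BT.leaf cJ7448) (BT.leaf cJ7449))) (BT.node 7452 (BT.node 7451 (BT.node 7450 (BT.leaf cJ7450) (BT.leaf cJ7451)) (BT.leaf cJ7452)) (BT.node 7453 (BT.leaf cJ7453) (BT.leaf cJ7454))))) (BT.node 7464 (BT.node 7459 (BT.node 7457 (BT.node 7456 (BT.node 7455 (BT.leaf cJ7455) (BT.leaf cJ7456)) (BT.leaf cJ7457)) (BT.node 7458 (BT.leaf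 cJ7458) (BT.leaf cJ7459))) (BT.node 7462 (BT.node 7461 (BT.node 7460 (BT.leaf cJ7460) (BT.leaf cJ7461)) (BT.leaf cJ7462)) (BT.node 7463 (BT.leaf cJ7463) (BT.leaf cJ7464)))) (BT.node 7469 (BT.node 7467 (BT.node 7466 (BT.node 7465 (BT.leaf cJ7465) (BT.leaf cJ7466)) (BT.leaf cJ7467)) (BT.node 7468 (BT.leaf cJ7468) (BT.leaf cJ7469))) (BT.node 7472 (BT.node 7471 (BT.node 7470 (BT.leaf cJ7470) (BT.leaf cJ7471)) (BT.leaf cJ7472)) (BT.node 7473 (BT.leaf cJ7473) (BT.leaf cJ7474)))))) (BT.node 7494 (BT.node 7484 (BT.node 7479 (BT.node 7477 (BT.node 7476 (BT.node 7475 (BT.leaf cJ7475) (BT.leaf cJ7476)) (BT.leaf cJ7477)) (BT.node 7478 (BT.leaf cJ7478) (BT.leaf cJ7479))) (BT.node 7482 (BT.node 7481 (BT.node 7480 (BT.leaf cJ7480) (BT.leaf cJ7481)) (BT.leaf cJ7482)) (BT.node 7483 (BT.leaf cJ7483) (BT.leaf cJ7484)))) (BT.node 7489 (BT.node 7487 (BT.node 7486 (BT.node 7485 (BT.leaf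 cJ7485) (BT.leaf cJ7486)) (BT.leaf cJ7487)) (BT.node 7488 (BT.leaf cJ7488) (BT.leaf cJ7489))) (BT.node 7492 (BT.node 7491 (BT.node 7490 (BT.leaf cJ7490) (BT.leaf cJ7491)) (BT.leaf cJ7492)) (BT.node 7493 (BT.leaf cJ7493) (BT.leaf cJ7494))))) (BT.node 7504 (BT.node 7499 (BT.node 7497 (BT.node 7496 (BT.node 7495 (BT.leaf cJ7495) (BT.leaf cJ7496)) (BT.leaf cJ7497)) (BT.node 7498 (BT.leaf cJ7498) (BT.leaf cJ7499))) (BT.node 7502 (BT.node 7501 (BT.node 7500 (BT.leaf cJ7500) (BT.leaf cJ7501)) (BT.leaf cJ7502)) (BT.node 7503 (BT.leaf cJ7503) (BT.leaf cJ7504)))) (BT.node 7509 (BT.node 7507 (BT.node 7506 (BT.node 7505 (BT.leaf cJ7505) (BT.leaf cJ7506)) (BT.leaf cJ7507)) (BT.node 7508 (BT.leaf cJ7508) (BT.leaf cJ7509))) (BT.node 7512 (BT.node 7511 (BT.node 7510 (BT.leaf cJ7510) (BT.leaf cJ7511)) (BT.leaf cJ7512)) (BT.node 7513 (BT.leaf cJ7513) (BT.leaf cJ7514))))))) (BT.node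 7555 (BT.node 7535 (BT.node 7525 (BT.node 7520 (BT.node 7517 (BT.node 7516 (BT.node 7515 (BT.leaf cJ7515) (BT.leaf cJ7516)) (BT.leaf cJ7517)) (BT.node 7519 (BT.node 7518 (BT.leaf cJ7518) (BT.leaf cJ7519)) (BT.leaf cJ7520))) (BT.node 7523 (BT.node 7522 (BT.node 7521 (BT.leaf cJ7521) (BT.leaf cJ7522)) (BT.leaf cJ7523)) (BT.node 7524 (BT.leaf cJ7524) (BT.leaf cJ7525)))) (BT.node 7530 (BT.node 7528 (BT.node 7527 (BT.node 7526 (BT.leaf cJ7526) (BT.leaf cJ7527)) (BT.leaf cJ7528)) (BT.node 7529 (BT.leaf cJ7529) (BT.leaf cJ7530))) (BT.node 7533 (BT.node 7532 (BT.node 7531 (BT.leaf cJ7531) (BT.leaf cJ7532)) (BT.leaf cJ7533)) (BT.node 7534 (BT.leaf cJ7534) (BT.leaf cJ7535))))) (BT.node 7545 (BT.node 7540 (BT.node 7538 (BT.node 7537 (BT.node 7536 (BT.leaf cJ7536) (BT.leaf cJ7537)) (BT.leaf cJ7538)) (BT.node 7539 (BT.leaf cJ7539) (BT.leaf cJ7540))) (BT.node 7543 (BT.node 7542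 (BT.node 7541 (BT.leaf cJ7541) (BT.leaf cJ7542)) (BT.leaf cJ7543)) (BT.node 7544 (BT.leaf cJ7544) (BT.leaf cJ7545)))) (BT.node 7550 (BT.node 7548 (BT.node 7547 (BT.node 7546 (BT.leaf cJ7546) (BT.leaf cJ7547)) (BT.leaf cJ7548)) (BT.node 7549 (BT.leaf cJ7549) (BT.leaf cJ7550))) (BT.node 7553 (BT.node 7552 (BT.node 7551 (BT.leaf cJ7551) (BT.leaf cJ7552)) (BT.leaf cJ7553)) (BT.node 7554 (BT.leaf cJ7554) (BT.leaf cJ7555)))))) (BT.node 7575 (BT.node 7565 (BT.node 7560 (BT.node 7558 (BT.node 7557 (BT.node 7556 (BT.leaf cJ7556) (BT.leaf cJ7557)) (BT.leaf cJ7558)) (BT.node 7559 (BT.leaf cJ7559) (BT.leaf cJ7560))) (BT.node 7563 (BT.node 7562 (BT.node 7561 (BT.leaf cJ7561) (BT.leaf cJ7562)) (BT.leaf cJ7563)) (BT.node 7564 (BT.leaf cJ7564) (BT.leaf cJ7565)))) (BT.node 7570 (BT.node 7568 (BT.node 7567 (BT.node 7566 (BT.leaf cJ7566) (BT.leaf cJ7567)) (BT.leaf cJ7568)) (BT.node 7569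 (BT.leaf cJ7569) (BT.leaf cJ7570))) (BT.node 7573 (BT.node 7572 (BT.node 7571 (BT.leaf cJ7571) (BT.leaf cJ7572)) (BT.leaf cJ7573)) (BT.node 7574 (BT.leaf cJ7574) (BT.leaf cJ7575))))) (BT.node 7585 (BT.node 7580 (BT.node 7578 (BT.node 7577 (BT.node 7576 (BT.leaf cJ7576) (BT.leaf cJ7577)) (BT.leaf cJ7578)) (BT.node 7579 (BT.leaf cJ7579) (BT.leaf cJ7580))) (BT.node 7583 (BT.node 7582 (BT.node 7581 (BT.leaf cJ7581) (BT.leaf cJ7582)) (BT.leaf cJ7583)) (BT.node 7584 (BT.leaf cJ7584) (BT.leaf cJ7585)))) (BT.node 7590 (BT.node 7588 (BT.node 7587 (BT.node 7586 (BT.leaf cJ7586) (BT.leaf cJ7587)) (BT.leaf cJ7588)) (BT.node 7589 (BT.leaf cJ7589) (BT.leaf cJ7590))) (BT.node 7593 (BT.node 7592 (BT.node 7591 (BT.leaf cJ7591) (BT.leaf cJ7592)) (BT.leaf cJ7593)) (BT.node 7594 (BT.leaf cJ7594) (BT.leaf cJ7595))))))))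
noncomputable def colJT_47 : BT ℕ := (BT.node 7676 (BT.node 7636 (BT.node 7616 (BT.node 7606 (BT.node 7601 (BT.node 7598 (BT.node 7597 (BT.node 7596 (BT.leaf cJ7596) (BT.leaf cJ7597)) (BT.leaf cJ7598)) (BT.node 7600 (BT.node 7599 (BT.leaf cJ7599) (BT.leaf cJ7600)) (BT.leaf cJ7601))) (BT.node 7604 (BT.node 7603 (BT.node 7602 (BT.leaf cJ7602) (BT.leaf cJ7603)) (BT.leaf cJ7604)) (BT.node 7605 (BT.leaf cJ7605) (BT.leaf cJ7606)))) (BT.node 7611 (BT.node 7609 (BT.node 7608 (BT.node 7607 (BT.leaf cJ7607) (BT.leaf cJ7608)) (BT.leaf cJ7609)) (BT.node 7610 (BT.leaf cJ7610) (BT.leaf cJ7611))) (BT.node 7614 (BT.node 7613 (BT.node 7612 (BT.leaf cJ7612) (BT.leaf cJ7613)) (BT.leaf cJ7614)) (BT.node 7615 (BT.leaf cJ7615) (BT.leaf cJ7616))))) (BT.node 7626 (BT.node 7621 (BT.node 7619 (BT.node 7618 (BT.node 7617 (BT.leaf cJ7617) (BT.leaf cJ7618)) (BT.leaf cJ7619)) (BT.node 7620 (BT.leaf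 cJ7620) (BT.leaf cJ7621))) (BT.node 7624 (BT.node 7623 (BT.node 7622 (BT.leaf cJ7622) (BT.leaf cJ7623)) (BT.leaf cJ7624)) (BT.node 7625 (BT.leaf cJ7625) (BT.leaf cJ7626)))) (BT.node 7631 (BT.node 7629 (BT.node 7628 (BT.node 7627 (BT.leaf cJ7627) (BT.leaf cJ7628)) (BT.leaf cJ7629)) (BT.node 7630 (BT.leaf cJ7630) (BT.leaf cJ7631))) (BT.node 7634 (BT.node 7633 (BT.node 7632 (BT.leaf cJ7632) (BT.leaf cJ7633)) (BT.leaf cJ7634)) (BT.node 7635 (BT.leaf cJ7635) (BT.leaf cJ7636)))))) (BT.node 7656 (BT.node 7646 (BT.node 7641 (BT.node 7639 (BT.node 7638 (BT.node 7637 (BT.leaf cJ7637) (BT.leaf cJ7638)) (BT.leaf cJ7639)) (BT.node 7640 (BT.leaf cJ7640) (BT.leaf cJ7641))) (BT.node 7644 (BT.node 7643 (BT.node 7642 (BT.leaf cJ7642) (BT.leaf cJ7643)) (BT.leaf cJ7644)) (BT.node 7645 (BT.leaf cJ7645) (BT.leaf cJ7646)))) (BT.node 7651 (BT.node 7649 (BT.node 7648 (BT.node 7647 (BT.leaf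 cJ7647) (BT.leaf cJ7648)) (BT.leaf cJ7649)) (BT.node 7650 (BT.leaf cJ7650) (BT.leaf cJ7651))) (BT.node 7654 (BT.node 7653 (BT.node 7652 (BT.leaf cJ7652) (BT.leaf cJ7653)) (BT.leaf cJ7654)) (BT.node 7655 (BT.leaf cJ7655) (BT.leaf cJ7656))))) (BT.node 7666 (BT.node 7661 (BT.node 7659 (BT.node 7658 (BT.node 7657 (BT.leaf cJ7657) (BT.leaf cJ7658)) (BT.leaf cJ7659)) (BT.node 7660 (BT.leaf cJ7660) (BT.leaf cJ7661))) (BT.node 7664 (BT.node 7663 (BT.node 7662 (BT.leaf cJ7662) (BT.leaf cJ7663)) (BT.leaf cJ7664)) (BT.node 7665 (BT.leaf cJ7665) (BT.leaf cJ7666)))) (BT.node 7671 (BT.node 7669 (BT.node 7668 (BT.node 7667 (BT.leaf cJ7667) (BT.leaf cJ7668)) (BT.leaf cJ7669)) (BT.node 7670 (BT.leaf cJ7670) (BT.leaf cJ7671))) (BT.node 7674 (BT.node 7673 (BT.node 7672 (BT.leaf cJ7672) (BT.leaf cJ7673)) (BT.leaf cJ7674)) (BT.node 7675 (BT.leaf cJ7675) (BT.leaf cJ7676))))))) (BT.node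 7716 (BT.node 7696 (BT.node 7686 (BT.node 7681 (BT.node 7679 (BT.node 7678 (BT.node 7677 (BT.leaf cJ7677) (BT.leaf cJ7678)) (BT.leaf cJ7679)) (BT.node 7680 (BT.leaf cJ7680) (BT.leaf cJ7681))) (BT.node 7684 (BT.node 7683 (BT.node 7682 (BT.leaf cJ7682) (BT.leaf cJ7683)) (BT.leaf cJ7684)) (BT.node 7685 (BT.leaf cJ7685) (BT.leaf cJ7686)))) (BT.node 7691 (BT.node 7689 (BT.node 7688 (BT.node 7687 (BT.leaf cJ7687) (BT.leaf cJ7688)) (BT.leaf cJ7689)) (BT.node 7690 (BT.leaf cJ7690) (BT.leaf cJ7691))) (BT.node 7694 (BT.node 7693 (BT.node 7692 (BT.leaf cJ7692) (BT.leaf cJ7693)) (BT.leaf cJ7694)) (BT.node 7695 (BT.leaf cJ7695) (BT.leaf cJ7696))))) (BT.node 7706 (BT.node 7701 (BT.node 7699 (BT.node 7698 (BT.node 7697 (BT.leaf cJ7697) (BT.leaf cJ7698)) (BT.leaf cJ7699)) (BT.node 7700 (BT.leaf cJ7700) (BT.leaf cJ7701))) (BT.node 7704 (BT.node 7703 (BT.node 7702 (BT.leaf cJ7702) (BT.leaf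 cJ7703)) (BT.leaf cJ7704)) (BT.node 7705 (BT.leaf cJ7705) (BT.leaf cJ7706)))) (BT.node 7711 (BT.node 7709 (BT.node 7708 (BT.node 7707 (BT.leaf cJ7707) (BT.leaf cJ7708)) (BT.leaf cJ7709)) (BT.node 7710 (BT.leaf cJ7710) (BT.leaf cJ7711))) (BT.node 7714 (BT.node 7713 (BT.node 7712 (BT.leaf cJ7712) (BT.leaf cJ7713)) (BT.leaf cJ7714)) (BT.node 7715 (BT.leaf cJ7715) (BT.leaf cJ7716)))))) (BT.node 7736 (BT.node 7726 (BT.node 7721 (BT.node 7719 (BT.node 7718 (BT.node 7717 (BT.leaf cJ7717) (BT.leaf cJ7718)) (BT.leaf cJ7719)) (BT.node 7720 (BT.leaf cJ7720) (BT.leaf cJ7721))) (BT.node 7724 (BT.node 7723 (BT.node 7722 (BT.leaf cJ7722) (BT.leaf cJ7723)) (BT.leaf cJ7724)) (BT.node 7725 (BT.leaf cJ7725) (BT.leaf cJ7726)))) (BT.node 7731 (BT.node 7729 (BT.node 7728 (BT.node 7727 (BT.leaf cJ7727) (BT.leaf cJ7728)) (BT.leaf cJ7729)) (BT.node 7730 (BT.leaf cJ7730) (BT.leaf cJ7731)))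 (BT.node 7734 (BT.node 7733 (BT.node 7732 (BT.leaf cJ7732) (BT.leaf cJ7733)) (BT.leaf cJ7734)) (BT.node 7735 (BT.leaf cJ7735) (BT.leaf cJ7736))))) (BT.node 7746 (BT.node 7741 (BT.node 7739 (BT.node 7738 (BT.node 7737 (BT.leaf cJ7737) (BT.leaf cJ7738)) (BT.leaf cJ7739)) (BT.node 7740 (BT.leaf cJ7740) (BT.leaf cJ7741))) (BT.node 7744 (BT.node 7743 (BT.node 7742 (BT.leaf cJ7742) (BT.leaf cJ7743)) (BT.leaf cJ7744)) (BT.node 7745 (BT.leaf cJ7745) (BT.leaf cJ7746)))) (BT.node 7751 (BT.node 7749 (BT.node 7748 (BT.node 7747 (BT.leaf cJ7747) (BT.leaf cJ7748)) (BT.leaf cJ7749)) (BT.node 7750 (BT.leaf cJ7750) (BT.leaf cJ7751))) (BT.node 7754 (BT.node 7753 (BT.node 7752 (BT.leaf cJ7752) (BT.leaf cJ7753)) (BT.leaf cJ7754)) (BT.node 7755 (BT.leaf cJ7755) (BT.leaf cJ7756))))))))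
noncomputable def colJT_48 : BT ℕ := (BT.node 7837 (BT.node 7797 (BT.node 7777 (BT.node 7767 (BT.node 7762 (BT.node 7759 (BT.node 7758 (BT.node 7757 (BT.leaf cJ7757) (BT.leaf cJ7758)) (BT.leaf cJ7759)) (BT.node 7761 (BT.node 7760 (BT.leaf cJ7760) (BT.leaf cJ7761)) (BT.leaf cJ7762))) (BT.node 7765 (BT.node 7764 (BT.node 7763 (BT.leaf cJ7763) (BT.leaf cJ7764)) (BT.leaf cJ7765)) (BT.node 7766 (BT.leaf cJ7766) (BT.leaf cJ7767)))) (BT.node 7772 (BT.node 7770 (BT.node 7769 (BT.node 7768 (BT.leaf cJ7768) (BT.leaf cJ7769)) (BT.leaf cJ7770)) (BT.node 7771 (BT.leaf cJ7771) (BT.leaf cJ7772))) (BT.node 7775 (BT.node 7774 (BT.node 7773 (BT.leaf cJ7773) (BT.leaf cJ7774)) (BT.leaf cJ7775)) (BT.node 7776 (BT.leaf cJ7776) (BT.leaf cJ7777))))) (BT.node 7787 (BT.node 7782 (BT.node 7780 (BT.node 7779 (BT.node 7778 (BT.leaf cJ7778) (BT.leaf cJ7779)) (BT.leaf cJ7780)) (BT.node 7781 (BT.leaf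 cJ7781) (BT.leaf cJ7782))) (BT.node 7785 (BT.node 7784 (BT.node 7783 (BT.leaf cJ7783) (BT.leaf cJ7784)) (BT.leaf cJ7785)) (BT.node 7786 (BT.leaf cJ7786) (BT.leaf cJ7787)))) (BT.node 7792 (BT.node 7790 (BT.node 7789 (BT.node 7788 (BT.leaf cJ7788) (BT.leaf cJ7789)) (BT.leaf cJ7790)) (BT.node 7791 (BT.leaf cJ7791) (BT.leaf cJ7792))) (BT.node 7795 (BT.node 7794 (BT.node 7793 (BT.leaf cJ7793) (BT.leaf cJ7794)) (BT.leaf cJ7795)) (BT.node 7796 (BT.leaf cJ7796) (BT.leaf cJ7797)))))) (BT.node 7817 (BT.node 7807 (BT.node 7802 (BT.node 7800 (BT.node 7799 (BT.node 7798 (BT.leaf cJ7798) (BT.leaf cJ7799)) (BT.leaf cJ7800)) (BT.node 7801 (BT.leaf cJ7801) (BT.leaf cJ7802))) (BT.node 7805 (BT.node 7804 (BT.node 7803 (BT.leaf cJ7803) (BT.leaf cJ7804)) (BT.leaf cJ7805)) (BT.node 7806 (BT.leaf cJ7806) (BT.leaf cJ7807)))) (BT.node 7812 (BT.node 7810 (BT.node 7809 (BT.node 7808 (BT.leaf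 cJ7808) (BT.leaf cJ7809)) (BT.leaf cJ7810)) (BT.node 7811 (BT.leaf cJ7811) (BT.leaf cJ7812))) (BT.node 7815 (BT.node 7814 (BT.node 7813 (BT.leaf cJ7813) (BT.leaf cJ7814)) (BT.leaf cJ7815)) (BT.node 7816 (BT.leaf cJ7816) (BT.leaf cJ7817))))) (BT.node 7827 (BT.node 7822 (BT.node 7820 (BT.node 7819 (BT.node 7818 (BT.leaf cJ7818) (BT.leaf cJ7819)) (BT.leaf cJ7820)) (BT.node 7821 (BT.leaf cJ7821) (BT.leaf cJ7822))) (BT.node 7825 (BT.node 7824 (BT.node 7823 (BT.leaf cJ7823) (BT.leaf cJ7824)) (BT.leaf cJ7825)) (BT.node 7826 (BT.leaf cJ7826) (BT.leaf cJ7827)))) (BT.node 7832 (BT.node 7830 (BT.node 7829 (BT.node 7828 (BT.leaf cJ7828) (BT.leaf cJ7829)) (BT.leaf cJ7830)) (BT.node 7831 (BT.leaf cJ7831) (BT.leaf cJ7832))) (BT.node 7835 (BT.node 7834 (BT.node 7833 (BT.leaf cJ7833) (BT.leaf cJ7834)) (BT.leaf cJ7835)) (BT.node 7836 (BT.leaf cJ7836) (BT.leaf cJ7837))))))) (BT.node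 7878 (BT.node 7858 (BT.node 7848 (BT.node 7843 (BT.node 7840 (BT.node 7839 (BT.node 7838 (BT.leaf cJ7838) (BT.leaf cJ7839)) (BT.leaf cJ7840)) (BT.node 7842 (BT.node 7841 (BT.leaf cJ7841) (BT.leaf cJ7842)) (BT.leaf cJ7843))) (BT.node 7846 (BT.node 7845 (BT.node 7844 (BT.leaf cJ7844) (BT.leaf cJ7845)) (BT.leaf cJ7846)) (BT.node 7847 (BT.leaf cJ7847) (BT.leaf cJ7848)))) (BT.node 7853 (BT.node 7851 (BT.node 7850 (BT.node 7849 (BT.leaf cJ7849) (BT.leaf cJ7850)) (BT.leaf cJ7851)) (BT.node 7852 (BT.leaf cJ7852) (BT.leaf cJ7853))) (BT.node 7856 (BT.node 7855 (BT.node 7854 (BT.leaf cJ7854) (BT.leaf cJ7855)) (BT.leaf cJ7856)) (BT.node 7857 (BT.leaf cJ7857) (BT.leaf cJ7858))))) (BT.node 7868 (BT.node 7863 (BT.node 7861 (BT.node 7860 (BT.node 7859 (BT.leaf cJ7859) (BT.leaf cJ7860)) (BT.leaf cJ7861)) (BT.node 7862 (BT.leaf cJ7862) (BT.leaf cJ7863))) (BT.node 7866 (BT.node 7865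 (BT.node 7864 (BT.leaf cJ7864) (BT.leaf cJ7865)) (BT.leaf cJ7866)) (BT.node 7867 (BT.leaf cJ7867) (BT.leaf cJ7868)))) (BT.node 7873 (BT.node 7871 (BT.node 7870 (BT.node 7869 (BT.leaf cJ7869) (BT.leaf cJ7870)) (BT.leaf cJ7871)) (BT.node 7872 (BT.leaf cJ7872) (BT.leaf cJ7873))) (BT.node 7876 (BT.node 7875 (BT.node 7874 (BT.leaf cJ7874) (BT.leaf cJ7875)) (BT.leaf cJ7876)) (BT.node 7877 (BT.leaf cJ7877) (BT.leaf cJ7878)))))) (BT.node 7898 (BT.node 7888 (BT.node 7883 (BT.node 7881 (BT.node 7880 (BT.node 7879 (BT.leaf cJ7879) (BT.leaf cJ7880)) (BT.leaf cJ7881)) (BT.node 7882 (BT.leaf cJ7882) (BT.leaf cJ7883))) (BT.node 7886 (BT.node 7885 (BT.node 7884 (BT.leaf cJ7884) (BT.leaf cJ7885)) (BT.leaf cJ7886)) (BT.node 7887 (BT.leaf cJ7887) (BT.leaf cJ7888)))) (BT.node 7893 (BT.node 7891 (BT.node 7890 (BT.node 7889 (BT.leaf cJ7889) (BT.leaf cJ7890)) (BT.leaf cJ7891)) (BT.node 7892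 (BT.leaf cJ7892) (BT.leaf cJ7893))) (BT.node 7896 (BT.node 7895 (BT.node 7894 (BT.leaf cJ7894) (BT.leaf cJ7895)) (BT.leaf cJ7896)) (BT.node 7897 (BT.leaf cJ7897) (BT.leaf cJ7898))))) (BT.node 7908 (BT.node 7903 (BT.node 7901 (BT.node 7900 (BT.node 7899 (BT.leaf cJ7899) (BT.leaf cJ7900)) (BT.leaf cJ7901)) (BT.node 7902 (BT.leaf cJ7902) (BT.leaf cJ7903))) (BT.node 7906 (BT.node 7905 (BT.node 7904 (BT.leaf cJ7904) (BT.leaf cJ7905)) (BT.leaf cJ7906)) (BT.node 7907 (BT.leaf cJ7907) (BT.leaf cJ7908)))) (BT.node 7913 (BT.node 7911 (BT.node 7910 (BT.node 7909 (BT.leaf cJ7909) (BT.leaf cJ7910)) (BT.leaf cJ7911)) (BT.node 7912 (BT.leaf cJ7912) (BT.leaf cJ7913))) (BT.node 7916 (BT.node 7915 (BT.node 7914 (BT.leaf cJ7914) (BT.leaf cJ7915)) (BT.leaf cJ7916)) (BT.node 7917 (BT.leaf cJ7917) (BT.leaf cJ7918))))))))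
noncomputable def colJT_49 : BT ℕ := (BT.node 7999 (BT.node 7959 (BT.node 7939 (BT.node 7929 (BT.node 7924 (BT.node 7921 (BT.node 7920 (BT.node 7919 (BT.leaf cJ7919) (BT.leaf cJ7920)) (BT.leaf cJ7921)) (BT.node 7923 (BT.node 7922 (BT.leaf cJ7922) (BT.leaf cJ7923)) (BT.leaf cJ7924))) (BT.node 7927 (BT.node 7926 (BT.node 7925 (BT.leaf cJ7925) (BT.leaf cJ7926)) (BT.leaf cJ7927)) (BT.node 7928 (BT.leaf cJ7928) (BT.leaf cJ7929)))) (BT.node 7934 (BT.node 7932 (BT.node 7931 (BT.node 7930 (BT.leaf cJ7930) (BT.leaf cJ7931)) (BT.leaf cJ7932)) (BT.node 7933 (BT.leaf cJ7933) (BT.leaf cJ7934))) (BT.node 7937 (BT.node 7936 (BT.node 7935 (BT.leaf cJ7935) (BT.leaf cJ7936)) (BT.leaf cJ7937)) (BT.node 7938 (BT.leaf cJ7938) (BT.leaf cJ7939))))) (BT.node 7949 (BT.node 7944 (BT.node 7942 (BT.node 7941 (BT.node 7940 (BT.leaf cJ7940) (BT.leaf cJ7941)) (BT.leaf cJ7942)) (BT.node 7943 (BT.leaf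 cJ7943) (BT.leaf cJ7944))) (BT.node 7947 (BT.node 7946 (BT.node 7945 (BT.leaf cJ7945) (BT.leaf cJ7946)) (BT.leaf cJ7947)) (BT.node 7948 (BT.leaf cJ7948) (BT.leaf cJ7949)))) (BT.node 7954 (BT.node 7952 (BT.node 7951 (BT.node 7950 (BT.leaf cJ7950) (BT.leaf cJ7951)) (BT.leaf cJ7952)) (BT.node 7953 (BT.leaf cJ7953) (BT.leaf cJ7954))) (BT.node 7957 (BT.node 7956 (BT.node 7955 (BT.leaf cJ7955) (BT.leaf cJ7956)) (BT.leaf cJ7957)) (BT.node 7958 (BT.leaf cJ7958) (BT.leaf cJ7959)))))) (BT.node 7979 (BT.node 7969 (BT.node 7964 (BT.node 7962 (BT.node 7961 (BT.node 7960 (BT.leaf cJ7960) (BT.leaf cJ7961)) (BT.leaf cJ7962)) (BT.node 7963 (BT.leaf cJ7963) (BT.leaf cJ7964))) (BT.node 7967 (BT.node 7966 (BT.node 7965 (BT.leaf cJ7965) (BT.leaf cJ7966)) (BT.leaf cJ7967)) (BT.node 7968 (BT.leaf cJ7968) (BT.leaf cJ7969)))) (BT.node 7974 (BT.node 7972 (BT.node 7971 (BT.node 7970 (BT.leaf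 cJ7970) (BT.leaf cJ7971)) (BT.leaf cJ7972)) (BT.node 7973 (BT.leaf cJ7973) (BT.leaf cJ7974))) (BT.node 7977 (BT.node 7976 (BT.node 7975 (BT.leaf cJ7975) (BT.leaf cJ7976)) (BT.leaf cJ7977)) (BT.node 7978 (BT.leaf cJ7978) (BT.leaf cJ7979))))) (BT.node 7989 (BT.node 7984 (BT.node 7982 (BT.node 7981 (BT.node 7980 (BT.leaf cJ7980) (BT.leaf cJ7981)) (BT.leaf cJ7982)) (BT.node 7983 (BT.leaf cJ7983) (BT.leaf cJ7984))) (BT.node 7987 (BT.node 7986 (BT.node 7985 (BT.leaf cJ7985) (BT.leaf cJ7986)) (BT.leaf cJ7987)) (BT.node 7988 (BT.leaf cJ7988) (BT.leaf cJ7989)))) (BT.node 7994 (BT.node 7992 (BT.node 7991 (BT.node 7990 (BT.leaf cJ7990) (BT.leaf cJ7991)) (BT.leaf cJ7992)) (BT.node 7993 (BT.leaf cJ7993) (BT.leaf cJ7994))) (BT.node 7997 (BT.node 7996 (BT.node 7995 (BT.leaf cJ7995) (BT.leaf cJ7996)) (BT.leaf cJ7997)) (BT.node 7998 (BT.leaf cJ7998) (BT.leaf cJ7999))))))) (BT.node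 8040 (BT.node 8020 (BT.node 8010 (BT.node 8005 (BT.node 8002 (BT.node 8001 (BT.node 8000 (BT.leaf cJ8000) (BT.leaf cJ8001)) (BT.leaf cJ8002)) (BT.node 8004 (BT.node 8003 (BT.leaf cJ8003) (BT.leaf cJ8004)) (BT.leaf cJ8005))) (BT.node 8008 (BT.node 8007 (BT.node 8006 (BT.leaf cJ8006) (BT.leaf cJ8007)) (BT.leaf cJ8008)) (BT.node 8009 (BT.leaf cJ8009) (BT.leaf cJ8010)))) (BT.node 8015 (BT.node 8013 (BT.node 8012 (BT.node 8011 (BT.leaf cJ8011) (BT.leaf cJ8012)) (BT.leaf cJ8013)) (BT.node 8014 (BT.leaf cJ8014) (BT.leaf cJ8015))) (BT.node 8018 (BT.node 8017 (BT.node 8016 (BT.leaf cJ8016) (BT.leaf cJ8017)) (BT.leaf cJ8018)) (BT.node 8019 (BT.leaf cJ8019) (BT.leaf cJ8020))))) (BT.node 8030 (BT.node 8025 (BT.node 8023 (BT.node 8022 (BT.node 8021 (BT.leaf cJ8021) (BT.leaf cJ8022)) (BT.leaf cJ8023)) (BT.node 8024 (BT.leaf cJ8024) (BT.leaf cJ8025))) (BT.node 8028 (BT.node 8027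 (BT.node 8026 (BT.leaf cJ8026) (BT.leaf cJ8027)) (BT.leaf cJ8028)) (BT.node 8029 (BT.leaf cJ8029) (BT.leaf cJ8030)))) (BT.node 8035 (BT.node 8033 (BT.node 8032 (BT.node 8031 (BT.leaf cJ8031) (BT.leaf cJ8032)) (BT.leaf cJ8033)) (BT.node 8034 (BT.leaf cJ8034) (BT.leaf cJ8035))) (BT.node 8038 (BT.node 8037 (BT.node 8036 (BT.leaf cJ8036) (BT.leaf cJ8037)) (BT.leaf cJ8038)) (BT.node 8039 (BT.leaf cJ8039) (BT.leaf cJ8040)))))) (BT.node 8060 (BT.node 8050 (BT.node 8045 (BT.node 8043 (BT.node 8042 (BT.node 8041 (BT.leaf cJ8041) (BT.leaf cJ8042)) (BT.leaf cJ8043)) (BT.node 8044 (BT.leaf cJ8044) (BT.leaf cJ8045))) (BT.node 8048 (BT.node 8047 (BT.node 8046 (BT.leaf cJ8046) (BT.leaf cJ8047)) (BT.leaf cJ8048)) (BT.node 8049 (BT.leaf cJ8049) (BT.leaf cJ8050)))) (BT.node 8055 (BT.node 8053 (BT.node 8052 (BT.node 8051 (BT.leaf cJ8051) (BT.leaf cJ8052)) (BT.leaf cJ8053)) (BT.node 8054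 (BT.leaf cJ8054) (BT.leaf cJ8055))) (BT.node 8058 (BT.node 8057 (BT.node 8056 (BT.leaf cJ8056) (BT.leaf cJ8057)) (BT.leaf cJ8058)) (BT.node 8059 (BT.leaf cJ8059) (BT.leaf cJ8060))))) (BT.node 8070 (BT.node 8065 (BT.node 8063 (BT.node 8062 (BT.node 8061 (BT.leaf cJ8061) (BT.leaf cJ8062)) (BT.leaf cJ8063)) (BT.node 8064 (BT.leaf cJ8064) (BT.leaf cJ8065))) (BT.node 8068 (BT.node 8067 (BT.node 8066 (BT.leaf cJ8066) (BT.leaf cJ8067)) (BT.leaf cJ8068)) (BT.node 8069 (BT.leaf cJ8069) (BT.leaf cJ8070)))) (BT.node 8075 (BT.node 8073 (BT.node 8072 (BT.node 8071 (BT.leaf cJ8071) (BT.leaf cJ8072)) (BT.leaf cJ8073)) (BT.node 8074 (BT.leaf cJ8074) (BT.leaf cJ8075))) (BT.node 8078 (BT.node 8077 (BT.node 8076 (BT.leaf cJ8076) (BT.leaf cJ8077)) (BT.leaf cJ8078)) (BT.node 8079 (BT.leaf cJ8079) (BT.leaf cJ8080))))))))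
noncomputable def colJT_50 : BT ℕ := (BT.node 8161 (BT.node 8121 (BT.node 8101 (BT.node 8091 (BT.node 8086 (BT.node 8083 (BT.node 8082 (BT.node 8081 (BT.leaf cJ8081) (BT.leaf cJ8082)) (BT.leaf cJ8083)) (BT.node 8085 (BT.node 8084 (BT.leaf cJ8084) (BT.leaf cJ8085)) (BT.leaf cJ8086))) (BT.node 8089 (BT.node 8088 (BT.node 8087 (BT.leaf cJ8087) (BT.leaf cJ8088)) (BT.leaf cJ8089)) (BT.node 8090 (BT.leaf cJ8090) (BT.leaf cJ8091)))) (BT.node 8096 (BT.node 8094 (BT.node 8093 (BT.node 8092 (BT.leaf cJ8092) (BT.leaf cJ8093)) (BT.leaf cJ8094)) (BT.node 8095 (BT.leaf cJ8095) (BT.leaf cJ8096))) (BT.node 8099 (BT.node 8098 (BT.node 8097 (BT.leaf cJ8097) (BT.leaf cJ8098)) (BT.leaf cJ8099)) (BT.node 8100 (BT.leaf cJ8100) (BT.leaf cJ8101))))) (BT.node 8111 (BT.node 8106 (BT.node 8104 (BT.node 8103 (BT.node 8102 (BT.leaf cJ8102) (BT.leaf cJ8103)) (BT.leaf cJ8104)) (BT.node 8105 (BT.leaf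 cJ8105) (BT.leaf cJ8106))) (BT.node 8109 (BT.node 8108 (BT.node 8107 (BT.leaf cJ8107) (BT.leaf cJ8108)) (BT.leaf cJ8109)) (BT.node 8110 (BT.leaf cJ8110) (BT.leaf cJ8111)))) (BT.node 8116 (BT.node 8114 (BT.node 8113 (BT.node 8112 (BT.leaf cJ8112) (BT.leaf cJ8113)) (BT.leaf cJ8114)) (BT.node 8115 (BT.leaf cJ8115) (BT.leaf cJ8116))) (BT.node 8119 (BT.node 8118 (BT.node 8117 (BT.leaf cJ8117) (BT.leaf cJ8118)) (BT.leaf cJ8119)) (BT.node 8120 (BT.leaf cJ8120) (BT.leaf cJ8121)))))) (BT.node 8141 (BT.node 8131 (BT.node 8126 (BT.node 8124 (BT.node 8123 (BT.node 8122 (BT.leaf cJ8122) (BT.leaf cJ8123)) (BT.leaf cJ8124)) (BT.node 8125 (BT.leaf cJ8125) (BT.leaf cJ8126))) (BT.node 8129 (BT.node 8128 (BT.node 8127 (BT.leaf cJ8127) (BT.leaf cJ8128)) (BT.leaf cJ8129)) (BT.node 8130 (BT.leaf cJ8130) (BT.leaf cJ8131)))) (BT.node 8136 (BT.node 8134 (BT.node 8133 (BT.node 8132 (BT.leaf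 cJ8132) (BT.leaf cJ8133)) (BT.leaf cJ8134)) (BT.node 8135 (BT.leaf cJ8135) (BT.leaf cJ8136))) (BT.node 8139 (BT.node 8138 (BT.node 8137 (BT.leaf cJ8137) (BT.leaf cJ8138)) (BT.leaf cJ8139)) (BT.node 8140 (BT.leaf cJ8140) (BT.leaf cJ8141))))) (BT.node 8151 (BT.node 8146 (BT.node 8144 (BT.node 8143 (BT.node 8142 (BT.leaf cJ8142) (BT.leaf cJ8143)) (BT.leaf cJ8144)) (BT.node 8145 (BT.leaf cJ8145) (BT.leaf cJ8146))) (BT.node 8149 (BT.node 8148 (BT.node 8147 (BT.leaf cJ8147) (BT.leaf cJ8148)) (BT.leaf cJ8149)) (BT.node 8150 (BT.leaf cJ8150) (BT.leaf cJ8151)))) (BT.node 8156 (BT.node 8154 (BT.node 8153 (BT.node 8152 (BT.leaf cJ8152) (BT.leaf cJ8153)) (BT.leaf cJ8154)) (BT.node 8155 (BT.leaf cJ8155) (BT.leaf cJ8156))) (BT.node 8159 (BT.node 8158 (BT.node 8157 (BT.leaf cJ8157) (BT.leaf cJ8158)) (BT.leaf cJ8159)) (BT.node 8160 (BT.leaf cJ8160) (BT.leaf cJ8161))))))) (BT.node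 8202 (BT.node 8182 (BT.node 8172 (BT.node 8167 (BT.node 8164 (BT.node 8163 (BT.node 8162 (BT.leaf cJ8162) (BT.leaf cJ8163)) (BT.leaf cJ8164)) (BT.node 8166 (BT.node 8165 (BT.leaf cJ8165) (BT.leaf cJ8166)) (BT.leaf cJ8167))) (BT.node 8170 (BT.node 8169 (BT.node 8168 (BT.leaf cJ8168) (BT.leaf cJ8169)) (BT.leaf cJ8170)) (BT.node 8171 (BT.leaf cJ8171) (BT.leaf cJ8172)))) (BT.node 8177 (BT.node 8175 (BT.node 8174 (BT.node 8173 (BT.leaf cJ8173) (BT.leaf cJ8174)) (BT.leaf cJ8175)) (BT.node 8176 (BT.leaf cJ8176) (BT.leaf cJ8177))) (BT.node 8180 (BT.node 8179 (BT.node 8178 (BT.leaf cJ8178) (BT.leaf cJ8179)) (BT.leaf cJ8180)) (BT.node 8181 (BT.leaf cJ8181) (BT.leaf cJ8182))))) (BT.node 8192 (BT.node 8187 (BT.node 8185 (BT.node 8184 (BT.node 8183 (BT.leaf cJ8183) (BT.leaf cJ8184)) (BT.leaf cJ8185)) (BT.node 8186 (BT.leaf cJ8186) (BT.leaf cJ8187))) (BT.node 8190 (BT.node 8189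 (BT.node 8188 (BT.leaf cJ8188) (BT.leaf cJ8189)) (BT.leaf cJ8190)) (BT.node 8191 (BT.leaf cJ8191) (BT.leaf cJ8192)))) (BT.node 8197 (BT.node 8195 (BT.node 8194 (BT.node 8193 (BT.leaf cJ8193) (BT.leaf cJ8194)) (BT.leaf cJ8195)) (BT.node 8196 (BT.leaf cJ8196) (BT.leaf cJ8197))) (BT.node 8200 (BT.node 8199 (BT.node 8198 (BT.leaf cJ8198) (BT.leaf cJ8199)) (BT.leaf cJ8200)) (BT.node 8201 (BT.leaf cJ8201) (BT.leaf cJ8202)))))) (BT.node 8222 (BT.node 8212 (BT.node 8207 (BT.node 8205 (BT.node 8204 (BT.node 8203 (BT.leaf cJ8203) (BT.leaf cJ8204)) (BT.leaf cJ8205)) (BT.node 8206 (BT.leaf cJ8206) (BT.leaf cJ8207))) (BT.node 8210 (BT.node 8209 (BT.node 8208 (BT.leaf cJ8208) (BT.leaf cJ8209)) (BT.leaf cJ8210)) (BT.node 8211 (BT.leaf cJ8211) (BT.leaf cJ8212)))) (BT.node 8217 (BT.node 8215 (BT.node 8214 (BT.node 8213 (BT.leaf cJ8213) (BT.leaf cJ8214)) (BT.leaf cJ8215)) (BT.node 8216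 (BT.leaf cJ8216) (BT.leaf cJ8217))) (BT.node 8220 (BT.node 8219 (BT.node 8218 (BT.leaf cJ8218) (BT.leaf cJ8219)) (BT.leaf cJ8220)) (BT.node 8221 (BT.leaf cJ8221) (BT.leaf cJ8222))))) (BT.node 8232 (BT.node 8227 (BT.node 8225 (BT.node 8224 (BT.node 8223 (BT.leaf cJ8223) (BT.leaf cJ8224)) (BT.leaf cJ8225)) (BT.node 8226 (BT.leaf cJ8226) (BT.leaf cJ8227))) (BT.node 8230 (BT.node 8229 (BT.node 8228 (BT.leaf cJ8228) (BT.leaf cJ8229)) (BT.leaf cJ8230)) (BT.node 8231 (BT.leaf cJ8231) (BT.leaf cJ8232)))) (BT.node 8237 (BT.node 8235 (BT.node 8234 (BT.node 8233 (BT.leaf cJ8233) (BT.leaf cJ8234)) (BT.leaf cJ8235)) (BT.node 8236 (BT.leaf cJ8236) (BT.leaf cJ8237))) (BT.node 8240 (BT.node 8239 (BT.node 8238 (BT.leaf cJ8238) (BT.leaf cJ8239)) (BT.leaf cJ8240)) (BT.node 8241 (BT.leaf cJ8241) (BT.leaf cJ8242))))))))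
noncomputable def colJT_51 : BT ℕ := (BT.node 8323 (BT.node 8283 (BT.node 8263 (BT.node 8253 (BT.node 8248 (BT.node 8245 (BT.node 8244 (BT.node 8243 (BT.leaf cJ8243) (BT.leaf cJ8244)) (BT.leaf cJ8245)) (BT.node 8247 (BT.node 8246 (BT.leaf cJ8246) (BT.leaf cJ8247)) (BT.leaf cJ8248))) (BT.node 8251 (BT.node 8250 (BT.node 8249 (BT.leaf cJ8249) (BT.leaf cJ8250)) (BT.leaf cJ8251)) (BT.node 8252 (BT.leaf cJ8252) (BT.leaf cJ8253)))) (BT.node 8258 (BT.node 8256 (BT.node 8255 (BT.node 8254 (BT.leaf cJ8254) (BT.leaf cJ8255)) (BT.leaf cJ8256)) (BT.node 8257 (BT.leaf cJ8257) (BT.leaf cJ8258))) (BT.node 8261 (BT.node 8260 (BT.node 8259 (BT.leaf cJ8259) (BT.leaf cJ8260)) (BT.leaf cJ8261)) (BT.node 8262 (BT.leaf cJ8262) (BT.leaf cJ8263))))) (BT.node 8273 (BT.node 8268 (BT.node 8266 (BT.node 8265 (BT.node 8264 (BT.leaf cJ8264) (BT.leaf cJ8265)) (BT.leaf cJ8266)) (BT.node 8267 (BT.leaf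 cJ8267) (BT.leaf cJ8268))) (BT.node 8271 (BT.node 8270 (BT.node 8269 (BT.leaf cJ8269) (BT.leaf cJ8270)) (BT.leaf cJ8271)) (BT.node 8272 (BT.leaf cJ8272) (BT.leaf cJ8273)))) (BT.node 8278 (BT.node 8276 (BT.node 8275 (BT.node 8274 (BT.leaf cJ8274) (BT.leaf cJ8275)) (BT.leaf cJ8276)) (BT.node 8277 (BT.leaf cJ8277) (BT.leaf cJ8278))) (BT.node 8281 (BT.node 8280 (BT.node 8279 (BT.leaf cJ8279) (BT.leaf cJ8280)) (BT.leaf cJ8281)) (BT.node 8282 (BT.leaf cJ8282) (BT.leaf cJ8283)))))) (BT.node 8303 (BT.node 8293 (BT.node 8288 (BT.node 8286 (BT.node 8285 (BT.node 8284 (BT.leaf cJ8284) (BT.leaf cJ8285)) (BT.leaf cJ8286)) (BT.node 8287 (BT.leaf cJ8287) (BT.leaf cJ8288))) (BT.node 8291 (BT.node 8290 (BT.node 8289 (BT.leaf cJ8289) (BT.leaf cJ8290)) (BT.leaf cJ8291)) (BT.node 8292 (BT.leaf cJ8292) (BT.leaf cJ8293)))) (BT.node 8298 (BT.node 8296 (BT.node 8295 (BT.node 8294 (BT.leaf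 cJ8294) (BT.leaf cJ8295)) (BT.leaf cJ8296)) (BT.node 8297 (BT.leaf cJ8297) (BT.leaf cJ8298))) (BT.node 8301 (BT.node 8300 (BT.node 8299 (BT.leaf cJ8299) (BT.leaf cJ8300)) (BT.leaf cJ8301)) (BT.node 8302 (BT.leaf cJ8302) (BT.leaf cJ8303))))) (BT.node 8313 (BT.node 8308 (BT.node 8306 (BT.node 8305 (BT.node 8304 (BT.leaf cJ8304) (BT.leaf cJ8305)) (BT.leaf cJ8306)) (BT.node 8307 (BT.leaf cJ8307) (BT.leaf cJ8308))) (BT.node 8311 (BT.node 8310 (BT.node 8309 (BT.leaf cJ8309) (BT.leaf cJ8310)) (BT.leaf cJ8311)) (BT.node 8312 (BT.leaf cJ8312) (BT.leaf cJ8313)))) (BT.node 8318 (BT.node 8316 (BT.node 8315 (BT.node 8314 (BT.leaf cJ8314) (BT.leaf cJ8315)) (BT.leaf cJ8316)) (BT.node 8317 (BT.leaf cJ8317) (BT.leaf cJ8318))) (BT.node 8321 (BT.node 8320 (BT.node 8319 (BT.leaf cJ8319) (BT.leaf cJ8320)) (BT.leaf cJ8321)) (BT.node 8322 (BT.leaf cJ8322) (BT.leaf cJ8323))))))) (BT.node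 8363 (BT.node 8343 (BT.node 8333 (BT.node 8328 (BT.node 8326 (BT.node 8325 (BT.node 8324 (BT.leaf cJ8324) (BT.leaf cJ8325)) (BT.leaf cJ8326)) (BT.node 8327 (BT.leaf cJ8327) (BT.leaf cJ8328))) (BT.node 8331 (BT.node 8330 (BT.node 8329 (BT.leaf cJ8329) (BT.leaf cJ8330)) (BT.leaf cJ8331)) (BT.node 8332 (BT.leaf cJ8332) (BT.leaf cJ8333)))) (BT.node 8338 (BT.node 8336 (BT.node 8335 (BT.node 8334 (BT.leaf cJ8334) (BT.leaf cJ8335)) (BT.leaf cJ8336)) (BT.node 8337 (BT.leaf cJ8337) (BT.leaf cJ8338))) (BT.node 8341 (BT.node 8340 (BT.node 8339 (BT.leaf cJ8339) (BT.leaf cJ8340)) (BT.leaf cJ8341)) (BT.node 8342 (BT.leaf cJ8342) (BT.leaf cJ8343))))) (BT.node 8353 (BT.node 8348 (BT.node 8346 (BT.node 8345 (BT.node 8344 (BT.leaf cJ8344) (BT.leaf cJ8345)) (BT.leaf cJ8346)) (BT.node 8347 (BT.leaf cJ8347) (BT.leaf cJ8348))) (BT.node 8351 (BT.node 8350 (BT.node 8349 (BT.leaf cJ8349) (BT.leaf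 cJ8350)) (BT.leaf cJ8351)) (BT.node 8352 (BT.leaf cJ8352) (BT.leaf cJ8353)))) (BT.node 8358 (BT.node 8356 (BT.node 8355 (BT.node 8354 (BT.leaf cJ8354) (BT.leaf cJ8355)) (BT.leaf cJ8356)) (BT.node 8357 (BT.leaf cJ8357) (BT.leaf cJ8358))) (BT.node 8361 (BT.node 8360 (BT.node 8359 (BT.leaf cJ8359) (BT.leaf cJ8360)) (BT.leaf cJ8361)) (BT.node 8362 (BT.leaf cJ8362) (BT.leaf cJ8363)))))) (BT.node 8383 (BT.node 8373 (BT.node 8368 (BT.node 8366 (BT.node 8365 (BT.node 8364 (BT.leaf cJ8364) (BT.leaf cJ8365)) (BT.leaf cJ8366)) (BT.node 8367 (BT.leaf cJ8367) (BT.leaf cJ8368))) (BT.node 8371 (BT.node 8370 (BT.node 8369 (BT.leaf cJ8369) (BT.leaf cJ8370)) (BT.leaf cJ8371)) (BT.node 8372 (BT.leaf cJ8372) (BT.leaf cJ8373)))) (BT.node 8378 (BT.node 8376 (BT.node 8375 (BT.node 8374 (BT.leaf cJ8374) (BT.leaf cJ8375)) (BT.leaf cJ8376)) (BT.node 8377 (BT.leaf cJ8377) (BT.leaf cJ8378)))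 (BT.node 8381 (BT.node 8380 (BT.node 8379 (BT.leaf cJ8379) (BT.leaf cJ8380)) (BT.leaf cJ8381)) (BT.node 8382 (BT.leaf cJ8382) (BT.leaf cJ8383))))) (BT.node 8393 (BT.node 8388 (BT.node 8386 (BT.node 8385 (BT.node 8384 (BT.leaf cJ8384) (BT.leaf cJ8385)) (BT.leaf cJ8386)) (BT.node 8387 (BT.leaf cJ8387) (BT.leaf cJ8388))) (BT.node 8391 (BT.node 8390 (BT.node 8389 (BT.leaf cJ8389) (BT.leaf cJ8390)) (BT.leaf cJ8391)) (BT.node 8392 (BT.leaf cJ8392) (BT.leaf cJ8393)))) (BT.node 8398 (BT.node 8396 (BT.node 8395 (BT.node 8394 (BT.leaf cJ8394) (BT.leaf cJ8395)) (BT.leaf cJ8396)) (BT.node 8397 (BT.leaf cJ8397) (BT.leaf cJ8398))) (BT.node 8401 (BT.node 8400 (BT.node 8399 (BT.leaf cJ8399) (BT.leaf cJ8400)) (BT.leaf cJ8401)) (BT.node 8402 (BT.leaf cJ8402) (BT.leaf cJ8403))))))))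
noncomputable def colJT_52 : BT ℕ := (BT.node 8484 (BT.node 8444 (BT.node 8424 (BT.node 8414 (BT.node 8409 (BT.node 8406 (BT.node 8405 (BT.node 8404 (BT.leaf cJ8404) (BT.leaf cJ8405)) (BT.leaf cJ8406)) (BT.node 8408 (BT.node 8407 (BT.leaf cJ8407) (BT.leaf cJ8408)) (BT.leaf cJ8409))) (BT.node 8412 (BT.node 8411 (BT.node 8410 (BT.leaf cJ8410) (BT.leaf cJ8411)) (BT.leaf cJ8412)) (BT.node 8413 (BT.leaf cJ8413) (BT.leaf cJ8414)))) (BT.node 8419 (BT.node 8417 (BT.node 8416 (BT.node 8415 (BT.leaf cJ8415) (BT.leaf cJ8416)) (BT.leaf cJ8417)) (BT.node 8418 (BT.leaf cJ8418) (BT.leaf cJ8419))) (BT.node 8422 (BT.node 8421 (BT.node 8420 (BT.leaf cJ8420) (BT.leaf cJ8421)) (BT.leaf cJ8422)) (BT.node 8423 (BT.leaf cJ8423) (BT.leaf cJ8424))))) (BT.node 8434 (BT.node 8429 (BT.node 8427 (BT.node 8426 (BT.node 8425 (BT.leaf cJ8425) (BT.leaf cJ8426)) (BT.leaf cJ8427)) (BT.node 8428 (BT.leaf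 cJ8428) (BT.leaf cJ8429))) (BT.node 8432 (BT.node 8431 (BT.node 8430 (BT.leaf cJ8430) (BT.leaf cJ8431)) (BT.leaf cJ8432)) (BT.node 8433 (BT.leaf cJ8433) (BT.leaf cJ8434)))) (BT.node 8439 (BT.node 8437 (BT.node 8436 (BT.node 8435 (BT.leaf cJ8435) (BT.leaf cJ8436)) (BT.leaf cJ8437)) (BT.node 8438 (BT.leaf cJ8438) (BT.leaf cJ8439))) (BT.node 8442 (BT.node 8441 (BT.node 8440 (BT.leaf cJ8440) (BT.leaf cJ8441)) (BT.leaf cJ8442)) (BT.node 8443 (BT.leaf cJ8443) (BT.leaf cJ8444)))))) (BT.node 8464 (BT.node 8454 (BT.node 8449 (BT.node 8447 (BT.node 8446 (BT.node 8445 (BT.leaf cJ8445) (BT.leaf cJ8446)) (BT.leaf cJ8447)) (BT.node 8448 (BT.leaf cJ8448) (BT.leaf cJ8449))) (BT.node 8452 (BT.node 8451 (BT.node 8450 (BT.leaf cJ8450) (BT.leaf cJ8451)) (BT.leaf cJ8452)) (BT.node 8453 (BT.leaf cJ8453) (BT.leaf cJ8454)))) (BT.node 8459 (BT.node 8457 (BT.node 8456 (BT.node 8455 (BT.leaf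 cJ8455) (BT.leaf cJ8456)) (BT.leaf cJ8457)) (BT.node 8458 (BT.leaf cJ8458) (BT.leaf cJ8459))) (BT.node 8462 (BT.node 8461 (BT.node 8460 (BT.leaf cJ8460) (BT.leaf cJ8461)) (BT.leaf cJ8462)) (BT.node 8463 (BT.leaf cJ8463) (BT.leaf cJ8464))))) (BT.node 8474 (BT.node 8469 (BT.node 8467 (BT.node 8466 (BT.node 8465 (BT.leaf cJ8465) (BT.leaf cJ8466)) (BT.leaf cJ8467)) (BT.node 8468 (BT.leaf cJ8468) (BT.leaf cJ8469))) (BT.node 8472 (BT.node 8471 (BT.node 8470 (BT.leaf cJ8470) (BT.leaf cJ8471)) (BT.leaf cJ8472)) (BT.node 8473 (BT.leaf cJ8473) (BT.leaf cJ8474)))) (BT.node 8479 (BT.node 8477 (BT.node 8476 (BT.node 8475 (BT.leaf cJ8475) (BT.leaf cJ8476)) (BT.leaf cJ8477)) (BT.node 8478 (BT.leaf cJ8478) (BT.leaf cJ8479))) (BT.node 8482 (BT.node 8481 (BT.node 8480 (BT.leaf cJ8480) (BT.leaf cJ8481)) (BT.leaf cJ8482)) (BT.node 8483 (BT.leaf cJ8483) (BT.leaf cJ8484))))))) (BT.node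 8525 (BT.node 8505 (BT.node 8495 (BT.node 8490 (BT.node 8487 (BT.node 8486 (BT.node 8485 (BT.leaf cJ8485) (BT.leaf cJ8486)) (BT.leaf cJ8487)) (BT.node 8489 (BT.node 8488 (BT.leaf cJ8488) (BT.leaf cJ8489)) (BT.leaf cJ8490))) (BT.node 8493 (BT.node 8492 (BT.node 8491 (BT.leaf cJ8491) (BT.leaf cJ8492)) (BT.leaf cJ8493)) (BT.node 8494 (BT.leaf cJ8494) (BT.leaf cJ8495)))) (BT.node 8500 (BT.node 8498 (BT.node 8497 (BT.node 8496 (BT.leaf cJ8496) (BT.leaf cJ8497)) (BT.leaf cJ8498)) (BT.node 8499 (BT.leaf cJ8499) (BT.leaf cJ8500))) (BT.node 8503 (BT.node 8502 (BT.node 8501 (BT.leaf cJ8501) (BT.leaf cJ8502)) (BT.leaf cJ8503)) (BT.node 8504 (BT.leaf cJ8504) (BT.leaf cJ8505))))) (BT.node 8515 (BT.node 8510 (BT.node 8508 (BT.node 8507 (BT.node 8506 (BT.leaf cJ8506) (BT.leaf cJ8507)) (BT.leaf cJ8508)) (BT.node 8509 (BT.leaf cJ8509) (BT.leaf cJ8510))) (BT.node 8513 (BT.node 8512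 (BT.node 8511 (BT.leaf cJ8511) (BT.leaf cJ8512)) (BT.leaf cJ8513)) (BT.node 8514 (BT.leaf cJ8514) (BT.leaf cJ8515)))) (BT.node 8520 (BT.node 8518 (BT.node 8517 (BT.node 8516 (BT.leaf cJ8516) (BT.leaf cJ8517)) (BT.leaf cJ8518)) (BT.node 8519 (BT.leaf cJ8519) (BT.leaf cJ8520))) (BT.node 8523 (BT.node 8522 (BT.node 8521 (BT.leaf cJ8521) (BT.leaf cJ8522)) (BT.leaf cJ8523)) (BT.node 8524 (BT.leaf cJ8524) (BT.leaf cJ8525)))))) (BT.node 8545 (BT.node 8535 (BT.node 8530 (BT.node 8528 (BT.node 8527 (BT.node 8526 (BT.leaf cJ8526) (BT.leaf cJ8527)) (BT.leaf cJ8528)) (BT.node 8529 (BT.leaf cJ8529) (BT.leaf cJ8530))) (BT.node 8533 (BT.node 8532 (BT.node 8531 (BT.leaf cJ8531) (BT.leaf cJ8532)) (BT.leaf cJ8533)) (BT.node 8534 (BT.leaf cJ8534) (BT.leaf cJ8535)))) (BT.node 8540 (BT.node 8538 (BT.node 8537 (BT.node 8536 (BT.leaf cJ8536) (BT.leaf cJ8537)) (BT.leaf cJ8538)) (BT.node 8539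 (BT.leaf cJ8539) (BT.leaf cJ8540))) (BT.node 8543 (BT.node 8542 (BT.node 8541 (BT.leaf cJ8541) (BT.leaf cJ8542)) (BT.leaf cJ8543)) (BT.node 8544 (BT.leaf cJ8544) (BT.leaf cJ8545))))) (BT.node 8555 (BT.node 8550 (BT.node 8548 (BT.node 8547 (BT.node 8546 (BT.leaf cJ8546) (BT.leaf cJ8547)) (BT.leaf cJ8548)) (BT.node 8549 (BT.leaf cJ8549) (BT.leaf cJ8550))) (BT.node 8553 (BT.node 8552 (BT.node 8551 (BT.leaf cJ8551) (BT.leaf cJ8552)) (BT.leaf cJ8553)) (BT.node 8554 (BT.leaf cJ8554) (BT.leaf cJ8555)))) (BT.node 8560 (BT.node 8558 (BT.node 8557 (BT.node 8556 (BT.leaf cJ8556) (BT.leaf cJ8557)) (BT.leaf cJ8558)) (BT.node 8559 (BT.leaf cJ8559) (BT.leaf cJ8560))) (BT.node 8563 (BT.node 8562 (BT.node 8561 (BT.leaf cJ8561) (BT.leaf cJ8562)) (BT.leaf cJ8563)) (BT.node 8564 (BT.leaf cJ8564) (BT.leaf cJ8565))))))))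
noncomputable def colJT_53 : BT ℕ := (BT.node 8646 (BT.node 8606 (BT.node 8586 (BT.node 8576 (BT.node 8571 (BT.node 8568 (BT.node 8567 (BT.node 8566 (BT.leaf cJ8566) (BT.leaf cJ8567)) (BT.leaf cJ8568)) (BT.node 8570 (BT.node 8569 (BT.leaf cJ8569) (BT.leaf cJ8570)) (BT.leaf cJ8571))) (BT.node 8574 (BT.node 8573 (BT.node 8572 (BT.leaf cJ8572) (BT.leaf cJ8573)) (BT.leaf cJ8574)) (BT.node 8575 (BT.leaf cJ8575) (BT.leaf cJ8576)))) (BT.node 8581 (BT.node 8579 (BT.node 8578 (BT.node 8577 (BT.leaf cJ8577) (BT.leaf cJ8578)) (BT.leaf cJ8579)) (BT.node 8580 (BT.leaf cJ8580) (BT.leaf cJ8581))) (BT.node 8584 (BT.node 8583 (BT.node 8582 (BT.leaf cJ8582) (BT.leaf cJ8583)) (BT.leaf cJ8584)) (BT.node 8585 (BT.leaf cJ8585) (BT.leaf cJ8586))))) (BT.node 8596 (BT.node 8591 (BT.node 8589 (BT.node 8588 (BT.node 8587 (BT.leaf cJ8587) (BT.leaf cJ8588)) (BT.leaf cJ8589)) (BT.node 8590 (BT.leaf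 cJ8590) (BT.leaf cJ8591))) (BT.node 8594 (BT.node 8593 (BT.node 8592 (BT.leaf cJ8592) (BT.leaf cJ8593)) (BT.leaf cJ8594)) (BT.node 8595 (BT.leaf cJ8595) (BT.leaf cJ8596)))) (BT.node 8601 (BT.node 8599 (BT.node 8598 (BT.node 8597 (BT.leaf cJ8597) (BT.leaf cJ8598)) (BT.leaf cJ8599)) (BT.node 8600 (BT.leaf cJ8600) (BT.leaf cJ8601))) (BT.node 8604 (BT.node 8603 (BT.node 8602 (BT.leaf cJ8602) (BT.leaf cJ8603)) (BT.leaf cJ8604)) (BT.node 8605 (BT.leaf cJ8605) (BT.leaf cJ8606)))))) (BT.node 8626 (BT.node 8616 (BT.node 8611 (BT.node 8609 (BT.node 8608 (BT.node 8607 (BT.leaf cJ8607) (BT.leaf cJ8608)) (BT.leaf cJ8609)) (BT.node 8610 (BT.leaf cJ8610) (BT.leaf cJ8611))) (BT.node 8614 (BT.node 8613 (BT.node 8612 (BT.leaf cJ8612) (BT.leaf cJ8613)) (BT.leaf cJ8614)) (BT.node 8615 (BT.leaf cJ8615) (BT.leaf cJ8616)))) (BT.node 8621 (BT.node 8619 (BT.node 8618 (BT.node 8617 (BT.leaf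 cJ8617) (BT.leaf cJ8618)) (BT.leaf cJ8619)) (BT.node 8620 (BT.leaf cJ8620) (BT.leaf cJ8621))) (BT.node 8624 (BT.node 8623 (BT.node 8622 (BT.leaf cJ8622) (BT.leaf cJ8623)) (BT.leaf cJ8624)) (BT.node 8625 (BT.leaf cJ8625) (BT.leaf cJ8626))))) (BT.node 8636 (BT.node 8631 (BT.node 8629 (BT.node 8628 (BT.node 8627 (BT.leaf cJ8627) (BT.leaf cJ8628)) (BT.leaf cJ8629)) (BT.node 8630 (BT.leaf cJ8630) (BT.leaf cJ8631))) (BT.node 8634 (BT.node 8633 (BT.node 8632 (BT.leaf cJ8632) (BT.leaf cJ8633)) (BT.leaf cJ8634)) (BT.node 8635 (BT.leaf cJ8635) (BT.leaf cJ8636)))) (BT.node 8641 (BT.node 8639 (BT.node 8638 (BT.node 8637 (BT.leaf cJ8637) (BT.leaf cJ8638)) (BT.leaf cJ8639)) (BT.node 8640 (BT.leaf cJ8640) (BT.leaf cJ8641))) (BT.node 8644 (BT.node 8643 (BT.node 8642 (BT.leaf cJ8642) (BT.leaf cJ8643)) (BT.leaf cJ8644)) (BT.node 8645 (BT.leaf cJ8645) (BT.leaf cJ8646))))))) (BT.node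 8686 (BT.node 8666 (BT.node 8656 (BT.node 8651 (BT.node 8649 (BT.node 8648 (BT.node 8647 (BT.leaf cJ8647) (BT.leaf cJ8648)) (BT.leaf cJ8649)) (BT.node 8650 (BT.leaf cJ8650) (BT.leaf cJ8651))) (BT.node 8654 (BT.node 8653 (BT.node 8652 (BT.leaf cJ8652) (BT.leaf cJ8653)) (BT.leaf cJ8654)) (BT.node 8655 (BT.leaf cJ8655) (BT.leaf cJ8656)))) (BT.node 8661 (BT.node 8659 (BT.node 8658 (BT.node 8657 (BT.leaf cJ8657) (BT.leaf cJ8658)) (BT.leaf cJ8659)) (BT.node 8660 (BT.leaf cJ8660) (BT.leaf cJ8661))) (BT.node 8664 (BT.node 8663 (BT.node 8662 (BT.leaf cJ8662) (BT.leaf cJ8663)) (BT.leaf cJ8664)) (BT.node 8665 (BT.leaf cJ8665) (BT.leaf cJ8666))))) (BT.node 8676 (BT.node 8671 (BT.node 8669 (BT.node 8668 (BT.node 8667 (BT.leaf cJ8667) (BT.leaf cJ8668)) (BT.leaf cJ8669)) (BT.node 8670 (BT.leaf cJ8670) (BT.leaf cJ8671))) (BT.node 8674 (BT.node 8673 (BT.node 8672 (BT.leaf cJ8672) (BT.leaf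 cJ8673)) (BT.leaf cJ8674)) (BT.node 8675 (BT.leaf cJ8675) (BT.leaf cJ8676)))) (BT.node 8681 (BT.node 8679 (BT.node 8678 (BT.node 8677 (BT.leaf cJ8677) (BT.leaf cJ8678)) (BT.leaf cJ8679)) (BT.node 8680 (BT.leaf cJ8680) (BT.leaf cJ8681))) (BT.node 8684 (BT.node 8683 (BT.node 8682 (BT.leaf cJ8682) (BT.leaf cJ8683)) (BT.leaf cJ8684)) (BT.node 8685 (BT.leaf cJ8685) (BT.leaf cJ8686)))))) (BT.node 8706 (BT.node 8696 (BT.node 8691 (BT.node 8689 (BT.node 8688 (BT.node 8687 (BT.leaf cJ8687) (BT.leaf cJ8688)) (BT.leaf cJ8689)) (BT.node 8690 (BT.leaf cJ8690) (BT.leaf cJ8691))) (BT.node 8694 (BT.node 8693 (BT.node 8692 (BT.leaf cJ8692) (BT.leaf cJ8693)) (BT.leaf cJ8694)) (BT.node 8695 (BT.leaf cJ8695) (BT.leaf cJ8696)))) (BT.node 8701 (BT.node 8699 (BT.node 8698 (BT.node 8697 (BT.leaf cJ8697) (BT.leaf cJ8698)) (BT.leaf cJ8699)) (BT.node 8700 (BT.leaf cJ8700) (BT.leaf cJ8701)))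 (BT.node 8704 (BT.node 8703 (BT.node 8702 (BT.leaf cJ8702) (BT.leaf cJ8703)) (BT.leaf cJ8704)) (BT.node 8705 (BT.leaf cJ8705) (BT.leaf cJ8706))))) (BT.node 8716 (BT.node 8711 (BT.node 8709 (BT.node 8708 (BT.node 8707 (BT.leaf cJ8707) (BT.leaf cJ8708)) (BT.leaf cJ8709)) (BT.node 8710 (BT.leaf cJ8710) (BT.leaf cJ8711))) (BT.node 8714 (BT.node 8713 (BT.node 8712 (BT.leaf cJ8712) (BT.leaf cJ8713)) (BT.leaf cJ8714)) (BT.node 8715 (BT.leaf cJ8715) (BT.leaf cJ8716)))) (BT.node 8721 (BT.node 8719 (BT.node 8718 (BT.node 8717 (BT.leaf cJ8717) (BT.leaf cJ8718)) (BT.leaf cJ8719)) (BT.node 8720 (BT.leaf cJ8720) (BT.leaf cJ8721))) (BT.node 8724 (BT.node 8723 (BT.node 8722 (BT.leaf cJ8722) (BT.leaf cJ8723)) (BT.leaf cJ8724)) (BT.node 8725 (BT.leaf cJ8725) (BT.leaf cJ8726))))))))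
noncomputable def colJT_54 : BT ℕ := (BT.node 8807 (BT.node 8767 (BT.node 8747 (BT.node 8737 (BT.node 8732 (BT.node 8729 (BT.node 8728 (BT.node 8727 (BT.leaf cJ8727) (BT.leaf cJ8728)) (BT.leaf cJ8729)) (BT.node 8731 (BT.node 8730 (BT.leaf cJ8730) (BT.leaf cJ8731)) (BT.leaf cJ8732))) (BT.node 8735 (BT.node 8734 (BT.node 8733 (BT.leaf cJ8733) (BT.leaf cJ8734)) (BT.leaf cJ8735)) (BT.node 8736 (BT.leaf cJ8736) (BT.leaf cJ8737)))) (BT.node 8742 (BT.node 8740 (BT.node 8739 (BT.node 8738 (BT.leaf cJ8738) (BT.leaf cJ8739)) (BT.leaf cJ8740)) (BT.node 8741 (BT.leaf cJ8741) (BT.leaf cJ8742))) (BT.node 8745 (BT.node 8744 (BT.node 8743 (BT.leaf cJ8743) (BT.leaf cJ8744)) (BT.leaf cJ8745)) (BT.node 8746 (BT.leaf cJ8746) (BT.leaf cJ8747))))) (BT.node 8757 (BT.node 8752 (BT.node 8750 (BT.node 8749 (BT.node 8748 (BT.leaf cJ8748) (BT.leaf cJ8749)) (BT.leaf cJ8750)) (BT.node 8751 (BT.leaf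 cJ8751) (BT.leaf cJ8752))) (BT.node 8755 (BT.node 8754 (BT.node 8753 (BT.leaf cJ8753) (BT.leaf cJ8754)) (BT.leaf cJ8755)) (BT.node 8756 (BT.leaf cJ8756) (BT.leaf cJ8757)))) (BT.node 8762 (BT.node 8760 (BT.node 8759 (BT.node 8758 (BT.leaf cJ8758) (BT.leaf cJ8759)) (BT.leaf cJ8760)) (BT.node 8761 (BT.leaf cJ8761) (BT.leaf cJ8762))) (BT.node 8765 (BT.node 8764 (BT.node 8763 (BT.leaf cJ8763) (BT.leaf cJ8764)) (BT.leaf cJ8765)) (BT.node 8766 (BT.leaf cJ8766) (BT.leaf cJ8767)))))) (BT.node 8787 (BT.node 8777 (BT.node 8772 (BT.node 8770 (BT.node 8769 (BT.node 8768 (BT.leaf cJ8768) (BT.leaf cJ8769)) (BT.leaf cJ8770)) (BT.node 8771 (BT.leaf cJ8771) (BT.leaf cJ8772))) (BT.node 8775 (BT.node 8774 (BT.node 8773 (BT.leaf cJ8773) (BT.leaf cJ8774)) (BT.leaf cJ8775)) (BT.node 8776 (BT.leaf cJ8776) (BT.leaf cJ8777)))) (BT.node 8782 (BT.node 8780 (BT.node 8779 (BT.node 8778 (BT.leaf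 cJ8778) (BT.leaf cJ8779)) (BT.leaf cJ8780)) (BT.node 8781 (BT.leaf cJ8781) (BT.leaf cJ8782))) (BT.node 8785 (BT.node 8784 (BT.node 8783 (BT.leaf cJ8783) (BT.leaf cJ8784)) (BT.leaf cJ8785)) (BT.node 8786 (BT.leaf cJ8786) (BT.leaf cJ8787))))) (BT.node 8797 (BT.node 8792 (BT.node 8790 (BT.node 8789 (BT.node 8788 (BT.leaf cJ8788) (BT.leaf cJ8789)) (BT.leaf cJ8790)) (BT.node 8791 (BT.leaf cJ8791) (BT.leaf cJ8792))) (BT.node 8795 (BT.node 8794 (BT.node 8793 (BT.leaf cJ8793) (BT.leaf cJ8794)) (BT.leaf cJ8795)) (BT.node 8796 (BT.leaf cJ8796) (BT.leaf cJ8797)))) (BT.node 8802 (BT.node 8800 (BT.node 8799 (BT.node 8798 (BT.leaf cJ8798) (BT.leaf cJ8799)) (BT.leaf cJ8800)) (BT.node 8801 (BT.leaf cJ8801) (BT.leaf cJ8802))) (BT.node 8805 (BT.node 8804 (BT.node 8803 (BT.leaf cJ8803) (BT.leaf cJ8804)) (BT.leaf cJ8805)) (BT.node 8806 (BT.leaf cJ8806) (BT.leaf cJ8807))))))) (BT.node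 8848 (BT.node 8828 (BT.node 8818 (BT.node 8813 (BT.node 8810 (BT.node 8809 (BT.node 8808 (BT.leaf cJ8808) (BT.leaf cJ8809)) (BT.leaf cJ8810)) (BT.node 8812 (BT.node 8811 (BT.leaf cJ8811) (BT.leaf cJ8812)) (BT.leaf cJ8813))) (BT.node 8816 (BT.node 8815 (BT.node 8814 (BT.leaf cJ8814) (BT.leaf cJ8815)) (BT.leaf cJ8816)) (BT.node 8817 (BT.leaf cJ8817) (BT.leaf cJ8818)))) (BT.node 8823 (BT.node 8821 (BT.node 8820 (BT.node 8819 (BT.leaf cJ8819) (BT.leaf cJ8820)) (BT.leaf cJ8821)) (BT.node 8822 (BT.leaf cJ8822) (BT.leaf cJ8823))) (BT.node 8826 (BT.node 8825 (BT.node 8824 (BT.leaf cJ8824) (BT.leaf cJ8825)) (BT.leaf cJ8826)) (BT.node 8827 (BT.leaf cJ8827) (BT.leaf cJ8828))))) (BT.node 8838 (BT.node 8833 (BT.node 8831 (BT.node 8830 (BT.node 8829 (BT.leaf cJ8829) (BT.leaf cJ8830)) (BT.leaf cJ8831)) (BT.node 8832 (BT.leaf cJ8832) (BT.leaf cJ8833))) (BT.node 8836 (BT.node 8835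 (BT.node 8834 (BT.leaf cJ8834) (BT.leaf cJ8835)) (BT.leaf cJ8836)) (BT.node 8837 (BT.leaf cJ8837) (BT.leaf cJ8838)))) (BT.node 8843 (BT.node 8841 (BT.node 8840 (BT.node 8839 (BT.leaf cJ8839) (BT.leaf cJ8840)) (BT.leaf cJ8841)) (BT.node 8842 (BT.leaf cJ8842) (BT.leaf cJ8843))) (BT.node 8846 (BT.node 8845 (BT.node 8844 (BT.leaf cJ8844) (BT.leaf cJ8845)) (BT.leaf cJ8846)) (BT.node 8847 (BT.leaf cJ8847) (BT.leaf cJ8848)))))) (BT.node 8868 (BT.node 8858 (BT.node 8853 (BT.node 8851 (BT.node 8850 (BT.node 8849 (BT.leaf cJ8849) (BT.leaf cJ8850)) (BT.leaf cJ8851)) (BT.node 8852 (BT.leaf cJ8852) (BT.leaf cJ8853))) (BT.node 8856 (BT.node 8855 (BT.node 8854 (BT.leaf cJ8854) (BT.leaf cJ8855)) (BT.leaf cJ8856)) (BT.node 8857 (BT.leaf cJ8857) (BT.leaf cJ8858)))) (BT.node 8863 (BT.node 8861 (BT.node 8860 (BT.node 8859 (BT.leaf cJ8859) (BT.leaf cJ8860)) (BT.leaf cJ8861)) (BT.node 8862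 (BT.leaf cJ8862) (BT.leaf cJ8863))) (BT.node 8866 (BT.node 8865 (BT.node 8864 (BT.leaf cJ8864) (BT.leaf cJ8865)) (BT.leaf cJ8866)) (BT.node 8867 (BT.leaf cJ8867) (BT.leaf cJ8868))))) (BT.node 8878 (BT.node 8873 (BT.node 8871 (BT.node 8870 (BT.node 8869 (BT.leaf cJ8869) (BT.leaf cJ8870)) (BT.leaf cJ8871)) (BT.node 8872 (BT.leaf cJ8872) (BT.leaf cJ8873))) (BT.node 8876 (BT.node 8875 (BT.node 8874 (BT.leaf cJ8874) (BT.leaf cJ8875)) (BT.leaf cJ8876)) (BT.node 8877 (BT.leaf cJ8877) (BT.leaf cJ8878)))) (BT.node 8883 (BT.node 8881 (BT.node 8880 (BT.node 8879 (BT.leaf cJ8879) (BT.leaf cJ8880)) (BT.leaf cJ8881)) (BT.node 8882 (BT.leaf cJ8882) (BT.leaf cJ8883))) (BT.node 8886 (BT.node 8885 (BT.node 8884 (BT.leaf cJ8884) (BT.leaf cJ8885)) (BT.leaf cJ8886)) (BT.node 8887 (BT.leaf cJ8887) (BT.leaf cJ8888))))))))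
noncomputable def colJT_55 : BT ℕ := (BT.node 8969 (BT.node 8929 (BT.node 8909 (BT.node 8899 (BT.node 8894 (BT.node 8891 (BT.node 8890 (BT.node 8889 (BT.leaf cJ8889) (BT.leaf cJ8890)) (BT.leaf cJ8891)) (BT.node 8893 (BT.node 8892 (BT.leaf cJ8892) (BT.leaf cJ8893)) (BT.leaf cJ8894))) (BT.node 8897 (BT.node 8896 (BT.node 8895 (BT.leaf cJ8895) (BT.leaf cJ8896)) (BT.leaf cJ8897)) (BT.node 8898 (BT.leaf cJ8898) (BT.leaf cJ8899)))) (BT.node 8904 (BT.node 8902 (BT.node 8901 (BT.node 8900 (BT.leaf cJ8900) (BT.leaf cJ8901)) (BT.leaf cJ8902)) (BT.node 8903 (BT.leaf cJ8903) (BT.leaf cJ8904))) (BT.node 8907 (BT.node 8906 (BT.node 8905 (BT.leaf cJ8905) (BT.leaf cJ8906)) (BT.leaf cJ8907)) (BT.node 8908 (BT.leaf cJ8908) (BT.leaf cJ8909))))) (BT.node 8919 (BT.node 8914 (BT.node 8912 (BT.node 8911 (BT.node 8910 (BT.leaf cJ8910) (BT.leaf cJ8911)) (BT.leaf cJ8912)) (BT.node 8913 (BT.leaf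 cJ8913) (BT.leaf cJ8914))) (BT.node 8917 (BT.node 8916 (BT.node 8915 (BT.leaf cJ8915) (BT.leaf cJ8916)) (BT.leaf cJ8917)) (BT.node 8918 (BT.leaf cJ8918) (BT.leaf cJ8919)))) (BT.node 8924 (BT.node 8922 (BT.node 8921 (BT.node 8920 (BT.leaf cJ8920) (BT.leaf cJ8921)) (BT.leaf cJ8922)) (BT.node 8923 (BT.leaf cJ8923) (BT.leaf cJ8924))) (BT.node 8927 (BT.node 8926 (BT.node 8925 (BT.leaf cJ8925) (BT.leaf cJ8926)) (BT.leaf cJ8927)) (BT.node 8928 (BT.leaf cJ8928) (BT.leaf cJ8929)))))) (BT.node 8949 (BT.node 8939 (BT.node 8934 (BT.node 8932 (BT.node 8931 (BT.node 8930 (BT.leaf cJ8930) (BT.leaf cJ8931)) (BT.leaf cJ8932)) (BT.node 8933 (BT.leaf cJ8933) (BT.leaf cJ8934))) (BT.node 8937 (BT.node 8936 (BT.node 8935 (BT.leaf cJ8935) (BT.leaf cJ8936)) (BT.leaf cJ8937)) (BT.node 8938 (BT.leaf cJ8938) (BT.leaf cJ8939)))) (BT.node 8944 (BT.node 8942 (BT.node 8941 (BT.node 8940 (BT.leaf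 cJ8940) (BT.leaf cJ8941)) (BT.leaf cJ8942)) (BT.node 8943 (BT.leaf cJ8943) (BT.leaf cJ8944))) (BT.node 8947 (BT.node 8946 (BT.node 8945 (BT.leaf cJ8945) (BT.leaf cJ8946)) (BT.leaf cJ8947)) (BT.node 8948 (BT.leaf cJ8948) (BT.leaf cJ8949))))) (BT.node 8959 (BT.node 8954 (BT.node 8952 (BT.node 8951 (BT.node 8950 (BT.leaf cJ8950) (BT.leaf cJ8951)) (BT.leaf cJ8952)) (BT.node 8953 (BT.leaf cJ8953) (BT.leaf cJ8954))) (BT.node 8957 (BT.node 8956 (BT.node 8955 (BT.leaf cJ8955) (BT.leaf cJ8956)) (BT.leaf cJ8957)) (BT.node 8958 (BT.leaf cJ8958) (BT.leaf cJ8959)))) (BT.node 8964 (BT.node 8962 (BT.node 8961 (BT.node 8960 (BT.leaf cJ8960) (BT.leaf cJ8961)) (BT.leaf cJ8962)) (BT.node 8963 (BT.leaf cJ8963) (BT.leaf cJ8964))) (BT.node 8967 (BT.node 8966 (BT.node 8965 (BT.leaf cJ8965) (BT.leaf cJ8966)) (BT.leaf cJ8967)) (BT.node 8968 (BT.leaf cJ8968) (BT.leaf cJ8969))))))) (BT.node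 9009 (BT.node 8989 (BT.node 8979 (BT.node 8974 (BT.node 8972 (BT.node 8971 (BT.node 8970 (BT.leaf cJ8970) (BT.leaf cJ8971)) (BT.leaf cJ8972)) (BT.node 8973 (BT.leaf cJ8973) (BT.leaf cJ8974))) (BT.node 8977 (BT.node 8976 (BT.node 8975 (BT.leaf cJ8975) (BT.leaf cJ8976)) (BT.leaf cJ8977)) (BT.node 8978 (BT.leaf cJ8978) (BT.leaf cJ8979)))) (BT.node 8984 (BT.node 8982 (BT.node 8981 (BT.node 8980 (BT.leaf cJ8980) (BT.leaf cJ8981)) (BT.leaf cJ8982)) (BT.node 8983 (BT.leaf cJ8983) (BT.leaf cJ8984))) (BT.node 8987 (BT.node 8986 (BT.node 8985 (BT.leaf cJ8985) (BT.leaf cJ8986)) (BT.leaf cJ8987)) (BT.node 8988 (BT.leaf cJ8988) (BT.leaf cJ8989))))) (BT.node 8999 (BT.node 8994 (BT.node 8992 (BT.node 8991 (BT.node 8990 (BT.leaf cJ8990) (BT.leaf cJ8991)) (BT.leaf cJ8992)) (BT.node 8993 (BT.leaf cJ8993) (BT.leaf cJ8994))) (BT.node 8997 (BT.node 8996 (BT.node 8995 (BT.leaf cJ8995) (BT.leaf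 cJ8996)) (BT.leaf cJ8997)) (BT.node 8998 (BT.leaf cJ8998) (BT.leaf cJ8999)))) (BT.node 9004 (BT.node 9002 (BT.node 9001 (BT.node 9000 (BT.leaf cJ9000) (BT.leaf cJ9001)) (BT.leaf cJ9002)) (BT.node 9003 (BT.leaf cJ9003) (BT.leaf cJ9004))) (BT.node 9007 (BT.node 9006 (BT.node 9005 (BT.leaf cJ9005) (BT.leaf cJ9006)) (BT.leaf cJ9007)) (BT.node 9008 (BT.leaf cJ9008) (BT.leaf cJ9009)))))) (BT.node 9029 (BT.node 9019 (BT.node 9014 (BT.node 9012 (BT.node 9011 (BT.node 9010 (BT.leaf cJ9010) (BT.leaf cJ9011)) (BT.leaf cJ9012)) (BT.node 9013 (BT.leaf cJ9013) (BT.leaf cJ9014))) (BT.node 9017 (BT.node 9016 (BT.node 9015 (BT.leaf cJ9015) (BT.leaf cJ9016)) (BT.leaf cJ9017)) (BT.node 9018 (BT.leaf cJ9018) (BT.leaf cJ9019)))) (BT.node 9024 (BT.node 9022 (BT.node 9021 (BT.node 9020 (BT.leaf cJ9020) (BT.leaf cJ9021)) (BT.leaf cJ9022)) (BT.node 9023 (BT.leaf cJ9023) (BT.leaf cJ9024)))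 (BT.node 9027 (BT.node 9026 (BT.node 9025 (BT.leaf cJ9025) (BT.leaf cJ9026)) (BT.leaf cJ9027)) (BT.node 9028 (BT.leaf cJ9028) (BT.leaf cJ9029))))) (BT.node 9039 (BT.node 9034 (BT.node 9032 (BT.node 9031 (BT.node 9030 (BT.leaf cJ9030) (BT.leaf cJ9031)) (BT.leaf cJ9032)) (BT.node 9033 (BT.leaf cJ9033) (BT.leaf cJ9034))) (BT.node 9037 (BT.node 9036 (BT.node 9035 (BT.leaf cJ9035) (BT.leaf cJ9036)) (BT.leaf cJ9037)) (BT.node 9038 (BT.leaf cJ9038) (BT.leaf cJ9039)))) (BT.node 9044 (BT.node 9042 (BT.node 9041 (BT.node 9040 (BT.leaf cJ9040) (BT.leaf cJ9041)) (BT.leaf cJ9042)) (BT.node 9043 (BT.leaf cJ9043) (BT.leaf cJ9044))) (BT.node 9047 (BT.node 9046 (BT.node 9045 (BT.leaf cJ9045) (BT.leaf cJ9046)) (BT.leaf cJ9047)) (BT.node 9048 (BT.leaf cJ9048) (BT.leaf cJ9049))))))))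
noncomputable def colJT_56 : BT ℕ := (BT.node 9130 (BT.node 9090 (BT.node 9070 (BT.node 9060 (BT.node 9055 (BT.node 9052 (BT.node 9051 (BT.node 9050 (BT.leaf cJ9050) (BT.leaf cJ9051)) (BT.leaf cJ9052)) (BT.node 9054 (BT.node 9053 (BT.leaf cJ9053) (BT.leaf cJ9054)) (BT.leaf cJ9055))) (BT.node 9058 (BT.node 9057 (BT.node 9056 (BT.leaf cJ9056) (BT.leaf cJ9057)) (BT.leaf cJ9058)) (BT.node 9059 (BT.leaf cJ9059) (BT.leaf cJ9060)))) (BT.node 9065 (BT.node 9063 (BT.node 9062 (BT.node 9061 (BT.leaf cJ9061) (BT.leaf cJ9062)) (BT.leaf cJ9063)) (BT.node 9064 (BT.leaf cJ9064) (BT.leaf cJ9065))) (BT.node 9068 (BT.node 9067 (BT.node 9066 (BT.leaf cJ9066) (BT.leaf cJ9067)) (BT.leaf cJ9068)) (BT.node 9069 (BT.leaf cJ9069) (BT.leaf cJ9070))))) (BT.node 9080 (BT.node 9075 (BT.node 9073 (BT.node 9072 (BT.node 9071 (BT.leaf cJ9071) (BT.leaf cJ9072)) (BT.leaf cJ9073)) (BT.node 9074 (BT.leaf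 cJ9074) (BT.leaf cJ9075))) (BT.node 9078 (BT.node 9077 (BT.node 9076 (BT.leaf cJ9076) (BT.leaf cJ9077)) (BT.leaf cJ9078)) (BT.node 9079 (BT.leaf cJ9079) (BT.leaf cJ9080)))) (BT.node 9085 (BT.node 9083 (BT.node 9082 (BT.node 9081 (BT.leaf cJ9081) (BT.leaf cJ9082)) (BT.leaf cJ9083)) (BT.node 9084 (BT.leaf cJ9084) (BT.leaf cJ9085))) (BT.node 9088 (BT.node 9087 (BT.node 9086 (BT.leaf cJ9086) (BT.leaf cJ9087)) (BT.leaf cJ9088)) (BT.node 9089 (BT.leaf cJ9089) (BT.leaf cJ9090)))))) (BT.node 9110 (BT.node 9100 (BT.node 9095 (BT.node 9093 (BT.node 9092 (BT.node 9091 (BT.leaf cJ9091) (BT.leaf cJ9092)) (BT.leaf cJ9093)) (BT.node 9094 (BT.leaf cJ9094) (BT.leaf cJ9095))) (BT.node 9098 (BT.node 9097 (BT.node 9096 (BT.leaf cJ9096) (BT.leaf cJ9097)) (BT.leaf cJ9098)) (BT.node 9099 (BT.leaf cJ9099) (BT.leaf cJ9100)))) (BT.node 9105 (BT.node 9103 (BT.node 9102 (BT.node 9101 (BT.leaf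 cJ9101) (BT.leaf cJ9102)) (BT.leaf cJ9103)) (BT.node 9104 (BT.leaf cJ9104) (BT.leaf cJ9105))) (BT.node 9108 (BT.node 9107 (BT.node 9106 (BT.leaf cJ9106) (BT.leaf cJ9107)) (BT.leaf cJ9108)) (BT.node 9109 (BT.leaf cJ9109) (BT.leaf cJ9110))))) (BT.node 9120 (BT.node 9115 (BT.node 9113 (BT.node 9112 (BT.node 9111 (BT.leaf cJ9111) (BT.leaf cJ9112)) (BT.leaf cJ9113)) (BT.node 9114 (BT.leaf cJ9114) (BT.leaf cJ9115))) (BT.node 9118 (BT.node 9117 (BT.node 9116 (BT.leaf cJ9116) (BT.leaf cJ9117)) (BT.leaf cJ9118)) (BT.node 9119 (BT.leaf cJ9119) (BT.leaf cJ9120)))) (BT.node 9125 (BT.node 9123 (BT.node 9122 (BT.node 9121 (BT.leaf cJ9121) (BT.leaf cJ9122)) (BT.leaf cJ9123)) (BT.node 9124 (BT.leaf cJ9124) (BT.leaf cJ9125))) (BT.node 9128 (BT.node 9127 (BT.node 9126 (BT.leaf cJ9126) (BT.leaf cJ9127)) (BT.leaf cJ9128)) (BT.node 9129 (BT.leaf cJ9129) (BT.leaf cJ9130))))))) (BT.node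 9171 (BT.node 9151 (BT.node 9141 (BT.node 9136 (BT.node 9133 (BT.node 9132 (BT.node 9131 (BT.leaf cJ9131) (BT.leaf cJ9132)) (BT.leaf cJ9133)) (BT.node 9135 (BT.node 9134 (BT.leaf cJ9134) (BT.leaf cJ9135)) (BT.leaf cJ9136))) (BT.node 9139 (BT.node 9138 (BT.node 9137 (BT.leaf cJ9137) (BT.leaf cJ9138)) (BT.leaf cJ9139)) (BT.node 9140 (BT.leaf cJ9140) (BT.leaf cJ9141)))) (BT.node 9146 (BT.node 9144 (BT.node 9143 (BT.node 9142 (BT.leaf cJ9142) (BT.leaf cJ9143)) (BT.leaf cJ9144)) (BT.node 9145 (BT.leaf cJ9145) (BT.leaf cJ9146))) (BT.node 9149 (BT.node 9148 (BT.node 9147 (BT.leaf cJ9147) (BT.leaf cJ9148)) (BT.leaf cJ9149)) (BT.node 9150 (BT.leaf cJ9150) (BT.leaf cJ9151))))) (BT.node 9161 (BT.node 9156 (BT.node 9154 (BT.node 9153 (BT.node 9152 (BT.leaf cJ9152) (BT.leaf cJ9153)) (BT.leaf cJ9154)) (BT.node 9155 (BT.leaf cJ9155) (BT.leaf cJ9156))) (BT.node 9159 (BT.node 9158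 (BT.node 9157 (BT.leaf cJ9157) (BT.leaf cJ9158)) (BT.leaf cJ9159)) (BT.node 9160 (BT.leaf cJ9160) (BT.leaf cJ9161)))) (BT.node 9166 (BT.node 9164 (BT.node 9163 (BT.node 9162 (BT.leaf cJ9162) (BT.leaf cJ9163)) (BT.leaf cJ9164)) (BT.node 9165 (BT.leaf cJ9165) (BT.leaf cJ9166))) (BT.node 9169 (BT.node 9168 (BT.node 9167 (BT.leaf cJ9167) (BT.leaf cJ9168)) (BT.leaf cJ9169)) (BT.node 9170 (BT.leaf cJ9170) (BT.leaf cJ9171)))))) (BT.node 9191 (BT.node 9181 (BT.node 9176 (BT.node 9174 (BT.node 9173 (BT.node 9172 (BT.leaf cJ9172) (BT.leaf cJ9173)) (BT.leaf cJ9174)) (BT.node 9175 (BT.leaf cJ9175) (BT.leaf cJ9176))) (BT.node 9179 (BT.node 9178 (BT.node 9177 (BT.leaf cJ9177) (BT.leaf cJ9178)) (BT.leaf cJ9179)) (BT.node 9180 (BT.leaf cJ9180) (BT.leaf cJ9181)))) (BT.node 9186 (BT.node 9184 (BT.node 9183 (BT.node 9182 (BT.leaf cJ9182) (BT.leaf cJ9183)) (BT.leaf cJ9184)) (BT.node 9185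 (BT.leaf cJ9185) (BT.leaf cJ9186))) (BT.node 9189 (BT.node 9188 (BT.node 9187 (BT.leaf cJ9187) (BT.leaf cJ9188)) (BT.leaf cJ9189)) (BT.node 9190 (BT.leaf cJ9190) (BT.leaf cJ9191))))) (BT.node 9201 (BT.node 9196 (BT.node 9194 (BT.node 9193 (BT.node 9192 (BT.leaf cJ9192) (BT.leaf cJ9193)) (BT.leaf cJ9194)) (BT.node 9195 (BT.leaf cJ9195) (BT.leaf cJ9196))) (BT.node 9199 (BT.node 9198 (BT.node 9197 (BT.leaf cJ9197) (BT.leaf cJ9198)) (BT.leaf cJ9199)) (BT.node 9200 (BT.leaf cJ9200) (BT.leaf cJ9201)))) (BT.node 9206 (BT.node 9204 (BT.node 9203 (BT.node 9202 (BT.leaf cJ9202) (BT.leaf cJ9203)) (BT.leaf cJ9204)) (BT.node 9205 (BT.leaf cJ9205) (BT.leaf cJ9206))) (BT.node 9209 (BT.node 9208 (BT.node 9207 (BT.leaf cJ9207) (BT.leaf cJ9208)) (BT.leaf cJ9209)) (BT.node 9210 (BT.leaf cJ9210) (BT.leaf cJ9211))))))))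
noncomputable def colJT_57 : BT ℕ := (BT.node 9292 (BT.node 9252 (BT.node 9232 (BT.node 9222 (BT.node 9217 (BT.node 9214 (BT.node 9213 (BT.node 9212 (BT.leaf cJ9212) (BT.leaf cJ9213)) (BT.leaf cJ9214)) (BT.node 9216 (BT.node 9215 (BT.leaf cJ9215) (BT.leaf cJ9216)) (BT.leaf cJ9217))) (BT.node 9220 (BT.node 9219 (BT.node 9218 (BT.leaf cJ9218) (BT.leaf cJ9219)) (BT.leaf cJ9220)) (BT.node 9221 (BT.leaf cJ9221) (BT.leaf cJ9222)))) (BT.node 9227 (BT.node 9225 (BT.node 9224 (BT.node 9223 (BT.leaf cJ9223) (BT.leaf cJ9224)) (BT.leaf cJ9225)) (BT.node 9226 (BT.leaf cJ9226) (BT.leaf cJ9227))) (BT.node 9230 (BT.node 9229 (BT.node 9228 (BT.leaf cJ9228) (BT.leaf cJ9229)) (BT.leaf cJ9230)) (BT.node 9231 (BT.leaf cJ9231) (BT.leaf cJ9232))))) (BT.node 9242 (BT.node 9237 (BT.node 9235 (BT.node 9234 (BT.node 9233 (BT.leaf cJ9233) (BT.leaf cJ9234)) (BT.leaf cJ9235)) (BT.node 9236 (BT.leaf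 cJ9236) (BT.leaf cJ9237))) (BT.node 9240 (BT.node 9239 (BT.node 9238 (BT.leaf cJ9238) (BT.leaf cJ9239)) (BT.leaf cJ9240)) (BT.node 9241 (BT.leaf cJ9241) (BT.leaf cJ9242)))) (BT.node 9247 (BT.node 9245 (BT.node 9244 (BT.node 9243 (BT.leaf cJ9243) (BT.leaf cJ9244)) (BT.leaf cJ9245)) (BT.node 9246 (BT.leaf cJ9246) (BT.leaf cJ9247))) (BT.node 9250 (BT.node 9249 (BT.node 9248 (BT.leaf cJ9248) (BT.leaf cJ9249)) (BT.leaf cJ9250)) (BT.node 9251 (BT.leaf cJ9251) (BT.leaf cJ9252)))))) (BT.node 9272 (BT.node 9262 (BT.node 9257 (BT.node 9255 (BT.node 9254 (BT.node 9253 (BT.leaf cJ9253) (BT.leaf cJ9254)) (BT.leaf cJ9255)) (BT.node 9256 (BT.leaf cJ9256) (BT.leaf cJ9257))) (BT.node 9260 (BT.node 9259 (BT.node 9258 (BT.leaf cJ9258) (BT.leaf cJ9259)) (BT.leaf cJ9260)) (BT.node 9261 (BT.leaf cJ9261) (BT.leaf cJ9262)))) (BT.node 9267 (BT.node 9265 (BT.node 9264 (BT.node 9263 (BT.leaf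 cJ9263) (BT.leaf cJ9264)) (BT.leaf cJ9265)) (BT.node 9266 (BT.leaf cJ9266) (BT.leaf cJ9267))) (BT.node 9270 (BT.node 9269 (BT.node 9268 (BT.leaf cJ9268) (BT.leaf cJ9269)) (BT.leaf cJ9270)) (BT.node 9271 (BT.leaf cJ9271) (BT.leaf cJ9272))))) (BT.node 9282 (BT.node 9277 (BT.node 9275 (BT.node 9274 (BT.node 9273 (BT.leaf cJ9273) (BT.leaf cJ9274)) (BT.leaf cJ9275)) (BT.node 9276 (BT.leaf cJ9276) (BT.leaf cJ9277))) (BT.node 9280 (BT.node 9279 (BT.node 9278 (BT.leaf cJ9278) (BT.leaf cJ9279)) (BT.leaf cJ9280)) (BT.node 9281 (BT.leaf cJ9281) (BT.leaf cJ9282)))) (BT.node 9287 (BT.node 9285 (BT.node 9284 (BT.node 9283 (BT.leaf cJ9283) (BT.leaf cJ9284)) (BT.leaf cJ9285)) (BT.node 9286 (BT.leaf cJ9286) (BT.leaf cJ9287))) (BT.node 9290 (BT.node 9289 (BT.node 9288 (BT.leaf cJ9288) (BT.leaf cJ9289)) (BT.leaf cJ9290)) (BT.node 9291 (BT.leaf cJ9291) (BT.leaf cJ9292))))))) (BT.node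 9332 (BT.node 9312 (BT.node 9302 (BT.node 9297 (BT.node 9295 (BT.node 9294 (BT.node 9293 (BT.leaf cJ9293) (BT.leaf cJ9294)) (BT.leaf cJ9295)) (BT.node 9296 (BT.leaf cJ9296) (BT.leaf cJ9297))) (BT.node 9300 (BT.node 9299 (BT.node 9298 (BT.leaf cJ9298) (BT.leaf cJ9299)) (BT.leaf cJ9300)) (BT.node 9301 (BT.leaf cJ9301) (BT.leaf cJ9302)))) (BT.node 9307 (BT.node 9305 (BT.node 9304 (BT.node 9303 (BT.leaf cJ9303) (BT.leaf cJ9304)) (BT.leaf cJ9305)) (BT.node 9306 (BT.leaf cJ9306) (BT.leaf cJ9307))) (BT.node 9310 (BT.node 9309 (BT.node 9308 (BT.leaf cJ9308) (BT.leaf cJ9309)) (BT.leaf cJ9310)) (BT.node 9311 (BT.leaf cJ9311) (BT.leaf cJ9312))))) (BT.node 9322 (BT.node 9317 (BT.node 9315 (BT.node 9314 (BT.node 9313 (BT.leaf cJ9313) (BT.leaf cJ9314)) (BT.leaf cJ9315)) (BT.node 9316 (BT.leaf cJ9316) (BT.leaf cJ9317))) (BT.node 9320 (BT.node 9319 (BT.node 9318 (BT.leaf cJ9318) (BT.leaf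 cJ9319)) (BT.leaf cJ9320)) (BT.node 9321 (BT.leaf cJ9321) (BT.leaf cJ9322)))) (BT.node 9327 (BT.node 9325 (BT.node 9324 (BT.node 9323 (BT.leaf cJ9323) (BT.leaf cJ9324)) (BT.leaf cJ9325)) (BT.node 9326 (BT.leaf cJ9326) (BT.leaf cJ9327))) (BT.node 9330 (BT.node 9329 (BT.node 9328 (BT.leaf cJ9328) (BT.leaf cJ9329)) (BT.leaf cJ9330)) (BT.node 9331 (BT.leaf cJ9331) (BT.leaf cJ9332)))))) (BT.node 9352 (BT.node 9342 (BT.node 9337 (BT.node 9335 (BT.node 9334 (BT.node 9333 (BT.leaf cJ9333) (BT.leaf cJ9334)) (BT.leaf cJ9335)) (BT.node 9336 (BT.leaf cJ9336) (BT.leaf cJ9337))) (BT.node 9340 (BT.node 9339 (BT.node 9338 (BT.leaf cJ9338) (BT.leaf cJ9339)) (BT.leaf cJ9340)) (BT.node 9341 (BT.leaf cJ9341) (BT.leaf cJ9342)))) (BT.node 9347 (BT.node 9345 (BT.node 9344 (BT.node 9343 (BT.leaf cJ9343) (BT.leaf cJ9344)) (BT.leaf cJ9345)) (BT.node 9346 (BT.leaf cJ9346) (BT.leaf cJ9347)))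 (BT.node 9350 (BT.node 9349 (BT.node 9348 (BT.leaf cJ9348) (BT.leaf cJ9349)) (BT.leaf cJ9350)) (BT.node 9351 (BT.leaf cJ9351) (BT.leaf cJ9352))))) (BT.node 9362 (BT.node 9357 (BT.node 9355 (BT.node 9354 (BT.node 9353 (BT.leaf cJ9353) (BT.leaf cJ9354)) (BT.leaf cJ9355)) (BT.node 9356 (BT.leaf cJ9356) (BT.leaf cJ9357))) (BT.node 9360 (BT.node 9359 (BT.node 9358 (BT.leaf cJ9358) (BT.leaf cJ9359)) (BT.leaf cJ9360)) (BT.node 9361 (BT.leaf cJ9361) (BT.leaf cJ9362)))) (BT.node 9367 (BT.node 9365 (BT.node 9364 (BT.node 9363 (BT.leaf cJ9363) (BT.leaf cJ9364)) (BT.leaf cJ9365)) (BT.node 9366 (BT.leaf cJ9366) (BT.leaf cJ9367))) (BT.node 9370 (BT.node 9369 (BT.node 9368 (BT.leaf cJ9368) (BT.leaf cJ9369)) (BT.leaf cJ9370)) (BT.node 9371 (BT.leaf cJ9371) (BT.leaf cJ9372))))))))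
noncomputable def colJT_58 : BT ℕ := (BT.node 9453 (BT.node 9413 (BT.node 9393 (BT.node 9383 (BT.node 9378 (BT.node 9375 (BT.node 9374 (BT.node 9373 (BT.leaf cJ9373) (BT.leaf cJ9374)) (BT.leaf cJ9375)) (BT.node 9377 (BT.node 9376 (BT.leaf cJ9376) (BT.leaf cJ9377)) (BT.leaf cJ9378))) (BT.node 9381 (BT.node 9380 (BT.node 9379 (BT.leaf cJ9379) (BT.leaf cJ9380)) (BT.leaf cJ9381)) (BT.node 9382 (BT.leaf cJ9382) (BT.leaf cJ9383)))) (BT.node 9388 (BT.node 9386 (BT.node 9385 (BT.node 9384 (BT.leaf cJ9384) (BT.leaf cJ9385)) (BT.leaf cJ9386)) (BT.node 9387 (BT.leaf cJ9387) (BT.leaf cJ9388))) (BT.node 9391 (BT.node 9390 (BT.node 9389 (BT.leaf cJ9389) (BT.leaf cJ9390)) (BT.leaf cJ9391)) (BT.node 9392 (BT.leaf cJ9392) (BT.leaf cJ9393))))) (BT.node 9403 (BT.node 9398 (BT.node 9396 (BT.node 9395 (BT.node 9394 (BT.leaf cJ9394) (BT.leaf cJ9395)) (BT.leaf cJ9396)) (BT.node 9397 (BT.leaf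 cJ9397) (BT.leaf cJ9398))) (BT.node 9401 (BT.node 9400 (BT.node 9399 (BT.leaf cJ9399) (BT.leaf cJ9400)) (BT.leaf cJ9401)) (BT.node 9402 (BT.leaf cJ9402) (BT.leaf cJ9403)))) (BT.node 9408 (BT.node 9406 (BT.node 9405 (BT.node 9404 (BT.leaf cJ9404) (BT.leaf cJ9405)) (BT.leaf cJ9406)) (BT.node 9407 (BT.leaf cJ9407) (BT.leaf cJ9408))) (BT.node 9411 (BT.node 9410 (BT.node 9409 (BT.leaf cJ9409) (BT.leaf cJ9410)) (BT.leaf cJ9411)) (BT.node 9412 (BT.leaf cJ9412) (BT.leaf cJ9413)))))) (BT.node 9433 (BT.node 9423 (BT.node 9418 (BT.node 9416 (BT.node 9415 (BT.node 9414 (BT.leaf cJ9414) (BT.leaf cJ9415)) (BT.leaf cJ9416)) (BT.node 9417 (BT.leaf cJ9417) (BT.leaf cJ9418))) (BT.node 9421 (BT.node 9420 (BT.node 9419 (BT.leaf cJ9419) (BT.leaf cJ9420)) (BT.leaf cJ9421)) (BT.node 9422 (BT.leaf cJ9422) (BT.leaf cJ9423)))) (BT.node 9428 (BT.node 9426 (BT.node 9425 (BT.node 9424 (BT.leaf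 cJ9424) (BT.leaf cJ9425)) (BT.leaf cJ9426)) (BT.node 9427 (BT.leaf cJ9427) (BT.leaf cJ9428))) (BT.node 9431 (BT.node 9430 (BT.node 9429 (BT.leaf cJ9429) (BT.leaf cJ9430)) (BT.leaf cJ9431)) (BT.node 9432 (BT.leaf cJ9432) (BT.leaf cJ9433))))) (BT.node 9443 (BT.node 9438 (BT.node 9436 (BT.node 9435 (BT.node 9434 (BT.leaf cJ9434) (BT.leaf cJ9435)) (BT.leaf cJ9436)) (BT.node 9437 (BT.leaf cJ9437) (BT.leaf cJ9438))) (BT.node 9441 (BT.node 9440 (BT.node 9439 (BT.leaf cJ9439) (BT.leaf cJ9440)) (BT.leaf cJ9441)) (BT.node 9442 (BT.leaf cJ9442) (BT.leaf cJ9443)))) (BT.node 9448 (BT.node 9446 (BT.node 9445 (BT.node 9444 (BT.leaf cJ9444) (BT.leaf cJ9445)) (BT.leaf cJ9446)) (BT.node 9447 (BT.leaf cJ9447) (BT.leaf cJ9448))) (BT.node 9451 (BT.node 9450 (BT.node 9449 (BT.leaf cJ9449) (BT.leaf cJ9450)) (BT.leaf cJ9451)) (BT.node 9452 (BT.leaf cJ9452) (BT.leaf cJ9453))))))) (BT.node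 9494 (BT.node 9474 (BT.node 9464 (BT.node 9459 (BT.node 9456 (BT.node 9455 (BT.node 9454 (BT.leaf cJ9454) (BT.leaf cJ9455)) (BT.leaf cJ9456)) (BT.node 9458 (BT.node 9457 (BT.leaf cJ9457) (BT.leaf cJ9458)) (BT.leaf cJ9459))) (BT.node 9462 (BT.node 9461 (BT.node 9460 (BT.leaf cJ9460) (BT.leaf cJ9461)) (BT.leaf cJ9462)) (BT.node 9463 (BT.leaf cJ9463) (BT.leaf cJ9464)))) (BT.node 9469 (BT.node 9467 (BT.node 9466 (BT.node 9465 (BT.leaf cJ9465) (BT.leaf cJ9466)) (BT.leaf cJ9467)) (BT.node 9468 (BT.leaf cJ9468) (BT.leaf cJ9469))) (BT.node 9472 (BT.node 9471 (BT.node 9470 (BT.leaf cJ9470) (BT.leaf cJ9471)) (BT.leaf cJ9472)) (BT.node 9473 (BT.leaf cJ9473) (BT.leaf cJ9474))))) (BT.node 9484 (BT.node 9479 (BT.node 9477 (BT.node 9476 (BT.node 9475 (BT.leaf cJ9475) (BT.leaf cJ9476)) (BT.leaf cJ9477)) (BT.node 9478 (BT.leaf cJ9478) (BT.leaf cJ9479))) (BT.node 9482 (BT.node 9481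 (BT.node 9480 (BT.leaf cJ9480) (BT.leaf cJ9481)) (BT.leaf cJ9482)) (BT.node 9483 (BT.leaf cJ9483) (BT.leaf cJ9484)))) (BT.node 9489 (BT.node 9487 (BT.node 9486 (BT.node 9485 (BT.leaf cJ9485) (BT.leaf cJ9486)) (BT.leaf cJ9487)) (BT.node 9488 (BT.leaf cJ9488) (BT.leaf cJ9489))) (BT.node 9492 (BT.node 9491 (BT.node 9490 (BT.leaf cJ9490) (BT.leaf cJ9491)) (BT.leaf cJ9492)) (BT.node 9493 (BT.leaf cJ9493) (BT.leaf cJ9494)))))) (BT.node 9514 (BT.node 9504 (BT.node 9499 (BT.node 9497 (BT.node 9496 (BT.node 9495 (BT.leaf cJ9495) (BT.leaf cJ9496)) (BT.leaf cJ9497)) (BT.node 9498 (BT.leaf cJ9498) (BT.leaf cJ9499))) (BT.node 9502 (BT.node 9501 (BT.node 9500 (BT.leaf cJ9500) (BT.leaf cJ9501)) (BT.leaf cJ9502)) (BT.node 9503 (BT.leaf cJ9503) (BT.leaf cJ9504)))) (BT.node 9509 (BT.node 9507 (BT.node 9506 (BT.node 9505 (BT.leaf cJ9505) (BT.leaf cJ9506)) (BT.leaf cJ9507)) (BT.node 9508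 (BT.leaf cJ9508) (BT.leaf cJ9509))) (BT.node 9512 (BT.node 9511 (BT.node 9510 (BT.leaf cJ9510) (BT.leaf cJ9511)) (BT.leaf cJ9512)) (BT.node 9513 (BT.leaf cJ9513) (BT.leaf cJ9514))))) (BT.node 9524 (BT.node 9519 (BT.node 9517 (BT.node 9516 (BT.node 9515 (BT.leaf cJ9515) (BT.leaf cJ9516)) (BT.leaf cJ9517)) (BT.node 9518 (BT.leaf cJ9518) (BT.leaf cJ9519))) (BT.node 9522 (BT.node 9521 (BT.node 9520 (BT.leaf cJ9520) (BT.leaf cJ9521)) (BT.leaf cJ9522)) (BT.node 9523 (BT.leaf cJ9523) (BT.leaf cJ9524)))) (BT.node 9529 (BT.node 9527 (BT.node 9526 (BT.node 9525 (BT.leaf cJ9525) (BT.leaf cJ9526)) (BT.leaf cJ9527)) (BT.node 9528 (BT.leaf cJ9528) (BT.leaf cJ9529))) (BT.node 9532 (BT.node 9531 (BT.node 9530 (BT.leaf cJ9530) (BT.leaf cJ9531)) (BT.leaf cJ9532)) (BT.node 9533 (BT.leaf cJ9533) (BT.leaf cJ9534))))))))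
noncomputable def colJT_59 : BT ℕ := (BT.node 9615 (BT.node 9575 (BT.node 9555 (BT.node 9545 (BT.node 9540 (BT.node 9537 (BT.node 9536 (BT.node 9535 (BT.leaf cJ9535) (BT.leaf cJ9536)) (BT.leaf cJ9537)) (BT.node 9539 (BT.node 9538 (BT.leaf cJ9538) (BT.leaf cJ9539)) (BT.leaf cJ9540))) (BT.node 9543 (BT.node 9542 (BT.node 9541 (BT.leaf cJ9541) (BT.leaf cJ9542)) (BT.leaf cJ9543)) (BT.node 9544 (BT.leaf cJ9544) (BT.leaf cJ9545)))) (BT.node 9550 (BT.node 9548 (BT.node 9547 (BT.node 9546 (BT.leaf cJ9546) (BT.leaf cJ9547)) (BT.leaf cJ9548)) (BT.node 9549 (BT.leaf cJ9549) (BT.leaf cJ9550))) (BT.node 9553 (BT.node 9552 (BT.node 9551 (BT.leaf cJ9551) (BT.leaf cJ9552)) (BT.leaf cJ9553)) (BT.node 9554 (BT.leaf cJ9554) (BT.leaf cJ9555))))) (BT.node 9565 (BT.node 9560 (BT.node 9558 (BT.node 9557 (BT.node 9556 (BT.leaf cJ9556) (BT.leaf cJ9557)) (BT.leaf cJ9558)) (BT.node 9559 (BT.leaf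 cJ9559) (BT.leaf cJ9560))) (BT.node 9563 (BT.node 9562 (BT.node 9561 (BT.leaf cJ9561) (BT.leaf cJ9562)) (BT.leaf cJ9563)) (BT.node 9564 (BT.leaf cJ9564) (BT.leaf cJ9565)))) (BT.node 9570 (BT.node 9568 (BT.node 9567 (BT.node 9566 (BT.leaf cJ9566) (BT.leaf cJ9567)) (BT.leaf cJ9568)) (BT.node 9569 (BT.leaf cJ9569) (BT.leaf cJ9570))) (BT.node 9573 (BT.node 9572 (BT.node 9571 (BT.leaf cJ9571) (BT.leaf cJ9572)) (BT.leaf cJ9573)) (BT.node 9574 (BT.leaf cJ9574) (BT.leaf cJ9575)))))) (BT.node 9595 (BT.node 9585 (BT.node 9580 (BT.node 9578 (BT.node 9577 (BT.node 9576 (BT.leaf cJ9576) (BT.leaf cJ9577)) (BT.leaf cJ9578)) (BT.node 9579 (BT.leaf cJ9579) (BT.leaf cJ9580))) (BT.node 9583 (BT.node 9582 (BT.node 9581 (BT.leaf cJ9581) (BT.leaf cJ9582)) (BT.leaf cJ9583)) (BT.node 9584 (BT.leaf cJ9584) (BT.leaf cJ9585)))) (BT.node 9590 (BT.node 9588 (BT.node 9587 (BT.node 9586 (BT.leaf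 cJ9586) (BT.leaf cJ9587)) (BT.leaf cJ9588)) (BT.node 9589 (BT.leaf cJ9589) (BT.leaf cJ9590))) (BT.node 9593 (BT.node 9592 (BT.node 9591 (BT.leaf cJ9591) (BT.leaf cJ9592)) (BT.leaf cJ9593)) (BT.node 9594 (BT.leaf cJ9594) (BT.leaf cJ9595))))) (BT.node 9605 (BT.node 9600 (BT.node 9598 (BT.node 9597 (BT.node 9596 (BT.leaf cJ9596) (BT.leaf cJ9597)) (BT.leaf cJ9598)) (BT.node 9599 (BT.leaf cJ9599) (BT.leaf cJ9600))) (BT.node 9603 (BT.node 9602 (BT.node 9601 (BT.leaf cJ9601) (BT.leaf cJ9602)) (BT.leaf cJ9603)) (BT.node 9604 (BT.leaf cJ9604) (BT.leaf cJ9605)))) (BT.node 9610 (BT.node 9608 (BT.node 9607 (BT.node 9606 (BT.leaf cJ9606) (BT.leaf cJ9607)) (BT.leaf cJ9608)) (BT.node 9609 (BT.leaf cJ9609) (BT.leaf cJ9610))) (BT.node 9613 (BT.node 9612 (BT.node 9611 (BT.leaf cJ9611) (BT.leaf cJ9612)) (BT.leaf cJ9613)) (BT.node 9614 (BT.leaf cJ9614) (BT.leaf cJ9615))))))) (BT.node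 9655 (BT.node 9635 (BT.node 9625 (BT.node 9620 (BT.node 9618 (BT.node 9617 (BT.node 9616 (BT.leaf cJ9616) (BT.leaf cJ9617)) (BT.leaf cJ9618)) (BT.node 9619 (BT.leaf cJ9619) (BT.leaf cJ9620))) (BT.node 9623 (BT.node 9622 (BT.node 9621 (BT.leaf cJ9621) (BT.leaf cJ9622)) (BT.leaf cJ9623)) (BT.node 9624 (BT.leaf cJ9624) (BT.leaf cJ9625)))) (BT.node 9630 (BT.node 9628 (BT.node 9627 (BT.node 9626 (BT.leaf cJ9626) (BT.leaf cJ9627)) (BT.leaf cJ9628)) (BT.node 9629 (BT.leaf cJ9629) (BT.leaf cJ9630))) (BT.node 9633 (BT.node 9632 (BT.node 9631 (BT.leaf cJ9631) (BT.leaf cJ9632)) (BT.leaf cJ9633)) (BT.node 9634 (BT.leaf cJ9634) (BT.leaf cJ9635))))) (BT.node 9645 (BT.node 9640 (BT.node 9638 (BT.node 9637 (BT.node 9636 (BT.leaf cJ9636) (BT.leaf cJ9637)) (BT.leaf cJ9638)) (BT.node 9639 (BT.leaf cJ9639) (BT.leaf cJ9640))) (BT.node 9643 (BT.node 9642 (BT.node 9641 (BT.leaf cJ9641) (BT.leaf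 cJ9642)) (BT.leaf cJ9643)) (BT.node 9644 (BT.leaf cJ9644) (BT.leaf cJ9645)))) (BT.node 9650 (BT.node 9648 (BT.node 9647 (BT.node 9646 (BT.leaf cJ9646) (BT.leaf cJ9647)) (BT.leaf cJ9648)) (BT.node 9649 (BT.leaf cJ9649) (BT.leaf cJ9650))) (BT.node 9653 (BT.node 9652 (BT.node 9651 (BT.leaf cJ9651) (BT.leaf cJ9652)) (BT.leaf cJ9653)) (BT.node 9654 (BT.leaf cJ9654) (BT.leaf cJ9655)))))) (BT.node 9675 (BT.node 9665 (BT.node 9660 (BT.node 9658 (BT.node 9657 (BT.node 9656 (BT.leaf cJ9656) (BT.leaf cJ9657)) (BT.leaf cJ9658)) (BT.node 9659 (BT.leaf cJ9659) (BT.leaf cJ9660))) (BT.node 9663 (BT.node 9662 (BT.node 9661 (BT.leaf cJ9661) (BT.leaf cJ9662)) (BT.leaf cJ9663)) (BT.node 9664 (BT.leaf cJ9664) (BT.leaf cJ9665)))) (BT.node 9670 (BT.node 9668 (BT.node 9667 (BT.node 9666 (BT.leaf cJ9666) (BT.leaf cJ9667)) (BT.leaf cJ9668)) (BT.node 9669 (BT.leaf cJ9669) (BT.leaf cJ9670)))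 (BT.node 9673 (BT.node 9672 (BT.node 9671 (BT.leaf cJ9671) (BT.leaf cJ9672)) (BT.leaf cJ9673)) (BT.node 9674 (BT.leaf cJ9674) (BT.leaf cJ9675))))) (BT.node 9685 (BT.node 9680 (BT.node 9678 (BT.node 9677 (BT.node 9676 (BT.leaf cJ9676) (BT.leaf cJ9677)) (BT.leaf cJ9678)) (BT.node 9679 (BT.leaf cJ9679) (BT.leaf cJ9680))) (BT.node 9683 (BT.node 9682 (BT.node 9681 (BT.leaf cJ9681) (BT.leaf cJ9682)) (BT.leaf cJ9683)) (BT.node 9684 (BT.leaf cJ9684) (BT.leaf cJ9685)))) (BT.node 9690 (BT.node 9688 (BT.node 9687 (BT.node 9686 (BT.leaf cJ9686) (BT.leaf cJ9687)) (BT.leaf cJ9688)) (BT.node 9689 (BT.leaf cJ9689) (BT.leaf cJ9690))) (BT.node 9693 (BT.node 9692 (BT.node 9691 (BT.leaf cJ9691) (BT.leaf cJ9692)) (BT.leaf cJ9693)) (BT.node 9694 (BT.leaf cJ9694) (BT.leaf cJ9695))))))))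
noncomputable def colJT_60 : BT ℕ := (BT.node 9776 (BT.node 9736 (BT.node 9716 (BT.node 9706 (BT.node 9701 (BT.node 9698 (BT.node 9697 (BT.node 9696 (BT.leaf cJ9696) (BT.leaf cJ9697)) (BT.leaf cJ9698)) (BT.node 9700 (BT.node 9699 (BT.leaf cJ9699) (BT.leaf cJ9700)) (BT.leaf cJ9701))) (BT.node 9704 (BT.node 9703 (BT.node 9702 (BT.leaf cJ9702) (BT.leaf cJ9703)) (BT.leaf cJ9704)) (BT.node 9705 (BT.leaf cJ9705) (BT.leaf cJ9706)))) (BT.node 9711 (BT.node 9709 (BT.node 9708 (BT.node 9707 (BT.leaf cJ9707) (BT.leaf cJ9708)) (BT.leaf cJ9709)) (BT.node 9710 (BT.leaf cJ9710) (BT.leaf cJ9711))) (BT.node 9714 (BT.node 9713 (BT.node 9712 (BT.leaf cJ9712) (BT.leaf cJ9713)) (BT.leaf cJ9714)) (BT.node 9715 (BT.leaf cJ9715) (BT.leaf cJ9716))))) (BT.node 9726 (BT.node 9721 (BT.node 9719 (BT.node 9718 (BT.node 9717 (BT.leaf cJ9717) (BT.leaf cJ9718)) (BT.leaf cJ9719)) (BT.node 9720 (BT.leaf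 cJ9720) (BT.leaf cJ9721))) (BT.node 9724 (BT.node 9723 (BT.node 9722 (BT.leaf cJ9722) (BT.leaf cJ9723)) (BT.leaf cJ9724)) (BT.node 9725 (BT.leaf cJ9725) (BT.leaf cJ9726)))) (BT.node 9731 (BT.node 9729 (BT.node 9728 (BT.node 9727 (BT.leaf cJ9727) (BT.leaf cJ9728)) (BT.leaf cJ9729)) (BT.node 9730 (BT.leaf cJ9730) (BT.leaf cJ9731))) (BT.node 9734 (BT.node 9733 (BT.node 9732 (BT.leaf cJ9732) (BT.leaf cJ9733)) (BT.leaf cJ9734)) (BT.node 9735 (BT.leaf cJ9735) (BT.leaf cJ9736)))))) (BT.node 9756 (BT.node 9746 (BT.node 9741 (BT.node 9739 (BT.node 9738 (BT.node 9737 (BT.leaf cJ9737) (BT.leaf cJ9738)) (BT.leaf cJ9739)) (BT.node 9740 (BT.leaf cJ9740) (BT.leaf cJ9741))) (BT.node 9744 (BT.node 9743 (BT.node 9742 (BT.leaf cJ9742) (BT.leaf cJ9743)) (BT.leaf cJ9744)) (BT.node 9745 (BT.leaf cJ9745) (BT.leaf cJ9746)))) (BT.node 9751 (BT.node 9749 (BT.node 9748 (BT.node 9747 (BT.leaf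 cJ9747) (BT.leaf cJ9748)) (BT.leaf cJ9749)) (BT.node 9750 (BT.leaf cJ9750) (BT.leaf cJ9751))) (BT.node 9754 (BT.node 9753 (BT.node 9752 (BT.leaf cJ9752) (BT.leaf cJ9753)) (BT.leaf cJ9754)) (BT.node 9755 (BT.leaf cJ9755) (BT.leaf cJ9756))))) (BT.node 9766 (BT.node 9761 (BT.node 9759 (BT.node 9758 (BT.node 9757 (BT.leaf cJ9757) (BT.leaf cJ9758)) (BT.leaf cJ9759)) (BT.node 9760 (BT.leaf cJ9760) (BT.leaf cJ9761))) (BT.node 9764 (BT.node 9763 (BT.node 9762 (BT.leaf cJ9762) (BT.leaf cJ9763)) (BT.leaf cJ9764)) (BT.node 9765 (BT.leaf cJ9765) (BT.leaf cJ9766)))) (BT.node 9771 (BT.node 9769 (BT.node 9768 (BT.node 9767 (BT.leaf cJ9767) (BT.leaf cJ9768)) (BT.leaf cJ9769)) (BT.node 9770 (BT.leaf cJ9770) (BT.leaf cJ9771))) (BT.node 9774 (BT.node 9773 (BT.node 9772 (BT.leaf cJ9772) (BT.leaf cJ9773)) (BT.leaf cJ9774)) (BT.node 9775 (BT.leaf cJ9775) (BT.leaf cJ9776))))))) (BT.node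 9817 (BT.node 9797 (BT.node 9787 (BT.node 9782 (BT.node 9779 (BT.node 9778 (BT.node 9777 (BT.leaf cJ9777) (BT.leaf cJ9778)) (BT.leaf cJ9779)) (BT.node 9781 (BT.node 9780 (BT.leaf cJ9780) (BT.leaf cJ9781)) (BT.leaf cJ9782))) (BT.node 9785 (BT.node 9784 (BT.node 9783 (BT.leaf cJ9783) (BT.leaf cJ9784)) (BT.leaf cJ9785)) (BT.node 9786 (BT.leaf cJ9786) (BT.leaf cJ9787)))) (BT.node 9792 (BT.node 9790 (BT.node 9789 (BT.node 9788 (BT.leaf cJ9788) (BT.leaf cJ9789)) (BT.leaf cJ9790)) (BT.node 9791 (BT.leaf cJ9791) (BT.leaf cJ9792))) (BT.node 9795 (BT.node 9794 (BT.node 9793 (BT.leaf cJ9793) (BT.leaf cJ9794)) (BT.leaf cJ9795)) (BT.node 9796 (BT.leaf cJ9796) (BT.leaf cJ9797))))) (BT.node 9807 (BT.node 9802 (BT.node 9800 (BT.node 9799 (BT.node 9798 (BT.leaf cJ9798) (BT.leaf cJ9799)) (BT.leaf cJ9800)) (BT.node 9801 (BT.leaf cJ9801) (BT.leaf cJ9802))) (BT.node 9805 (BT.node 9804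 (BT.node 9803 (BT.leaf cJ9803) (BT.leaf cJ9804)) (BT.leaf cJ9805)) (BT.node 9806 (BT.leaf cJ9806) (BT.leaf cJ9807)))) (BT.node 9812 (BT.node 9810 (BT.node 9809 (BT.node 9808 (BT.leaf cJ9808) (BT.leaf cJ9809)) (BT.leaf cJ9810)) (BT.node 9811 (BT.leaf cJ9811) (BT.leaf cJ9812))) (BT.node 9815 (BT.node 9814 (BT.node 9813 (BT.leaf cJ9813) (BT.leaf cJ9814)) (BT.leaf cJ9815)) (BT.node 9816 (BT.leaf cJ9816) (BT.leaf cJ9817)))))) (BT.node 9837 (BT.node 9827 (BT.node 9822 (BT.node 9820 (BT.node 9819 (BT.node 9818 (BT.leaf cJ9818) (BT.leaf cJ9819)) (BT.leaf cJ9820)) (BT.node 9821 (BT.leaf cJ9821) (BT.leaf cJ9822))) (BT.node 9825 (BT.node 9824 (BT.node 9823 (BT.leaf cJ9823) (BT.leaf cJ9824)) (BT.leaf cJ9825)) (BT.node 9826 (BT.leaf cJ9826) (BT.leaf cJ9827)))) (BT.node 9832 (BT.node 9830 (BT.node 9829 (BT.node 9828 (BT.leaf cJ9828) (BT.leaf cJ9829)) (BT.leaf cJ9830)) (BT.node 9831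 (BT.leaf cJ9831) (BT.leaf cJ9832))) (BT.node 9835 (BT.node 9834 (BT.node 9833 (BT.leaf cJ9833) (BT.leaf cJ9834)) (BT.leaf cJ9835)) (BT.node 9836 (BT.leaf cJ9836) (BT.leaf cJ9837))))) (BT.node 9847 (BT.node 9842 (BT.node 9840 (BT.node 9839 (BT.node 9838 (BT.leaf cJ9838) (BT.leaf cJ9839)) (BT.leaf cJ9840)) (BT.node 9841 (BT.leaf cJ9841) (BT.leaf cJ9842))) (BT.node 9845 (BT.node 9844 (BT.node 9843 (BT.leaf cJ9843) (BT.leaf cJ9844)) (BT.leaf cJ9845)) (BT.node 9846 (BT.leaf cJ9846) (BT.leaf cJ9847)))) (BT.node 9852 (BT.node 9850 (BT.node 9849 (BT.node 9848 (BT.leaf cJ9848) (BT.leaf cJ9849)) (BT.leaf cJ9850)) (BT.node 9851 (BT.leaf cJ9851) (BT.leaf cJ9852))) (BT.node 9855 (BT.node 9854 (BT.node 9853 (BT.leaf cJ9853) (BT.leaf cJ9854)) (BT.leaf cJ9855)) (BT.node 9856 (BT.leaf cJ9856) (BT.leaf cJ9857))))))))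
noncomputable def colJT_61 : BT ℕ := (BT.node 9938 (BT.node 9898 (BT.node 9878 (BT.node 9868 (BT.node 9863 (BT.node 9860 (BT.node 9859 (BT.node 9858 (BT.leaf cJ9858) (BT.leaf cJ9859)) (BT.leaf cJ9860)) (BT.node 9862 (BT.node 9861 (BT.leaf cJ9861) (BT.leaf cJ9862)) (BT.leaf cJ9863))) (BT.node 9866 (BT.node 9865 (BT.node 9864 (BT.leaf cJ9864) (BT.leaf cJ9865)) (BT.leaf cJ9866)) (BT.node 9867 (BT.leaf cJ9867) (BT.leaf cJ9868)))) (BT.node 9873 (BT.node 9871 (BT.node 9870 (BT.node 9869 (BT.leaf cJ9869) (BT.leaf cJ9870)) (BT.leaf cJ9871)) (BT.node 9872 (BT.leaf cJ9872) (BT.leaf cJ9873))) (BT.node 9876 (BT.node 9875 (BT.node 9874 (BT.leaf cJ9874) (BT.leaf cJ9875)) (BT.leaf cJ9876)) (BT.node 9877 (BT.leaf cJ9877) (BT.leaf cJ9878))))) (BT.node 9888 (BT.node 9883 (BT.node 9881 (BT.node 9880 (BT.node 9879 (BT.leaf cJ9879) (BT.leaf cJ9880)) (BT.leaf cJ9881)) (BT.node 9882 (BT.leaf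 cJ9882) (BT.leaf cJ9883))) (BT.node 9886 (BT.node 9885 (BT.node 9884 (BT.leaf cJ9884) (BT.leaf cJ9885)) (BT.leaf cJ9886)) (BT.node 9887 (BT.leaf cJ9887) (BT.leaf cJ9888)))) (BT.node 9893 (BT.node 9891 (BT.node 9890 (BT.node 9889 (BT.leaf cJ9889) (BT.leaf cJ9890)) (BT.leaf cJ9891)) (BT.node 9892 (BT.leaf cJ9892) (BT.leaf cJ9893))) (BT.node 9896 (BT.node 9895 (BT.node 9894 (BT.leaf cJ9894) (BT.leaf cJ9895)) (BT.leaf cJ9896)) (BT.node 9897 (BT.leaf cJ9897) (BT.leaf cJ9898)))))) (BT.node 9918 (BT.node 9908 (BT.node 9903 (BT.node 9901 (BT.node 9900 (BT.node 9899 (BT.leaf cJ9899) (BT.leaf cJ9900)) (BT.leaf cJ9901)) (BT.node 9902 (BT.leaf cJ9902) (BT.leaf cJ9903))) (BT.node 9906 (BT.node 9905 (BT.node 9904 (BT.leaf cJ9904) (BT.leaf cJ9905)) (BT.leaf cJ9906)) (BT.node 9907 (BT.leaf cJ9907) (BT.leaf cJ9908)))) (BT.node 9913 (BT.node 9911 (BT.node 9910 (BT.node 9909 (BT.leaf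 cJ9909) (BT.leaf cJ9910)) (BT.leaf cJ9911)) (BT.node 9912 (BT.leaf cJ9912) (BT.leaf cJ9913))) (BT.node 9916 (BT.node 9915 (BT.node 9914 (BT.leaf cJ9914) (BT.leaf cJ9915)) (BT.leaf cJ9916)) (BT.node 9917 (BT.leaf cJ9917) (BT.leaf cJ9918))))) (BT.node 9928 (BT.node 9923 (BT.node 9921 (BT.node 9920 (BT.node 9919 (BT.leaf cJ9919) (BT.leaf cJ9920)) (BT.leaf cJ9921)) (BT.node 9922 (BT.leaf cJ9922) (BT.leaf cJ9923))) (BT.node 9926 (BT.node 9925 (BT.node 9924 (BT.leaf cJ9924) (BT.leaf cJ9925)) (BT.leaf cJ9926)) (BT.node 9927 (BT.leaf cJ9927) (BT.leaf cJ9928)))) (BT.node 9933 (BT.node 9931 (BT.node 9930 (BT.node 9929 (BT.leaf cJ9929) (BT.leaf cJ9930)) (BT.leaf cJ9931)) (BT.node 9932 (BT.leaf cJ9932) (BT.leaf cJ9933))) (BT.node 9936 (BT.node 9935 (BT.node 9934 (BT.leaf cJ9934) (BT.leaf cJ9935)) (BT.leaf cJ9936)) (BT.node 9937 (BT.leaf cJ9937) (BT.leaf cJ9938))))))) (BT.node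 9978 (BT.node 9958 (BT.node 9948 (BT.node 9943 (BT.node 9941 (BT.node 9940 (BT.node 9939 (BT.leaf cJ9939) (BT.leaf cJ9940)) (BT.leaf cJ9941)) (BT.node 9942 (BT.leaf cJ9942) (BT.leaf cJ9943))) (BT.node 9946 (BT.node 9945 (BT.node 9944 (BT.leaf cJ9944) (BT.leaf cJ9945)) (BT.leaf cJ9946)) (BT.node 9947 (BT.leaf cJ9947) (BT.leaf cJ9948)))) (BT.node 9953 (BT.node 9951 (BT.node 9950 (BT.node 9949 (BT.leaf cJ9949) (BT.leaf cJ9950)) (BT.leaf cJ9951)) (BT.node 9952 (BT.leaf cJ9952) (BT.leaf cJ9953))) (BT.node 9956 (BT.node 9955 (BT.node 9954 (BT.leaf cJ9954) (BT.leaf cJ9955)) (BT.leaf cJ9956)) (BT.node 9957 (BT.leaf cJ9957) (BT.leaf cJ9958))))) (BT.node 9968 (BT.node 9963 (BT.node 9961 (BT.node 9960 (BT.node 9959 (BT.leaf cJ9959) (BT.leaf cJ9960)) (BT.leaf cJ9961)) (BT.node 9962 (BT.leaf cJ9962) (BT.leaf cJ9963))) (BT.node 9966 (BT.node 9965 (BT.node 9964 (BT.leaf cJ9964) (BT.leaf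 cJ9965)) (BT.leaf cJ9966)) (BT.node 9967 (BT.leaf cJ9967) (BT.leaf cJ9968)))) (BT.node 9973 (BT.node 9971 (BT.node 9970 (BT.node 9969 (BT.leaf cJ9969) (BT.leaf cJ9970)) (BT.leaf cJ9971)) (BT.node 9972 (BT.leaf cJ9972) (BT.leaf cJ9973))) (BT.node 9976 (BT.node 9975 (BT.node 9974 (BT.leaf cJ9974) (BT.leaf cJ9975)) (BT.leaf cJ9976)) (BT.node 9977 (BT.leaf cJ9977) (BT.leaf cJ9978)))))) (BT.node 9998 (BT.node 9988 (BT.node 9983 (BT.node 9981 (BT.node 9980 (BT.node 9979 (BT.leaf cJ9979) (BT.leaf cJ9980)) (BT.leaf cJ9981)) (BT.node 9982 (BT.leaf cJ9982) (BT.leaf cJ9983))) (BT.node 9986 (BT.node 9985 (BT.node 9984 (BT.leaf cJ9984) (BT.leaf cJ9985)) (BT.leaf cJ9986)) (BT.node 9987 (BT.leaf cJ9987) (BT.leaf cJ9988)))) (BT.node 9993 (BT.node 9991 (BT.node 9990 (BT.node 9989 (BT.leaf cJ9989) (BT.leaf cJ9990)) (BT.leaf cJ9991)) (BT.node 9992 (BT.leaf cJ9992) (BT.leaf cJ9993)))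 (BT.node 9996 (BT.node 9995 (BT.node 9994 (BT.leaf cJ9994) (BT.leaf cJ9995)) (BT.leaf cJ9996)) (BT.node 9997 (BT.leaf cJ9997) (BT.leaf cJ9998))))) (BT.node 10008 (BT.node 10003 (BT.node 10001 (BT.node 10000 (BT.node 9999 (BT.leaf cJ9999) (BT.leaf cJ10000)) (BT.leaf cJ10001)) (BT.node 10002 (BT.leaf cJ10002) (BT.leaf cJ10003))) (BT.node 10006 (BT.node 10005 (BT.node 10004 (BT.leaf cJ10004) (BT.leaf cJ10005)) (BT.leaf cJ10006)) (BT.node 10007 (BT.leaf cJ10007) (BT.leaf cJ10008)))) (BT.node 10013 (BT.node 10011 (BT.node 10010 (BT.node 10009 (BT.leaf cJ10009) (BT.leaf cJ10010)) (BT.leaf cJ10011)) (BT.node 10012 (BT.leaf cJ10012) (BT.leaf cJ10013))) (BT.node 10016 (BT.node 10015 (BT.node 10014 (BT.leaf cJ10014) (BT.leaf cJ10015)) (BT.leaf cJ10016)) (BT.node 10017 (BT.leaf cJ10017) (BT.leaf cJ10018))))))))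
noncomputable def colJT_62 : BT ℕ := (BT.node 10099 (BT.node 10059 (BT.node 10039 (BT.node 10029 (BT.node 10024 (BT.node 10021 (BT.node 10020 (BT.node 10019 (BT.leaf cJ10019) (BT.leaf cJ10020)) (BT.leaf cJ10021)) (BT.node 10023 (BT.node 10022 (BT.leaf cJ10022) (BT.leaf cJ10023)) (BT.leaf cJ10024))) (BT.node 10027 (BT.node 10026 (BT.node 10025 (BT.leaf cJ10025) (BT.leaf cJ10026)) (BT.leaf cJ10027)) (BT.node 10028 (BT.leaf cJ10028) (BT.leaf cJ10029)))) (BT.node 10034 (BT.node 10032 (BT.node 10031 (BT.node 10030 (BT.leaf cJ10030) (BT.leaf cJ10031)) (BT.leaf cJ10032)) (BT.node 10033 (BT.leaf cJ10033) (BT.leaf cJ10034))) (BT.node 10037 (BT.node 10036 (BT.node 10035 (BT.leaf cJ10035) (BT.leaf cJ10036)) (BT.leaf cJ10037)) (BT.node 10038 (BT.leaf cJ10038) (BT.leaf cJ10039))))) (BT.node 10049 (BT.node 10044 (BT.node 10042 (BT.node 10041 (BT.node 10040 (BT.leaf cJ10040) (BT.leaf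 cJ10041)) (BT.leaf cJ10042)) (BT.node 10043 (BT.leaf cJ10043) (BT.leaf cJ10044))) (BT.node 10047 (BT.node 10046 (BT.node 10045 (BT.leaf cJ10045) (BT.leaf cJ10046)) (BT.leaf cJ10047)) (BT.node 10048 (BT.leaf cJ10048) (BT.leaf cJ10049)))) (BT.node 10054 (BT.node 10052 (BT.node 10051 (BT.node 10050 (BT.leaf cJ10050) (BT.leaf cJ10051)) (BT.leaf cJ10052)) (BT.node 10053 (BT.leaf cJ10053) (BT.leaf cJ10054))) (BT.node 10057 (BT.node 10056 (BT.node 10055 (BT.leaf cJ10055) (BT.leaf cJ10056)) (BT.leaf cJ10057)) (BT.node 10058 (BT.leaf cJ10058) (BT.leaf cJ10059)))))) (BT.node 10079 (BT.node 10069 (BT.node 10064 (BT.node 10062 (BT.node 10061 (BT.node 10060 (BT.leaf cJ10060) (BT.leaf cJ10061)) (BT.leaf cJ10062)) (BT.node 10063 (BT.leaf cJ10063) (BT.leaf cJ10064))) (BT.node 10067 (BT.node 10066 (BT.node 10065 (BT.leaf cJ10065) (BT.leaf cJ10066)) (BT.leaf cJ10067)) (BT.node 10068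 (BT.leaf cJ10068) (BT.leaf cJ10069)))) (BT.node 10074 (BT.node 10072 (BT.node 10071 (BT.node 10070 (BT.leaf cJ10070) (BT.leaf cJ10071)) (BT.leaf cJ10072)) (BT.node 10073 (BT.leaf cJ10073) (BT.leaf cJ10074))) (BT.node 10077 (BT.node 10076 (BT.node 10075 (BT.leaf cJ10075) (BT.leaf cJ10076)) (BT.leaf cJ10077)) (BT.node 10078 (BT.leaf cJ10078) (BT.leaf cJ10079))))) (BT.node 10089 (BT.node 10084 (BT.node 10082 (BT.node 10081 (BT.node 10080 (BT.leaf cJ10080) (BT.leaf cJ10081)) (BT.leaf cJ10082)) (BT.node 10083 (BT.leaf cJ10083) (BT.leaf cJ10084))) (BT.node 10087 (BT.node 10086 (BT.node 10085 (BT.leaf cJ10085) (BT.leaf cJ10086)) (BT.leaf cJ10087)) (BT.node 10088 (BT.leaf cJ10088) (BT.leaf cJ10089)))) (BT.node 10094 (BT.node 10092 (BT.node 10091 (BT.node 10090 (BT.leaf cJ10090) (BT.leaf cJ10091)) (BT.leaf cJ10092)) (BT.node 10093 (BT.leaf cJ10093) (BT.leaf cJ10094))) (BT.node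 10097 (BT.node 10096 (BT.node 10095 (BT.leaf cJ10095) (BT.leaf cJ10096)) (BT.leaf cJ10097)) (BT.node 10098 (BT.leaf cJ10098) (BT.leaf cJ10099))))))) (BT.node 10140 (BT.node 10120 (BT.node 10110 (BT.node 10105 (BT.node 10102 (BT.node 10101 (BT.node 10100 (BT.leaf cJ10100) (BT.leaf cJ10101)) (BT.leaf cJ10102)) (BT.node 10104 (BT.node 10103 (BT.leaf cJ10103) (BT.leaf cJ10104)) (BT.leaf cJ10105))) (BT.node 10108 (BT.node 10107 (BT.node 10106 (BT.leaf cJ10106) (BT.leaf cJ10107)) (BT.leaf cJ10108)) (BT.node 10109 (BT.leaf cJ10109) (BT.leaf cJ10110)))) (BT.node 10115 (BT.node 10113 (BT.node 10112 (BT.node 10111 (BT.leaf cJ10111) (BT.leaf cJ10112)) (BT.leaf cJ10113)) (BT.node 10114 (BT.leaf cJ10114) (BT.leaf cJ10115))) (BT.node 10118 (BT.node 10117 (BT.node 10116 (BT.leaf cJ10116) (BT.leaf cJ10117)) (BT.leaf cJ10118)) (BT.node 10119 (BT.leaf cJ10119) (BT.leaf cJ10120)))))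 (BT.node 10130 (BT.node 10125 (BT.node 10123 (BT.node 10122 (BT.node 10121 (BT.leaf cJ10121) (BT.leaf cJ10122)) (BT.leaf cJ10123)) (BT.node 10124 (BT.leaf cJ10124) (BT.leaf cJ10125))) (BT.node 10128 (BT.node 10127 (BT.node 10126 (BT.leaf cJ10126) (BT.leaf cJ10127)) (BT.leaf cJ10128)) (BT.node 10129 (BT.leaf cJ10129) (BT.leaf cJ10130)))) (BT.node 10135 (BT.node 10133 (BT.node 10132 (BT.node 10131 (BT.leaf cJ10131) (BT.leaf cJ10132)) (BT.leaf cJ10133)) (BT.node 10134 (BT.leaf cJ10134) (BT.leaf cJ10135))) (BT.node 10138 (BT.node 10137 (BT.node 10136 (BT.leaf cJ10136) (BT.leaf cJ10137)) (BT.leaf cJ10138)) (BT.node 10139 (BT.leaf cJ10139) (BT.leaf cJ10140)))))) (BT.node 10160 (BT.node 10150 (BT.node 10145 (BT.node 10143 (BT.node 10142 (BT.node 10141 (BT.leaf cJ10141) (BT.leaf cJ10142)) (BT.leaf cJ10143)) (BT.node 10144 (BT.leaf cJ10144) (BT.leaf cJ10145))) (BT.node 10148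 (BT.node 10147 (BT.node 10146 (BT.leaf cJ10146) (BT.leaf cJ10147)) (BT.leaf cJ10148)) (BT.node 10149 (BT.leaf cJ10149) (BT.leaf cJ10150)))) (BT.node 10155 (BT.node 10153 (BT.node 10152 (BT.node 10151 (BT.leaf cJ10151) (BT.leaf cJ10152)) (BT.leaf cJ10153)) (BT.node 10154 (BT.leaf cJ10154) (BT.leaf cJ10155))) (BT.node 10158 (BT.node 10157 (BT.node 10156 (BT.leaf cJ10156) (BT.leaf cJ10157)) (BT.leaf cJ10158)) (BT.node 10159 (BT.leaf cJ10159) (BT.leaf cJ10160))))) (BT.node 10170 (BT.node 10165 (BT.node 10163 (BT.node 10162 (BT.node 10161 (BT.leaf cJ10161) (BT.leaf cJ10162)) (BT.leaf cJ10163)) (BT.node 10164 (BT.leaf cJ10164) (BT.leaf cJ10165))) (BT.node 10168 (BT.node 10167 (BT.node 10166 (BT.leaf cJ10166) (BT.leaf cJ10167)) (BT.leaf cJ10168)) (BT.node 10169 (BT.leaf cJ10169) (BT.leaf cJ10170)))) (BT.node 10175 (BT.node 10173 (BT.node 10172 (BT.node 10171 (BT.leaf cJ10171)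 (BT.leaf cJ10172)) (BT.leaf cJ10173)) (BT.node 10174 (BT.leaf cJ10174) (BT.leaf cJ10175))) (BT.node 10178 (BT.node 10177 (BT.node 10176 (BT.leaf cJ10176) (BT.leaf cJ10177)) (BT.leaf cJ10178)) (BT.node 10179 (BT.leaf cJ10179) (BT.leaf cJ10180))))))))
noncomputable def colJT_63 : BT ℕ := (BT.node 10261 (BT.node 10221 (BT.node 10201 (BT.node 10191 (BT.node 10186 (BT.node 10183 (BT.node 10182 (BT.node 10181 (BT.leaf cJ10181) (BT.leaf cJ10182)) (BT.leaf cJ10183)) (BT.node 10185 (BT.node 10184 (BT.leaf cJ10184) (BT.leaf cJ10185)) (BT.leaf cJ10186))) (BT.node 10189 (BT.node 10188 (BT.node 10187 (BT.leaf cJ10187) (BT.leaf cJ10188)) (BT.leaf cJ10189)) (BT.node 10190 (BT.leaf cJ10190) (BT.leaf cJ10191)))) (BT.node 10196 (BT.node 10194 (BT.node 10193 (BT.node 10192 (BT.leaf cJ10192) (BT.leaf cJ10193)) (BT.leaf cJ10194)) (BT.node 10195 (BT.leaf cJ10195) (BT.leaf cJ10196))) (BT.node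 10199 (BT.node 10198 (BT.node 10197 (BT.leaf cJ10197) (BT.leaf cJ10198)) (BT.leaf cJ10199)) (BT.node 10200 (BT.leaf cJ10200) (BT.leaf cJ10201))))) (BT.node 10211 (BT.node 10206 (BT.node 10204 (BT.node 10203 (BT.node 10202 (BT.leaf cJ10202) (BT.leaf cJ10203)) (BT.leaf cJ10204)) (BT.node 10205 (BT.leaf cJ10205) (BT.leaf cJ10206))) (BT.node 10209 (BT.node 10208 (BT.node 10207 (BT.leaf cJ10207) (BT.leaf cJ10208)) (BT.leaf cJ10209)) (BT.node 10210 (BT.leaf cJ10210) (BT.leaf cJ10211)))) (BT.node 10216 (BT.node 10214 (BT.node 10213 (BT.node 10212 (BT.leaf cJ10212) (BT.leaf cJ10213)) (BT.leaf cJ10214)) (BT.node 10215 (BT.leaf cJ10215) (BT.leaf cJ10216))) (BT.node 10219 (BT.node 10218 (BT.node 10217 (BT.leaf cJ10217) (BT.leaf cJ10218)) (BT.leaf cJ10219)) (BT.node 10220 (BT.leaf cJ10220) (BT.leaf cJ10221)))))) (BT.node 10241 (BT.node 10231 (BT.node 10226 (BT.node 10224 (BT.node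 10223 (BT.node 10222 (BT.leaf cJ10222) (BT.leaf cJ10223)) (BT.leaf cJ10224)) (BT.node 10225 (BT.leaf cJ10225) (BT.leaf cJ10226))) (BT.node 10229 (BT.node 10228 (BT.node 10227 (BT.leaf cJ10227) (BT.leaf cJ10228)) (BT.leaf cJ10229)) (BT.node 10230 (BT.leaf cJ10230) (BT.leaf cJ10231)))) (BT.node 10236 (BT.node 10234 (BT.node 10233 (BT.node 10232 (BT.leaf cJ10232) (BT.leaf cJ10233)) (BT.leaf cJ10234)) (BT.node 10235 (BT.leaf cJ10235) (BT.leaf cJ10236))) (BT.node 10239 (BT.node 10238 (BT.node 10237 (BT.leaf cJ10237) (BT.leaf cJ10238)) (BT.leaf cJ10239)) (BT.node 10240 (BT.leaf cJ10240) (BT.leaf cJ10241))))) (BT.node 10251 (BT.node 10246 (BT.node 10244 (BT.node 10243 (BT.node 10242 (BT.leaf cJ10242) (BT.leaf cJ10243)) (BT.leaf cJ10244)) (BT.node 10245 (BT.leaf cJ10245) (BT.leaf cJ10246))) (BT.node 10249 (BT.node 10248 (BT.node 10247 (BT.leaf cJ10247) (BT.leaf cJ10248)) (BT.leaf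 cJ10249)) (BT.node 10250 (BT.leaf cJ10250) (BT.leaf cJ10251)))) (BT.node 10256 (BT.node 10254 (BT.node 10253 (BT.node 10252 (BT.leaf cJ10252) (BT.leaf cJ10253)) (BT.leaf cJ10254)) (BT.node 10255 (BT.leaf cJ10255) (BT.leaf cJ10256))) (BT.node 10259 (BT.node 10258 (BT.node 10257 (BT.leaf cJ10257) (BT.leaf cJ10258)) (BT.leaf cJ10259)) (BT.node 10260 (BT.leaf cJ10260) (BT.leaf cJ10261))))))) (BT.node 10301 (BT.node 10281 (BT.node 10271 (BT.node 10266 (BT.node 10264 (BT.node 10263 (BT.node 10262 (BT.leaf cJ10262) (BT.leaf cJ10263)) (BT.leaf cJ10264)) (BT.node 10265 (BT.leaf cJ10265) (BT.leaf cJ10266))) (BT.node 10269 (BT.node 10268 (BT.node 10267 (BT.leaf cJ10267) (BT.leaf cJ10268)) (BT.leaf cJ10269)) (BT.node 10270 (BT.leaf cJ10270) (BT.leaf cJ10271)))) (BT.node 10276 (BT.node 10274 (BT.node 10273 (BT.node 10272 (BT.leaf cJ10272) (BT.leaf cJ10273)) (BT.leaf cJ10274)) (BT.node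 10275 (BT.leaf cJ10275) (BT.leaf cJ10276))) (BT.node 10279 (BT.node 10278 (BT.node 10277 (BT.leaf cJ10277) (BT.leaf cJ10278)) (BT.leaf cJ10279)) (BT.node 10280 (BT.leaf cJ10280) (BT.leaf cJ10281))))) (BT.node 10291 (BT.node 10286 (BT.node 10284 (BT.node 10283 (BT.node 10282 (BT.leaf cJ10282) (BT.leaf cJ10283)) (BT.leaf cJ10284)) (BT.node 10285 (BT.leaf cJ10285) (BT.leaf cJ10286))) (BT.node 10289 (BT.node 10288 (BT.node 10287 (BT.leaf cJ10287) (BT.leaf cJ10288)) (BT.leaf cJ10289)) (BT.node 10290 (BT.leaf cJ10290) (BT.leaf cJ10291)))) (BT.node 10296 (BT.node 10294 (BT.node 10293 (BT.node 10292 (BT.leaf cJ10292) (BT.leaf cJ10293)) (BT.leaf cJ10294)) (BT.node 10295 (BT.leaf cJ10295) (BT.leaf cJ10296))) (BT.node 10299 (BT.node 10298 (BT.node 10297 (BT.leaf cJ10297) (BT.leaf cJ10298)) (BT.leaf cJ10299)) (BT.node 10300 (BT.leaf cJ10300) (BT.leaf cJ10301)))))) (BT.node 10321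 (BT.node 10311 (BT.node 10306 (BT.node 10304 (BT.node 10303 (BT.node 10302 (BT.leaf cJ10302) (BT.leaf cJ10303)) (BT.leaf cJ10304)) (BT.node 10305 (BT.leaf cJ10305) (BT.leaf cJ10306))) (BT.node 10309 (BT.node 10308 (BT.node 10307 (BT.leaf cJ10307) (BT.leaf cJ10308)) (BT.leaf cJ10309)) (BT.node 10310 (BT.leaf cJ10310) (BT.leaf cJ10311)))) (BT.node 10316 (BT.node 10314 (BT.node 10313 (BT.node 10312 (BT.leaf cJ10312) (BT.leaf cJ10313)) (BT.leaf cJ10314)) (BT.node 10315 (BT.leaf cJ10315) (BT.leaf cJ10316))) (BT.node 10319 (BT.node 10318 (BT.node 10317 (BT.leaf cJ10317) (BT.leaf cJ10318)) (BT.leaf cJ10319)) (BT.node 10320 (BT.leaf cJ10320) (BT.leaf cJ10321))))) (BT.node 10331 (BT.node 10326 (BT.node 10324 (BT.node 10323 (BT.node 10322 (BT.leaf cJ10322) (BT.leaf cJ10323)) (BT.leaf cJ10324)) (BT.node 10325 (BT.leaf cJ10325) (BT.leaf cJ10326))) (BT.node 10329 (BT.node 10328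 (BT.node 10327 (BT.leaf cJ10327) (BT.leaf cJ10328)) (BT.leaf cJ10329)) (BT.node 10330 (BT.leaf cJ10330) (BT.leaf cJ10331)))) (BT.node 10336 (BT.node 10334 (BT.node 10333 (BT.node 10332 (BT.leaf cJ10332) (BT.leaf cJ10333)) (BT.leaf cJ10334)) (BT.node 10335 (BT.leaf cJ10335) (BT.leaf cJ10336))) (BT.node 10339 (BT.node 10338 (BT.node 10337 (BT.leaf cJ10337) (BT.leaf cJ10338)) (BT.leaf cJ10339)) (BT.node 10340 (BT.leaf cJ10340) (BT.leaf cJ10341))))))))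
noncomputable def colJT_64 : BT ℕ := (BT.node 10422 (BT.node 10382 (BT.node 10362 (BT.node 10352 (BT.node 10347 (BT.node 10344 (BT.node 10343 (BT.node 10342 (BT.leaf cJ10342) (BT.leaf cJ10343)) (BT.leaf cJ10344)) (BT.node 10346 (BT.node 10345 (BT.leaf cJ10345) (BT.leaf cJ10346)) (BT.leaf cJ10347))) (BT.node 10350 (BT.node 10349 (BT.node 10348 (BT.leaf cJ10348) (BT.leaf cJ10349)) (BT.leaf cJ10350)) (BT.node 10351 (BT.leaf cJ10351) (BT.leaf cJ10352)))) (BT.node 10357 (BT.node 10355 (BT.node 10354 (BT.node 10353 (BT.leaf cJ10353) (BT.leaf cJ10354)) (BT.leaf cJ10355)) (BT.node 10356 (BT.leaf cJ10356) (BT.leaf cJ10357))) (BT.node 10360 (BT.node 10359 (BT.node 10358 (BT.leaf cJ10358) (BT.leaf cJ10359)) (BT.leaf cJ10360)) (BT.node 10361 (BT.leaf cJ10361) (BT.leaf cJ10362))))) (BT.node 10372 (BT.node 10367 (BT.node 10365 (BT.node 10364 (BT.node 10363 (BT.leaf cJ10363) (BT.leaf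 cJ10364)) (BT.leaf cJ10365)) (BT.node 10366 (BT.leaf cJ10366) (BT.leaf cJ10367))) (BT.node 10370 (BT.node 10369 (BT.node 10368 (BT.leaf cJ10368) (BT.leaf cJ10369)) (BT.leaf cJ10370)) (BT.node 10371 (BT.leaf cJ10371) (BT.leaf cJ10372)))) (BT.node 10377 (BT.node 10375 (BT.node 10374 (BT.node 10373 (BT.leaf cJ10373) (BT.leaf cJ10374)) (BT.leaf cJ10375)) (BT.node 10376 (BT.leaf cJ10376) (BT.leaf cJ10377))) (BT.node 10380 (BT.node 10379 (BT.node 10378 (BT.leaf cJ10378) (BT.leaf cJ10379)) (BT.leaf cJ10380)) (BT.node 10381 (BT.leaf cJ10381) (BT.leaf cJ10382)))))) (BT.node 10402 (BT.node 10392 (BT.node 10387 (BT.node 10385 (BT.node 10384 (BT.node 10383 (BT.leaf cJ10383) (BT.leaf cJ10384)) (BT.leaf cJ10385)) (BT.node 10386 (BT.leaf cJ10386) (BT.leaf cJ10387))) (BT.node 10390 (BT.node 10389 (BT.node 10388 (BT.leaf cJ10388) (BT.leaf cJ10389)) (BT.leaf cJ10390)) (BT.node 10391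 (BT.leaf cJ10391) (BT.leaf cJ10392)))) (BT.node 10397 (BT.node 10395 (BT.node 10394 (BT.node 10393 (BT.leaf cJ10393) (BT.leaf cJ10394)) (BT.leaf cJ10395)) (BT.node 10396 (BT.leaf cJ10396) (BT.leaf cJ10397))) (BT.node 10400 (BT.node 10399 (BT.node 10398 (BT.leaf cJ10398) (BT.leaf cJ10399)) (BT.leaf cJ10400)) (BT.node 10401 (BT.leaf cJ10401) (BT.leaf cJ10402))))) (BT.node 10412 (BT.node 10407 (BT.node 10405 (BT.node 10404 (BT.node 10403 (BT.leaf cJ10403) (BT.leaf cJ10404)) (BT.leaf cJ10405)) (BT.node 10406 (BT.leaf cJ10406) (BT.leaf cJ10407))) (BT.node 10410 (BT.node 10409 (BT.node 10408 (BT.leaf cJ10408) (BT.leaf cJ10409)) (BT.leaf cJ10410)) (BT.node 10411 (BT.leaf cJ10411) (BT.leaf cJ10412)))) (BT.node 10417 (BT.node 10415 (BT.node 10414 (BT.node 10413 (BT.leaf cJ10413) (BT.leaf cJ10414)) (BT.leaf cJ10415)) (BT.node 10416 (BT.leaf cJ10416) (BT.leaf cJ10417))) (BT.node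 10420 (BT.node 10419 (BT.node 10418 (BT.leaf cJ10418) (BT.leaf cJ10419)) (BT.leaf cJ10420)) (BT.node 10421 (BT.leaf cJ10421) (BT.leaf cJ10422))))))) (BT.node 10463 (BT.node 10443 (BT.node 10433 (BT.node 10428 (BT.node 10425 (BT.node 10424 (BT.node 10423 (BT.leaf cJ10423) (BT.leaf cJ10424)) (BT.leaf cJ10425)) (BT.node 10427 (BT.node 10426 (BT.leaf cJ10426) (BT.leaf cJ10427)) (BT.leaf cJ10428))) (BT.node 10431 (BT.node 10430 (BT.node 10429 (BT.leaf cJ10429) (BT.leaf cJ10430)) (BT.leaf cJ10431)) (BT.node 10432 (BT.leaf cJ10432) (BT.leaf cJ10433)))) (BT.node 10438 (BT.node 10436 (BT.node 10435 (BT.node 10434 (BT.leaf cJ10434) (BT.leaf cJ10435)) (BT.leaf cJ10436)) (BT.node 10437 (BT.leaf cJ10437) (BT.leaf cJ10438))) (BT.node 10441 (BT.node 10440 (BT.node 10439 (BT.leaf cJ10439) (BT.leaf cJ10440)) (BT.leaf cJ10441)) (BT.node 10442 (BT.leaf cJ10442) (BT.leaf cJ10443)))))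 (BT.node 10453 (BT.node 10448 (BT.node 10446 (BT.node 10445 (BT.node 10444 (BT.leaf cJ10444) (BT.leaf cJ10445)) (BT.leaf cJ10446)) (BT.node 10447 (BT.leaf cJ10447) (BT.leaf cJ10448))) (BT.node 10451 (BT.node 10450 (BT.node 10449 (BT.leaf cJ10449) (BT.leaf cJ10450)) (BT.leaf cJ10451)) (BT.node 10452 (BT.leaf cJ10452) (BT.leaf cJ10453)))) (BT.node 10458 (BT.node 10456 (BT.node 10455 (BT.node 10454 (BT.leaf cJ10454) (BT.leaf cJ10455)) (BT.leaf cJ10456)) (BT.node 10457 (BT.leaf cJ10457) (BT.leaf cJ10458))) (BT.node 10461 (BT.node 10460 (BT.node 10459 (BT.leaf cJ10459) (BT.leaf cJ10460)) (BT.leaf cJ10461)) (BT.node 10462 (BT.leaf cJ10462) (BT.leaf cJ10463)))))) (BT.node 10483 (BT.node 10473 (BT.node 10468 (BT.node 10466 (BT.node 10465 (BT.node 10464 (BT.leaf cJ10464) (BT.leaf cJ10465)) (BT.leaf cJ10466)) (BT.node 10467 (BT.leaf cJ10467) (BT.leaf cJ10468))) (BT.node 10471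 (BT.node 10470 (BT.node 10469 (BT.leaf cJ10469) (BT.leaf cJ10470)) (BT.leaf cJ10471)) (BT.node 10472 (BT.leaf cJ10472) (BT.leaf cJ10473)))) (BT.node 10478 (BT.node 10476 (BT.node 10475 (BT.node 10474 (BT.leaf cJ10474) (BT.leaf cJ10475)) (BT.leaf cJ10476)) (BT.node 10477 (BT.leaf cJ10477) (BT.leaf cJ10478))) (BT.node 10481 (BT.node 10480 (BT.node 10479 (BT.leaf cJ10479) (BT.leaf cJ10480)) (BT.leaf cJ10481)) (BT.node 10482 (BT.leaf cJ10482) (BT.leaf cJ10483))))) (BT.node 10493 (BT.node 10488 (BT.node 10486 (BT.node 10485 (BT.node 10484 (BT.leaf cJ10484) (BT.leaf cJ10485)) (BT.leaf cJ10486)) (BT.node 10487 (BT.leaf cJ10487) (BT.leaf cJ10488))) (BT.node 10491 (BT.node 10490 (BT.node 10489 (BT.leaf cJ10489) (BT.leaf cJ10490)) (BT.leaf cJ10491)) (BT.node 10492 (BT.leaf cJ10492) (BT.leaf cJ10493)))) (BT.node 10498 (BT.node 10496 (BT.node 10495 (BT.node 10494 (BT.leaf cJ10494)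 (BT.leaf cJ10495)) (BT.leaf cJ10496)) (BT.node 10497 (BT.leaf cJ10497) (BT.leaf cJ10498))) (BT.node 10501 (BT.node 10500 (BT.node 10499 (BT.leaf cJ10499) (BT.leaf cJ10500)) (BT.leaf cJ10501)) (BT.node 10502 (BT.leaf cJ10502) (BT.leaf cJ10503))))))))
noncomputable def colJT_65 : BT ℕ := (BT.node 10584 (BT.node 10544 (BT.node 10524 (BT.node 10514 (BT.node 10509 (BT.node 10506 (BT.node 10505 (BT.node 10504 (BT.leaf cJ10504) (BT.leaf cJ10505)) (BT.leaf cJ10506)) (BT.node 10508 (BT.node 10507 (BT.leaf cJ10507) (BT.leaf cJ10508)) (BT.leaf cJ10509))) (BT.node 10512 (BT.node 10511 (BT.node 10510 (BT.leaf cJ10510) (BT.leaf cJ10511)) (BT.leaf cJ10512)) (BT.node 10513 (BT.leaf cJ10513) (BT.leaf cJ10514)))) (BT.node 10519 (BT.node 10517 (BT.node 10516 (BT.node 10515 (BT.leaf cJ10515) (BT.leaf cJ10516)) (BT.leaf cJ10517)) (BT.node 10518 (BT.leaf cJ10518) (BT.leaf cJ10519))) (BT.node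 10522 (BT.node 10521 (BT.node 10520 (BT.leaf cJ10520) (BT.leaf cJ10521)) (BT.leaf cJ10522)) (BT.node 10523 (BT.leaf cJ10523) (BT.leaf cJ10524))))) (BT.node 10534 (BT.node 10529 (BT.node 10527 (BT.node 10526 (BT.node 10525 (BT.leaf cJ10525) (BT.leaf cJ10526)) (BT.leaf cJ10527)) (BT.node 10528 (BT.leaf cJ10528) (BT.leaf cJ10529))) (BT.node 10532 (BT.node 10531 (BT.node 10530 (BT.leaf cJ10530) (BT.leaf cJ10531)) (BT.leaf cJ10532)) (BT.node 10533 (BT.leaf cJ10533) (BT.leaf cJ10534)))) (BT.node 10539 (BT.node 10537 (BT.node 10536 (BT.node 10535 (BT.leaf cJ10535) (BT.leaf cJ10536)) (BT.leaf cJ10537)) (BT.node 10538 (BT.leaf cJ10538) (BT.leaf cJ10539))) (BT.node 10542 (BT.node 10541 (BT.node 10540 (BT.leaf cJ10540) (BT.leaf cJ10541)) (BT.leaf cJ10542)) (BT.node 10543 (BT.leaf cJ10543) (BT.leaf cJ10544)))))) (BT.node 10564 (BT.node 10554 (BT.node 10549 (BT.node 10547 (BT.node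 10546 (BT.node 10545 (BT.leaf cJ10545) (BT.leaf cJ10546)) (BT.leaf cJ10547)) (BT.node 10548 (BT.leaf cJ10548) (BT.leaf cJ10549))) (BT.node 10552 (BT.node 10551 (BT.node 10550 (BT.leaf cJ10550) (BT.leaf cJ10551)) (BT.leaf cJ10552)) (BT.node 10553 (BT.leaf cJ10553) (BT.leaf cJ10554)))) (BT.node 10559 (BT.node 10557 (BT.node 10556 (BT.node 10555 (BT.leaf cJ10555) (BT.leaf cJ10556)) (BT.leaf cJ10557)) (BT.node 10558 (BT.leaf cJ10558) (BT.leaf cJ10559))) (BT.node 10562 (BT.node 10561 (BT.node 10560 (BT.leaf cJ10560) (BT.leaf cJ10561)) (BT.leaf cJ10562)) (BT.node 10563 (BT.leaf cJ10563) (BT.leaf cJ10564))))) (BT.node 10574 (BT.node 10569 (BT.node 10567 (BT.node 10566 (BT.node 10565 (BT.leaf cJ10565) (BT.leaf cJ10566)) (BT.leaf cJ10567)) (BT.node 10568 (BT.leaf cJ10568) (BT.leaf cJ10569))) (BT.node 10572 (BT.node 10571 (BT.node 10570 (BT.leaf cJ10570) (BT.leaf cJ10571)) (BT.leaf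 cJ10572)) (BT.node 10573 (BT.leaf cJ10573) (BT.leaf cJ10574)))) (BT.node 10579 (BT.node 10577 (BT.node 10576 (BT.node 10575 (BT.leaf cJ10575) (BT.leaf cJ10576)) (BT.leaf cJ10577)) (BT.node 10578 (BT.leaf cJ10578) (BT.leaf cJ10579))) (BT.node 10582 (BT.node 10581 (BT.node 10580 (BT.leaf cJ10580) (BT.leaf cJ10581)) (BT.leaf cJ10582)) (BT.node 10583 (BT.leaf cJ10583) (BT.leaf cJ10584))))))) (BT.node 10625 (BT.node 10605 (BT.node 10595 (BT.node 10590 (BT.node 10587 (BT.node 10586 (BT.node 10585 (BT.leaf cJ10585) (BT.leaf cJ10586)) (BT.leaf cJ10587)) (BT.node 10589 (BT.node 10588 (BT.leaf cJ10588) (BT.leaf cJ10589)) (BT.leaf cJ10590))) (BT.node 10593 (BT.node 10592 (BT.node 10591 (BT.leaf cJ10591) (BT.leaf cJ10592)) (BT.leaf cJ10593)) (BT.node 10594 (BT.leaf cJ10594) (BT.leaf cJ10595)))) (BT.node 10600 (BT.node 10598 (BT.node 10597 (BT.node 10596 (BT.leaf cJ10596) (BT.leaf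 cJ10597)) (BT.leaf cJ10598)) (BT.node 10599 (BT.leaf cJ10599) (BT.leaf cJ10600))) (BT.node 10603 (BT.node 10602 (BT.node 10601 (BT.leaf cJ10601) (BT.leaf cJ10602)) (BT.leaf cJ10603)) (BT.node 10604 (BT.leaf cJ10604) (BT.leaf cJ10605))))) (BT.node 10615 (BT.node 10610 (BT.node 10608 (BT.node 10607 (BT.node 10606 (BT.leaf cJ10606) (BT.leaf cJ10607)) (BT.leaf cJ10608)) (BT.node 10609 (BT.leaf cJ10609) (BT.leaf cJ10610))) (BT.node 10613 (BT.node 10612 (BT.node 10611 (BT.leaf cJ10611) (BT.leaf cJ10612)) (BT.leaf cJ10613)) (BT.node 10614 (BT.leaf cJ10614) (BT.leaf cJ10615)))) (BT.node 10620 (BT.node 10618 (BT.node 10617 (BT.node 10616 (BT.leaf cJ10616) (BT.leaf cJ10617)) (BT.leaf cJ10618)) (BT.node 10619 (BT.leaf cJ10619) (BT.leaf cJ10620))) (BT.node 10623 (BT.node 10622 (BT.node 10621 (BT.leaf cJ10621) (BT.leaf cJ10622)) (BT.leaf cJ10623)) (BT.node 10624 (BT.leaf cJ10624)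 (BT.leaf cJ10625)))))) (BT.node 10645 (BT.node 10635 (BT.node 10630 (BT.node 10628 (BT.node 10627 (BT.node 10626 (BT.leaf cJ10626) (BT.leaf cJ10627)) (BT.leaf cJ10628)) (BT.node 10629 (BT.leaf cJ10629) (BT.leaf cJ10630))) (BT.node 10633 (BT.node 10632 (BT.node 10631 (BT.leaf cJ10631) (BT.leaf cJ10632)) (BT.leaf cJ10633)) (BT.node 10634 (BT.leaf cJ10634) (BT.leaf cJ10635)))) (BT.node 10640 (BT.node 10638 (BT.node 10637 (BT.node 10636 (BT.leaf cJ10636) (BT.leaf cJ10637)) (BT.leaf cJ10638)) (BT.node 10639 (BT.leaf cJ10639) (BT.leaf cJ10640))) (BT.node 10643 (BT.node 10642 (BT.node 10641 (BT.leaf cJ10641) (BT.leaf cJ10642)) (BT.leaf cJ10643)) (BT.node 10644 (BT.leaf cJ10644) (BT.leaf cJ10645))))) (BT.node 10655 (BT.node 10650 (BT.node 10648 (BT.node 10647 (BT.node 10646 (BT.leaf cJ10646) (BT.leaf cJ10647)) (BT.leaf cJ10648)) (BT.node 10649 (BT.leaf cJ10649) (BT.leaf cJ10650)))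 (BT.node 10653 (BT.node 10652 (BT.node 10651 (BT.leaf cJ10651) (BT.leaf cJ10652)) (BT.leaf cJ10653)) (BT.node 10654 (BT.leaf cJ10654) (BT.leaf cJ10655)))) (BT.node 10660 (BT.node 10658 (BT.node 10657 (BT.node 10656 (BT.leaf cJ10656) (BT.leaf cJ10657)) (BT.leaf cJ10658)) (BT.node 10659 (BT.leaf cJ10659) (BT.leaf cJ10660))) (BT.node 10663 (BT.node 10662 (BT.node 10661 (BT.leaf cJ10661) (BT.leaf cJ10662)) (BT.leaf cJ10663)) (BT.node 10664 (BT.leaf cJ10664) (BT.leaf cJ10665))))))))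
noncomputable def colJT_66 : BT ℕ := (BT.node 10746 (BT.node 10706 (BT.node 10686 (BT.node 10676 (BT.node 10671 (BT.node 10668 (BT.node 10667 (BT.node 10666 (BT.leaf cJ10666) (BT.leaf cJ10667)) (BT.leaf cJ10668)) (BT.node 10670 (BT.node 10669 (BT.leaf cJ10669) (BT.leaf cJ10670)) (BT.leaf cJ10671))) (BT.node 10674 (BT.node 10673 (BT.node 10672 (BT.leaf cJ10672) (BT.leaf cJ10673)) (BT.leaf cJ10674)) (BT.node 10675 (BT.leaf cJ10675) (BT.leaf cJ10676)))) (BT.node 10681 (BT.node 10679 (BT.node 10678 (BT.node 10677 (BT.leaf cJ10677) (BT.leaf cJ10678)) (BT.leaf cJ10679)) (BT.node 10680 (BT.leaf cJ10680) (BT.leaf cJ10681))) (BT.node 10684 (BT.node 10683 (BT.node 10682 (BT.leaf cJ10682) (BT.leaf cJ10683)) (BT.leaf cJ10684)) (BT.node 10685 (BT.leaf cJ10685) (BT.leaf cJ10686))))) (BT.node 10696 (BT.node 10691 (BT.node 10689 (BT.node 10688 (BT.node 10687 (BT.leaf cJ10687) (BT.leaf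 cJ10688)) (BT.leaf cJ10689)) (BT.node 10690 (BT.leaf cJ10690) (BT.leaf cJ10691))) (BT.node 10694 (BT.node 10693 (BT.node 10692 (BT.leaf cJ10692) (BT.leaf cJ10693)) (BT.leaf cJ10694)) (BT.node 10695 (BT.leaf cJ10695) (BT.leaf cJ10696)))) (BT.node 10701 (BT.node 10699 (BT.node 10698 (BT.node 10697 (BT.leaf cJ10697) (BT.leaf cJ10698)) (BT.leaf cJ10699)) (BT.node 10700 (BT.leaf cJ10700) (BT.leaf cJ10701))) (BT.node 10704 (BT.node 10703 (BT.node 10702 (BT.leaf cJ10702) (BT.leaf cJ10703)) (BT.leaf cJ10704)) (BT.node 10705 (BT.leaf cJ10705) (BT.leaf cJ10706)))))) (BT.node 10726 (BT.node 10716 (BT.node 10711 (BT.node 10709 (BT.node 10708 (BT.node 10707 (BT.leaf cJ10707) (BT.leaf cJ10708)) (BT.leaf cJ10709)) (BT.node 10710 (BT.leaf cJ10710) (BT.leaf cJ10711))) (BT.node 10714 (BT.node 10713 (BT.node 10712 (BT.leaf cJ10712) (BT.leaf cJ10713)) (BT.leaf cJ10714)) (BT.node 10715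 (BT.leaf cJ10715) (BT.leaf cJ10716)))) (BT.node 10721 (BT.node 10719 (BT.node 10718 (BT.node 10717 (BT.leaf cJ10717) (BT.leaf cJ10718)) (BT.leaf cJ10719)) (BT.node 10720 (BT.leaf cJ10720) (BT.leaf cJ10721))) (BT.node 10724 (BT.node 10723 (BT.node 10722 (BT.leaf cJ10722) (BT.leaf cJ10723)) (BT.leaf cJ10724)) (BT.node 10725 (BT.leaf cJ10725) (BT.leaf cJ10726))))) (BT.node 10736 (BT.node 10731 (BT.node 10729 (BT.node 10728 (BT.node 10727 (BT.leaf cJ10727) (BT.leaf cJ10728)) (BT.leaf cJ10729)) (BT.node 10730 (BT.leaf cJ10730) (BT.leaf cJ10731))) (BT.node 10734 (BT.node 10733 (BT.node 10732 (BT.leaf cJ10732) (BT.leaf cJ10733)) (BT.leaf cJ10734)) (BT.node 10735 (BT.leaf cJ10735) (BT.leaf cJ10736)))) (BT.node 10741 (BT.node 10739 (BT.node 10738 (BT.node 10737 (BT.leaf cJ10737) (BT.leaf cJ10738)) (BT.leaf cJ10739)) (BT.node 10740 (BT.leaf cJ10740) (BT.leaf cJ10741))) (BT.node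 10744 (BT.node 10743 (BT.node 10742 (BT.leaf cJ10742) (BT.leaf cJ10743)) (BT.leaf cJ10744)) (BT.node 10745 (BT.leaf cJ10745) (BT.leaf cJ10746))))))) (BT.node 10787 (BT.node 10767 (BT.node 10757 (BT.node 10752 (BT.node 10749 (BT.node 10748 (BT.node 10747 (BT.leaf cJ10747) (BT.leaf cJ10748)) (BT.leaf cJ10749)) (BT.node 10751 (BT.node 10750 (BT.leaf cJ10750) (BT.leaf cJ10751)) (BT.leaf cJ10752))) (BT.node 10755 (BT.node 10754 (BT.node 10753 (BT.leaf cJ10753) (BT.leaf cJ10754)) (BT.leaf cJ10755)) (BT.node 10756 (BT.leaf cJ10756) (BT.leaf cJ10757)))) (BT.node 10762 (BT.node 10760 (BT.node 10759 (BT.node 10758 (BT.leaf cJ10758) (BT.leaf cJ10759)) (BT.leaf cJ10760)) (BT.node 10761 (BT.leaf cJ10761) (BT.leaf cJ10762))) (BT.node 10765 (BT.node 10764 (BT.node 10763 (BT.leaf cJ10763) (BT.leaf cJ10764)) (BT.leaf cJ10765)) (BT.node 10766 (BT.leaf cJ10766) (BT.leaf cJ10767)))))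 (BT.node 10777 (BT.node 10772 (BT.node 10770 (BT.node 10769 (BT.node 10768 (BT.leaf cJ10768) (BT.leaf cJ10769)) (BT.leaf cJ10770)) (BT.node 10771 (BT.leaf cJ10771) (BT.leaf cJ10772))) (BT.node 10775 (BT.node 10774 (BT.node 10773 (BT.leaf cJ10773) (BT.leaf cJ10774)) (BT.leaf cJ10775)) (BT.node 10776 (BT.leaf cJ10776) (BT.leaf cJ10777)))) (BT.node 10782 (BT.node 10780 (BT.node 10779 (BT.node 10778 (BT.leaf cJ10778) (BT.leaf cJ10779)) (BT.leaf cJ10780)) (BT.node 10781 (BT.leaf cJ10781) (BT.leaf cJ10782))) (BT.node 10785 (BT.node 10784 (BT.node 10783 (BT.leaf cJ10783) (BT.leaf cJ10784)) (BT.leaf cJ10785)) (BT.node 10786 (BT.leaf cJ10786) (BT.leaf cJ10787)))))) (BT.node 10807 (BT.node 10797 (BT.node 10792 (BT.node 10790 (BT.node 10789 (BT.node 10788 (BT.leaf cJ10788) (BT.leaf cJ10789)) (BT.leaf cJ10790)) (BT.node 10791 (BT.leaf cJ10791) (BT.leaf cJ10792))) (BT.node 10795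 (BT.node 10794 (BT.node 10793 (BT.leaf cJ10793) (BT.leaf cJ10794)) (BT.leaf cJ10795)) (BT.node 10796 (BT.leaf cJ10796) (BT.leaf cJ10797)))) (BT.node 10802 (BT.node 10800 (BT.node 10799 (BT.node 10798 (BT.leaf cJ10798) (BT.leaf cJ10799)) (BT.leaf cJ10800)) (BT.node 10801 (BT.leaf cJ10801) (BT.leaf cJ10802))) (BT.node 10805 (BT.node 10804 (BT.node 10803 (BT.leaf cJ10803) (BT.leaf cJ10804)) (BT.leaf cJ10805)) (BT.node 10806 (BT.leaf cJ10806) (BT.leaf cJ10807))))) (BT.node 10817 (BT.node 10812 (BT.node 10810 (BT.node 10809 (BT.node 10808 (BT.leaf cJ10808) (BT.leaf cJ10809)) (BT.leaf cJ10810)) (BT.node 10811 (BT.leaf cJ10811) (BT.leaf cJ10812))) (BT.node 10815 (BT.node 10814 (BT.node 10813 (BT.leaf cJ10813) (BT.leaf cJ10814)) (BT.leaf cJ10815)) (BT.node 10816 (BT.leaf cJ10816) (BT.leaf cJ10817)))) (BT.node 10822 (BT.node 10820 (BT.node 10819 (BT.node 10818 (BT.leaf cJ10818)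 (BT.leaf cJ10819)) (BT.leaf cJ10820)) (BT.node 10821 (BT.leaf cJ10821) (BT.leaf cJ10822))) (BT.node 10825 (BT.node 10824 (BT.node 10823 (BT.leaf cJ10823) (BT.leaf cJ10824)) (BT.leaf cJ10825)) (BT.node 10826 (BT.leaf cJ10826) (BT.leaf cJ10827))))))))
noncomputable def colJT_67 : BT ℕ := (BT.node 10908 (BT.node 10868 (BT.node 10848 (BT.node 10838 (BT.node 10833 (BT.node 10830 (BT.node 10829 (BT.node 10828 (BT.leaf cJ10828) (BT.leaf cJ10829)) (BT.leaf cJ10830)) (BT.node 10832 (BT.node 10831 (BT.leaf cJ10831) (BT.leaf cJ10832)) (BT.leaf cJ10833))) (BT.node 10836 (BT.node 10835 (BT.node 10834 (BT.leaf cJ10834) (BT.leaf cJ10835)) (BT.leaf cJ10836)) (BT.node 10837 (BT.leaf cJ10837) (BT.leaf cJ10838)))) (BT.node 10843 (BT.node 10841 (BT.node 10840 (BT.node 10839 (BT.leaf cJ10839) (BT.leaf cJ10840)) (BT.leaf cJ10841)) (BT.node 10842 (BT.leaf cJ10842) (BT.leaf cJ10843))) (BT.node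 10846 (BT.node 10845 (BT.node 10844 (BT.leaf cJ10844) (BT.leaf cJ10845)) (BT.leaf cJ10846)) (BT.node 10847 (BT.leaf cJ10847) (BT.leaf cJ10848))))) (BT.node 10858 (BT.node 10853 (BT.node 10851 (BT.node 10850 (BT.node 10849 (BT.leaf cJ10849) (BT.leaf cJ10850)) (BT.leaf cJ10851)) (BT.node 10852 (BT.leaf cJ10852) (BT.leaf cJ10853))) (BT.node 10856 (BT.node 10855 (BT.node 10854 (BT.leaf cJ10854) (BT.leaf cJ10855)) (BT.leaf cJ10856)) (BT.node 10857 (BT.leaf cJ10857) (BT.leaf cJ10858)))) (BT.node 10863 (BT.node 10861 (BT.node 10860 (BT.node 10859 (BT.leaf cJ10859) (BT.leaf cJ10860)) (BT.leaf cJ10861)) (BT.node 10862 (BT.leaf cJ10862) (BT.leaf cJ10863))) (BT.node 10866 (BT.node 10865 (BT.node 10864 (BT.leaf cJ10864) (BT.leaf cJ10865)) (BT.leaf cJ10866)) (BT.node 10867 (BT.leaf cJ10867) (BT.leaf cJ10868)))))) (BT.node 10888 (BT.node 10878 (BT.node 10873 (BT.node 10871 (BT.node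 10870 (BT.node 10869 (BT.leaf cJ10869) (BT.leaf cJ10870)) (BT.leaf cJ10871)) (BT.node 10872 (BT.leaf cJ10872) (BT.leaf cJ10873))) (BT.node 10876 (BT.node 10875 (BT.node 10874 (BT.leaf cJ10874) (BT.leaf cJ10875)) (BT.leaf cJ10876)) (BT.node 10877 (BT.leaf cJ10877) (BT.leaf cJ10878)))) (BT.node 10883 (BT.node 10881 (BT.node 10880 (BT.node 10879 (BT.leaf cJ10879) (BT.leaf cJ10880)) (BT.leaf cJ10881)) (BT.node 10882 (BT.leaf cJ10882) (BT.leaf cJ10883))) (BT.node 10886 (BT.node 10885 (BT.node 10884 (BT.leaf cJ10884) (BT.leaf cJ10885)) (BT.leaf cJ10886)) (BT.node 10887 (BT.leaf cJ10887) (BT.leaf cJ10888))))) (BT.node 10898 (BT.node 10893 (BT.node 10891 (BT.node 10890 (BT.node 10889 (BT.leaf cJ10889) (BT.leaf cJ10890)) (BT.leaf cJ10891)) (BT.node 10892 (BT.leaf cJ10892) (BT.leaf cJ10893))) (BT.node 10896 (BT.node 10895 (BT.node 10894 (BT.leaf cJ10894) (BT.leaf cJ10895)) (BT.leaf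 cJ10896)) (BT.node 10897 (BT.leaf cJ10897) (BT.leaf cJ10898)))) (BT.node 10903 (BT.node 10901 (BT.node 10900 (BT.node 10899 (BT.leaf cJ10899) (BT.leaf cJ10900)) (BT.leaf cJ10901)) (BT.node 10902 (BT.leaf cJ10902) (BT.leaf cJ10903))) (BT.node 10906 (BT.node 10905 (BT.node 10904 (BT.leaf cJ10904) (BT.leaf cJ10905)) (BT.leaf cJ10906)) (BT.node 10907 (BT.leaf cJ10907) (BT.leaf cJ10908))))))) (BT.node 10948 (BT.node 10928 (BT.node 10918 (BT.node 10913 (BT.node 10911 (BT.node 10910 (BT.node 10909 (BT.leaf cJ10909) (BT.leaf cJ10910)) (BT.leaf cJ10911)) (BT.node 10912 (BT.leaf cJ10912) (BT.leaf cJ10913))) (BT.node 10916 (BT.node 10915 (BT.node 10914 (BT.leaf cJ10914) (BT.leaf cJ10915)) (BT.leaf cJ10916)) (BT.node 10917 (BT.leaf cJ10917) (BT.leaf cJ10918)))) (BT.node 10923 (BT.node 10921 (BT.node 10920 (BT.node 10919 (BT.leaf cJ10919) (BT.leaf cJ10920)) (BT.leaf cJ10921)) (BT.node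 10922 (BT.leaf cJ10922) (BT.leaf cJ10923))) (BT.node 10926 (BT.node 10925 (BT.node 10924 (BT.leaf cJ10924) (BT.leaf cJ10925)) (BT.leaf cJ10926)) (BT.node 10927 (BT.leaf cJ10927) (BT.leaf cJ10928))))) (BT.node 10938 (BT.node 10933 (BT.node 10931 (BT.node 10930 (BT.node 10929 (BT.leaf cJ10929) (BT.leaf cJ10930)) (BT.leaf cJ10931)) (BT.node 10932 (BT.leaf cJ10932) (BT.leaf cJ10933))) (BT.node 10936 (BT.node 10935 (BT.node 10934 (BT.leaf cJ10934) (BT.leaf cJ10935)) (BT.leaf cJ10936)) (BT.node 10937 (BT.leaf cJ10937) (BT.leaf cJ10938)))) (BT.node 10943 (BT.node 10941 (BT.node 10940 (BT.node 10939 (BT.leaf cJ10939) (BT.leaf cJ10940)) (BT.leaf cJ10941)) (BT.node 10942 (BT.leaf cJ10942) (BT.leaf cJ10943))) (BT.node 10946 (BT.node 10945 (BT.node 10944 (BT.leaf cJ10944) (BT.leaf cJ10945)) (BT.leaf cJ10946)) (BT.node 10947 (BT.leaf cJ10947) (BT.leaf cJ10948)))))) (BT.node 10968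 (BT.node 10958 (BT.node 10953 (BT.node 10951 (BT.node 10950 (BT.node 10949 (BT.leaf cJ10949) (BT.leaf cJ10950)) (BT.leaf cJ10951)) (BT.node 10952 (BT.leaf cJ10952) (BT.leaf cJ10953))) (BT.node 10956 (BT.node 10955 (BT.node 10954 (BT.leaf cJ10954) (BT.leaf cJ10955)) (BT.leaf cJ10956)) (BT.node 10957 (BT.leaf cJ10957) (BT.leaf cJ10958)))) (BT.node 10963 (BT.node 10961 (BT.node 10960 (BT.node 10959 (BT.leaf cJ10959) (BT.leaf cJ10960)) (BT.leaf cJ10961)) (BT.node 10962 (BT.leaf cJ10962) (BT.leaf cJ10963))) (BT.node 10966 (BT.node 10965 (BT.node 10964 (BT.leaf cJ10964) (BT.leaf cJ10965)) (BT.leaf cJ10966)) (BT.node 10967 (BT.leaf cJ10967) (BT.leaf cJ10968))))) (BT.node 10978 (BT.node 10973 (BT.node 10971 (BT.node 10970 (BT.node 10969 (BT.leaf cJ10969) (BT.leaf cJ10970)) (BT.leaf cJ10971)) (BT.node 10972 (BT.leaf cJ10972) (BT.leaf cJ10973))) (BT.node 10976 (BT.node 10975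 (BT.node 10974 (BT.leaf cJ10974) (BT.leaf cJ10975)) (BT.leaf cJ10976)) (BT.node 10977 (BT.leaf cJ10977) (BT.leaf cJ10978)))) (BT.node 10983 (BT.node 10981 (BT.node 10980 (BT.node 10979 (BT.leaf cJ10979) (BT.leaf cJ10980)) (BT.leaf cJ10981)) (BT.node 10982 (BT.leaf cJ10982) (BT.leaf cJ10983))) (BT.node 10986 (BT.node 10985 (BT.node 10984 (BT.leaf cJ10984) (BT.leaf cJ10985)) (BT.leaf cJ10986)) (BT.node 10987 (BT.leaf cJ10987) (BT.leaf cJ10988))))))))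
noncomputable def colJT_68 : BT ℕ := (BT.node 11069 (BT.node 11029 (BT.node 11009 (BT.node 10999 (BT.node 10994 (BT.node 10991 (BT.node 10990 (BT.node 10989 (BT.leaf cJ10989) (BT.leaf cJ10990)) (BT.leaf cJ10991)) (BT.node 10993 (BT.node 10992 (BT.leaf cJ10992) (BT.leaf cJ10993)) (BT.leaf cJ10994))) (BT.node 10997 (BT.node 10996 (BT.node 10995 (BT.leaf cJ10995) (BT.leaf cJ10996)) (BT.leaf cJ10997)) (BT.node 10998 (BT.leaf cJ10998) (BT.leaf cJ10999)))) (BT.node 11004 (BT.node 11002 (BT.node 11001 (BT.node 11000 (BT.leaf cJ11000) (BT.leaf cJ11001)) (BT.leaf cJ11002)) (BT.node 11003 (BT.leaf cJ11003) (BT.leaf cJ11004))) (BT.node 11007 (BT.node 11006 (BT.node 11005 (BT.leaf cJ11005) (BT.leaf cJ11006)) (BT.leaf cJ11007)) (BT.node 11008 (BT.leaf cJ11008) (BT.leaf cJ11009))))) (BT.node 11019 (BT.node 11014 (BT.node 11012 (BT.node 11011 (BT.node 11010 (BT.leaf cJ11010) (BT.leaf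 cJ11011)) (BT.leaf cJ11012)) (BT.node 11013 (BT.leaf cJ11013) (BT.leaf cJ11014))) (BT.node 11017 (BT.node 11016 (BT.node 11015 (BT.leaf cJ11015) (BT.leaf cJ11016)) (BT.leaf cJ11017)) (BT.node 11018 (BT.leaf cJ11018) (BT.leaf cJ11019)))) (BT.node 11024 (BT.node 11022 (BT.node 11021 (BT.node 11020 (BT.leaf cJ11020) (BT.leaf cJ11021)) (BT.leaf cJ11022)) (BT.node 11023 (BT.leaf cJ11023) (BT.leaf cJ11024))) (BT.node 11027 (BT.node 11026 (BT.node 11025 (BT.leaf cJ11025) (BT.leaf cJ11026)) (BT.leaf cJ11027)) (BT.node 11028 (BT.leaf cJ11028) (BT.leaf cJ11029)))))) (BT.node 11049 (BT.node 11039 (BT.node 11034 (BT.node 11032 (BT.node 11031 (BT.node 11030 (BT.leaf cJ11030) (BT.leaf cJ11031)) (BT.leaf cJ11032)) (BT.node 11033 (BT.leaf cJ11033) (BT.leaf cJ11034))) (BT.node 11037 (BT.node 11036 (BT.node 11035 (BT.leaf cJ11035) (BT.leaf cJ11036)) (BT.leaf cJ11037)) (BT.node 11038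 (BT.leaf cJ11038) (BT.leaf cJ11039)))) (BT.node 11044 (BT.node 11042 (BT.node 11041 (BT.node 11040 (BT.leaf cJ11040) (BT.leaf cJ11041)) (BT.leaf cJ11042)) (BT.node 11043 (BT.leaf cJ11043) (BT.leaf cJ11044))) (BT.node 11047 (BT.node 11046 (BT.node 11045 (BT.leaf cJ11045) (BT.leaf cJ11046)) (BT.leaf cJ11047)) (BT.node 11048 (BT.leaf cJ11048) (BT.leaf cJ11049))))) (BT.node 11059 (BT.node 11054 (BT.node 11052 (BT.node 11051 (BT.node 11050 (BT.leaf cJ11050) (BT.leaf cJ11051)) (BT.leaf cJ11052)) (BT.node 11053 (BT.leaf cJ11053) (BT.leaf cJ11054))) (BT.node 11057 (BT.node 11056 (BT.node 11055 (BT.leaf cJ11055) (BT.leaf cJ11056)) (BT.leaf cJ11057)) (BT.node 11058 (BT.leaf cJ11058) (BT.leaf cJ11059)))) (BT.node 11064 (BT.node 11062 (BT.node 11061 (BT.node 11060 (BT.leaf cJ11060) (BT.leaf cJ11061)) (BT.leaf cJ11062)) (BT.node 11063 (BT.leaf cJ11063) (BT.leaf cJ11064))) (BT.node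 11067 (BT.node 11066 (BT.node 11065 (BT.leaf cJ11065) (BT.leaf cJ11066)) (BT.leaf cJ11067)) (BT.node 11068 (BT.leaf cJ11068) (BT.leaf cJ11069))))))) (BT.node 11110 (BT.node 11090 (BT.node 11080 (BT.node 11075 (BT.node 11072 (BT.node 11071 (BT.node 11070 (BT.leaf cJ11070) (BT.leaf cJ11071)) (BT.leaf cJ11072)) (BT.node 11074 (BT.node 11073 (BT.leaf cJ11073) (BT.leaf cJ11074)) (BT.leaf cJ11075))) (BT.node 11078 (BT.node 11077 (BT.node 11076 (BT.leaf cJ11076) (BT.leaf cJ11077)) (BT.leaf cJ11078)) (BT.node 11079 (BT.leaf cJ11079) (BT.leaf cJ11080)))) (BT.node 11085 (BT.node 11083 (BT.node 11082 (BT.node 11081 (BT.leaf cJ11081) (BT.leaf cJ11082)) (BT.leaf cJ11083)) (BT.node 11084 (BT.leaf cJ11084) (BT.leaf cJ11085))) (BT.node 11088 (BT.node 11087 (BT.node 11086 (BT.leaf cJ11086) (BT.leaf cJ11087)) (BT.leaf cJ11088)) (BT.node 11089 (BT.leaf cJ11089) (BT.leaf cJ11090)))))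 (BT.node 11100 (BT.node 11095 (BT.node 11093 (BT.node 11092 (BT.node 11091 (BT.leaf cJ11091) (BT.leaf cJ11092)) (BT.leaf cJ11093)) (BT.node 11094 (BT.leaf cJ11094) (BT.leaf cJ11095))) (BT.node 11098 (BT.node 11097 (BT.node 11096 (BT.leaf cJ11096) (BT.leaf cJ11097)) (BT.leaf cJ11098)) (BT.node 11099 (BT.leaf cJ11099) (BT.leaf cJ11100)))) (BT.node 11105 (BT.node 11103 (BT.node 11102 (BT.node 11101 (BT.leaf cJ11101) (BT.leaf cJ11102)) (BT.leaf cJ11103)) (BT.node 11104 (BT.leaf cJ11104) (BT.leaf cJ11105))) (BT.node 11108 (BT.node 11107 (BT.node 11106 (BT.leaf cJ11106) (BT.leaf cJ11107)) (BT.leaf cJ11108)) (BT.node 11109 (BT.leaf cJ11109) (BT.leaf cJ11110)))))) (BT.node 11130 (BT.node 11120 (BT.node 11115 (BT.node 11113 (BT.node 11112 (BT.node 11111 (BT.leaf cJ11111) (BT.leaf cJ11112)) (BT.leaf cJ11113)) (BT.node 11114 (BT.leaf cJ11114) (BT.leaf cJ11115))) (BT.node 11118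 (BT.node 11117 (BT.node 11116 (BT.leaf cJ11116) (BT.leaf cJ11117)) (BT.leaf cJ11118)) (BT.node 11119 (BT.leaf cJ11119) (BT.leaf cJ11120)))) (BT.node 11125 (BT.node 11123 (BT.node 11122 (BT.node 11121 (BT.leaf cJ11121) (BT.leaf cJ11122)) (BT.leaf cJ11123)) (BT.node 11124 (BT.leaf cJ11124) (BT.leaf cJ11125))) (BT.node 11128 (BT.node 11127 (BT.node 11126 (BT.leaf cJ11126) (BT.leaf cJ11127)) (BT.leaf cJ11128)) (BT.node 11129 (BT.leaf cJ11129) (BT.leaf cJ11130))))) (BT.node 11140 (BT.node 11135 (BT.node 11133 (BT.node 11132 (BT.node 11131 (BT.leaf cJ11131) (BT.leaf cJ11132)) (BT.leaf cJ11133)) (BT.node 11134 (BT.leaf cJ11134) (BT.leaf cJ11135))) (BT.node 11138 (BT.node 11137 (BT.node 11136 (BT.leaf cJ11136) (BT.leaf cJ11137)) (BT.leaf cJ11138)) (BT.node 11139 (BT.leaf cJ11139) (BT.leaf cJ11140)))) (BT.node 11145 (BT.node 11143 (BT.node 11142 (BT.node 11141 (BT.leaf cJ11141)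 (BT.leaf cJ11142)) (BT.leaf cJ11143)) (BT.node 11144 (BT.leaf cJ11144) (BT.leaf cJ11145))) (BT.node 11148 (BT.node 11147 (BT.node 11146 (BT.leaf cJ11146) (BT.leaf cJ11147)) (BT.leaf cJ11148)) (BT.node 11149 (BT.leaf cJ11149) (BT.leaf cJ11150))))))))
noncomputable def colJT_69 : BT ℕ := (BT.node 11231 (BT.node 11191 (BT.node 11171 (BT.node 11161 (BT.node 11156 (BT.node 11153 (BT.node 11152 (BT.node 11151 (BT.leaf cJ11151) (BT.leaf cJ11152)) (BT.leaf cJ11153)) (BT.node 11155 (BT.node 11154 (BT.leaf cJ11154) (BT.leaf cJ11155)) (BT.leaf cJ11156))) (BT.node 11159 (BT.node 11158 (BT.node 11157 (BT.leaf cJ11157) (BT.leaf cJ11158)) (BT.leaf cJ11159)) (BT.node 11160 (BT.leaf cJ11160) (BT.leaf cJ11161)))) (BT.node 11166 (BT.node 11164 (BT.node 11163 (BT.node 11162 (BT.leaf cJ11162) (BT.leaf cJ11163)) (BT.leaf cJ11164)) (BT.node 11165 (BT.leaf cJ11165) (BT.leaf cJ11166))) (BT.node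 11169 (BT.node 11168 (BT.node 11167 (BT.leaf cJ11167) (BT.leaf cJ11168)) (BT.leaf cJ11169)) (BT.node 11170 (BT.leaf cJ11170) (BT.leaf cJ11171))))) (BT.node 11181 (BT.node 11176 (BT.node 11174 (BT.node 11173 (BT.node 11172 (BT.leaf cJ11172) (BT.leaf cJ11173)) (BT.leaf cJ11174)) (BT.node 11175 (BT.leaf cJ11175) (BT.leaf cJ11176))) (BT.node 11179 (BT.node 11178 (BT.node 11177 (BT.leaf cJ11177) (BT.leaf cJ11178)) (BT.leaf cJ11179)) (BT.node 11180 (BT.leaf cJ11180) (BT.leaf cJ11181)))) (BT.node 11186 (BT.node 11184 (BT.node 11183 (BT.node 11182 (BT.leaf cJ11182) (BT.leaf cJ11183)) (BT.leaf cJ11184)) (BT.node 11185 (BT.leaf cJ11185) (BT.leaf cJ11186))) (BT.node 11189 (BT.node 11188 (BT.node 11187 (BT.leaf cJ11187) (BT.leaf cJ11188)) (BT.leaf cJ11189)) (BT.node 11190 (BT.leaf cJ11190) (BT.leaf cJ11191)))))) (BT.node 11211 (BT.node 11201 (BT.node 11196 (BT.node 11194 (BT.node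 11193 (BT.node 11192 (BT.leaf cJ11192) (BT.leaf cJ11193)) (BT.leaf cJ11194)) (BT.node 11195 (BT.leaf cJ11195) (BT.leaf cJ11196))) (BT.node 11199 (BT.node 11198 (BT.node 11197 (BT.leaf cJ11197) (BT.leaf cJ11198)) (BT.leaf cJ11199)) (BT.node 11200 (BT.leaf cJ11200) (BT.leaf cJ11201)))) (BT.node 11206 (BT.node 11204 (BT.node 11203 (BT.node 11202 (BT.leaf cJ11202) (BT.leaf cJ11203)) (BT.leaf cJ11204)) (BT.node 11205 (BT.leaf cJ11205) (BT.leaf cJ11206))) (BT.node 11209 (BT.node 11208 (BT.node 11207 (BT.leaf cJ11207) (BT.leaf cJ11208)) (BT.leaf cJ11209)) (BT.node 11210 (BT.leaf cJ11210) (BT.leaf cJ11211))))) (BT.node 11221 (BT.node 11216 (BT.node 11214 (BT.node 11213 (BT.node 11212 (BT.leaf cJ11212) (BT.leaf cJ11213)) (BT.leaf cJ11214)) (BT.node 11215 (BT.leaf cJ11215) (BT.leaf cJ11216))) (BT.node 11219 (BT.node 11218 (BT.node 11217 (BT.leaf cJ11217) (BT.leaf cJ11218)) (BT.leaf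 cJ11219)) (BT.node 11220 (BT.leaf cJ11220) (BT.leaf cJ11221)))) (BT.node 11226 (BT.node 11224 (BT.node 11223 (BT.node 11222 (BT.leaf cJ11222) (BT.leaf cJ11223)) (BT.leaf cJ11224)) (BT.node 11225 (BT.leaf cJ11225) (BT.leaf cJ11226))) (BT.node 11229 (BT.node 11228 (BT.node 11227 (BT.leaf cJ11227) (BT.leaf cJ11228)) (BT.leaf cJ11229)) (BT.node 11230 (BT.leaf cJ11230) (BT.leaf cJ11231))))))) (BT.node 11271 (BT.node 11251 (BT.node 11241 (BT.node 11236 (BT.node 11234 (BT.node 11233 (BT.node 11232 (BT.leaf cJ11232) (BT.leaf cJ11233)) (BT.leaf cJ11234)) (BT.node 11235 (BT.leaf cJ11235) (BT.leaf cJ11236))) (BT.node 11239 (BT.node 11238 (BT.node 11237 (BT.leaf cJ11237) (BT.leaf cJ11238)) (BT.leaf cJ11239)) (BT.node 11240 (BT.leaf cJ11240) (BT.leaf cJ11241)))) (BT.node 11246 (BT.node 11244 (BT.node 11243 (BT.node 11242 (BT.leaf cJ11242) (BT.leaf cJ11243)) (BT.leaf cJ11244)) (BT.node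 11245 (BT.leaf cJ11245) (BT.leaf cJ11246))) (BT.node 11249 (BT.node 11248 (BT.node 11247 (BT.leaf cJ11247) (BT.leaf cJ11248)) (BT.leaf cJ11249)) (BT.node 11250 (BT.leaf cJ11250) (BT.leaf cJ11251))))) (BT.node 11261 (BT.node 11256 (BT.node 11254 (BT.node 11253 (BT.node 11252 (BT.leaf cJ11252) (BT.leaf cJ11253)) (BT.leaf cJ11254)) (BT.node 11255 (BT.leaf cJ11255) (BT.leaf cJ11256))) (BT.node 11259 (BT.node 11258 (BT.node 11257 (BT.leaf cJ11257) (BT.leaf cJ11258)) (BT.leaf cJ11259)) (BT.node 11260 (BT.leaf cJ11260) (BT.leaf cJ11261)))) (BT.node 11266 (BT.node 11264 (BT.node 11263 (BT.node 11262 (BT.leaf cJ11262) (BT.leaf cJ11263)) (BT.leaf cJ11264)) (BT.node 11265 (BT.leaf cJ11265) (BT.leaf cJ11266))) (BT.node 11269 (BT.node 11268 (BT.node 11267 (BT.leaf cJ11267) (BT.leaf cJ11268)) (BT.leaf cJ11269)) (BT.node 11270 (BT.leaf cJ11270) (BT.leaf cJ11271)))))) (BT.node 11291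 (BT.node 11281 (BT.node 11276 (BT.node 11274 (BT.node 11273 (BT.node 11272 (BT.leaf cJ11272) (BT.leaf cJ11273)) (BT.leaf cJ11274)) (BT.node 11275 (BT.leaf cJ11275) (BT.leaf cJ11276))) (BT.node 11279 (BT.node 11278 (BT.node 11277 (BT.leaf cJ11277) (BT.leaf cJ11278)) (BT.leaf cJ11279)) (BT.node 11280 (BT.leaf cJ11280) (BT.leaf cJ11281)))) (BT.node 11286 (BT.node 11284 (BT.node 11283 (BT.node 11282 (BT.leaf cJ11282) (BT.leaf cJ11283)) (BT.leaf cJ11284)) (BT.node 11285 (BT.leaf cJ11285) (BT.leaf cJ11286))) (BT.node 11289 (BT.node 11288 (BT.node 11287 (BT.leaf cJ11287) (BT.leaf cJ11288)) (BT.leaf cJ11289)) (BT.node 11290 (BT.leaf cJ11290) (BT.leaf cJ11291))))) (BT.node 11301 (BT.node 11296 (BT.node 11294 (BT.node 11293 (BT.node 11292 (BT.leaf cJ11292) (BT.leaf cJ11293)) (BT.leaf cJ11294)) (BT.node 11295 (BT.leaf cJ11295) (BT.leaf cJ11296))) (BT.node 11299 (BT.node 11298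 (BT.node 11297 (BT.leaf cJ11297) (BT.leaf cJ11298)) (BT.leaf cJ11299)) (BT.node 11300 (BT.leaf cJ11300) (BT.leaf cJ11301)))) (BT.node 11306 (BT.node 11304 (BT.node 11303 (BT.node 11302 (BT.leaf cJ11302) (BT.leaf cJ11303)) (BT.leaf cJ11304)) (BT.node 11305 (BT.leaf cJ11305) (BT.leaf cJ11306))) (BT.node 11309 (BT.node 11308 (BT.node 11307 (BT.leaf cJ11307) (BT.leaf cJ11308)) (BT.leaf cJ11309)) (BT.node 11310 (BT.leaf cJ11310) (BT.leaf cJ11311))))))))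
noncomputable def colJT_70 : BT ℕ := (BT.node 11392 (BT.node 11352 (BT.node 11332 (BT.node 11322 (BT.node 11317 (BT.node 11314 (BT.node 11313 (BT.node 11312 (BT.leaf cJ11312) (BT.leaf cJ11313)) (BT.leaf cJ11314)) (BT.node 11316 (BT.node 11315 (BT.leaf cJ11315) (BT.leaf cJ11316)) (BT.leaf cJ11317))) (BT.node 11320 (BT.node 11319 (BT.node 11318 (BT.leaf cJ11318) (BT.leaf cJ11319)) (BT.leaf cJ11320)) (BT.node 11321 (BT.leaf cJ11321) (BT.leaf cJ11322)))) (BT.node 11327 (BT.node 11325 (BT.node 11324 (BT.node 11323 (BT.leaf cJ11323) (BT.leaf cJ11324)) (BT.leaf cJ11325)) (BT.node 11326 (BT.leaf cJ11326) (BT.leaf cJ11327))) (BT.node 11330 (BT.node 11329 (BT.node 11328 (BT.leaf cJ11328) (BT.leaf cJ11329)) (BT.leaf cJ11330)) (BT.node 11331 (BT.leaf cJ11331) (BT.leaf cJ11332))))) (BT.node 11342 (BT.node 11337 (BT.node 11335 (BT.node 11334 (BT.node 11333 (BT.leaf cJ11333) (BT.leaf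 cJ11334)) (BT.leaf cJ11335)) (BT.node 11336 (BT.leaf cJ11336) (BT.leaf cJ11337))) (BT.node 11340 (BT.node 11339 (BT.node 11338 (BT.leaf cJ11338) (BT.leaf cJ11339)) (BT.leaf cJ11340)) (BT.node 11341 (BT.leaf cJ11341) (BT.leaf cJ11342)))) (BT.node 11347 (BT.node 11345 (BT.node 11344 (BT.node 11343 (BT.leaf cJ11343) (BT.leaf cJ11344)) (BT.leaf cJ11345)) (BT.node 11346 (BT.leaf cJ11346) (BT.leaf cJ11347))) (BT.node 11350 (BT.node 11349 (BT.node 11348 (BT.leaf cJ11348) (BT.leaf cJ11349)) (BT.leaf cJ11350)) (BT.node 11351 (BT.leaf cJ11351) (BT.leaf cJ11352)))))) (BT.node 11372 (BT.node 11362 (BT.node 11357 (BT.node 11355 (BT.node 11354 (BT.node 11353 (BT.leaf cJ11353) (BT.leaf cJ11354)) (BT.leaf cJ11355)) (BT.node 11356 (BT.leaf cJ11356) (BT.leaf cJ11357))) (BT.node 11360 (BT.node 11359 (BT.node 11358 (BT.leaf cJ11358) (BT.leaf cJ11359)) (BT.leaf cJ11360)) (BT.node 11361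 (BT.leaf cJ11361) (BT.leaf cJ11362)))) (BT.node 11367 (BT.node 11365 (BT.node 11364 (BT.node 11363 (BT.leaf cJ11363) (BT.leaf cJ11364)) (BT.leaf cJ11365)) (BT.node 11366 (BT.leaf cJ11366) (BT.leaf cJ11367))) (BT.node 11370 (BT.node 11369 (BT.node 11368 (BT.leaf cJ11368) (BT.leaf cJ11369)) (BT.leaf cJ11370)) (BT.node 11371 (BT.leaf cJ11371) (BT.leaf cJ11372))))) (BT.node 11382 (BT.node 11377 (BT.node 11375 (BT.node 11374 (BT.node 11373 (BT.leaf cJ11373) (BT.leaf cJ11374)) (BT.leaf cJ11375)) (BT.node 11376 (BT.leaf cJ11376) (BT.leaf cJ11377))) (BT.node 11380 (BT.node 11379 (BT.node 11378 (BT.leaf cJ11378) (BT.leaf cJ11379)) (BT.leaf cJ11380)) (BT.node 11381 (BT.leaf cJ11381) (BT.leaf cJ11382)))) (BT.node 11387 (BT.node 11385 (BT.node 11384 (BT.node 11383 (BT.leaf cJ11383) (BT.leaf cJ11384)) (BT.leaf cJ11385)) (BT.node 11386 (BT.leaf cJ11386) (BT.leaf cJ11387))) (BT.node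 11390 (BT.node 11389 (BT.node 11388 (BT.leaf cJ11388) (BT.leaf cJ11389)) (BT.leaf cJ11390)) (BT.node 11391 (BT.leaf cJ11391) (BT.leaf cJ11392))))))) (BT.node 11433 (BT.node 11413 (BT.node 11403 (BT.node 11398 (BT.node 11395 (BT.node 11394 (BT.node 11393 (BT.leaf cJ11393) (BT.leaf cJ11394)) (BT.leaf cJ11395)) (BT.node 11397 (BT.node 11396 (BT.leaf cJ11396) (BT.leaf cJ11397)) (BT.leaf cJ11398))) (BT.node 11401 (BT.node 11400 (BT.node 11399 (BT.leaf cJ11399) (BT.leaf cJ11400)) (BT.leaf cJ11401)) (BT.node 11402 (BT.leaf cJ11402) (BT.leaf cJ11403)))) (BT.node 11408 (BT.node 11406 (BT.node 11405 (BT.node 11404 (BT.leaf cJ11404) (BT.leaf cJ11405)) (BT.leaf cJ11406)) (BT.node 11407 (BT.leaf cJ11407) (BT.leaf cJ11408))) (BT.node 11411 (BT.node 11410 (BT.node 11409 (BT.leaf cJ11409) (BT.leaf cJ11410)) (BT.leaf cJ11411)) (BT.node 11412 (BT.leaf cJ11412) (BT.leaf cJ11413)))))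 (BT.node 11423 (BT.node 11418 (BT.node 11416 (BT.node 11415 (BT.node 11414 (BT.leaf cJ11414) (BT.leaf cJ11415)) (BT.leaf cJ11416)) (BT.node 11417 (BT.leaf cJ11417) (BT.leaf cJ11418))) (BT.node 11421 (BT.node 11420 (BT.node 11419 (BT.leaf cJ11419) (BT.leaf cJ11420)) (BT.leaf cJ11421)) (BT.node 11422 (BT.leaf cJ11422) (BT.leaf cJ11423)))) (BT.node 11428 (BT.node 11426 (BT.node 11425 (BT.node 11424 (BT.leaf cJ11424) (BT.leaf cJ11425)) (BT.leaf cJ11426)) (BT.node 11427 (BT.leaf cJ11427) (BT.leaf cJ11428))) (BT.node 11431 (BT.node 11430 (BT.node 11429 (BT.leaf cJ11429) (BT.leaf cJ11430)) (BT.leaf cJ11431)) (BT.node 11432 (BT.leaf cJ11432) (BT.leaf cJ11433)))))) (BT.node 11453 (BT.node 11443 (BT.node 11438 (BT.node 11436 (BT.node 11435 (BT.node 11434 (BT.leaf cJ11434) (BT.leaf cJ11435)) (BT.leaf cJ11436)) (BT.node 11437 (BT.leaf cJ11437) (BT.leaf cJ11438))) (BT.node 11441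 (BT.node 11440 (BT.node 11439 (BT.leaf cJ11439) (BT.leaf cJ11440)) (BT.leaf cJ11441)) (BT.node 11442 (BT.leaf cJ11442) (BT.leaf cJ11443)))) (BT.node 11448 (BT.node 11446 (BT.node 11445 (BT.node 11444 (BT.leaf cJ11444) (BT.leaf cJ11445)) (BT.leaf cJ11446)) (BT.node 11447 (BT.leaf cJ11447) (BT.leaf cJ11448))) (BT.node 11451 (BT.node 11450 (BT.node 11449 (BT.leaf cJ11449) (BT.leaf cJ11450)) (BT.leaf cJ11451)) (BT.node 11452 (BT.leaf cJ11452) (BT.leaf cJ11453))))) (BT.node 11463 (BT.node 11458 (BT.node 11456 (BT.node 11455 (BT.node 11454 (BT.leaf cJ11454) (BT.leaf cJ11455)) (BT.leaf cJ11456)) (BT.node 11457 (BT.leaf cJ11457) (BT.leaf cJ11458))) (BT.node 11461 (BT.node 11460 (BT.node 11459 (BT.leaf cJ11459) (BT.leaf cJ11460)) (BT.leaf cJ11461)) (BT.node 11462 (BT.leaf cJ11462) (BT.leaf cJ11463)))) (BT.node 11468 (BT.node 11466 (BT.node 11465 (BT.node 11464 (BT.leaf cJ11464)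 (BT.leaf cJ11465)) (BT.leaf cJ11466)) (BT.node 11467 (BT.leaf cJ11467) (BT.leaf cJ11468))) (BT.node 11471 (BT.node 11470 (BT.node 11469 (BT.leaf cJ11469) (BT.leaf cJ11470)) (BT.leaf cJ11471)) (BT.node 11472 (BT.leaf cJ11472) (BT.leaf cJ11473))))))))
noncomputable def colJT_71 : BT ℕ := (BT.node 11554 (BT.node 11514 (BT.node 11494 (BT.node 11484 (BT.node 11479 (BT.node 11476 (BT.node 11475 (BT.node 11474 (BT.leaf cJ11474) (BT.leaf cJ11475)) (BT.leaf cJ11476)) (BT.node 11478 (BT.node 11477 (BT.leaf cJ11477) (BT.leaf cJ11478)) (BT.leaf cJ11479))) (BT.node 11482 (BT.node 11481 (BT.node 11480 (BT.leaf cJ11480) (BT.leaf cJ11481)) (BT.leaf cJ11482)) (BT.node 11483 (BT.leaf cJ11483) (BT.leaf cJ11484)))) (BT.node 11489 (BT.node 11487 (BT.node 11486 (BT.node 11485 (BT.leaf cJ11485) (BT.leaf cJ11486)) (BT.leaf cJ11487)) (BT.node 11488 (BT.leaf cJ11488) (BT.leaf cJ11489))) (BT.node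 11492 (BT.node 11491 (BT.node 11490 (BT.leaf cJ11490) (BT.leaf cJ11491)) (BT.leaf cJ11492)) (BT.node 11493 (BT.leaf cJ11493) (BT.leaf cJ11494))))) (BT.node 11504 (BT.node 11499 (BT.node 11497 (BT.node 11496 (BT.node 11495 (BT.leaf cJ11495) (BT.leaf cJ11496)) (BT.leaf cJ11497)) (BT.node 11498 (BT.leaf cJ11498) (BT.leaf cJ11499))) (BT.node 11502 (BT.node 11501 (BT.node 11500 (BT.leaf cJ11500) (BT.leaf cJ11501)) (BT.leaf cJ11502)) (BT.node 11503 (BT.leaf cJ11503) (BT.leaf cJ11504)))) (BT.node 11509 (BT.node 11507 (BT.node 11506 (BT.node 11505 (BT.leaf cJ11505) (BT.leaf cJ11506)) (BT.leaf cJ11507)) (BT.node 11508 (BT.leaf cJ11508) (BT.leaf cJ11509))) (BT.node 11512 (BT.node 11511 (BT.node 11510 (BT.leaf cJ11510) (BT.leaf cJ11511)) (BT.leaf cJ11512)) (BT.node 11513 (BT.leaf cJ11513) (BT.leaf cJ11514)))))) (BT.node 11534 (BT.node 11524 (BT.node 11519 (BT.node 11517 (BT.node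 11516 (BT.node 11515 (BT.leaf cJ11515) (BT.leaf cJ11516)) (BT.leaf cJ11517)) (BT.node 11518 (BT.leaf cJ11518) (BT.leaf cJ11519))) (BT.node 11522 (BT.node 11521 (BT.node 11520 (BT.leaf cJ11520) (BT.leaf cJ11521)) (BT.leaf cJ11522)) (BT.node 11523 (BT.leaf cJ11523) (BT.leaf cJ11524)))) (BT.node 11529 (BT.node 11527 (BT.node 11526 (BT.node 11525 (BT.leaf cJ11525) (BT.leaf cJ11526)) (BT.leaf cJ11527)) (BT.node 11528 (BT.leaf cJ11528) (BT.leaf cJ11529))) (BT.node 11532 (BT.node 11531 (BT.node 11530 (BT.leaf cJ11530) (BT.leaf cJ11531)) (BT.leaf cJ11532)) (BT.node 11533 (BT.leaf cJ11533) (BT.leaf cJ11534))))) (BT.node 11544 (BT.node 11539 (BT.node 11537 (BT.node 11536 (BT.node 11535 (BT.leaf cJ11535) (BT.leaf cJ11536)) (BT.leaf cJ11537)) (BT.node 11538 (BT.leaf cJ11538) (BT.leaf cJ11539))) (BT.node 11542 (BT.node 11541 (BT.node 11540 (BT.leaf cJ11540) (BT.leaf cJ11541)) (BT.leaf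 cJ11542)) (BT.node 11543 (BT.leaf cJ11543) (BT.leaf cJ11544)))) (BT.node 11549 (BT.node 11547 (BT.node 11546 (BT.node 11545 (BT.leaf cJ11545) (BT.leaf cJ11546)) (BT.leaf cJ11547)) (BT.node 11548 (BT.leaf cJ11548) (BT.leaf cJ11549))) (BT.node 11552 (BT.node 11551 (BT.node 11550 (BT.leaf cJ11550) (BT.leaf cJ11551)) (BT.leaf cJ11552)) (BT.node 11553 (BT.leaf cJ11553) (BT.leaf cJ11554))))))) (BT.node 11594 (BT.node 11574 (BT.node 11564 (BT.node 11559 (BT.node 11557 (BT.node 11556 (BT.node 11555 (BT.leaf cJ11555) (BT.leaf cJ11556)) (BT.leaf cJ11557)) (BT.node 11558 (BT.leaf cJ11558) (BT.leaf cJ11559))) (BT.node 11562 (BT.node 11561 (BT.node 11560 (BT.leaf cJ11560) (BT.leaf cJ11561)) (BT.leaf cJ11562)) (BT.node 11563 (BT.leaf cJ11563) (BT.leaf cJ11564)))) (BT.node 11569 (BT.node 11567 (BT.node 11566 (BT.node 11565 (BT.leaf cJ11565) (BT.leaf cJ11566)) (BT.leaf cJ11567)) (BT.node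 11568 (BT.leaf cJ11568) (BT.leaf cJ11569))) (BT.node 11572 (BT.node 11571 (BT.node 11570 (BT.leaf cJ11570) (BT.leaf cJ11571)) (BT.leaf cJ11572)) (BT.node 11573 (BT.leaf cJ11573) (BT.leaf cJ11574))))) (BT.node 11584 (BT.node 11579 (BT.node 11577 (BT.node 11576 (BT.node 11575 (BT.leaf cJ11575) (BT.leaf cJ11576)) (BT.leaf cJ11577)) (BT.node 11578 (BT.leaf cJ11578) (BT.leaf cJ11579))) (BT.node 11582 (BT.node 11581 (BT.node 11580 (BT.leaf cJ11580) (BT.leaf cJ11581)) (BT.leaf cJ11582)) (BT.node 11583 (BT.leaf cJ11583) (BT.leaf cJ11584)))) (BT.node 11589 (BT.node 11587 (BT.node 11586 (BT.node 11585 (BT.leaf cJ11585) (BT.leaf cJ11586)) (BT.leaf cJ11587)) (BT.node 11588 (BT.leaf cJ11588) (BT.leaf cJ11589))) (BT.node 11592 (BT.node 11591 (BT.node 11590 (BT.leaf cJ11590) (BT.leaf cJ11591)) (BT.leaf cJ11592)) (BT.node 11593 (BT.leaf cJ11593) (BT.leaf cJ11594)))))) (BT.node 11614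 (BT.node 11604 (BT.node 11599 (BT.node 11597 (BT.node 11596 (BT.node 11595 (BT.leaf cJ11595) (BT.leaf cJ11596)) (BT.leaf cJ11597)) (BT.node 11598 (BT.leaf cJ11598) (BT.leaf cJ11599))) (BT.node 11602 (BT.node 11601 (BT.node 11600 (BT.leaf cJ11600) (BT.leaf cJ11601)) (BT.leaf cJ11602)) (BT.node 11603 (BT.leaf cJ11603) (BT.leaf cJ11604)))) (BT.node 11609 (BT.node 11607 (BT.node 11606 (BT.node 11605 (BT.leaf cJ11605) (BT.leaf cJ11606)) (BT.leaf cJ11607)) (BT.node 11608 (BT.leaf cJ11608) (BT.leaf cJ11609))) (BT.node 11612 (BT.node 11611 (BT.node 11610 (BT.leaf cJ11610) (BT.leaf cJ11611)) (BT.leaf cJ11612)) (BT.node 11613 (BT.leaf cJ11613) (BT.leaf cJ11614))))) (BT.node 11624 (BT.node 11619 (BT.node 11617 (BT.node 11616 (BT.node 11615 (BT.leaf cJ11615) (BT.leaf cJ11616)) (BT.leaf cJ11617)) (BT.node 11618 (BT.leaf cJ11618) (BT.leaf cJ11619))) (BT.node 11622 (BT.node 11621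 (BT.node 11620 (BT.leaf cJ11620) (BT.leaf cJ11621)) (BT.leaf cJ11622)) (BT.node 11623 (BT.leaf cJ11623) (BT.leaf cJ11624)))) (BT.node 11629 (BT.node 11627 (BT.node 11626 (BT.node 11625 (BT.leaf cJ11625) (BT.leaf cJ11626)) (BT.leaf cJ11627)) (BT.node 11628 (BT.leaf cJ11628) (BT.leaf cJ11629))) (BT.node 11632 (BT.node 11631 (BT.node 11630 (BT.leaf cJ11630) (BT.leaf cJ11631)) (BT.leaf cJ11632)) (BT.node 11633 (BT.leaf cJ11633) (BT.leaf cJ11634))))))))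
noncomputable def colJT_72 : BT ℕ := (BT.node 11715 (BT.node 11675 (BT.node 11655 (BT.node 11645 (BT.node 11640 (BT.node 11637 (BT.node 11636 (BT.node 11635 (BT.leaf cJ11635) (BT.leaf cJ11636)) (BT.leaf cJ11637)) (BT.node 11639 (BT.node 11638 (BT.leaf cJ11638) (BT.leaf cJ11639)) (BT.leaf cJ11640))) (BT.node 11643 (BT.node 11642 (BT.node 11641 (BT.leaf cJ11641) (BT.leaf cJ11642)) (BT.leaf cJ11643)) (BT.node 11644 (BT.leaf cJ11644) (BT.leaf cJ11645)))) (BT.node 11650 (BT.node 11648 (BT.node 11647 (BT.node 11646 (BT.leaf cJ11646) (BT.leaf cJ11647)) (BT.leaf cJ11648)) (BT.node 11649 (BT.leaf cJ11649) (BT.leaf cJ11650))) (BT.node 11653 (BT.node 11652 (BT.node 11651 (BT.leaf cJ11651) (BT.leaf cJ11652)) (BT.leaf cJ11653)) (BT.node 11654 (BT.leaf cJ11654) (BT.leaf cJ11655))))) (BT.node 11665 (BT.node 11660 (BT.node 11658 (BT.node 11657 (BT.node 11656 (BT.leaf cJ11656) (BT.leaf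 cJ11657)) (BT.leaf cJ11658)) (BT.node 11659 (BT.leaf cJ11659) (BT.leaf cJ11660))) (BT.node 11663 (BT.node 11662 (BT.node 11661 (BT.leaf cJ11661) (BT.leaf cJ11662)) (BT.leaf cJ11663)) (BT.node 11664 (BT.leaf cJ11664) (BT.leaf cJ11665)))) (BT.node 11670 (BT.node 11668 (BT.node 11667 (BT.node 11666 (BT.leaf cJ11666) (BT.leaf cJ11667)) (BT.leaf cJ11668)) (BT.node 11669 (BT.leaf cJ11669) (BT.leaf cJ11670))) (BT.node 11673 (BT.node 11672 (BT.node 11671 (BT.leaf cJ11671) (BT.leaf cJ11672)) (BT.leaf cJ11673)) (BT.node 11674 (BT.leaf cJ11674) (BT.leaf cJ11675)))))) (BT.node 11695 (BT.node 11685 (BT.node 11680 (BT.node 11678 (BT.node 11677 (BT.node 11676 (BT.leaf cJ11676) (BT.leaf cJ11677)) (BT.leaf cJ11678)) (BT.node 11679 (BT.leaf cJ11679) (BT.leaf cJ11680))) (BT.node 11683 (BT.node 11682 (BT.node 11681 (BT.leaf cJ11681) (BT.leaf cJ11682)) (BT.leaf cJ11683)) (BT.node 11684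 (BT.leaf cJ11684) (BT.leaf cJ11685)))) (BT.node 11690 (BT.node 11688 (BT.node 11687 (BT.node 11686 (BT.leaf cJ11686) (BT.leaf cJ11687)) (BT.leaf cJ11688)) (BT.node 11689 (BT.leaf cJ11689) (BT.leaf cJ11690))) (BT.node 11693 (BT.node 11692 (BT.node 11691 (BT.leaf cJ11691) (BT.leaf cJ11692)) (BT.leaf cJ11693)) (BT.node 11694 (BT.leaf cJ11694) (BT.leaf cJ11695))))) (BT.node 11705 (BT.node 11700 (BT.node 11698 (BT.node 11697 (BT.node 11696 (BT.leaf cJ11696) (BT.leaf cJ11697)) (BT.leaf cJ11698)) (BT.node 11699 (BT.leaf cJ11699) (BT.leaf cJ11700))) (BT.node 11703 (BT.node 11702 (BT.node 11701 (BT.leaf cJ11701) (BT.leaf cJ11702)) (BT.leaf cJ11703)) (BT.node 11704 (BT.leaf cJ11704) (BT.leaf cJ11705)))) (BT.node 11710 (BT.node 11708 (BT.node 11707 (BT.node 11706 (BT.leaf cJ11706) (BT.leaf cJ11707)) (BT.leaf cJ11708)) (BT.node 11709 (BT.leaf cJ11709) (BT.leaf cJ11710))) (BT.node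 11713 (BT.node 11712 (BT.node 11711 (BT.leaf cJ11711) (BT.leaf cJ11712)) (BT.leaf cJ11713)) (BT.node 11714 (BT.leaf cJ11714) (BT.leaf cJ11715))))))) (BT.node 11756 (BT.node 11736 (BT.node 11726 (BT.node 11721 (BT.node 11718 (BT.node 11717 (BT.node 11716 (BT.leaf cJ11716) (BT.leaf cJ11717)) (BT.leaf cJ11718)) (BT.node 11720 (BT.node 11719 (BT.leaf cJ11719) (BT.leaf cJ11720)) (BT.leaf cJ11721))) (BT.node 11724 (BT.node 11723 (BT.node 11722 (BT.leaf cJ11722) (BT.leaf cJ11723)) (BT.leaf cJ11724)) (BT.node 11725 (BT.leaf cJ11725) (BT.leaf cJ11726)))) (BT.node 11731 (BT.node 11729 (BT.node 11728 (BT.node 11727 (BT.leaf cJ11727) (BT.leaf cJ11728)) (BT.leaf cJ11729)) (BT.node 11730 (BT.leaf cJ11730) (BT.leaf cJ11731))) (BT.node 11734 (BT.node 11733 (BT.node 11732 (BT.leaf cJ11732) (BT.leaf cJ11733)) (BT.leaf cJ11734)) (BT.node 11735 (BT.leaf cJ11735) (BT.leaf cJ11736)))))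 (BT.node 11746 (BT.node 11741 (BT.node 11739 (BT.node 11738 (BT.node 11737 (BT.leaf cJ11737) (BT.leaf cJ11738)) (BT.leaf cJ11739)) (BT.node 11740 (BT.leaf cJ11740) (BT.leaf cJ11741))) (BT.node 11744 (BT.node 11743 (BT.node 11742 (BT.leaf cJ11742) (BT.leaf cJ11743)) (BT.leaf cJ11744)) (BT.node 11745 (BT.leaf cJ11745) (BT.leaf cJ11746)))) (BT.node 11751 (BT.node 11749 (BT.node 11748 (BT.node 11747 (BT.leaf cJ11747) (BT.leaf cJ11748)) (BT.leaf cJ11749)) (BT.node 11750 (BT.leaf cJ11750) (BT.leaf cJ11751))) (BT.node 11754 (BT.node 11753 (BT.node 11752 (BT.leaf cJ11752) (BT.leaf cJ11753)) (BT.leaf cJ11754)) (BT.node 11755 (BT.leaf cJ11755) (BT.leaf cJ11756)))))) (BT.node 11776 (BT.node 11766 (BT.node 11761 (BT.node 11759 (BT.node 11758 (BT.node 11757 (BT.leaf cJ11757) (BT.leaf cJ11758)) (BT.leaf cJ11759)) (BT.node 11760 (BT.leaf cJ11760) (BT.leaf cJ11761))) (BT.node 11764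 (BT.node 11763 (BT.node 11762 (BT.leaf cJ11762) (BT.leaf cJ11763)) (BT.leaf cJ11764)) (BT.node 11765 (BT.leaf cJ11765) (BT.leaf cJ11766)))) (BT.node 11771 (BT.node 11769 (BT.node 11768 (BT.node 11767 (BT.leaf cJ11767) (BT.leaf cJ11768)) (BT.leaf cJ11769)) (BT.node 11770 (BT.leaf cJ11770) (BT.leaf cJ11771))) (BT.node 11774 (BT.node 11773 (BT.node 11772 (BT.leaf cJ11772) (BT.leaf cJ11773)) (BT.leaf cJ11774)) (BT.node 11775 (BT.leaf cJ11775) (BT.leaf cJ11776))))) (BT.node 11786 (BT.node 11781 (BT.node 11779 (BT.node 11778 (BT.node 11777 (BT.leaf cJ11777) (BT.leaf cJ11778)) (BT.leaf cJ11779)) (BT.node 11780 (BT.leaf cJ11780) (BT.leaf cJ11781))) (BT.node 11784 (BT.node 11783 (BT.node 11782 (BT.leaf cJ11782) (BT.leaf cJ11783)) (BT.leaf cJ11784)) (BT.node 11785 (BT.leaf cJ11785) (BT.leaf cJ11786)))) (BT.node 11791 (BT.node 11789 (BT.node 11788 (BT.node 11787 (BT.leaf cJ11787)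 (BT.leaf cJ11788)) (BT.leaf cJ11789)) (BT.node 11790 (BT.leaf cJ11790) (BT.leaf cJ11791))) (BT.node 11794 (BT.node 11793 (BT.node 11792 (BT.leaf cJ11792) (BT.leaf cJ11793)) (BT.leaf cJ11794)) (BT.node 11795 (BT.leaf cJ11795) (BT.leaf cJ11796))))))))
noncomputable def colJT_73 : BT ℕ := (BT.node 11877 (BT.node 11837 (BT.node 11817 (BT.node 11807 (BT.node 11802 (BT.node 11799 (BT.node 11798 (BT.node 11797 (BT.leaf cJ11797) (BT.leaf cJ11798)) (BT.leaf cJ11799)) (BT.node 11801 (BT.node 11800 (BT.leaf cJ11800) (BT.leaf cJ11801)) (BT.leaf cJ11802))) (BT.node 11805 (BT.node 11804 (BT.node 11803 (BT.leaf cJ11803) (BT.leaf cJ11804)) (BT.leaf cJ11805)) (BT.node 11806 (BT.leaf cJ11806) (BT.leaf cJ11807)))) (BT.node 11812 (BT.node 11810 (BT.node 11809 (BT.node 11808 (BT.leaf cJ11808) (BT.leaf cJ11809)) (BT.leaf cJ11810)) (BT.node 11811 (BT.leaf cJ11811) (BT.leaf cJ11812))) (BT.node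 11815 (BT.node 11814 (BT.node 11813 (BT.leaf cJ11813) (BT.leaf cJ11814)) (BT.leaf cJ11815)) (BT.node 11816 (BT.leaf cJ11816) (BT.leaf cJ11817))))) (BT.node 11827 (BT.node 11822 (BT.node 11820 (BT.node 11819 (BT.node 11818 (BT.leaf cJ11818) (BT.leaf cJ11819)) (BT.leaf cJ11820)) (BT.node 11821 (BT.leaf cJ11821) (BT.leaf cJ11822))) (BT.node 11825 (BT.node 11824 (BT.node 11823 (BT.leaf cJ11823) (BT.leaf cJ11824)) (BT.leaf cJ11825)) (BT.node 11826 (BT.leaf cJ11826) (BT.leaf cJ11827)))) (BT.node 11832 (BT.node 11830 (BT.node 11829 (BT.node 11828 (BT.leaf cJ11828) (BT.leaf cJ11829)) (BT.leaf cJ11830)) (BT.node 11831 (BT.leaf cJ11831) (BT.leaf cJ11832))) (BT.node 11835 (BT.node 11834 (BT.node 11833 (BT.leaf cJ11833) (BT.leaf cJ11834)) (BT.leaf cJ11835)) (BT.node 11836 (BT.leaf cJ11836) (BT.leaf cJ11837)))))) (BT.node 11857 (BT.node 11847 (BT.node 11842 (BT.node 11840 (BT.node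 11839 (BT.node 11838 (BT.leaf cJ11838) (BT.leaf cJ11839)) (BT.leaf cJ11840)) (BT.node 11841 (BT.leaf cJ11841) (BT.leaf cJ11842))) (BT.node 11845 (BT.node 11844 (BT.node 11843 (BT.leaf cJ11843) (BT.leaf cJ11844)) (BT.leaf cJ11845)) (BT.node 11846 (BT.leaf cJ11846) (BT.leaf cJ11847)))) (BT.node 11852 (BT.node 11850 (BT.node 11849 (BT.node 11848 (BT.leaf cJ11848) (BT.leaf cJ11849)) (BT.leaf cJ11850)) (BT.node 11851 (BT.leaf cJ11851) (BT.leaf cJ11852))) (BT.node 11855 (BT.node 11854 (BT.node 11853 (BT.leaf cJ11853) (BT.leaf cJ11854)) (BT.leaf cJ11855)) (BT.node 11856 (BT.leaf cJ11856) (BT.leaf cJ11857))))) (BT.node 11867 (BT.node 11862 (BT.node 11860 (BT.node 11859 (BT.node 11858 (BT.leaf cJ11858) (BT.leaf cJ11859)) (BT.leaf cJ11860)) (BT.node 11861 (BT.leaf cJ11861) (BT.leaf cJ11862))) (BT.node 11865 (BT.node 11864 (BT.node 11863 (BT.leaf cJ11863) (BT.leaf cJ11864)) (BT.leaf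 cJ11865)) (BT.node 11866 (BT.leaf cJ11866) (BT.leaf cJ11867)))) (BT.node 11872 (BT.node 11870 (BT.node 11869 (BT.node 11868 (BT.leaf cJ11868) (BT.leaf cJ11869)) (BT.leaf cJ11870)) (BT.node 11871 (BT.leaf cJ11871) (BT.leaf cJ11872))) (BT.node 11875 (BT.node 11874 (BT.node 11873 (BT.leaf cJ11873) (BT.leaf cJ11874)) (BT.leaf cJ11875)) (BT.node 11876 (BT.leaf cJ11876) (BT.leaf cJ11877))))))) (BT.node 11918 (BT.node 11898 (BT.node 11888 (BT.node 11883 (BT.node 11880 (BT.node 11879 (BT.node 11878 (BT.leaf cJ11878) (BT.leaf cJ11879)) (BT.leaf cJ11880)) (BT.node 11882 (BT.node 11881 (BT.leaf cJ11881) (BT.leaf cJ11882)) (BT.leaf cJ11883))) (BT.node 11886 (BT.node 11885 (BT.node 11884 (BT.leaf cJ11884) (BT.leaf cJ11885)) (BT.leaf cJ11886)) (BT.node 11887 (BT.leaf cJ11887) (BT.leaf cJ11888)))) (BT.node 11893 (BT.node 11891 (BT.node 11890 (BT.node 11889 (BT.leaf cJ11889) (BT.leaf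 cJ11890)) (BT.leaf cJ11891)) (BT.node 11892 (BT.leaf cJ11892) (BT.leaf cJ11893))) (BT.node 11896 (BT.node 11895 (BT.node 11894 (BT.leaf cJ11894) (BT.leaf cJ11895)) (BT.leaf cJ11896)) (BT.node 11897 (BT.leaf cJ11897) (BT.leaf cJ11898))))) (BT.node 11908 (BT.node 11903 (BT.node 11901 (BT.node 11900 (BT.node 11899 (BT.leaf cJ11899) (BT.leaf cJ11900)) (BT.leaf cJ11901)) (BT.node 11902 (BT.leaf cJ11902) (BT.leaf cJ11903))) (BT.node 11906 (BT.node 11905 (BT.node 11904 (BT.leaf cJ11904) (BT.leaf cJ11905)) (BT.leaf cJ11906)) (BT.node 11907 (BT.leaf cJ11907) (BT.leaf cJ11908)))) (BT.node 11913 (BT.node 11911 (BT.node 11910 (BT.node 11909 (BT.leaf cJ11909) (BT.leaf cJ11910)) (BT.leaf cJ11911)) (BT.node 11912 (BT.leaf cJ11912) (BT.leaf cJ11913))) (BT.node 11916 (BT.node 11915 (BT.node 11914 (BT.leaf cJ11914) (BT.leaf cJ11915)) (BT.leaf cJ11916)) (BT.node 11917 (BT.leaf cJ11917)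 (BT.leaf cJ11918)))))) (BT.node 11938 (BT.node 11928 (BT.node 11923 (BT.node 11921 (BT.node 11920 (BT.node 11919 (BT.leaf cJ11919) (BT.leaf cJ11920)) (BT.leaf cJ11921)) (BT.node 11922 (BT.leaf cJ11922) (BT.leaf cJ11923))) (BT.node 11926 (BT.node 11925 (BT.node 11924 (BT.leaf cJ11924) (BT.leaf cJ11925)) (BT.leaf cJ11926)) (BT.node 11927 (BT.leaf cJ11927) (BT.leaf cJ11928)))) (BT.node 11933 (BT.node 11931 (BT.node 11930 (BT.node 11929 (BT.leaf cJ11929) (BT.leaf cJ11930)) (BT.leaf cJ11931)) (BT.node 11932 (BT.leaf cJ11932) (BT.leaf cJ11933))) (BT.node 11936 (BT.node 11935 (BT.node 11934 (BT.leaf cJ11934) (BT.leaf cJ11935)) (BT.leaf cJ11936)) (BT.node 11937 (BT.leaf cJ11937) (BT.leaf cJ11938))))) (BT.node 11948 (BT.node 11943 (BT.node 11941 (BT.node 11940 (BT.node 11939 (BT.leaf cJ11939) (BT.leaf cJ11940)) (BT.leaf cJ11941)) (BT.node 11942 (BT.leaf cJ11942) (BT.leaf cJ11943)))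 (BT.node 11946 (BT.node 11945 (BT.node 11944 (BT.leaf cJ11944) (BT.leaf cJ11945)) (BT.leaf cJ11946)) (BT.node 11947 (BT.leaf cJ11947) (BT.leaf cJ11948)))) (BT.node 11953 (BT.node 11951 (BT.node 11950 (BT.node 11949 (BT.leaf cJ11949) (BT.leaf cJ11950)) (BT.leaf cJ11951)) (BT.node 11952 (BT.leaf cJ11952) (BT.leaf cJ11953))) (BT.node 11956 (BT.node 11955 (BT.node 11954 (BT.leaf cJ11954) (BT.leaf cJ11955)) (BT.leaf cJ11956)) (BT.node 11957 (BT.leaf cJ11957) (BT.leaf cJ11958))))))))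
noncomputable def colJT_74 : BT ℕ := (BT.node 12039 (BT.node 11999 (BT.node 11979 (BT.node 11969 (BT.node 11964 (BT.node 11961 (BT.node 11960 (BT.node 11959 (BT.leaf cJ11959) (BT.leaf cJ11960)) (BT.leaf cJ11961)) (BT.node 11963 (BT.node 11962 (BT.leaf cJ11962) (BT.leaf cJ11963)) (BT.leaf cJ11964))) (BT.node 11967 (BT.node 11966 (BT.node 11965 (BT.leaf cJ11965) (BT.leaf cJ11966)) (BT.leaf cJ11967)) (BT.node 11968 (BT.leaf cJ11968) (BT.leaf cJ11969)))) (BT.node 11974 (BT.node 11972 (BT.node 11971 (BT.node 11970 (BT.leaf cJ11970) (BT.leaf cJ11971)) (BT.leaf cJ11972)) (BT.node 11973 (BT.leaf cJ11973) (BT.leaf cJ11974))) (BT.node 11977 (BT.node 11976 (BT.node 11975 (BT.leaf cJ11975) (BT.leaf cJ11976)) (BT.leaf cJ11977)) (BT.node 11978 (BT.leaf cJ11978) (BT.leaf cJ11979))))) (BT.node 11989 (BT.node 11984 (BT.node 11982 (BT.node 11981 (BT.node 11980 (BT.leaf cJ11980) (BT.leaf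 cJ11981)) (BT.leaf cJ11982)) (BT.node 11983 (BT.leaf cJ11983) (BT.leaf cJ11984))) (BT.node 11987 (BT.node 11986 (BT.node 11985 (BT.leaf cJ11985) (BT.leaf cJ11986)) (BT.leaf cJ11987)) (BT.node 11988 (BT.leaf cJ11988) (BT.leaf cJ11989)))) (BT.node 11994 (BT.node 11992 (BT.node 11991 (BT.node 11990 (BT.leaf cJ11990) (BT.leaf cJ11991)) (BT.leaf cJ11992)) (BT.node 11993 (BT.leaf cJ11993) (BT.leaf cJ11994))) (BT.node 11997 (BT.node 11996 (BT.node 11995 (BT.leaf cJ11995) (BT.leaf cJ11996)) (BT.leaf cJ11997)) (BT.node 11998 (BT.leaf cJ11998) (BT.leaf cJ11999)))))) (BT.node 12019 (BT.node 12009 (BT.node 12004 (BT.node 12002 (BT.node 12001 (BT.node 12000 (BT.leaf cJ12000) (BT.leaf cJ12001)) (BT.leaf cJ12002)) (BT.node 12003 (BT.leaf cJ12003) (BT.leaf cJ12004))) (BT.node 12007 (BT.node 12006 (BT.node 12005 (BT.leaf cJ12005) (BT.leaf cJ12006)) (BT.leaf cJ12007)) (BT.node 12008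 (BT.leaf cJ12008) (BT.leaf cJ12009)))) (BT.node 12014 (BT.node 12012 (BT.node 12011 (BT.node 12010 (BT.leaf cJ12010) (BT.leaf cJ12011)) (BT.leaf cJ12012)) (BT.node 12013 (BT.leaf cJ12013) (BT.leaf cJ12014))) (BT.node 12017 (BT.node 12016 (BT.node 12015 (BT.leaf cJ12015) (BT.leaf cJ12016)) (BT.leaf cJ12017)) (BT.node 12018 (BT.leaf cJ12018) (BT.leaf cJ12019))))) (BT.node 12029 (BT.node 12024 (BT.node 12022 (BT.node 12021 (BT.node 12020 (BT.leaf cJ12020) (BT.leaf cJ12021)) (BT.leaf cJ12022)) (BT.node 12023 (BT.leaf cJ12023) (BT.leaf cJ12024))) (BT.node 12027 (BT.node 12026 (BT.node 12025 (BT.leaf cJ12025) (BT.leaf cJ12026)) (BT.leaf cJ12027)) (BT.node 12028 (BT.leaf cJ12028) (BT.leaf cJ12029)))) (BT.node 12034 (BT.node 12032 (BT.node 12031 (BT.node 12030 (BT.leaf cJ12030) (BT.leaf cJ12031)) (BT.leaf cJ12032)) (BT.node 12033 (BT.leaf cJ12033) (BT.leaf cJ12034))) (BT.node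 12037 (BT.node 12036 (BT.node 12035 (BT.leaf cJ12035) (BT.leaf cJ12036)) (BT.leaf cJ12037)) (BT.node 12038 (BT.leaf cJ12038) (BT.leaf cJ12039))))))) (BT.node 12080 (BT.node 12060 (BT.node 12050 (BT.node 12045 (BT.node 12042 (BT.node 12041 (BT.node 12040 (BT.leaf cJ12040) (BT.leaf cJ12041)) (BT.leaf cJ12042)) (BT.node 12044 (BT.node 12043 (BT.leaf cJ12043) (BT.leaf cJ12044)) (BT.leaf cJ12045))) (BT.node 12048 (BT.node 12047 (BT.node 12046 (BT.leaf cJ12046) (BT.leaf cJ12047)) (BT.leaf cJ12048)) (BT.node 12049 (BT.leaf cJ12049) (BT.leaf cJ12050)))) (BT.node 12055 (BT.node 12053 (BT.node 12052 (BT.node 12051 (BT.leaf cJ12051) (BT.leaf cJ12052)) (BT.leaf cJ12053)) (BT.node 12054 (BT.leaf cJ12054) (BT.leaf cJ12055))) (BT.node 12058 (BT.node 12057 (BT.node 12056 (BT.leaf cJ12056) (BT.leaf cJ12057)) (BT.leaf cJ12058)) (BT.node 12059 (BT.leaf cJ12059) (BT.leaf cJ12060)))))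 (BT.node 12070 (BT.node 12065 (BT.node 12063 (BT.node 12062 (BT.node 12061 (BT.leaf cJ12061) (BT.leaf cJ12062)) (BT.leaf cJ12063)) (BT.node 12064 (BT.leaf cJ12064) (BT.leaf cJ12065))) (BT.node 12068 (BT.node 12067 (BT.node 12066 (BT.leaf cJ12066) (BT.leaf cJ12067)) (BT.leaf cJ12068)) (BT.node 12069 (BT.leaf cJ12069) (BT.leaf cJ12070)))) (BT.node 12075 (BT.node 12073 (BT.node 12072 (BT.node 12071 (BT.leaf cJ12071) (BT.leaf cJ12072)) (BT.leaf cJ12073)) (BT.node 12074 (BT.leaf cJ12074) (BT.leaf cJ12075))) (BT.node 12078 (BT.node 12077 (BT.node 12076 (BT.leaf cJ12076) (BT.leaf cJ12077)) (BT.leaf cJ12078)) (BT.node 12079 (BT.leaf cJ12079) (BT.leaf cJ12080)))))) (BT.node 12100 (BT.node 12090 (BT.node 12085 (BT.node 12083 (BT.node 12082 (BT.node 12081 (BT.leaf cJ12081) (BT.leaf cJ12082)) (BT.leaf cJ12083)) (BT.node 12084 (BT.leaf cJ12084) (BT.leaf cJ12085))) (BT.node 12088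 (BT.node 12087 (BT.node 12086 (BT.leaf cJ12086) (BT.leaf cJ12087)) (BT.leaf cJ12088)) (BT.node 12089 (BT.leaf cJ12089) (BT.leaf cJ12090)))) (BT.node 12095 (BT.node 12093 (BT.node 12092 (BT.node 12091 (BT.leaf cJ12091) (BT.leaf cJ12092)) (BT.leaf cJ12093)) (BT.node 12094 (BT.leaf cJ12094) (BT.leaf cJ12095))) (BT.node 12098 (BT.node 12097 (BT.node 12096 (BT.leaf cJ12096) (BT.leaf cJ12097)) (BT.leaf cJ12098)) (BT.node 12099 (BT.leaf cJ12099) (BT.leaf cJ12100))))) (BT.node 12110 (BT.node 12105 (BT.node 12103 (BT.node 12102 (BT.node 12101 (BT.leaf cJ12101) (BT.leaf cJ12102)) (BT.leaf cJ12103)) (BT.node 12104 (BT.leaf cJ12104) (BT.leaf cJ12105))) (BT.node 12108 (BT.node 12107 (BT.node 12106 (BT.leaf cJ12106) (BT.leaf cJ12107)) (BT.leaf cJ12108)) (BT.node 12109 (BT.leaf cJ12109) (BT.leaf cJ12110)))) (BT.node 12115 (BT.node 12113 (BT.node 12112 (BT.node 12111 (BT.leaf cJ12111)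 (BT.leaf cJ12112)) (BT.leaf cJ12113)) (BT.node 12114 (BT.leaf cJ12114) (BT.leaf cJ12115))) (BT.node 12118 (BT.node 12117 (BT.node 12116 (BT.leaf cJ12116) (BT.leaf cJ12117)) (BT.leaf cJ12118)) (BT.node 12119 (BT.leaf cJ12119) (BT.leaf cJ12120))))))))
noncomputable def colJT_75 : BT ℕ := (BT.node 12201 (BT.node 12161 (BT.node 12141 (BT.node 12131 (BT.node 12126 (BT.node 12123 (BT.node 12122 (BT.node 12121 (BT.leaf cJ12121) (BT.leaf cJ12122)) (BT.leaf cJ12123)) (BT.node 12125 (BT.node 12124 (BT.leaf cJ12124) (BT.leaf cJ12125)) (BT.leaf cJ12126))) (BT.node 12129 (BT.node 12128 (BT.node 12127 (BT.leaf cJ12127) (BT.leaf cJ12128)) (BT.leaf cJ12129)) (BT.node 12130 (BT.leaf cJ12130) (BT.leaf cJ12131)))) (BT.node 12136 (BT.node 12134 (BT.node 12133 (BT.node 12132 (BT.leaf cJ12132) (BT.leaf cJ12133)) (BT.leaf cJ12134)) (BT.node 12135 (BT.leaf cJ12135) (BT.leaf cJ12136))) (BT.node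 12139 (BT.node 12138 (BT.node 12137 (BT.leaf cJ12137) (BT.leaf cJ12138)) (BT.leaf cJ12139)) (BT.node 12140 (BT.leaf cJ12140) (BT.leaf cJ12141))))) (BT.node 12151 (BT.node 12146 (BT.node 12144 (BT.node 12143 (BT.node 12142 (BT.leaf cJ12142) (BT.leaf cJ12143)) (BT.leaf cJ12144)) (BT.node 12145 (BT.leaf cJ12145) (BT.leaf cJ12146))) (BT.node 12149 (BT.node 12148 (BT.node 12147 (BT.leaf cJ12147) (BT.leaf cJ12148)) (BT.leaf cJ12149)) (BT.node 12150 (BT.leaf cJ12150) (BT.leaf cJ12151)))) (BT.node 12156 (BT.node 12154 (BT.node 12153 (BT.node 12152 (BT.leaf cJ12152) (BT.leaf cJ12153)) (BT.leaf cJ12154)) (BT.node 12155 (BT.leaf cJ12155) (BT.leaf cJ12156))) (BT.node 12159 (BT.node 12158 (BT.node 12157 (BT.leaf cJ12157) (BT.leaf cJ12158)) (BT.leaf cJ12159)) (BT.node 12160 (BT.leaf cJ12160) (BT.leaf cJ12161)))))) (BT.node 12181 (BT.node 12171 (BT.node 12166 (BT.node 12164 (BT.node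 12163 (BT.node 12162 (BT.leaf cJ12162) (BT.leaf cJ12163)) (BT.leaf cJ12164)) (BT.node 12165 (BT.leaf cJ12165) (BT.leaf cJ12166))) (BT.node 12169 (BT.node 12168 (BT.node 12167 (BT.leaf cJ12167) (BT.leaf cJ12168)) (BT.leaf cJ12169)) (BT.node 12170 (BT.leaf cJ12170) (BT.leaf cJ12171)))) (BT.node 12176 (BT.node 12174 (BT.node 12173 (BT.node 12172 (BT.leaf cJ12172) (BT.leaf cJ12173)) (BT.leaf cJ12174)) (BT.node 12175 (BT.leaf cJ12175) (BT.leaf cJ12176))) (BT.node 12179 (BT.node 12178 (BT.node 12177 (BT.leaf cJ12177) (BT.leaf cJ12178)) (BT.leaf cJ12179)) (BT.node 12180 (BT.leaf cJ12180) (BT.leaf cJ12181))))) (BT.node 12191 (BT.node 12186 (BT.node 12184 (BT.node 12183 (BT.node 12182 (BT.leaf cJ12182) (BT.leaf cJ12183)) (BT.leaf cJ12184)) (BT.node 12185 (BT.leaf cJ12185) (BT.leaf cJ12186))) (BT.node 12189 (BT.node 12188 (BT.node 12187 (BT.leaf cJ12187) (BT.leaf cJ12188)) (BT.leaf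 cJ12189)) (BT.node 12190 (BT.leaf cJ12190) (BT.leaf cJ12191)))) (BT.node 12196 (BT.node 12194 (BT.node 12193 (BT.node 12192 (BT.leaf cJ12192) (BT.leaf cJ12193)) (BT.leaf cJ12194)) (BT.node 12195 (BT.leaf cJ12195) (BT.leaf cJ12196))) (BT.node 12199 (BT.node 12198 (BT.node 12197 (BT.leaf cJ12197) (BT.leaf cJ12198)) (BT.leaf cJ12199)) (BT.node 12200 (BT.leaf cJ12200) (BT.leaf cJ12201))))))) (BT.node 12241 (BT.node 12221 (BT.node 12211 (BT.node 12206 (BT.node 12204 (BT.node 12203 (BT.node 12202 (BT.leaf cJ12202) (BT.leaf cJ12203)) (BT.leaf cJ12204)) (BT.node 12205 (BT.leaf cJ12205) (BT.leaf cJ12206))) (BT.node 12209 (BT.node 12208 (BT.node 12207 (BT.leaf cJ12207) (BT.leaf cJ12208)) (BT.leaf cJ12209)) (BT.node 12210 (BT.leaf cJ12210) (BT.leaf cJ12211)))) (BT.node 12216 (BT.node 12214 (BT.node 12213 (BT.node 12212 (BT.leaf cJ12212) (BT.leaf cJ12213)) (BT.leaf cJ12214)) (BT.node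 12215 (BT.leaf cJ12215) (BT.leaf cJ12216))) (BT.node 12219 (BT.node 12218 (BT.node 12217 (BT.leaf cJ12217) (BT.leaf cJ12218)) (BT.leaf cJ12219)) (BT.node 12220 (BT.leaf cJ12220) (BT.leaf cJ12221))))) (BT.node 12231 (BT.node 12226 (BT.node 12224 (BT.node 12223 (BT.node 12222 (BT.leaf cJ12222) (BT.leaf cJ12223)) (BT.leaf cJ12224)) (BT.node 12225 (BT.leaf cJ12225) (BT.leaf cJ12226))) (BT.node 12229 (BT.node 12228 (BT.node 12227 (BT.leaf cJ12227) (BT.leaf cJ12228)) (BT.leaf cJ12229)) (BT.node 12230 (BT.leaf cJ12230) (BT.leaf cJ12231)))) (BT.node 12236 (BT.node 12234 (BT.node 12233 (BT.node 12232 (BT.leaf cJ12232) (BT.leaf cJ12233)) (BT.leaf cJ12234)) (BT.node 12235 (BT.leaf cJ12235) (BT.leaf cJ12236))) (BT.node 12239 (BT.node 12238 (BT.node 12237 (BT.leaf cJ12237) (BT.leaf cJ12238)) (BT.leaf cJ12239)) (BT.node 12240 (BT.leaf cJ12240) (BT.leaf cJ12241)))))) (BT.node 12261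 (BT.node 12251 (BT.node 12246 (BT.node 12244 (BT.node 12243 (BT.node 12242 (BT.leaf cJ12242) (BT.leaf cJ12243)) (BT.leaf cJ12244)) (BT.node 12245 (BT.leaf cJ12245) (BT.leaf cJ12246))) (BT.node 12249 (BT.node 12248 (BT.node 12247 (BT.leaf cJ12247) (BT.leaf cJ12248)) (BT.leaf cJ12249)) (BT.node 12250 (BT.leaf cJ12250) (BT.leaf cJ12251)))) (BT.node 12256 (BT.node 12254 (BT.node 12253 (BT.node 12252 (BT.leaf cJ12252) (BT.leaf cJ12253)) (BT.leaf cJ12254)) (BT.node 12255 (BT.leaf cJ12255) (BT.leaf cJ12256))) (BT.node 12259 (BT.node 12258 (BT.node 12257 (BT.leaf cJ12257) (BT.leaf cJ12258)) (BT.leaf cJ12259)) (BT.node 12260 (BT.leaf cJ12260) (BT.leaf cJ12261))))) (BT.node 12271 (BT.node 12266 (BT.node 12264 (BT.node 12263 (BT.node 12262 (BT.leaf cJ12262) (BT.leaf cJ12263)) (BT.leaf cJ12264)) (BT.node 12265 (BT.leaf cJ12265) (BT.leaf cJ12266))) (BT.node 12269 (BT.node 12268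 (BT.node 12267 (BT.leaf cJ12267) (BT.leaf cJ12268)) (BT.leaf cJ12269)) (BT.node 12270 (BT.leaf cJ12270) (BT.leaf cJ12271)))) (BT.node 12276 (BT.node 12274 (BT.node 12273 (BT.node 12272 (BT.leaf cJ12272) (BT.leaf cJ12273)) (BT.leaf cJ12274)) (BT.node 12275 (BT.leaf cJ12275) (BT.leaf cJ12276))) (BT.node 12279 (BT.node 12278 (BT.node 12277 (BT.leaf cJ12277) (BT.leaf cJ12278)) (BT.leaf cJ12279)) (BT.node 12280 (BT.leaf cJ12280) (BT.leaf cJ12281))))))))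
noncomputable def colJT_76 : BT ℕ := (BT.node 12362 (BT.node 12322 (BT.node 12302 (BT.node 12292 (BT.node 12287 (BT.node 12284 (BT.node 12283 (BT.node 12282 (BT.leaf cJ12282) (BT.leaf cJ12283)) (BT.leaf cJ12284)) (BT.node 12286 (BT.node 12285 (BT.leaf cJ12285) (BT.leaf cJ12286)) (BT.leaf cJ12287))) (BT.node 12290 (BT.node 12289 (BT.node 12288 (BT.leaf cJ12288) (BT.leaf cJ12289)) (BT.leaf cJ12290)) (BT.node 12291 (BT.leaf cJ12291) (BT.leaf cJ12292)))) (BT.node 12297 (BT.node 12295 (BT.node 12294 (BT.node 12293 (BT.leaf cJ12293) (BT.leaf cJ12294)) (BT.leaf cJ12295)) (BT.node 12296 (BT.leaf cJ12296) (BT.leaf cJ12297))) (BT.node 12300 (BT.node 12299 (BT.node 12298 (BT.leaf cJ12298) (BT.leaf cJ12299)) (BT.leaf cJ12300)) (BT.node 12301 (BT.leaf cJ12301) (BT.leaf cJ12302))))) (BT.node 12312 (BT.node 12307 (BT.node 12305 (BT.node 12304 (BT.node 12303 (BT.leaf cJ12303) (BT.leaf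 cJ12304)) (BT.leaf cJ12305)) (BT.node 12306 (BT.leaf cJ12306) (BT.leaf cJ12307))) (BT.node 12310 (BT.node 12309 (BT.node 12308 (BT.leaf cJ12308) (BT.leaf cJ12309)) (BT.leaf cJ12310)) (BT.node 12311 (BT.leaf cJ12311) (BT.leaf cJ12312)))) (BT.node 12317 (BT.node 12315 (BT.node 12314 (BT.node 12313 (BT.leaf cJ12313) (BT.leaf cJ12314)) (BT.leaf cJ12315)) (BT.node 12316 (BT.leaf cJ12316) (BT.leaf cJ12317))) (BT.node 12320 (BT.node 12319 (BT.node 12318 (BT.leaf cJ12318) (BT.leaf cJ12319)) (BT.leaf cJ12320)) (BT.node 12321 (BT.leaf cJ12321) (BT.leaf cJ12322)))))) (BT.node 12342 (BT.node 12332 (BT.node 12327 (BT.node 12325 (BT.node 12324 (BT.node 12323 (BT.leaf cJ12323) (BT.leaf cJ12324)) (BT.leaf cJ12325)) (BT.node 12326 (BT.leaf cJ12326) (BT.leaf cJ12327))) (BT.node 12330 (BT.node 12329 (BT.node 12328 (BT.leaf cJ12328) (BT.leaf cJ12329)) (BT.leaf cJ12330)) (BT.node 12331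 (BT.leaf cJ12331) (BT.leaf cJ12332)))) (BT.node 12337 (BT.node 12335 (BT.node 12334 (BT.node 12333 (BT.leaf cJ12333) (BT.leaf cJ12334)) (BT.leaf cJ12335)) (BT.node 12336 (BT.leaf cJ12336) (BT.leaf cJ12337))) (BT.node 12340 (BT.node 12339 (BT.node 12338 (BT.leaf cJ12338) (BT.leaf cJ12339)) (BT.leaf cJ12340)) (BT.node 12341 (BT.leaf cJ12341) (BT.leaf cJ12342))))) (BT.node 12352 (BT.node 12347 (BT.node 12345 (BT.node 12344 (BT.node 12343 (BT.leaf cJ12343) (BT.leaf cJ12344)) (BT.leaf cJ12345)) (BT.node 12346 (BT.leaf cJ12346) (BT.leaf cJ12347))) (BT.node 12350 (BT.node 12349 (BT.node 12348 (BT.leaf cJ12348) (BT.leaf cJ12349)) (BT.leaf cJ12350)) (BT.node 12351 (BT.leaf cJ12351) (BT.leaf cJ12352)))) (BT.node 12357 (BT.node 12355 (BT.node 12354 (BT.node 12353 (BT.leaf cJ12353) (BT.leaf cJ12354)) (BT.leaf cJ12355)) (BT.node 12356 (BT.leaf cJ12356) (BT.leaf cJ12357))) (BT.node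 12360 (BT.node 12359 (BT.node 12358 (BT.leaf cJ12358) (BT.leaf cJ12359)) (BT.leaf cJ12360)) (BT.node 12361 (BT.leaf cJ12361) (BT.leaf cJ12362))))))) (BT.node 12403 (BT.node 12383 (BT.node 12373 (BT.node 12368 (BT.node 12365 (BT.node 12364 (BT.node 12363 (BT.leaf cJ12363) (BT.leaf cJ12364)) (BT.leaf cJ12365)) (BT.node 12367 (BT.node 12366 (BT.leaf cJ12366) (BT.leaf cJ12367)) (BT.leaf cJ12368))) (BT.node 12371 (BT.node 12370 (BT.node 12369 (BT.leaf cJ12369) (BT.leaf cJ12370)) (BT.leaf cJ12371)) (BT.node 12372 (BT.leaf cJ12372) (BT.leaf cJ12373)))) (BT.node 12378 (BT.node 12376 (BT.node 12375 (BT.node 12374 (BT.leaf cJ12374) (BT.leaf cJ12375)) (BT.leaf cJ12376)) (BT.node 12377 (BT.leaf cJ12377) (BT.leaf cJ12378))) (BT.node 12381 (BT.node 12380 (BT.node 12379 (BT.leaf cJ12379) (BT.leaf cJ12380)) (BT.leaf cJ12381)) (BT.node 12382 (BT.leaf cJ12382) (BT.leaf cJ12383)))))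 (BT.node 12393 (BT.node 12388 (BT.node 12386 (BT.node 12385 (BT.node 12384 (BT.leaf cJ12384) (BT.leaf cJ12385)) (BT.leaf cJ12386)) (BT.node 12387 (BT.leaf cJ12387) (BT.leaf cJ12388))) (BT.node 12391 (BT.node 12390 (BT.node 12389 (BT.leaf cJ12389) (BT.leaf cJ12390)) (BT.leaf cJ12391)) (BT.node 12392 (BT.leaf cJ12392) (BT.leaf cJ12393)))) (BT.node 12398 (BT.node 12396 (BT.node 12395 (BT.node 12394 (BT.leaf cJ12394) (BT.leaf cJ12395)) (BT.leaf cJ12396)) (BT.node 12397 (BT.leaf cJ12397) (BT.leaf cJ12398))) (BT.node 12401 (BT.node 12400 (BT.node 12399 (BT.leaf cJ12399) (BT.leaf cJ12400)) (BT.leaf cJ12401)) (BT.node 12402 (BT.leaf cJ12402) (BT.leaf cJ12403)))))) (BT.node 12423 (BT.node 12413 (BT.node 12408 (BT.node 12406 (BT.node 12405 (BT.node 12404 (BT.leaf cJ12404) (BT.leaf cJ12405)) (BT.leaf cJ12406)) (BT.node 12407 (BT.leaf cJ12407) (BT.leaf cJ12408))) (BT.node 12411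 (BT.node 12410 (BT.node 12409 (BT.leaf cJ12409) (BT.leaf cJ12410)) (BT.leaf cJ12411)) (BT.node 12412 (BT.leaf cJ12412) (BT.leaf cJ12413)))) (BT.node 12418 (BT.node 12416 (BT.node 12415 (BT.node 12414 (BT.leaf cJ12414) (BT.leaf cJ12415)) (BT.leaf cJ12416)) (BT.node 12417 (BT.leaf cJ12417) (BT.leaf cJ12418))) (BT.node 12421 (BT.node 12420 (BT.node 12419 (BT.leaf cJ12419) (BT.leaf cJ12420)) (BT.leaf cJ12421)) (BT.node 12422 (BT.leaf cJ12422) (BT.leaf cJ12423))))) (BT.node 12433 (BT.node 12428 (BT.node 12426 (BT.node 12425 (BT.node 12424 (BT.leaf cJ12424) (BT.leaf cJ12425)) (BT.leaf cJ12426)) (BT.node 12427 (BT.leaf cJ12427) (BT.leaf cJ12428))) (BT.node 12431 (BT.node 12430 (BT.node 12429 (BT.leaf cJ12429) (BT.leaf cJ12430)) (BT.leaf cJ12431)) (BT.node 12432 (BT.leaf cJ12432) (BT.leaf cJ12433)))) (BT.node 12438 (BT.node 12436 (BT.node 12435 (BT.node 12434 (BT.leaf cJ12434)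 (BT.leaf cJ12435)) (BT.leaf cJ12436)) (BT.node 12437 (BT.leaf cJ12437) (BT.leaf cJ12438))) (BT.node 12441 (BT.node 12440 (BT.node 12439 (BT.leaf cJ12439) (BT.leaf cJ12440)) (BT.leaf cJ12441)) (BT.node 12442 (BT.leaf cJ12442) (BT.leaf cJ12443))))))))
noncomputable def colJT_77 : BT ℕ := (BT.node 12524 (BT.node 12484 (BT.node 12464 (BT.node 12454 (BT.node 12449 (BT.node 12446 (BT.node 12445 (BT.node 12444 (BT.leaf cJ12444) (BT.leaf cJ12445)) (BT.leaf cJ12446)) (BT.node 12448 (BT.node 12447 (BT.leaf cJ12447) (BT.leaf cJ12448)) (BT.leaf cJ12449))) (BT.node 12452 (BT.node 12451 (BT.node 12450 (BT.leaf cJ12450) (BT.leaf cJ12451)) (BT.leaf cJ12452)) (BT.node 12453 (BT.leaf cJ12453) (BT.leaf cJ12454)))) (BT.node 12459 (BT.node 12457 (BT.node 12456 (BT.node 12455 (BT.leaf cJ12455) (BT.leaf cJ12456)) (BT.leaf cJ12457)) (BT.node 12458 (BT.leaf cJ12458) (BT.leaf cJ12459))) (BT.node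 12462 (BT.node 12461 (BT.node 12460 (BT.leaf cJ12460) (BT.leaf cJ12461)) (BT.leaf cJ12462)) (BT.node 12463 (BT.leaf cJ12463) (BT.leaf cJ12464))))) (BT.node 12474 (BT.node 12469 (BT.node 12467 (BT.node 12466 (BT.node 12465 (BT.leaf cJ12465) (BT.leaf cJ12466)) (BT.leaf cJ12467)) (BT.node 12468 (BT.leaf cJ12468) (BT.leaf cJ12469))) (BT.node 12472 (BT.node 12471 (BT.node 12470 (BT.leaf cJ12470) (BT.leaf cJ12471)) (BT.leaf cJ12472)) (BT.node 12473 (BT.leaf cJ12473) (BT.leaf cJ12474)))) (BT.node 12479 (BT.node 12477 (BT.node 12476 (BT.node 12475 (BT.leaf cJ12475) (BT.leaf cJ12476)) (BT.leaf cJ12477)) (BT.node 12478 (BT.leaf cJ12478) (BT.leaf cJ12479))) (BT.node 12482 (BT.node 12481 (BT.node 12480 (BT.leaf cJ12480) (BT.leaf cJ12481)) (BT.leaf cJ12482)) (BT.node 12483 (BT.leaf cJ12483) (BT.leaf cJ12484)))))) (BT.node 12504 (BT.node 12494 (BT.node 12489 (BT.node 12487 (BT.node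 12486 (BT.node 12485 (BT.leaf cJ12485) (BT.leaf cJ12486)) (BT.leaf cJ12487)) (BT.node 12488 (BT.leaf cJ12488) (BT.leaf cJ12489))) (BT.node 12492 (BT.node 12491 (BT.node 12490 (BT.leaf cJ12490) (BT.leaf cJ12491)) (BT.leaf cJ12492)) (BT.node 12493 (BT.leaf cJ12493) (BT.leaf cJ12494)))) (BT.node 12499 (BT.node 12497 (BT.node 12496 (BT.node 12495 (BT.leaf cJ12495) (BT.leaf cJ12496)) (BT.leaf cJ12497)) (BT.node 12498 (BT.leaf cJ12498) (BT.leaf cJ12499))) (BT.node 12502 (BT.node 12501 (BT.node 12500 (BT.leaf cJ12500) (BT.leaf cJ12501)) (BT.leaf cJ12502)) (BT.node 12503 (BT.leaf cJ12503) (BT.leaf cJ12504))))) (BT.node 12514 (BT.node 12509 (BT.node 12507 (BT.node 12506 (BT.node 12505 (BT.leaf cJ12505) (BT.leaf cJ12506)) (BT.leaf cJ12507)) (BT.node 12508 (BT.leaf cJ12508) (BT.leaf cJ12509))) (BT.node 12512 (BT.node 12511 (BT.node 12510 (BT.leaf cJ12510) (BT.leaf cJ12511)) (BT.leaf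 cJ12512)) (BT.node 12513 (BT.leaf cJ12513) (BT.leaf cJ12514)))) (BT.node 12519 (BT.node 12517 (BT.node 12516 (BT.node 12515 (BT.leaf cJ12515) (BT.leaf cJ12516)) (BT.leaf cJ12517)) (BT.node 12518 (BT.leaf cJ12518) (BT.leaf cJ12519))) (BT.node 12522 (BT.node 12521 (BT.node 12520 (BT.leaf cJ12520) (BT.leaf cJ12521)) (BT.leaf cJ12522)) (BT.node 12523 (BT.leaf cJ12523) (BT.leaf cJ12524))))))) (BT.node 12564 (BT.node 12544 (BT.node 12534 (BT.node 12529 (BT.node 12527 (BT.node 12526 (BT.node 12525 (BT.leaf cJ12525) (BT.leaf cJ12526)) (BT.leaf cJ12527)) (BT.node 12528 (BT.leaf cJ12528) (BT.leaf cJ12529))) (BT.node 12532 (BT.node 12531 (BT.node 12530 (BT.leaf cJ12530) (BT.leaf cJ12531)) (BT.leaf cJ12532)) (BT.node 12533 (BT.leaf cJ12533) (BT.leaf cJ12534)))) (BT.node 12539 (BT.node 12537 (BT.node 12536 (BT.node 12535 (BT.leaf cJ12535) (BT.leaf cJ12536)) (BT.leaf cJ12537)) (BT.node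 12538 (BT.leaf cJ12538) (BT.leaf cJ12539))) (BT.node 12542 (BT.node 12541 (BT.node 12540 (BT.leaf cJ12540) (BT.leaf cJ12541)) (BT.leaf cJ12542)) (BT.node 12543 (BT.leaf cJ12543) (BT.leaf cJ12544))))) (BT.node 12554 (BT.node 12549 (BT.node 12547 (BT.node 12546 (BT.node 12545 (BT.leaf cJ12545) (BT.leaf cJ12546)) (BT.leaf cJ12547)) (BT.node 12548 (BT.leaf cJ12548) (BT.leaf cJ12549))) (BT.node 12552 (BT.node 12551 (BT.node 12550 (BT.leaf cJ12550) (BT.leaf cJ12551)) (BT.leaf cJ12552)) (BT.node 12553 (BT.leaf cJ12553) (BT.leaf cJ12554)))) (BT.node 12559 (BT.node 12557 (BT.node 12556 (BT.node 12555 (BT.leaf cJ12555) (BT.leaf cJ12556)) (BT.leaf cJ12557)) (BT.node 12558 (BT.leaf cJ12558) (BT.leaf cJ12559))) (BT.node 12562 (BT.node 12561 (BT.node 12560 (BT.leaf cJ12560) (BT.leaf cJ12561)) (BT.leaf cJ12562)) (BT.node 12563 (BT.leaf cJ12563) (BT.leaf cJ12564)))))) (BT.node 12584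 (BT.node 12574 (BT.node 12569 (BT.node 12567 (BT.node 12566 (BT.node 12565 (BT.leaf cJ12565) (BT.leaf cJ12566)) (BT.leaf cJ12567)) (BT.node 12568 (BT.leaf cJ12568) (BT.leaf cJ12569))) (BT.node 12572 (BT.node 12571 (BT.node 12570 (BT.leaf cJ12570) (BT.leaf cJ12571)) (BT.leaf cJ12572)) (BT.node 12573 (BT.leaf cJ12573) (BT.leaf cJ12574)))) (BT.node 12579 (BT.node 12577 (BT.node 12576 (BT.node 12575 (BT.leaf cJ12575) (BT.leaf cJ12576)) (BT.leaf cJ12577)) (BT.node 12578 (BT.leaf cJ12578) (BT.leaf cJ12579))) (BT.node 12582 (BT.node 12581 (BT.node 12580 (BT.leaf cJ12580) (BT.leaf cJ12581)) (BT.leaf cJ12582)) (BT.node 12583 (BT.leaf cJ12583) (BT.leaf cJ12584))))) (BT.node 12594 (BT.node 12589 (BT.node 12587 (BT.node 12586 (BT.node 12585 (BT.leaf cJ12585) (BT.leaf cJ12586)) (BT.leaf cJ12587)) (BT.node 12588 (BT.leaf cJ12588) (BT.leaf cJ12589))) (BT.node 12592 (BT.node 12591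 (BT.node 12590 (BT.leaf cJ12590) (BT.leaf cJ12591)) (BT.leaf cJ12592)) (BT.node 12593 (BT.leaf cJ12593) (BT.leaf cJ12594)))) (BT.node 12599 (BT.node 12597 (BT.node 12596 (BT.node 12595 (BT.leaf cJ12595) (BT.leaf cJ12596)) (BT.leaf cJ12597)) (BT.node 12598 (BT.leaf cJ12598) (BT.leaf cJ12599))) (BT.node 12602 (BT.node 12601 (BT.node 12600 (BT.leaf cJ12600) (BT.leaf cJ12601)) (BT.leaf cJ12602)) (BT.node 12603 (BT.leaf cJ12603) (BT.leaf cJ12604))))))))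
noncomputable def colJT_78 : BT ℕ := (BT.node 12685 (BT.node 12645 (BT.node 12625 (BT.node 12615 (BT.node 12610 (BT.node 12607 (BT.node 12606 (BT.node 12605 (BT.leaf cJ12605) (BT.leaf cJ12606)) (BT.leaf cJ12607)) (BT.node 12609 (BT.node 12608 (BT.leaf cJ12608) (BT.leaf cJ12609)) (BT.leaf cJ12610))) (BT.node 12613 (BT.node 12612 (BT.node 12611 (BT.leaf cJ12611) (BT.leaf cJ12612)) (BT.leaf cJ12613)) (BT.node 12614 (BT.leaf cJ12614) (BT.leaf cJ12615)))) (BT.node 12620 (BT.node 12618 (BT.node 12617 (BT.node 12616 (BT.leaf cJ12616) (BT.leaf cJ12617)) (BT.leaf cJ12618)) (BT.node 12619 (BT.leaf cJ12619) (BT.leaf cJ12620))) (BT.node 12623 (BT.node 12622 (BT.node 12621 (BT.leaf cJ12621) (BT.leaf cJ12622)) (BT.leaf cJ12623)) (BT.node 12624 (BT.leaf cJ12624) (BT.leaf cJ12625))))) (BT.node 12635 (BT.node 12630 (BT.node 12628 (BT.node 12627 (BT.node 12626 (BT.leaf cJ12626) (BT.leaf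 cJ12627)) (BT.leaf cJ12628)) (BT.node 12629 (BT.leaf cJ12629) (BT.leaf cJ12630))) (BT.node 12633 (BT.node 12632 (BT.node 12631 (BT.leaf cJ12631) (BT.leaf cJ12632)) (BT.leaf cJ12633)) (BT.node 12634 (BT.leaf cJ12634) (BT.leaf cJ12635)))) (BT.node 12640 (BT.node 12638 (BT.node 12637 (BT.node 12636 (BT.leaf cJ12636) (BT.leaf cJ12637)) (BT.leaf cJ12638)) (BT.node 12639 (BT.leaf cJ12639) (BT.leaf cJ12640))) (BT.node 12643 (BT.node 12642 (BT.node 12641 (BT.leaf cJ12641) (BT.leaf cJ12642)) (BT.leaf cJ12643)) (BT.node 12644 (BT.leaf cJ12644) (BT.leaf cJ12645)))))) (BT.node 12665 (BT.node 12655 (BT.node 12650 (BT.node 12648 (BT.node 12647 (BT.node 12646 (BT.leaf cJ12646) (BT.leaf cJ12647)) (BT.leaf cJ12648)) (BT.node 12649 (BT.leaf cJ12649) (BT.leaf cJ12650))) (BT.node 12653 (BT.node 12652 (BT.node 12651 (BT.leaf cJ12651) (BT.leaf cJ12652)) (BT.leaf cJ12653)) (BT.node 12654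 (BT.leaf cJ12654) (BT.leaf cJ12655)))) (BT.node 12660 (BT.node 12658 (BT.node 12657 (BT.node 12656 (BT.leaf cJ12656) (BT.leaf cJ12657)) (BT.leaf cJ12658)) (BT.node 12659 (BT.leaf cJ12659) (BT.leaf cJ12660))) (BT.node 12663 (BT.node 12662 (BT.node 12661 (BT.leaf cJ12661) (BT.leaf cJ12662)) (BT.leaf cJ12663)) (BT.node 12664 (BT.leaf cJ12664) (BT.leaf cJ12665))))) (BT.node 12675 (BT.node 12670 (BT.node 12668 (BT.node 12667 (BT.node 12666 (BT.leaf cJ12666) (BT.leaf cJ12667)) (BT.leaf cJ12668)) (BT.node 12669 (BT.leaf cJ12669) (BT.leaf cJ12670))) (BT.node 12673 (BT.node 12672 (BT.node 12671 (BT.leaf cJ12671) (BT.leaf cJ12672)) (BT.leaf cJ12673)) (BT.node 12674 (BT.leaf cJ12674) (BT.leaf cJ12675)))) (BT.node 12680 (BT.node 12678 (BT.node 12677 (BT.node 12676 (BT.leaf cJ12676) (BT.leaf cJ12677)) (BT.leaf cJ12678)) (BT.node 12679 (BT.leaf cJ12679) (BT.leaf cJ12680))) (BT.node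 12683 (BT.node 12682 (BT.node 12681 (BT.leaf cJ12681) (BT.leaf cJ12682)) (BT.leaf cJ12683)) (BT.node 12684 (BT.leaf cJ12684) (BT.leaf cJ12685))))))) (BT.node 12726 (BT.node 12706 (BT.node 12696 (BT.node 12691 (BT.node 12688 (BT.node 12687 (BT.node 12686 (BT.leaf cJ12686) (BT.leaf cJ12687)) (BT.leaf cJ12688)) (BT.node 12690 (BT.node 12689 (BT.leaf cJ12689) (BT.leaf cJ12690)) (BT.leaf cJ12691))) (BT.node 12694 (BT.node 12693 (BT.node 12692 (BT.leaf cJ12692) (BT.leaf cJ12693)) (BT.leaf cJ12694)) (BT.node 12695 (BT.leaf cJ12695) (BT.leaf cJ12696)))) (BT.node 12701 (BT.node 12699 (BT.node 12698 (BT.node 12697 (BT.leaf cJ12697) (BT.leaf cJ12698)) (BT.leaf cJ12699)) (BT.node 12700 (BT.leaf cJ12700) (BT.leaf cJ12701))) (BT.node 12704 (BT.node 12703 (BT.node 12702 (BT.leaf cJ12702) (BT.leaf cJ12703)) (BT.leaf cJ12704)) (BT.node 12705 (BT.leaf cJ12705) (BT.leaf cJ12706)))))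 (BT.node 12716 (BT.node 12711 (BT.node 12709 (BT.node 12708 (BT.node 12707 (BT.leaf cJ12707) (BT.leaf cJ12708)) (BT.leaf cJ12709)) (BT.node 12710 (BT.leaf cJ12710) (BT.leaf cJ12711))) (BT.node 12714 (BT.node 12713 (BT.node 12712 (BT.leaf cJ12712) (BT.leaf cJ12713)) (BT.leaf cJ12714)) (BT.node 12715 (BT.leaf cJ12715) (BT.leaf cJ12716)))) (BT.node 12721 (BT.node 12719 (BT.node 12718 (BT.node 12717 (BT.leaf cJ12717) (BT.leaf cJ12718)) (BT.leaf cJ12719)) (BT.node 12720 (BT.leaf cJ12720) (BT.leaf cJ12721))) (BT.node 12724 (BT.node 12723 (BT.node 12722 (BT.leaf cJ12722) (BT.leaf cJ12723)) (BT.leaf cJ12724)) (BT.node 12725 (BT.leaf cJ12725) (BT.leaf cJ12726)))))) (BT.node 12746 (BT.node 12736 (BT.node 12731 (BT.node 12729 (BT.node 12728 (BT.node 12727 (BT.leaf cJ12727) (BT.leaf cJ12728)) (BT.leaf cJ12729)) (BT.node 12730 (BT.leaf cJ12730) (BT.leaf cJ12731))) (BT.node 12734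 (BT.node 12733 (BT.node 12732 (BT.leaf cJ12732) (BT.leaf cJ12733)) (BT.leaf cJ12734)) (BT.node 12735 (BT.leaf cJ12735) (BT.leaf cJ12736)))) (BT.node 12741 (BT.node 12739 (BT.node 12738 (BT.node 12737 (BT.leaf cJ12737) (BT.leaf cJ12738)) (BT.leaf cJ12739)) (BT.node 12740 (BT.leaf cJ12740) (BT.leaf cJ12741))) (BT.node 12744 (BT.node 12743 (BT.node 12742 (BT.leaf cJ12742) (BT.leaf cJ12743)) (BT.leaf cJ12744)) (BT.node 12745 (BT.leaf cJ12745) (BT.leaf cJ12746))))) (BT.node 12756 (BT.node 12751 (BT.node 12749 (BT.node 12748 (BT.node 12747 (BT.leaf cJ12747) (BT.leaf cJ12748)) (BT.leaf cJ12749)) (BT.node 12750 (BT.leaf cJ12750) (BT.leaf cJ12751))) (BT.node 12754 (BT.node 12753 (BT.node 12752 (BT.leaf cJ12752) (BT.leaf cJ12753)) (BT.leaf cJ12754)) (BT.node 12755 (BT.leaf cJ12755) (BT.leaf cJ12756)))) (BT.node 12761 (BT.node 12759 (BT.node 12758 (BT.node 12757 (BT.leaf cJ12757)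 (BT.leaf cJ12758)) (BT.leaf cJ12759)) (BT.node 12760 (BT.leaf cJ12760) (BT.leaf cJ12761))) (BT.node 12764 (BT.node 12763 (BT.node 12762 (BT.leaf cJ12762) (BT.leaf cJ12763)) (BT.leaf cJ12764)) (BT.node 12765 (BT.leaf cJ12765) (BT.leaf cJ12766))))))))
noncomputable def colJT_79 : BT ℕ := (BT.node 12847 (BT.node 12807 (BT.node 12787 (BT.node 12777 (BT.node 12772 (BT.node 12769 (BT.node 12768 (BT.node 12767 (BT.leaf cJ12767) (BT.leaf cJ12768)) (BT.leaf cJ12769)) (BT.node 12771 (BT.node 12770 (BT.leaf cJ12770) (BT.leaf cJ12771)) (BT.leaf cJ12772))) (BT.node 12775 (BT.node 12774 (BT.node 12773 (BT.leaf cJ12773) (BT.leaf cJ12774)) (BT.leaf cJ12775)) (BT.node 12776 (BT.leaf cJ12776) (BT.leaf cJ12777)))) (BT.node 12782 (BT.node 12780 (BT.node 12779 (BT.node 12778 (BT.leaf cJ12778) (BT.leaf cJ12779)) (BT.leaf cJ12780)) (BT.node 12781 (BT.leaf cJ12781) (BT.leaf cJ12782))) (BT.node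 12785 (BT.node 12784 (BT.node 12783 (BT.leaf cJ12783) (BT.leaf cJ12784)) (BT.leaf cJ12785)) (BT.node 12786 (BT.leaf cJ12786) (BT.leaf cJ12787))))) (BT.node 12797 (BT.node 12792 (BT.node 12790 (BT.node 12789 (BT.node 12788 (BT.leaf cJ12788) (BT.leaf cJ12789)) (BT.leaf cJ12790)) (BT.node 12791 (BT.leaf cJ12791) (BT.leaf cJ12792))) (BT.node 12795 (BT.node 12794 (BT.node 12793 (BT.leaf cJ12793) (BT.leaf cJ12794)) (BT.leaf cJ12795)) (BT.node 12796 (BT.leaf cJ12796) (BT.leaf cJ12797)))) (BT.node 12802 (BT.node 12800 (BT.node 12799 (BT.node 12798 (BT.leaf cJ12798) (BT.leaf cJ12799)) (BT.leaf cJ12800)) (BT.node 12801 (BT.leaf cJ12801) (BT.leaf cJ12802))) (BT.node 12805 (BT.node 12804 (BT.node 12803 (BT.leaf cJ12803) (BT.leaf cJ12804)) (BT.leaf cJ12805)) (BT.node 12806 (BT.leaf cJ12806) (BT.leaf cJ12807)))))) (BT.node 12827 (BT.node 12817 (BT.node 12812 (BT.node 12810 (BT.node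 12809 (BT.node 12808 (BT.leaf cJ12808) (BT.leaf cJ12809)) (BT.leaf cJ12810)) (BT.node 12811 (BT.leaf cJ12811) (BT.leaf cJ12812))) (BT.node 12815 (BT.node 12814 (BT.node 12813 (BT.leaf cJ12813) (BT.leaf cJ12814)) (BT.leaf cJ12815)) (BT.node 12816 (BT.leaf cJ12816) (BT.leaf cJ12817)))) (BT.node 12822 (BT.node 12820 (BT.node 12819 (BT.node 12818 (BT.leaf cJ12818) (BT.leaf cJ12819)) (BT.leaf cJ12820)) (BT.node 12821 (BT.leaf cJ12821) (BT.leaf cJ12822))) (BT.node 12825 (BT.node 12824 (BT.node 12823 (BT.leaf cJ12823) (BT.leaf cJ12824)) (BT.leaf cJ12825)) (BT.node 12826 (BT.leaf cJ12826) (BT.leaf cJ12827))))) (BT.node 12837 (BT.node 12832 (BT.node 12830 (BT.node 12829 (BT.node 12828 (BT.leaf cJ12828) (BT.leaf cJ12829)) (BT.leaf cJ12830)) (BT.node 12831 (BT.leaf cJ12831) (BT.leaf cJ12832))) (BT.node 12835 (BT.node 12834 (BT.node 12833 (BT.leaf cJ12833) (BT.leaf cJ12834)) (BT.leaf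 cJ12835)) (BT.node 12836 (BT.leaf cJ12836) (BT.leaf cJ12837)))) (BT.node 12842 (BT.node 12840 (BT.node 12839 (BT.node 12838 (BT.leaf cJ12838) (BT.leaf cJ12839)) (BT.leaf cJ12840)) (BT.node 12841 (BT.leaf cJ12841) (BT.leaf cJ12842))) (BT.node 12845 (BT.node 12844 (BT.node 12843 (BT.leaf cJ12843) (BT.leaf cJ12844)) (BT.leaf cJ12845)) (BT.node 12846 (BT.leaf cJ12846) (BT.leaf cJ12847))))))) (BT.node 12887 (BT.node 12867 (BT.node 12857 (BT.node 12852 (BT.node 12850 (BT.node 12849 (BT.node 12848 (BT.leaf cJ12848) (BT.leaf cJ12849)) (BT.leaf cJ12850)) (BT.node 12851 (BT.leaf cJ12851) (BT.leaf cJ12852))) (BT.node 12855 (BT.node 12854 (BT.node 12853 (BT.leaf cJ12853) (BT.leaf cJ12854)) (BT.leaf cJ12855)) (BT.node 12856 (BT.leaf cJ12856) (BT.leaf cJ12857)))) (BT.node 12862 (BT.node 12860 (BT.node 12859 (BT.node 12858 (BT.leaf cJ12858) (BT.leaf cJ12859)) (BT.leaf cJ12860)) (BT.node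 12861 (BT.leaf cJ12861) (BT.leaf cJ12862))) (BT.node 12865 (BT.node 12864 (BT.node 12863 (BT.leaf cJ12863) (BT.leaf cJ12864)) (BT.leaf cJ12865)) (BT.node 12866 (BT.leaf cJ12866) (BT.leaf cJ12867))))) (BT.node 12877 (BT.node 12872 (BT.node 12870 (BT.node 12869 (BT.node 12868 (BT.leaf cJ12868) (BT.leaf cJ12869)) (BT.leaf cJ12870)) (BT.node 12871 (BT.leaf cJ12871) (BT.leaf cJ12872))) (BT.node 12875 (BT.node 12874 (BT.node 12873 (BT.leaf cJ12873) (BT.leaf cJ12874)) (BT.leaf cJ12875)) (BT.node 12876 (BT.leaf cJ12876) (BT.leaf cJ12877)))) (BT.node 12882 (BT.node 12880 (BT.node 12879 (BT.node 12878 (BT.leaf cJ12878) (BT.leaf cJ12879)) (BT.leaf cJ12880)) (BT.node 12881 (BT.leaf cJ12881) (BT.leaf cJ12882))) (BT.node 12885 (BT.node 12884 (BT.node 12883 (BT.leaf cJ12883) (BT.leaf cJ12884)) (BT.leaf cJ12885)) (BT.node 12886 (BT.leaf cJ12886) (BT.leaf cJ12887)))))) (BT.node 12907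 (BT.node 12897 (BT.node 12892 (BT.node 12890 (BT.node 12889 (BT.node 12888 (BT.leaf cJ12888) (BT.leaf cJ12889)) (BT.leaf cJ12890)) (BT.node 12891 (BT.leaf cJ12891) (BT.leaf cJ12892))) (BT.node 12895 (BT.node 12894 (BT.node 12893 (BT.leaf cJ12893) (BT.leaf cJ12894)) (BT.leaf cJ12895)) (BT.node 12896 (BT.leaf cJ12896) (BT.leaf cJ12897)))) (BT.node 12902 (BT.node 12900 (BT.node 12899 (BT.node 12898 (BT.leaf cJ12898) (BT.leaf cJ12899)) (BT.leaf cJ12900)) (BT.node 12901 (BT.leaf cJ12901) (BT.leaf cJ12902))) (BT.node 12905 (BT.node 12904 (BT.node 12903 (BT.leaf cJ12903) (BT.leaf cJ12904)) (BT.leaf cJ12905)) (BT.node 12906 (BT.leaf cJ12906) (BT.leaf cJ12907))))) (BT.node 12917 (BT.node 12912 (BT.node 12910 (BT.node 12909 (BT.node 12908 (BT.leaf cJ12908) (BT.leaf cJ12909)) (BT.leaf cJ12910)) (BT.node 12911 (BT.leaf cJ12911) (BT.leaf cJ12912))) (BT.node 12915 (BT.node 12914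 (BT.node 12913 (BT.leaf cJ12913) (BT.leaf cJ12914)) (BT.leaf cJ12915)) (BT.node 12916 (BT.leaf cJ12916) (BT.leaf cJ12917)))) (BT.node 12922 (BT.node 12920 (BT.node 12919 (BT.node 12918 (BT.leaf cJ12918) (BT.leaf cJ12919)) (BT.leaf cJ12920)) (BT.node 12921 (BT.leaf cJ12921) (BT.leaf cJ12922))) (BT.node 12925 (BT.node 12924 (BT.node 12923 (BT.leaf cJ12923) (BT.leaf cJ12924)) (BT.leaf cJ12925)) (BT.node 12926 (BT.leaf cJ12926) (BT.leaf cJ12927))))))))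
noncomputable def colJT_80 : BT ℕ := (BT.node 13008 (BT.node 12968 (BT.node 12948 (BT.node 12938 (BT.node 12933 (BT.node 12930 (BT.node 12929 (BT.node 12928 (BT.leaf cJ12928) (BT.leaf cJ12929)) (BT.leaf cJ12930)) (BT.node 12932 (BT.node 12931 (BT.leaf cJ12931) (BT.leaf cJ12932)) (BT.leaf cJ12933))) (BT.node 12936 (BT.node 12935 (BT.node 12934 (BT.leaf cJ12934) (BT.leaf cJ12935)) (BT.leaf cJ12936)) (BT.node 12937 (BT.leaf cJ12937) (BT.leaf cJ12938)))) (BT.node 12943 (BT.node 12941 (BT.node 12940 (BT.node 12939 (BT.leaf cJ12939) (BT.leaf cJ12940)) (BT.leaf cJ12941)) (BT.node 12942 (BT.leaf cJ12942) (BT.leaf cJ12943))) (BT.node 12946 (BT.node 12945 (BT.node 12944 (BT.leaf cJ12944) (BT.leaf cJ12945)) (BT.leaf cJ12946)) (BT.node 12947 (BT.leaf cJ12947) (BT.leaf cJ12948))))) (BT.node 12958 (BT.node 12953 (BT.node 12951 (BT.node 12950 (BT.node 12949 (BT.leaf cJ12949) (BT.leaf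 cJ12950)) (BT.leaf cJ12951)) (BT.node 12952 (BT.leaf cJ12952) (BT.leaf cJ12953))) (BT.node 12956 (BT.node 12955 (BT.node 12954 (BT.leaf cJ12954) (BT.leaf cJ12955)) (BT.leaf cJ12956)) (BT.node 12957 (BT.leaf cJ12957) (BT.leaf cJ12958)))) (BT.node 12963 (BT.node 12961 (BT.node 12960 (BT.node 12959 (BT.leaf cJ12959) (BT.leaf cJ12960)) (BT.leaf cJ12961)) (BT.node 12962 (BT.leaf cJ12962) (BT.leaf cJ12963))) (BT.node 12966 (BT.node 12965 (BT.node 12964 (BT.leaf cJ12964) (BT.leaf cJ12965)) (BT.leaf cJ12966)) (BT.node 12967 (BT.leaf cJ12967) (BT.leaf cJ12968)))))) (BT.node 12988 (BT.node 12978 (BT.node 12973 (BT.node 12971 (BT.node 12970 (BT.node 12969 (BT.leaf cJ12969) (BT.leaf cJ12970)) (BT.leaf cJ12971)) (BT.node 12972 (BT.leaf cJ12972) (BT.leaf cJ12973))) (BT.node 12976 (BT.node 12975 (BT.node 12974 (BT.leaf cJ12974) (BT.leaf cJ12975)) (BT.leaf cJ12976)) (BT.node 12977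 (BT.leaf cJ12977) (BT.leaf cJ12978)))) (BT.node 12983 (BT.node 12981 (BT.node 12980 (BT.node 12979 (BT.leaf cJ12979) (BT.leaf cJ12980)) (BT.leaf cJ12981)) (BT.node 12982 (BT.leaf cJ12982) (BT.leaf cJ12983))) (BT.node 12986 (BT.node 12985 (BT.node 12984 (BT.leaf cJ12984) (BT.leaf cJ12985)) (BT.leaf cJ12986)) (BT.node 12987 (BT.leaf cJ12987) (BT.leaf cJ12988))))) (BT.node 12998 (BT.node 12993 (BT.node 12991 (BT.node 12990 (BT.node 12989 (BT.leaf cJ12989) (BT.leaf cJ12990)) (BT.leaf cJ12991)) (BT.node 12992 (BT.leaf cJ12992) (BT.leaf cJ12993))) (BT.node 12996 (BT.node 12995 (BT.node 12994 (BT.leaf cJ12994) (BT.leaf cJ12995)) (BT.leaf cJ12996)) (BT.node 12997 (BT.leaf cJ12997) (BT.leaf cJ12998)))) (BT.node 13003 (BT.node 13001 (BT.node 13000 (BT.node 12999 (BT.leaf cJ12999) (BT.leaf cJ13000)) (BT.leaf cJ13001)) (BT.node 13002 (BT.leaf cJ13002) (BT.leaf cJ13003))) (BT.node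 13006 (BT.node 13005 (BT.node 13004 (BT.leaf cJ13004) (BT.leaf cJ13005)) (BT.leaf cJ13006)) (BT.node 13007 (BT.leaf cJ13007) (BT.leaf cJ13008))))))) (BT.node 13049 (BT.node 13029 (BT.node 13019 (BT.node 13014 (BT.node 13011 (BT.node 13010 (BT.node 13009 (BT.leaf cJ13009) (BT.leaf cJ13010)) (BT.leaf cJ13011)) (BT.node 13013 (BT.node 13012 (BT.leaf cJ13012) (BT.leaf cJ13013)) (BT.leaf cJ13014))) (BT.node 13017 (BT.node 13016 (BT.node 13015 (BT.leaf cJ13015) (BT.leaf cJ13016)) (BT.leaf cJ13017)) (BT.node 13018 (BT.leaf cJ13018) (BT.leaf cJ13019)))) (BT.node 13024 (BT.node 13022 (BT.node 13021 (BT.node 13020 (BT.leaf cJ13020) (BT.leaf cJ13021)) (BT.leaf cJ13022)) (BT.node 13023 (BT.leaf cJ13023) (BT.leaf cJ13024))) (BT.node 13027 (BT.node 13026 (BT.node 13025 (BT.leaf cJ13025) (BT.leaf cJ13026)) (BT.leaf cJ13027)) (BT.node 13028 (BT.leaf cJ13028) (BT.leaf cJ13029)))))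 (BT.node 13039 (BT.node 13034 (BT.node 13032 (BT.node 13031 (BT.node 13030 (BT.leaf cJ13030) (BT.leaf cJ13031)) (BT.leaf cJ13032)) (BT.node 13033 (BT.leaf cJ13033) (BT.leaf cJ13034))) (BT.node 13037 (BT.node 13036 (BT.node 13035 (BT.leaf cJ13035) (BT.leaf cJ13036)) (BT.leaf cJ13037)) (BT.node 13038 (BT.leaf cJ13038) (BT.leaf cJ13039)))) (BT.node 13044 (BT.node 13042 (BT.node 13041 (BT.node 13040 (BT.leaf cJ13040) (BT.leaf cJ13041)) (BT.leaf cJ13042)) (BT.node 13043 (BT.leaf cJ13043) (BT.leaf cJ13044))) (BT.node 13047 (BT.node 13046 (BT.node 13045 (BT.leaf cJ13045) (BT.leaf cJ13046)) (BT.leaf cJ13047)) (BT.node 13048 (BT.leaf cJ13048) (BT.leaf cJ13049)))))) (BT.node 13069 (BT.node 13059 (BT.node 13054 (BT.node 13052 (BT.node 13051 (BT.node 13050 (BT.leaf cJ13050) (BT.leaf cJ13051)) (BT.leaf cJ13052)) (BT.node 13053 (BT.leaf cJ13053) (BT.leaf cJ13054))) (BT.node 13057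 (BT.node 13056 (BT.node 13055 (BT.leaf cJ13055) (BT.leaf cJ13056)) (BT.leaf cJ13057)) (BT.node 13058 (BT.leaf cJ13058) (BT.leaf cJ13059)))) (BT.node 13064 (BT.node 13062 (BT.node 13061 (BT.node 13060 (BT.leaf cJ13060) (BT.leaf cJ13061)) (BT.leaf cJ13062)) (BT.node 13063 (BT.leaf cJ13063) (BT.leaf cJ13064))) (BT.node 13067 (BT.node 13066 (BT.node 13065 (BT.leaf cJ13065) (BT.leaf cJ13066)) (BT.leaf cJ13067)) (BT.node 13068 (BT.leaf cJ13068) (BT.leaf cJ13069))))) (BT.node 13079 (BT.node 13074 (BT.node 13072 (BT.node 13071 (BT.node 13070 (BT.leaf cJ13070) (BT.leaf cJ13071)) (BT.leaf cJ13072)) (BT.node 13073 (BT.leaf cJ13073) (BT.leaf cJ13074))) (BT.node 13077 (BT.node 13076 (BT.node 13075 (BT.leaf cJ13075) (BT.leaf cJ13076)) (BT.leaf cJ13077)) (BT.node 13078 (BT.leaf cJ13078) (BT.leaf cJ13079)))) (BT.node 13084 (BT.node 13082 (BT.node 13081 (BT.node 13080 (BT.leaf cJ13080)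 (BT.leaf cJ13081)) (BT.leaf cJ13082)) (BT.node 13083 (BT.leaf cJ13083) (BT.leaf cJ13084))) (BT.node 13087 (BT.node 13086 (BT.node 13085 (BT.leaf cJ13085) (BT.leaf cJ13086)) (BT.leaf cJ13087)) (BT.node 13088 (BT.leaf cJ13088) (BT.leaf cJ13089))))))))
noncomputable def colJT_81 : BT ℕ := (BT.node 13170 (BT.node 13130 (BT.node 13110 (BT.node 13100 (BT.node 13095 (BT.node 13092 (BT.node 13091 (BT.node 13090 (BT.leaf cJ13090) (BT.leaf cJ13091)) (BT.leaf cJ13092)) (BT.node 13094 (BT.node 13093 (BT.leaf cJ13093) (BT.leaf cJ13094)) (BT.leaf cJ13095))) (BT.node 13098 (BT.node 13097 (BT.node 13096 (BT.leaf cJ13096) (BT.leaf cJ13097)) (BT.leaf cJ13098)) (BT.node 13099 (BT.leaf cJ13099) (BT.leaf cJ13100)))) (BT.node 13105 (BT.node 13103 (BT.node 13102 (BT.node 13101 (BT.leaf cJ13101) (BT.leaf cJ13102)) (BT.leaf cJ13103)) (BT.node 13104 (BT.leaf cJ13104) (BT.leaf cJ13105))) (BT.node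 13108 (BT.node 13107 (BT.node 13106 (BT.leaf cJ13106) (BT.leaf cJ13107)) (BT.leaf cJ13108)) (BT.node 13109 (BT.leaf cJ13109) (BT.leaf cJ13110))))) (BT.node 13120 (BT.node 13115 (BT.node 13113 (BT.node 13112 (BT.node 13111 (BT.leaf cJ13111) (BT.leaf cJ13112)) (BT.leaf cJ13113)) (BT.node 13114 (BT.leaf cJ13114) (BT.leaf cJ13115))) (BT.node 13118 (BT.node 13117 (BT.node 13116 (BT.leaf cJ13116) (BT.leaf cJ13117)) (BT.leaf cJ13118)) (BT.node 13119 (BT.leaf cJ13119) (BT.leaf cJ13120)))) (BT.node 13125 (BT.node 13123 (BT.node 13122 (BT.node 13121 (BT.leaf cJ13121) (BT.leaf cJ13122)) (BT.leaf cJ13123)) (BT.node 13124 (BT.leaf cJ13124) (BT.leaf cJ13125))) (BT.node 13128 (BT.node 13127 (BT.node 13126 (BT.leaf cJ13126) (BT.leaf cJ13127)) (BT.leaf cJ13128)) (BT.node 13129 (BT.leaf cJ13129) (BT.leaf cJ13130)))))) (BT.node 13150 (BT.node 13140 (BT.node 13135 (BT.node 13133 (BT.node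 13132 (BT.node 13131 (BT.leaf cJ13131) (BT.leaf cJ13132)) (BT.leaf cJ13133)) (BT.node 13134 (BT.leaf cJ13134) (BT.leaf cJ13135))) (BT.node 13138 (BT.node 13137 (BT.node 13136 (BT.leaf cJ13136) (BT.leaf cJ13137)) (BT.leaf cJ13138)) (BT.node 13139 (BT.leaf cJ13139) (BT.leaf cJ13140)))) (BT.node 13145 (BT.node 13143 (BT.node 13142 (BT.node 13141 (BT.leaf cJ13141) (BT.leaf cJ13142)) (BT.leaf cJ13143)) (BT.node 13144 (BT.leaf cJ13144) (BT.leaf cJ13145))) (BT.node 13148 (BT.node 13147 (BT.node 13146 (BT.leaf cJ13146) (BT.leaf cJ13147)) (BT.leaf cJ13148)) (BT.node 13149 (BT.leaf cJ13149) (BT.leaf cJ13150))))) (BT.node 13160 (BT.node 13155 (BT.node 13153 (BT.node 13152 (BT.node 13151 (BT.leaf cJ13151) (BT.leaf cJ13152)) (BT.leaf cJ13153)) (BT.node 13154 (BT.leaf cJ13154) (BT.leaf cJ13155))) (BT.node 13158 (BT.node 13157 (BT.node 13156 (BT.leaf cJ13156) (BT.leaf cJ13157)) (BT.leaf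 cJ13158)) (BT.node 13159 (BT.leaf cJ13159) (BT.leaf cJ13160)))) (BT.node 13165 (BT.node 13163 (BT.node 13162 (BT.node 13161 (BT.leaf cJ13161) (BT.leaf cJ13162)) (BT.leaf cJ13163)) (BT.node 13164 (BT.leaf cJ13164) (BT.leaf cJ13165))) (BT.node 13168 (BT.node 13167 (BT.node 13166 (BT.leaf cJ13166) (BT.leaf cJ13167)) (BT.leaf cJ13168)) (BT.node 13169 (BT.leaf cJ13169) (BT.leaf cJ13170))))))) (BT.node 13211 (BT.node 13191 (BT.node 13181 (BT.node 13176 (BT.node 13173 (BT.node 13172 (BT.node 13171 (BT.leaf cJ13171) (BT.leaf cJ13172)) (BT.leaf cJ13173)) (BT.node 13175 (BT.node 13174 (BT.leaf cJ13174) (BT.leaf cJ13175)) (BT.leaf cJ13176))) (BT.node 13179 (BT.node 13178 (BT.node 13177 (BT.leaf cJ13177) (BT.leaf cJ13178)) (BT.leaf cJ13179)) (BT.node 13180 (BT.leaf cJ13180) (BT.leaf cJ13181)))) (BT.node 13186 (BT.node 13184 (BT.node 13183 (BT.node 13182 (BT.leaf cJ13182) (BT.leaf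 cJ13183)) (BT.leaf cJ13184)) (BT.node 13185 (BT.leaf cJ13185) (BT.leaf cJ13186))) (BT.node 13189 (BT.node 13188 (BT.node 13187 (BT.leaf cJ13187) (BT.leaf cJ13188)) (BT.leaf cJ13189)) (BT.node 13190 (BT.leaf cJ13190) (BT.leaf cJ13191))))) (BT.node 13201 (BT.node 13196 (BT.node 13194 (BT.node 13193 (BT.node 13192 (BT.leaf cJ13192) (BT.leaf cJ13193)) (BT.leaf cJ13194)) (BT.node 13195 (BT.leaf cJ13195) (BT.leaf cJ13196))) (BT.node 13199 (BT.node 13198 (BT.node 13197 (BT.leaf cJ13197) (BT.leaf cJ13198)) (BT.leaf cJ13199)) (BT.node 13200 (BT.leaf cJ13200) (BT.leaf cJ13201)))) (BT.node 13206 (BT.node 13204 (BT.node 13203 (BT.node 13202 (BT.leaf cJ13202) (BT.leaf cJ13203)) (BT.leaf cJ13204)) (BT.node 13205 (BT.leaf cJ13205) (BT.leaf cJ13206))) (BT.node 13209 (BT.node 13208 (BT.node 13207 (BT.leaf cJ13207) (BT.leaf cJ13208)) (BT.leaf cJ13209)) (BT.node 13210 (BT.leaf cJ13210)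 (BT.leaf cJ13211)))))) (BT.node 13231 (BT.node 13221 (BT.node 13216 (BT.node 13214 (BT.node 13213 (BT.node 13212 (BT.leaf cJ13212) (BT.leaf cJ13213)) (BT.leaf cJ13214)) (BT.node 13215 (BT.leaf cJ13215) (BT.leaf cJ13216))) (BT.node 13219 (BT.node 13218 (BT.node 13217 (BT.leaf cJ13217) (BT.leaf cJ13218)) (BT.leaf cJ13219)) (BT.node 13220 (BT.leaf cJ13220) (BT.leaf cJ13221)))) (BT.node 13226 (BT.node 13224 (BT.node 13223 (BT.node 13222 (BT.leaf cJ13222) (BT.leaf cJ13223)) (BT.leaf cJ13224)) (BT.node 13225 (BT.leaf cJ13225) (BT.leaf cJ13226))) (BT.node 13229 (BT.node 13228 (BT.node 13227 (BT.leaf cJ13227) (BT.leaf cJ13228)) (BT.leaf cJ13229)) (BT.node 13230 (BT.leaf cJ13230) (BT.leaf cJ13231))))) (BT.node 13241 (BT.node 13236 (BT.node 13234 (BT.node 13233 (BT.node 13232 (BT.leaf cJ13232) (BT.leaf cJ13233)) (BT.leaf cJ13234)) (BT.node 13235 (BT.leaf cJ13235) (BT.leaf cJ13236)))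 (BT.node 13239 (BT.node 13238 (BT.node 13237 (BT.leaf cJ13237) (BT.leaf cJ13238)) (BT.leaf cJ13239)) (BT.node 13240 (BT.leaf cJ13240) (BT.leaf cJ13241)))) (BT.node 13246 (BT.node 13244 (BT.node 13243 (BT.node 13242 (BT.leaf cJ13242) (BT.leaf cJ13243)) (BT.leaf cJ13244)) (BT.node 13245 (BT.leaf cJ13245) (BT.leaf cJ13246))) (BT.node 13249 (BT.node 13248 (BT.node 13247 (BT.leaf cJ13247) (BT.leaf cJ13248)) (BT.leaf cJ13249)) (BT.node 13250 (BT.leaf cJ13250) (BT.leaf cJ13251))))))))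
noncomputable def colJT_82 : BT ℕ := (BT.node 13332 (BT.node 13292 (BT.node 13272 (BT.node 13262 (BT.node 13257 (BT.node 13254 (BT.node 13253 (BT.node 13252 (BT.leaf cJ13252) (BT.leaf cJ13253)) (BT.leaf cJ13254)) (BT.node 13256 (BT.node 13255 (BT.leaf cJ13255) (BT.leaf cJ13256)) (BT.leaf cJ13257))) (BT.node 13260 (BT.node 13259 (BT.node 13258 (BT.leaf cJ13258) (BT.leaf cJ13259)) (BT.leaf cJ13260)) (BT.node 13261 (BT.leaf cJ13261) (BT.leaf cJ13262)))) (BT.node 13267 (BT.node 13265 (BT.node 13264 (BT.node 13263 (BT.leaf cJ13263) (BT.leaf cJ13264)) (BT.leaf cJ13265)) (BT.node 13266 (BT.leaf cJ13266) (BT.leaf cJ13267))) (BT.node 13270 (BT.node 13269 (BT.node 13268 (BT.leaf cJ13268) (BT.leaf cJ13269)) (BT.leaf cJ13270)) (BT.node 13271 (BT.leaf cJ13271) (BT.leaf cJ13272))))) (BT.node 13282 (BT.node 13277 (BT.node 13275 (BT.node 13274 (BT.node 13273 (BT.leaf cJ13273) (BT.leaf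 cJ13274)) (BT.leaf cJ13275)) (BT.node 13276 (BT.leaf cJ13276) (BT.leaf cJ13277))) (BT.node 13280 (BT.node 13279 (BT.node 13278 (BT.leaf cJ13278) (BT.leaf cJ13279)) (BT.leaf cJ13280)) (BT.node 13281 (BT.leaf cJ13281) (BT.leaf cJ13282)))) (BT.node 13287 (BT.node 13285 (BT.node 13284 (BT.node 13283 (BT.leaf cJ13283) (BT.leaf cJ13284)) (BT.leaf cJ13285)) (BT.node 13286 (BT.leaf cJ13286) (BT.leaf cJ13287))) (BT.node 13290 (BT.node 13289 (BT.node 13288 (BT.leaf cJ13288) (BT.leaf cJ13289)) (BT.leaf cJ13290)) (BT.node 13291 (BT.leaf cJ13291) (BT.leaf cJ13292)))))) (BT.node 13312 (BT.node 13302 (BT.node 13297 (BT.node 13295 (BT.node 13294 (BT.node 13293 (BT.leaf cJ13293) (BT.leaf cJ13294)) (BT.leaf cJ13295)) (BT.node 13296 (BT.leaf cJ13296) (BT.leaf cJ13297))) (BT.node 13300 (BT.node 13299 (BT.node 13298 (BT.leaf cJ13298) (BT.leaf cJ13299)) (BT.leaf cJ13300)) (BT.node 13301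 (BT.leaf cJ13301) (BT.leaf cJ13302)))) (BT.node 13307 (BT.node 13305 (BT.node 13304 (BT.node 13303 (BT.leaf cJ13303) (BT.leaf cJ13304)) (BT.leaf cJ13305)) (BT.node 13306 (BT.leaf cJ13306) (BT.leaf cJ13307))) (BT.node 13310 (BT.node 13309 (BT.node 13308 (BT.leaf cJ13308) (BT.leaf cJ13309)) (BT.leaf cJ13310)) (BT.node 13311 (BT.leaf cJ13311) (BT.leaf cJ13312))))) (BT.node 13322 (BT.node 13317 (BT.node 13315 (BT.node 13314 (BT.node 13313 (BT.leaf cJ13313) (BT.leaf cJ13314)) (BT.leaf cJ13315)) (BT.node 13316 (BT.leaf cJ13316) (BT.leaf cJ13317))) (BT.node 13320 (BT.node 13319 (BT.node 13318 (BT.leaf cJ13318) (BT.leaf cJ13319)) (BT.leaf cJ13320)) (BT.node 13321 (BT.leaf cJ13321) (BT.leaf cJ13322)))) (BT.node 13327 (BT.node 13325 (BT.node 13324 (BT.node 13323 (BT.leaf cJ13323) (BT.leaf cJ13324)) (BT.leaf cJ13325)) (BT.node 13326 (BT.leaf cJ13326) (BT.leaf cJ13327))) (BT.node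 13330 (BT.node 13329 (BT.node 13328 (BT.leaf cJ13328) (BT.leaf cJ13329)) (BT.leaf cJ13330)) (BT.node 13331 (BT.leaf cJ13331) (BT.leaf cJ13332))))))) (BT.node 13373 (BT.node 13353 (BT.node 13343 (BT.node 13338 (BT.node 13335 (BT.node 13334 (BT.node 13333 (BT.leaf cJ13333) (BT.leaf cJ13334)) (BT.leaf cJ13335)) (BT.node 13337 (BT.node 13336 (BT.leaf cJ13336) (BT.leaf cJ13337)) (BT.leaf cJ13338))) (BT.node 13341 (BT.node 13340 (BT.node 13339 (BT.leaf cJ13339) (BT.leaf cJ13340)) (BT.leaf cJ13341)) (BT.node 13342 (BT.leaf cJ13342) (BT.leaf cJ13343)))) (BT.node 13348 (BT.node 13346 (BT.node 13345 (BT.node 13344 (BT.leaf cJ13344) (BT.leaf cJ13345)) (BT.leaf cJ13346)) (BT.node 13347 (BT.leaf cJ13347) (BT.leaf cJ13348))) (BT.node 13351 (BT.node 13350 (BT.node 13349 (BT.leaf cJ13349) (BT.leaf cJ13350)) (BT.leaf cJ13351)) (BT.node 13352 (BT.leaf cJ13352) (BT.leaf cJ13353)))))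 (BT.node 13363 (BT.node 13358 (BT.node 13356 (BT.node 13355 (BT.node 13354 (BT.leaf cJ13354) (BT.leaf cJ13355)) (BT.leaf cJ13356)) (BT.node 13357 (BT.leaf cJ13357) (BT.leaf cJ13358))) (BT.node 13361 (BT.node 13360 (BT.node 13359 (BT.leaf cJ13359) (BT.leaf cJ13360)) (BT.leaf cJ13361)) (BT.node 13362 (BT.leaf cJ13362) (BT.leaf cJ13363)))) (BT.node 13368 (BT.node 13366 (BT.node 13365 (BT.node 13364 (BT.leaf cJ13364) (BT.leaf cJ13365)) (BT.leaf cJ13366)) (BT.node 13367 (BT.leaf cJ13367) (BT.leaf cJ13368))) (BT.node 13371 (BT.node 13370 (BT.node 13369 (BT.leaf cJ13369) (BT.leaf cJ13370)) (BT.leaf cJ13371)) (BT.node 13372 (BT.leaf cJ13372) (BT.leaf cJ13373)))))) (BT.node 13393 (BT.node 13383 (BT.node 13378 (BT.node 13376 (BT.node 13375 (BT.node 13374 (BT.leaf cJ13374) (BT.leaf cJ13375)) (BT.leaf cJ13376)) (BT.node 13377 (BT.leaf cJ13377) (BT.leaf cJ13378))) (BT.node 13381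 (BT.node 13380 (BT.node 13379 (BT.leaf cJ13379) (BT.leaf cJ13380)) (BT.leaf cJ13381)) (BT.node 13382 (BT.leaf cJ13382) (BT.leaf cJ13383)))) (BT.node 13388 (BT.node 13386 (BT.node 13385 (BT.node 13384 (BT.leaf cJ13384) (BT.leaf cJ13385)) (BT.leaf cJ13386)) (BT.node 13387 (BT.leaf cJ13387) (BT.leaf cJ13388))) (BT.node 13391 (BT.node 13390 (BT.node 13389 (BT.leaf cJ13389) (BT.leaf cJ13390)) (BT.leaf cJ13391)) (BT.node 13392 (BT.leaf cJ13392) (BT.leaf cJ13393))))) (BT.node 13403 (BT.node 13398 (BT.node 13396 (BT.node 13395 (BT.node 13394 (BT.leaf cJ13394) (BT.leaf cJ13395)) (BT.leaf cJ13396)) (BT.node 13397 (BT.leaf cJ13397) (BT.leaf cJ13398))) (BT.node 13401 (BT.node 13400 (BT.node 13399 (BT.leaf cJ13399) (BT.leaf cJ13400)) (BT.leaf cJ13401)) (BT.node 13402 (BT.leaf cJ13402) (BT.leaf cJ13403)))) (BT.node 13408 (BT.node 13406 (BT.node 13405 (BT.node 13404 (BT.leaf cJ13404)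 (BT.leaf cJ13405)) (BT.leaf cJ13406)) (BT.node 13407 (BT.leaf cJ13407) (BT.leaf cJ13408))) (BT.node 13411 (BT.node 13410 (BT.node 13409 (BT.leaf cJ13409) (BT.leaf cJ13410)) (BT.leaf cJ13411)) (BT.node 13412 (BT.leaf cJ13412) (BT.leaf cJ13413))))))))
noncomputable def colJT_83 : BT ℕ := (BT.node 13494 (BT.node 13454 (BT.node 13434 (BT.node 13424 (BT.node 13419 (BT.node 13416 (BT.node 13415 (BT.node 13414 (BT.leaf cJ13414) (BT.leaf cJ13415)) (BT.leaf cJ13416)) (BT.node 13418 (BT.node 13417 (BT.leaf cJ13417) (BT.leaf cJ13418)) (BT.leaf cJ13419))) (BT.node 13422 (BT.node 13421 (BT.node 13420 (BT.leaf cJ13420) (BT.leaf cJ13421)) (BT.leaf cJ13422)) (BT.node 13423 (BT.leaf cJ13423) (BT.leaf cJ13424)))) (BT.node 13429 (BT.node 13427 (BT.node 13426 (BT.node 13425 (BT.leaf cJ13425) (BT.leaf cJ13426)) (BT.leaf cJ13427)) (BT.node 13428 (BT.leaf cJ13428) (BT.leaf cJ13429))) (BT.node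 13432 (BT.node 13431 (BT.node 13430 (BT.leaf cJ13430) (BT.leaf cJ13431)) (BT.leaf cJ13432)) (BT.node 13433 (BT.leaf cJ13433) (BT.leaf cJ13434))))) (BT.node 13444 (BT.node 13439 (BT.node 13437 (BT.node 13436 (BT.node 13435 (BT.leaf cJ13435) (BT.leaf cJ13436)) (BT.leaf cJ13437)) (BT.node 13438 (BT.leaf cJ13438) (BT.leaf cJ13439))) (BT.node 13442 (BT.node 13441 (BT.node 13440 (BT.leaf cJ13440) (BT.leaf cJ13441)) (BT.leaf cJ13442)) (BT.node 13443 (BT.leaf cJ13443) (BT.leaf cJ13444)))) (BT.node 13449 (BT.node 13447 (BT.node 13446 (BT.node 13445 (BT.leaf cJ13445) (BT.leaf cJ13446)) (BT.leaf cJ13447)) (BT.node 13448 (BT.leaf cJ13448) (BT.leaf cJ13449))) (BT.node 13452 (BT.node 13451 (BT.node 13450 (BT.leaf cJ13450) (BT.leaf cJ13451)) (BT.leaf cJ13452)) (BT.node 13453 (BT.leaf cJ13453) (BT.leaf cJ13454)))))) (BT.node 13474 (BT.node 13464 (BT.node 13459 (BT.node 13457 (BT.node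 13456 (BT.node 13455 (BT.leaf cJ13455) (BT.leaf cJ13456)) (BT.leaf cJ13457)) (BT.node 13458 (BT.leaf cJ13458) (BT.leaf cJ13459))) (BT.node 13462 (BT.node 13461 (BT.node 13460 (BT.leaf cJ13460) (BT.leaf cJ13461)) (BT.leaf cJ13462)) (BT.node 13463 (BT.leaf cJ13463) (BT.leaf cJ13464)))) (BT.node 13469 (BT.node 13467 (BT.node 13466 (BT.node 13465 (BT.leaf cJ13465) (BT.leaf cJ13466)) (BT.leaf cJ13467)) (BT.node 13468 (BT.leaf cJ13468) (BT.leaf cJ13469))) (BT.node 13472 (BT.node 13471 (BT.node 13470 (BT.leaf cJ13470) (BT.leaf cJ13471)) (BT.leaf cJ13472)) (BT.node 13473 (BT.leaf cJ13473) (BT.leaf cJ13474))))) (BT.node 13484 (BT.node 13479 (BT.node 13477 (BT.node 13476 (BT.node 13475 (BT.leaf cJ13475) (BT.leaf cJ13476)) (BT.leaf cJ13477)) (BT.node 13478 (BT.leaf cJ13478) (BT.leaf cJ13479))) (BT.node 13482 (BT.node 13481 (BT.node 13480 (BT.leaf cJ13480) (BT.leaf cJ13481)) (BT.leaf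 cJ13482)) (BT.node 13483 (BT.leaf cJ13483) (BT.leaf cJ13484)))) (BT.node 13489 (BT.node 13487 (BT.node 13486 (BT.node 13485 (BT.leaf cJ13485) (BT.leaf cJ13486)) (BT.leaf cJ13487)) (BT.node 13488 (BT.leaf cJ13488) (BT.leaf cJ13489))) (BT.node 13492 (BT.node 13491 (BT.node 13490 (BT.leaf cJ13490) (BT.leaf cJ13491)) (BT.leaf cJ13492)) (BT.node 13493 (BT.leaf cJ13493) (BT.leaf cJ13494))))))) (BT.node 13534 (BT.node 13514 (BT.node 13504 (BT.node 13499 (BT.node 13497 (BT.node 13496 (BT.node 13495 (BT.leaf cJ13495) (BT.leaf cJ13496)) (BT.leaf cJ13497)) (BT.node 13498 (BT.leaf cJ13498) (BT.leaf cJ13499))) (BT.node 13502 (BT.node 13501 (BT.node 13500 (BT.leaf cJ13500) (BT.leaf cJ13501)) (BT.leaf cJ13502)) (BT.node 13503 (BT.leaf cJ13503) (BT.leaf cJ13504)))) (BT.node 13509 (BT.node 13507 (BT.node 13506 (BT.node 13505 (BT.leaf cJ13505) (BT.leaf cJ13506)) (BT.leaf cJ13507)) (BT.node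 13508 (BT.leaf cJ13508) (BT.leaf cJ13509))) (BT.node 13512 (BT.node 13511 (BT.node 13510 (BT.leaf cJ13510) (BT.leaf cJ13511)) (BT.leaf cJ13512)) (BT.node 13513 (BT.leaf cJ13513) (BT.leaf cJ13514))))) (BT.node 13524 (BT.node 13519 (BT.node 13517 (BT.node 13516 (BT.node 13515 (BT.leaf cJ13515) (BT.leaf cJ13516)) (BT.leaf cJ13517)) (BT.node 13518 (BT.leaf cJ13518) (BT.leaf cJ13519))) (BT.node 13522 (BT.node 13521 (BT.node 13520 (BT.leaf cJ13520) (BT.leaf cJ13521)) (BT.leaf cJ13522)) (BT.node 13523 (BT.leaf cJ13523) (BT.leaf cJ13524)))) (BT.node 13529 (BT.node 13527 (BT.node 13526 (BT.node 13525 (BT.leaf cJ13525) (BT.leaf cJ13526)) (BT.leaf cJ13527)) (BT.node 13528 (BT.leaf cJ13528) (BT.leaf cJ13529))) (BT.node 13532 (BT.node 13531 (BT.node 13530 (BT.leaf cJ13530) (BT.leaf cJ13531)) (BT.leaf cJ13532)) (BT.node 13533 (BT.leaf cJ13533) (BT.leaf cJ13534)))))) (BT.node 13554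 (BT.node 13544 (BT.node 13539 (BT.node 13537 (BT.node 13536 (BT.node 13535 (BT.leaf cJ13535) (BT.leaf cJ13536)) (BT.leaf cJ13537)) (BT.node 13538 (BT.leaf cJ13538) (BT.leaf cJ13539))) (BT.node 13542 (BT.node 13541 (BT.node 13540 (BT.leaf cJ13540) (BT.leaf cJ13541)) (BT.leaf cJ13542)) (BT.node 13543 (BT.leaf cJ13543) (BT.leaf cJ13544)))) (BT.node 13549 (BT.node 13547 (BT.node 13546 (BT.node 13545 (BT.leaf cJ13545) (BT.leaf cJ13546)) (BT.leaf cJ13547)) (BT.node 13548 (BT.leaf cJ13548) (BT.leaf cJ13549))) (BT.node 13552 (BT.node 13551 (BT.node 13550 (BT.leaf cJ13550) (BT.leaf cJ13551)) (BT.leaf cJ13552)) (BT.node 13553 (BT.leaf cJ13553) (BT.leaf cJ13554))))) (BT.node 13564 (BT.node 13559 (BT.node 13557 (BT.node 13556 (BT.node 13555 (BT.leaf cJ13555) (BT.leaf cJ13556)) (BT.leaf cJ13557)) (BT.node 13558 (BT.leaf cJ13558) (BT.leaf cJ13559))) (BT.node 13562 (BT.node 13561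 (BT.node 13560 (BT.leaf cJ13560) (BT.leaf cJ13561)) (BT.leaf cJ13562)) (BT.node 13563 (BT.leaf cJ13563) (BT.leaf cJ13564)))) (BT.node 13569 (BT.node 13567 (BT.node 13566 (BT.node 13565 (BT.leaf cJ13565) (BT.leaf cJ13566)) (BT.leaf cJ13567)) (BT.node 13568 (BT.leaf cJ13568) (BT.leaf cJ13569))) (BT.node 13572 (BT.node 13571 (BT.node 13570 (BT.leaf cJ13570) (BT.leaf cJ13571)) (BT.leaf cJ13572)) (BT.node 13573 (BT.leaf cJ13573) (BT.leaf cJ13574))))))))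
noncomputable def colJT_84 : BT ℕ := (BT.node 13655 (BT.node 13615 (BT.node 13595 (BT.node 13585 (BT.node 13580 (BT.node 13577 (BT.node 13576 (BT.node 13575 (BT.leaf cJ13575) (BT.leaf cJ13576)) (BT.leaf cJ13577)) (BT.node 13579 (BT.node 13578 (BT.leaf cJ13578) (BT.leaf cJ13579)) (BT.leaf cJ13580))) (BT.node 13583 (BT.node 13582 (BT.node 13581 (BT.leaf cJ13581) (BT.leaf cJ13582)) (BT.leaf cJ13583)) (BT.node 13584 (BT.leaf cJ13584) (BT.leaf cJ13585)))) (BT.node 13590 (BT.node 13588 (BT.node 13587 (BT.node 13586 (BT.leaf cJ13586) (BT.leaf cJ13587)) (BT.leaf cJ13588)) (BT.node 13589 (BT.leaf cJ13589) (BT.leaf cJ13590))) (BT.node 13593 (BT.node 13592 (BT.node 13591 (BT.leaf cJ13591) (BT.leaf cJ13592)) (BT.leaf cJ13593)) (BT.node 13594 (BT.leaf cJ13594) (BT.leaf cJ13595))))) (BT.node 13605 (BT.node 13600 (BT.node 13598 (BT.node 13597 (BT.node 13596 (BT.leaf cJ13596) (BT.leaf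 cJ13597)) (BT.leaf cJ13598)) (BT.node 13599 (BT.leaf cJ13599) (BT.leaf cJ13600))) (BT.node 13603 (BT.node 13602 (BT.node 13601 (BT.leaf cJ13601) (BT.leaf cJ13602)) (BT.leaf cJ13603)) (BT.node 13604 (BT.leaf cJ13604) (BT.leaf cJ13605)))) (BT.node 13610 (BT.node 13608 (BT.node 13607 (BT.node 13606 (BT.leaf cJ13606) (BT.leaf cJ13607)) (BT.leaf cJ13608)) (BT.node 13609 (BT.leaf cJ13609) (BT.leaf cJ13610))) (BT.node 13613 (BT.node 13612 (BT.node 13611 (BT.leaf cJ13611) (BT.leaf cJ13612)) (BT.leaf cJ13613)) (BT.node 13614 (BT.leaf cJ13614) (BT.leaf cJ13615)))))) (BT.node 13635 (BT.node 13625 (BT.node 13620 (BT.node 13618 (BT.node 13617 (BT.node 13616 (BT.leaf cJ13616) (BT.leaf cJ13617)) (BT.leaf cJ13618)) (BT.node 13619 (BT.leaf cJ13619) (BT.leaf cJ13620))) (BT.node 13623 (BT.node 13622 (BT.node 13621 (BT.leaf cJ13621) (BT.leaf cJ13622)) (BT.leaf cJ13623)) (BT.node 13624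 (BT.leaf cJ13624) (BT.leaf cJ13625)))) (BT.node 13630 (BT.node 13628 (BT.node 13627 (BT.node 13626 (BT.leaf cJ13626) (BT.leaf cJ13627)) (BT.leaf cJ13628)) (BT.node 13629 (BT.leaf cJ13629) (BT.leaf cJ13630))) (BT.node 13633 (BT.node 13632 (BT.node 13631 (BT.leaf cJ13631) (BT.leaf cJ13632)) (BT.leaf cJ13633)) (BT.node 13634 (BT.leaf cJ13634) (BT.leaf cJ13635))))) (BT.node 13645 (BT.node 13640 (BT.node 13638 (BT.node 13637 (BT.node 13636 (BT.leaf cJ13636) (BT.leaf cJ13637)) (BT.leaf cJ13638)) (BT.node 13639 (BT.leaf cJ13639) (BT.leaf cJ13640))) (BT.node 13643 (BT.node 13642 (BT.node 13641 (BT.leaf cJ13641) (BT.leaf cJ13642)) (BT.leaf cJ13643)) (BT.node 13644 (BT.leaf cJ13644) (BT.leaf cJ13645)))) (BT.node 13650 (BT.node 13648 (BT.node 13647 (BT.node 13646 (BT.leaf cJ13646) (BT.leaf cJ13647)) (BT.leaf cJ13648)) (BT.node 13649 (BT.leaf cJ13649) (BT.leaf cJ13650))) (BT.node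 13653 (BT.node 13652 (BT.node 13651 (BT.leaf cJ13651) (BT.leaf cJ13652)) (BT.leaf cJ13653)) (BT.node 13654 (BT.leaf cJ13654) (BT.leaf cJ13655))))))) (BT.node 13696 (BT.node 13676 (BT.node 13666 (BT.node 13661 (BT.node 13658 (BT.node 13657 (BT.node 13656 (BT.leaf cJ13656) (BT.leaf cJ13657)) (BT.leaf cJ13658)) (BT.node 13660 (BT.node 13659 (BT.leaf cJ13659) (BT.leaf cJ13660)) (BT.leaf cJ13661))) (BT.node 13664 (BT.node 13663 (BT.node 13662 (BT.leaf cJ13662) (BT.leaf cJ13663)) (BT.leaf cJ13664)) (BT.node 13665 (BT.leaf cJ13665) (BT.leaf cJ13666)))) (BT.node 13671 (BT.node 13669 (BT.node 13668 (BT.node 13667 (BT.leaf cJ13667) (BT.leaf cJ13668)) (BT.leaf cJ13669)) (BT.node 13670 (BT.leaf cJ13670) (BT.leaf cJ13671))) (BT.node 13674 (BT.node 13673 (BT.node 13672 (BT.leaf cJ13672) (BT.leaf cJ13673)) (BT.leaf cJ13674)) (BT.node 13675 (BT.leaf cJ13675) (BT.leaf cJ13676)))))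 (BT.node 13686 (BT.node 13681 (BT.node 13679 (BT.node 13678 (BT.node 13677 (BT.leaf cJ13677) (BT.leaf cJ13678)) (BT.leaf cJ13679)) (BT.node 13680 (BT.leaf cJ13680) (BT.leaf cJ13681))) (BT.node 13684 (BT.node 13683 (BT.node 13682 (BT.leaf cJ13682) (BT.leaf cJ13683)) (BT.leaf cJ13684)) (BT.node 13685 (BT.leaf cJ13685) (BT.leaf cJ13686)))) (BT.node 13691 (BT.node 13689 (BT.node 13688 (BT.node 13687 (BT.leaf cJ13687) (BT.leaf cJ13688)) (BT.leaf cJ13689)) (BT.node 13690 (BT.leaf cJ13690) (BT.leaf cJ13691))) (BT.node 13694 (BT.node 13693 (BT.node 13692 (BT.leaf cJ13692) (BT.leaf cJ13693)) (BT.leaf cJ13694)) (BT.node 13695 (BT.leaf cJ13695) (BT.leaf cJ13696)))))) (BT.node 13716 (BT.node 13706 (BT.node 13701 (BT.node 13699 (BT.node 13698 (BT.node 13697 (BT.leaf cJ13697) (BT.leaf cJ13698)) (BT.leaf cJ13699)) (BT.node 13700 (BT.leaf cJ13700) (BT.leaf cJ13701))) (BT.node 13704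 (BT.node 13703 (BT.node 13702 (BT.leaf cJ13702) (BT.leaf cJ13703)) (BT.leaf cJ13704)) (BT.node 13705 (BT.leaf cJ13705) (BT.leaf cJ13706)))) (BT.node 13711 (BT.node 13709 (BT.node 13708 (BT.node 13707 (BT.leaf cJ13707) (BT.leaf cJ13708)) (BT.leaf cJ13709)) (BT.node 13710 (BT.leaf cJ13710) (BT.leaf cJ13711))) (BT.node 13714 (BT.node 13713 (BT.node 13712 (BT.leaf cJ13712) (BT.leaf cJ13713)) (BT.leaf cJ13714)) (BT.node 13715 (BT.leaf cJ13715) (BT.leaf cJ13716))))) (BT.node 13726 (BT.node 13721 (BT.node 13719 (BT.node 13718 (BT.node 13717 (BT.leaf cJ13717) (BT.leaf cJ13718)) (BT.leaf cJ13719)) (BT.node 13720 (BT.leaf cJ13720) (BT.leaf cJ13721))) (BT.node 13724 (BT.node 13723 (BT.node 13722 (BT.leaf cJ13722) (BT.leaf cJ13723)) (BT.leaf cJ13724)) (BT.node 13725 (BT.leaf cJ13725) (BT.leaf cJ13726)))) (BT.node 13731 (BT.node 13729 (BT.node 13728 (BT.node 13727 (BT.leaf cJ13727)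 (BT.leaf cJ13728)) (BT.leaf cJ13729)) (BT.node 13730 (BT.leaf cJ13730) (BT.leaf cJ13731))) (BT.node 13734 (BT.node 13733 (BT.node 13732 (BT.leaf cJ13732) (BT.leaf cJ13733)) (BT.leaf cJ13734)) (BT.node 13735 (BT.leaf cJ13735) (BT.leaf cJ13736))))))))
noncomputable def colJT_85 : BT ℕ := (BT.node 13817 (BT.node 13777 (BT.node 13757 (BT.node 13747 (BT.node 13742 (BT.node 13739 (BT.node 13738 (BT.node 13737 (BT.leaf cJ13737) (BT.leaf cJ13738)) (BT.leaf cJ13739)) (BT.node 13741 (BT.node 13740 (BT.leaf cJ13740) (BT.leaf cJ13741)) (BT.leaf cJ13742))) (BT.node 13745 (BT.node 13744 (BT.node 13743 (BT.leaf cJ13743) (BT.leaf cJ13744)) (BT.leaf cJ13745)) (BT.node 13746 (BT.leaf cJ13746) (BT.leaf cJ13747)))) (BT.node 13752 (BT.node 13750 (BT.node 13749 (BT.node 13748 (BT.leaf cJ13748) (BT.leaf cJ13749)) (BT.leaf cJ13750)) (BT.node 13751 (BT.leaf cJ13751) (BT.leaf cJ13752))) (BT.node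 13755 (BT.node 13754 (BT.node 13753 (BT.leaf cJ13753) (BT.leaf cJ13754)) (BT.leaf cJ13755)) (BT.node 13756 (BT.leaf cJ13756) (BT.leaf cJ13757))))) (BT.node 13767 (BT.node 13762 (BT.node 13760 (BT.node 13759 (BT.node 13758 (BT.leaf cJ13758) (BT.leaf cJ13759)) (BT.leaf cJ13760)) (BT.node 13761 (BT.leaf cJ13761) (BT.leaf cJ13762))) (BT.node 13765 (BT.node 13764 (BT.node 13763 (BT.leaf cJ13763) (BT.leaf cJ13764)) (BT.leaf cJ13765)) (BT.node 13766 (BT.leaf cJ13766) (BT.leaf cJ13767)))) (BT.node 13772 (BT.node 13770 (BT.node 13769 (BT.node 13768 (BT.leaf cJ13768) (BT.leaf cJ13769)) (BT.leaf cJ13770)) (BT.node 13771 (BT.leaf cJ13771) (BT.leaf cJ13772))) (BT.node 13775 (BT.node 13774 (BT.node 13773 (BT.leaf cJ13773) (BT.leaf cJ13774)) (BT.leaf cJ13775)) (BT.node 13776 (BT.leaf cJ13776) (BT.leaf cJ13777)))))) (BT.node 13797 (BT.node 13787 (BT.node 13782 (BT.node 13780 (BT.node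 13779 (BT.node 13778 (BT.leaf cJ13778) (BT.leaf cJ13779)) (BT.leaf cJ13780)) (BT.node 13781 (BT.leaf cJ13781) (BT.leaf cJ13782))) (BT.node 13785 (BT.node 13784 (BT.node 13783 (BT.leaf cJ13783) (BT.leaf cJ13784)) (BT.leaf cJ13785)) (BT.node 13786 (BT.leaf cJ13786) (BT.leaf cJ13787)))) (BT.node 13792 (BT.node 13790 (BT.node 13789 (BT.node 13788 (BT.leaf cJ13788) (BT.leaf cJ13789)) (BT.leaf cJ13790)) (BT.node 13791 (BT.leaf cJ13791) (BT.leaf cJ13792))) (BT.node 13795 (BT.node 13794 (BT.node 13793 (BT.leaf cJ13793) (BT.leaf cJ13794)) (BT.leaf cJ13795)) (BT.node 13796 (BT.leaf cJ13796) (BT.leaf cJ13797))))) (BT.node 13807 (BT.node 13802 (BT.node 13800 (BT.node 13799 (BT.node 13798 (BT.leaf cJ13798) (BT.leaf cJ13799)) (BT.leaf cJ13800)) (BT.node 13801 (BT.leaf cJ13801) (BT.leaf cJ13802))) (BT.node 13805 (BT.node 13804 (BT.node 13803 (BT.leaf cJ13803) (BT.leaf cJ13804)) (BT.leaf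 cJ13805)) (BT.node 13806 (BT.leaf cJ13806) (BT.leaf cJ13807)))) (BT.node 13812 (BT.node 13810 (BT.node 13809 (BT.node 13808 (BT.leaf cJ13808) (BT.leaf cJ13809)) (BT.leaf cJ13810)) (BT.node 13811 (BT.leaf cJ13811) (BT.leaf cJ13812))) (BT.node 13815 (BT.node 13814 (BT.node 13813 (BT.leaf cJ13813) (BT.leaf cJ13814)) (BT.leaf cJ13815)) (BT.node 13816 (BT.leaf cJ13816) (BT.leaf cJ13817))))))) (BT.node 13857 (BT.node 13837 (BT.node 13827 (BT.node 13822 (BT.node 13820 (BT.node 13819 (BT.node 13818 (BT.leaf cJ13818) (BT.leaf cJ13819)) (BT.leaf cJ13820)) (BT.node 13821 (BT.leaf cJ13821) (BT.leaf cJ13822))) (BT.node 13825 (BT.node 13824 (BT.node 13823 (BT.leaf cJ13823) (BT.leaf cJ13824)) (BT.leaf cJ13825)) (BT.node 13826 (BT.leaf cJ13826) (BT.leaf cJ13827)))) (BT.node 13832 (BT.node 13830 (BT.node 13829 (BT.node 13828 (BT.leaf cJ13828) (BT.leaf cJ13829)) (BT.leaf cJ13830)) (BT.node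 13831 (BT.leaf cJ13831) (BT.leaf cJ13832))) (BT.node 13835 (BT.node 13834 (BT.node 13833 (BT.leaf cJ13833) (BT.leaf cJ13834)) (BT.leaf cJ13835)) (BT.node 13836 (BT.leaf cJ13836) (BT.leaf cJ13837))))) (BT.node 13847 (BT.node 13842 (BT.node 13840 (BT.node 13839 (BT.node 13838 (BT.leaf cJ13838) (BT.leaf cJ13839)) (BT.leaf cJ13840)) (BT.node 13841 (BT.leaf cJ13841) (BT.leaf cJ13842))) (BT.node 13845 (BT.node 13844 (BT.node 13843 (BT.leaf cJ13843) (BT.leaf cJ13844)) (BT.leaf cJ13845)) (BT.node 13846 (BT.leaf cJ13846) (BT.leaf cJ13847)))) (BT.node 13852 (BT.node 13850 (BT.node 13849 (BT.node 13848 (BT.leaf cJ13848) (BT.leaf cJ13849)) (BT.leaf cJ13850)) (BT.node 13851 (BT.leaf cJ13851) (BT.leaf cJ13852))) (BT.node 13855 (BT.node 13854 (BT.node 13853 (BT.leaf cJ13853) (BT.leaf cJ13854)) (BT.leaf cJ13855)) (BT.node 13856 (BT.leaf cJ13856) (BT.leaf cJ13857)))))) (BT.node 13877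 (BT.node 13867 (BT.node 13862 (BT.node 13860 (BT.node 13859 (BT.node 13858 (BT.leaf cJ13858) (BT.leaf cJ13859)) (BT.leaf cJ13860)) (BT.node 13861 (BT.leaf cJ13861) (BT.leaf cJ13862))) (BT.node 13865 (BT.node 13864 (BT.node 13863 (BT.leaf cJ13863) (BT.leaf cJ13864)) (BT.leaf cJ13865)) (BT.node 13866 (BT.leaf cJ13866) (BT.leaf cJ13867)))) (BT.node 13872 (BT.node 13870 (BT.node 13869 (BT.node 13868 (BT.leaf cJ13868) (BT.leaf cJ13869)) (BT.leaf cJ13870)) (BT.node 13871 (BT.leaf cJ13871) (BT.leaf cJ13872))) (BT.node 13875 (BT.node 13874 (BT.node 13873 (BT.leaf cJ13873) (BT.leaf cJ13874)) (BT.leaf cJ13875)) (BT.node 13876 (BT.leaf cJ13876) (BT.leaf cJ13877))))) (BT.node 13887 (BT.node 13882 (BT.node 13880 (BT.node 13879 (BT.node 13878 (BT.leaf cJ13878) (BT.leaf cJ13879)) (BT.leaf cJ13880)) (BT.node 13881 (BT.leaf cJ13881) (BT.leaf cJ13882))) (BT.node 13885 (BT.node 13884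 (BT.node 13883 (BT.leaf cJ13883) (BT.leaf cJ13884)) (BT.leaf cJ13885)) (BT.node 13886 (BT.leaf cJ13886) (BT.leaf cJ13887)))) (BT.node 13892 (BT.node 13890 (BT.node 13889 (BT.node 13888 (BT.leaf cJ13888) (BT.leaf cJ13889)) (BT.leaf cJ13890)) (BT.node 13891 (BT.leaf cJ13891) (BT.leaf cJ13892))) (BT.node 13895 (BT.node 13894 (BT.node 13893 (BT.leaf cJ13893) (BT.leaf cJ13894)) (BT.leaf cJ13895)) (BT.node 13896 (BT.leaf cJ13896) (BT.leaf cJ13897))))))))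
noncomputable def colJT_86 : BT ℕ := (BT.node 13978 (BT.node 13938 (BT.node 13918 (BT.node 13908 (BT.node 13903 (BT.node 13900 (BT.node 13899 (BT.node 13898 (BT.leaf cJ13898) (BT.leaf cJ13899)) (BT.leaf cJ13900)) (BT.node 13902 (BT.node 13901 (BT.leaf cJ13901) (BT.leaf cJ13902)) (BT.leaf cJ13903))) (BT.node 13906 (BT.node 13905 (BT.node 13904 (BT.leaf cJ13904) (BT.leaf cJ13905)) (BT.leaf cJ13906)) (BT.node 13907 (BT.leaf cJ13907) (BT.leaf cJ13908)))) (BT.node 13913 (BT.node 13911 (BT.node 13910 (BT.node 13909 (BT.leaf cJ13909) (BT.leaf cJ13910)) (BT.leaf cJ13911)) (BT.node 13912 (BT.leaf cJ13912) (BT.leaf cJ13913))) (BT.node 13916 (BT.node 13915 (BT.node 13914 (BT.leaf cJ13914) (BT.leaf cJ13915)) (BT.leaf cJ13916)) (BT.node 13917 (BT.leaf cJ13917) (BT.leaf cJ13918))))) (BT.node 13928 (BT.node 13923 (BT.node 13921 (BT.node 13920 (BT.node 13919 (BT.leaf cJ13919) (BT.leaf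 cJ13920)) (BT.leaf cJ13921)) (BT.node 13922 (BT.leaf cJ13922) (BT.leaf cJ13923))) (BT.node 13926 (BT.node 13925 (BT.node 13924 (BT.leaf cJ13924) (BT.leaf cJ13925)) (BT.leaf cJ13926)) (BT.node 13927 (BT.leaf cJ13927) (BT.leaf cJ13928)))) (BT.node 13933 (BT.node 13931 (BT.node 13930 (BT.node 13929 (BT.leaf cJ13929) (BT.leaf cJ13930)) (BT.leaf cJ13931)) (BT.node 13932 (BT.leaf cJ13932) (BT.leaf cJ13933))) (BT.node 13936 (BT.node 13935 (BT.node 13934 (BT.leaf cJ13934) (BT.leaf cJ13935)) (BT.leaf cJ13936)) (BT.node 13937 (BT.leaf cJ13937) (BT.leaf cJ13938)))))) (BT.node 13958 (BT.node 13948 (BT.node 13943 (BT.node 13941 (BT.node 13940 (BT.node 13939 (BT.leaf cJ13939) (BT.leaf cJ13940)) (BT.leaf cJ13941)) (BT.node 13942 (BT.leaf cJ13942) (BT.leaf cJ13943))) (BT.node 13946 (BT.node 13945 (BT.node 13944 (BT.leaf cJ13944) (BT.leaf cJ13945)) (BT.leaf cJ13946)) (BT.node 13947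 (BT.leaf cJ13947) (BT.leaf cJ13948)))) (BT.node 13953 (BT.node 13951 (BT.node 13950 (BT.node 13949 (BT.leaf cJ13949) (BT.leaf cJ13950)) (BT.leaf cJ13951)) (BT.node 13952 (BT.leaf cJ13952) (BT.leaf cJ13953))) (BT.node 13956 (BT.node 13955 (BT.node 13954 (BT.leaf cJ13954) (BT.leaf cJ13955)) (BT.leaf cJ13956)) (BT.node 13957 (BT.leaf cJ13957) (BT.leaf cJ13958))))) (BT.node 13968 (BT.node 13963 (BT.node 13961 (BT.node 13960 (BT.node 13959 (BT.leaf cJ13959) (BT.leaf cJ13960)) (BT.leaf cJ13961)) (BT.node 13962 (BT.leaf cJ13962) (BT.leaf cJ13963))) (BT.node 13966 (BT.node 13965 (BT.node 13964 (BT.leaf cJ13964) (BT.leaf cJ13965)) (BT.leaf cJ13966)) (BT.node 13967 (BT.leaf cJ13967) (BT.leaf cJ13968)))) (BT.node 13973 (BT.node 13971 (BT.node 13970 (BT.node 13969 (BT.leaf cJ13969) (BT.leaf cJ13970)) (BT.leaf cJ13971)) (BT.node 13972 (BT.leaf cJ13972) (BT.leaf cJ13973))) (BT.node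 13976 (BT.node 13975 (BT.node 13974 (BT.leaf cJ13974) (BT.leaf cJ13975)) (BT.leaf cJ13976)) (BT.node 13977 (BT.leaf cJ13977) (BT.leaf cJ13978))))))) (BT.node 14019 (BT.node 13999 (BT.node 13989 (BT.node 13984 (BT.node 13981 (BT.node 13980 (BT.node 13979 (BT.leaf cJ13979) (BT.leaf cJ13980)) (BT.leaf cJ13981)) (BT.node 13983 (BT.node 13982 (BT.leaf cJ13982) (BT.leaf cJ13983)) (BT.leaf cJ13984))) (BT.node 13987 (BT.node 13986 (BT.node 13985 (BT.leaf cJ13985) (BT.leaf cJ13986)) (BT.leaf cJ13987)) (BT.node 13988 (BT.leaf cJ13988) (BT.leaf cJ13989)))) (BT.node 13994 (BT.node 13992 (BT.node 13991 (BT.node 13990 (BT.leaf cJ13990) (BT.leaf cJ13991)) (BT.leaf cJ13992)) (BT.node 13993 (BT.leaf cJ13993) (BT.leaf cJ13994))) (BT.node 13997 (BT.node 13996 (BT.node 13995 (BT.leaf cJ13995) (BT.leaf cJ13996)) (BT.leaf cJ13997)) (BT.node 13998 (BT.leaf cJ13998) (BT.leaf cJ13999)))))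 (BT.node 14009 (BT.node 14004 (BT.node 14002 (BT.node 14001 (BT.node 14000 (BT.leaf cJ14000) (BT.leaf cJ14001)) (BT.leaf cJ14002)) (BT.node 14003 (BT.leaf cJ14003) (BT.leaf cJ14004))) (BT.node 14007 (BT.node 14006 (BT.node 14005 (BT.leaf cJ14005) (BT.leaf cJ14006)) (BT.leaf cJ14007)) (BT.node 14008 (BT.leaf cJ14008) (BT.leaf cJ14009)))) (BT.node 14014 (BT.node 14012 (BT.node 14011 (BT.node 14010 (BT.leaf cJ14010) (BT.leaf cJ14011)) (BT.leaf cJ14012)) (BT.node 14013 (BT.leaf cJ14013) (BT.leaf cJ14014))) (BT.node 14017 (BT.node 14016 (BT.node 14015 (BT.leaf cJ14015) (BT.leaf cJ14016)) (BT.leaf cJ14017)) (BT.node 14018 (BT.leaf cJ14018) (BT.leaf cJ14019)))))) (BT.node 14039 (BT.node 14029 (BT.node 14024 (BT.node 14022 (BT.node 14021 (BT.node 14020 (BT.leaf cJ14020) (BT.leaf cJ14021)) (BT.leaf cJ14022)) (BT.node 14023 (BT.leaf cJ14023) (BT.leaf cJ14024))) (BT.node 14027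 (BT.node 14026 (BT.node 14025 (BT.leaf cJ14025) (BT.leaf cJ14026)) (BT.leaf cJ14027)) (BT.node 14028 (BT.leaf cJ14028) (BT.leaf cJ14029)))) (BT.node 14034 (BT.node 14032 (BT.node 14031 (BT.node 14030 (BT.leaf cJ14030) (BT.leaf cJ14031)) (BT.leaf cJ14032)) (BT.node 14033 (BT.leaf cJ14033) (BT.leaf cJ14034))) (BT.node 14037 (BT.node 14036 (BT.node 14035 (BT.leaf cJ14035) (BT.leaf cJ14036)) (BT.leaf cJ14037)) (BT.node 14038 (BT.leaf cJ14038) (BT.leaf cJ14039))))) (BT.node 14049 (BT.node 14044 (BT.node 14042 (BT.node 14041 (BT.node 14040 (BT.leaf cJ14040) (BT.leaf cJ14041)) (BT.leaf cJ14042)) (BT.node 14043 (BT.leaf cJ14043) (BT.leaf cJ14044))) (BT.node 14047 (BT.node 14046 (BT.node 14045 (BT.leaf cJ14045) (BT.leaf cJ14046)) (BT.leaf cJ14047)) (BT.node 14048 (BT.leaf cJ14048) (BT.leaf cJ14049)))) (BT.node 14054 (BT.node 14052 (BT.node 14051 (BT.node 14050 (BT.leaf cJ14050)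 (BT.leaf cJ14051)) (BT.leaf cJ14052)) (BT.node 14053 (BT.leaf cJ14053) (BT.leaf cJ14054))) (BT.node 14057 (BT.node 14056 (BT.node 14055 (BT.leaf cJ14055) (BT.leaf cJ14056)) (BT.leaf cJ14057)) (BT.node 14058 (BT.leaf cJ14058) (BT.leaf cJ14059))))))))
noncomputable def colJT_87 : BT ℕ := (BT.node 14140 (BT.node 14100 (BT.node 14080 (BT.node 14070 (BT.node 14065 (BT.node 14062 (BT.node 14061 (BT.node 14060 (BT.leaf cJ14060) (BT.leaf cJ14061)) (BT.leaf cJ14062)) (BT.node 14064 (BT.node 14063 (BT.leaf cJ14063) (BT.leaf cJ14064)) (BT.leaf cJ14065))) (BT.node 14068 (BT.node 14067 (BT.node 14066 (BT.leaf cJ14066) (BT.leaf cJ14067)) (BT.leaf cJ14068)) (BT.node 14069 (BT.leaf cJ14069) (BT.leaf cJ14070)))) (BT.node 14075 (BT.node 14073 (BT.node 14072 (BT.node 14071 (BT.leaf cJ14071) (BT.leaf cJ14072)) (BT.leaf cJ14073)) (BT.node 14074 (BT.leaf cJ14074) (BT.leaf cJ14075))) (BT.node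 14078 (BT.node 14077 (BT.node 14076 (BT.leaf cJ14076) (BT.leaf cJ14077)) (BT.leaf cJ14078)) (BT.node 14079 (BT.leaf cJ14079) (BT.leaf cJ14080))))) (BT.node 14090 (BT.node 14085 (BT.node 14083 (BT.node 14082 (BT.node 14081 (BT.leaf cJ14081) (BT.leaf cJ14082)) (BT.leaf cJ14083)) (BT.node 14084 (BT.leaf cJ14084) (BT.leaf cJ14085))) (BT.node 14088 (BT.node 14087 (BT.node 14086 (BT.leaf cJ14086) (BT.leaf cJ14087)) (BT.leaf cJ14088)) (BT.node 14089 (BT.leaf cJ14089) (BT.leaf cJ14090)))) (BT.node 14095 (BT.node 14093 (BT.node 14092 (BT.node 14091 (BT.leaf cJ14091) (BT.leaf cJ14092)) (BT.leaf cJ14093)) (BT.node 14094 (BT.leaf cJ14094) (BT.leaf cJ14095))) (BT.node 14098 (BT.node 14097 (BT.node 14096 (BT.leaf cJ14096) (BT.leaf cJ14097)) (BT.leaf cJ14098)) (BT.node 14099 (BT.leaf cJ14099) (BT.leaf cJ14100)))))) (BT.node 14120 (BT.node 14110 (BT.node 14105 (BT.node 14103 (BT.node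 14102 (BT.node 14101 (BT.leaf cJ14101) (BT.leaf cJ14102)) (BT.leaf cJ14103)) (BT.node 14104 (BT.leaf cJ14104) (BT.leaf cJ14105))) (BT.node 14108 (BT.node 14107 (BT.node 14106 (BT.leaf cJ14106) (BT.leaf cJ14107)) (BT.leaf cJ14108)) (BT.node 14109 (BT.leaf cJ14109) (BT.leaf cJ14110)))) (BT.node 14115 (BT.node 14113 (BT.node 14112 (BT.node 14111 (BT.leaf cJ14111) (BT.leaf cJ14112)) (BT.leaf cJ14113)) (BT.node 14114 (BT.leaf cJ14114) (BT.leaf cJ14115))) (BT.node 14118 (BT.node 14117 (BT.node 14116 (BT.leaf cJ14116) (BT.leaf cJ14117)) (BT.leaf cJ14118)) (BT.node 14119 (BT.leaf cJ14119) (BT.leaf cJ14120))))) (BT.node 14130 (BT.node 14125 (BT.node 14123 (BT.node 14122 (BT.node 14121 (BT.leaf cJ14121) (BT.leaf cJ14122)) (BT.leaf cJ14123)) (BT.node 14124 (BT.leaf cJ14124) (BT.leaf cJ14125))) (BT.node 14128 (BT.node 14127 (BT.node 14126 (BT.leaf cJ14126) (BT.leaf cJ14127)) (BT.leaf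 cJ14128)) (BT.node 14129 (BT.leaf cJ14129) (BT.leaf cJ14130)))) (BT.node 14135 (BT.node 14133 (BT.node 14132 (BT.node 14131 (BT.leaf cJ14131) (BT.leaf cJ14132)) (BT.leaf cJ14133)) (BT.node 14134 (BT.leaf cJ14134) (BT.leaf cJ14135))) (BT.node 14138 (BT.node 14137 (BT.node 14136 (BT.leaf cJ14136) (BT.leaf cJ14137)) (BT.leaf cJ14138)) (BT.node 14139 (BT.leaf cJ14139) (BT.leaf cJ14140))))))) (BT.node 14180 (BT.node 14160 (BT.node 14150 (BT.node 14145 (BT.node 14143 (BT.node 14142 (BT.node 14141 (BT.leaf cJ14141) (BT.leaf cJ14142)) (BT.leaf cJ14143)) (BT.node 14144 (BT.leaf cJ14144) (BT.leaf cJ14145))) (BT.node 14148 (BT.node 14147 (BT.node 14146 (BT.leaf cJ14146) (BT.leaf cJ14147)) (BT.leaf cJ14148)) (BT.node 14149 (BT.leaf cJ14149) (BT.leaf cJ14150)))) (BT.node 14155 (BT.node 14153 (BT.node 14152 (BT.node 14151 (BT.leaf cJ14151) (BT.leaf cJ14152)) (BT.leaf cJ14153)) (BT.node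 14154 (BT.leaf cJ14154) (BT.leaf cJ14155))) (BT.node 14158 (BT.node 14157 (BT.node 14156 (BT.leaf cJ14156) (BT.leaf cJ14157)) (BT.leaf cJ14158)) (BT.node 14159 (BT.leaf cJ14159) (BT.leaf cJ14160))))) (BT.node 14170 (BT.node 14165 (BT.node 14163 (BT.node 14162 (BT.node 14161 (BT.leaf cJ14161) (BT.leaf cJ14162)) (BT.leaf cJ14163)) (BT.node 14164 (BT.leaf cJ14164) (BT.leaf cJ14165))) (BT.node 14168 (BT.node 14167 (BT.node 14166 (BT.leaf cJ14166) (BT.leaf cJ14167)) (BT.leaf cJ14168)) (BT.node 14169 (BT.leaf cJ14169) (BT.leaf cJ14170)))) (BT.node 14175 (BT.node 14173 (BT.node 14172 (BT.node 14171 (BT.leaf cJ14171) (BT.leaf cJ14172)) (BT.leaf cJ14173)) (BT.node 14174 (BT.leaf cJ14174) (BT.leaf cJ14175))) (BT.node 14178 (BT.node 14177 (BT.node 14176 (BT.leaf cJ14176) (BT.leaf cJ14177)) (BT.leaf cJ14178)) (BT.node 14179 (BT.leaf cJ14179) (BT.leaf cJ14180)))))) (BT.node 14200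 (BT.node 14190 (BT.node 14185 (BT.node 14183 (BT.node 14182 (BT.node 14181 (BT.leaf cJ14181) (BT.leaf cJ14182)) (BT.leaf cJ14183)) (BT.node 14184 (BT.leaf cJ14184) (BT.leaf cJ14185))) (BT.node 14188 (BT.node 14187 (BT.node 14186 (BT.leaf cJ14186) (BT.leaf cJ14187)) (BT.leaf cJ14188)) (BT.node 14189 (BT.leaf cJ14189) (BT.leaf cJ14190)))) (BT.node 14195 (BT.node 14193 (BT.node 14192 (BT.node 14191 (BT.leaf cJ14191) (BT.leaf cJ14192)) (BT.leaf cJ14193)) (BT.node 14194 (BT.leaf cJ14194) (BT.leaf cJ14195))) (BT.node 14198 (BT.node 14197 (BT.node 14196 (BT.leaf cJ14196) (BT.leaf cJ14197)) (BT.leaf cJ14198)) (BT.node 14199 (BT.leaf cJ14199) (BT.leaf cJ14200))))) (BT.node 14210 (BT.node 14205 (BT.node 14203 (BT.node 14202 (BT.node 14201 (BT.leaf cJ14201) (BT.leaf cJ14202)) (BT.leaf cJ14203)) (BT.node 14204 (BT.leaf cJ14204) (BT.leaf cJ14205))) (BT.node 14208 (BT.node 14207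 (BT.node 14206 (BT.leaf cJ14206) (BT.leaf cJ14207)) (BT.leaf cJ14208)) (BT.node 14209 (BT.leaf cJ14209) (BT.leaf cJ14210)))) (BT.node 14215 (BT.node 14213 (BT.node 14212 (BT.node 14211 (BT.leaf cJ14211) (BT.leaf cJ14212)) (BT.leaf cJ14213)) (BT.node 14214 (BT.leaf cJ14214) (BT.leaf cJ14215))) (BT.node 14218 (BT.node 14217 (BT.node 14216 (BT.leaf cJ14216) (BT.leaf cJ14217)) (BT.leaf cJ14218)) (BT.node 14219 (BT.leaf cJ14219) (BT.leaf cJ14220))))))))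
noncomputable def colJT_88 : BT ℕ := (BT.node 14301 (BT.node 14261 (BT.node 14241 (BT.node 14231 (BT.node 14226 (BT.node 14223 (BT.node 14222 (BT.node 14221 (BT.leaf cJ14221) (BT.leaf cJ14222)) (BT.leaf cJ14223)) (BT.node 14225 (BT.node 14224 (BT.leaf cJ14224) (BT.leaf cJ14225)) (BT.leaf cJ14226))) (BT.node 14229 (BT.node 14228 (BT.node 14227 (BT.leaf cJ14227) (BT.leaf cJ14228)) (BT.leaf cJ14229)) (BT.node 14230 (BT.leaf cJ14230) (BT.leaf cJ14231)))) (BT.node 14236 (BT.node 14234 (BT.node 14233 (BT.node 14232 (BT.leaf cJ14232) (BT.leaf cJ14233)) (BT.leaf cJ14234)) (BT.node 14235 (BT.leaf cJ14235) (BT.leaf cJ14236))) (BT.node 14239 (BT.node 14238 (BT.node 14237 (BT.leaf cJ14237) (BT.leaf cJ14238)) (BT.leaf cJ14239)) (BT.node 14240 (BT.leaf cJ14240) (BT.leaf cJ14241))))) (BT.node 14251 (BT.node 14246 (BT.node 14244 (BT.node 14243 (BT.node 14242 (BT.leaf cJ14242) (BT.leaf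 cJ14243)) (BT.leaf cJ14244)) (BT.node 14245 (BT.leaf cJ14245) (BT.leaf cJ14246))) (BT.node 14249 (BT.node 14248 (BT.node 14247 (BT.leaf cJ14247) (BT.leaf cJ14248)) (BT.leaf cJ14249)) (BT.node 14250 (BT.leaf cJ14250) (BT.leaf cJ14251)))) (BT.node 14256 (BT.node 14254 (BT.node 14253 (BT.node 14252 (BT.leaf cJ14252) (BT.leaf cJ14253)) (BT.leaf cJ14254)) (BT.node 14255 (BT.leaf cJ14255) (BT.leaf cJ14256))) (BT.node 14259 (BT.node 14258 (BT.node 14257 (BT.leaf cJ14257) (BT.leaf cJ14258)) (BT.leaf cJ14259)) (BT.node 14260 (BT.leaf cJ14260) (BT.leaf cJ14261)))))) (BT.node 14281 (BT.node 14271 (BT.node 14266 (BT.node 14264 (BT.node 14263 (BT.node 14262 (BT.leaf cJ14262) (BT.leaf cJ14263)) (BT.leaf cJ14264)) (BT.node 14265 (BT.leaf cJ14265) (BT.leaf cJ14266))) (BT.node 14269 (BT.node 14268 (BT.node 14267 (BT.leaf cJ14267) (BT.leaf cJ14268)) (BT.leaf cJ14269)) (BT.node 14270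 (BT.leaf cJ14270) (BT.leaf cJ14271)))) (BT.node 14276 (BT.node 14274 (BT.node 14273 (BT.node 14272 (BT.leaf cJ14272) (BT.leaf cJ14273)) (BT.leaf cJ14274)) (BT.node 14275 (BT.leaf cJ14275) (BT.leaf cJ14276))) (BT.node 14279 (BT.node 14278 (BT.node 14277 (BT.leaf cJ14277) (BT.leaf cJ14278)) (BT.leaf cJ14279)) (BT.node 14280 (BT.leaf cJ14280) (BT.leaf cJ14281))))) (BT.node 14291 (BT.node 14286 (BT.node 14284 (BT.node 14283 (BT.node 14282 (BT.leaf cJ14282) (BT.leaf cJ14283)) (BT.leaf cJ14284)) (BT.node 14285 (BT.leaf cJ14285) (BT.leaf cJ14286))) (BT.node 14289 (BT.node 14288 (BT.node 14287 (BT.leaf cJ14287) (BT.leaf cJ14288)) (BT.leaf cJ14289)) (BT.node 14290 (BT.leaf cJ14290) (BT.leaf cJ14291)))) (BT.node 14296 (BT.node 14294 (BT.node 14293 (BT.node 14292 (BT.leaf cJ14292) (BT.leaf cJ14293)) (BT.leaf cJ14294)) (BT.node 14295 (BT.leaf cJ14295) (BT.leaf cJ14296))) (BT.node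 14299 (BT.node 14298 (BT.node 14297 (BT.leaf cJ14297) (BT.leaf cJ14298)) (BT.leaf cJ14299)) (BT.node 14300 (BT.leaf cJ14300) (BT.leaf cJ14301))))))) (BT.node 14342 (BT.node 14322 (BT.node 14312 (BT.node 14307 (BT.node 14304 (BT.node 14303 (BT.node 14302 (BT.leaf cJ14302) (BT.leaf cJ14303)) (BT.leaf cJ14304)) (BT.node 14306 (BT.node 14305 (BT.leaf cJ14305) (BT.leaf cJ14306)) (BT.leaf cJ14307))) (BT.node 14310 (BT.node 14309 (BT.node 14308 (BT.leaf cJ14308) (BT.leaf cJ14309)) (BT.leaf cJ14310)) (BT.node 14311 (BT.leaf cJ14311) (BT.leaf cJ14312)))) (BT.node 14317 (BT.node 14315 (BT.node 14314 (BT.node 14313 (BT.leaf cJ14313) (BT.leaf cJ14314)) (BT.leaf cJ14315)) (BT.node 14316 (BT.leaf cJ14316) (BT.leaf cJ14317))) (BT.node 14320 (BT.node 14319 (BT.node 14318 (BT.leaf cJ14318) (BT.leaf cJ14319)) (BT.leaf cJ14320)) (BT.node 14321 (BT.leaf cJ14321) (BT.leaf cJ14322)))))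 (BT.node 14332 (BT.node 14327 (BT.node 14325 (BT.node 14324 (BT.node 14323 (BT.leaf cJ14323) (BT.leaf cJ14324)) (BT.leaf cJ14325)) (BT.node 14326 (BT.leaf cJ14326) (BT.leaf cJ14327))) (BT.node 14330 (BT.node 14329 (BT.node 14328 (BT.leaf cJ14328) (BT.leaf cJ14329)) (BT.leaf cJ14330)) (BT.node 14331 (BT.leaf cJ14331) (BT.leaf cJ14332)))) (BT.node 14337 (BT.node 14335 (BT.node 14334 (BT.node 14333 (BT.leaf cJ14333) (BT.leaf cJ14334)) (BT.leaf cJ14335)) (BT.node 14336 (BT.leaf cJ14336) (BT.leaf cJ14337))) (BT.node 14340 (BT.node 14339 (BT.node 14338 (BT.leaf cJ14338) (BT.leaf cJ14339)) (BT.leaf cJ14340)) (BT.node 14341 (BT.leaf cJ14341) (BT.leaf cJ14342)))))) (BT.node 14362 (BT.node 14352 (BT.node 14347 (BT.node 14345 (BT.node 14344 (BT.node 14343 (BT.leaf cJ14343) (BT.leaf cJ14344)) (BT.leaf cJ14345)) (BT.node 14346 (BT.leaf cJ14346) (BT.leaf cJ14347))) (BT.node 14350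 (BT.node 14349 (BT.node 14348 (BT.leaf cJ14348) (BT.leaf cJ14349)) (BT.leaf cJ14350)) (BT.node 14351 (BT.leaf cJ14351) (BT.leaf cJ14352)))) (BT.node 14357 (BT.node 14355 (BT.node 14354 (BT.node 14353 (BT.leaf cJ14353) (BT.leaf cJ14354)) (BT.leaf cJ14355)) (BT.node 14356 (BT.leaf cJ14356) (BT.leaf cJ14357))) (BT.node 14360 (BT.node 14359 (BT.node 14358 (BT.leaf cJ14358) (BT.leaf cJ14359)) (BT.leaf cJ14360)) (BT.node 14361 (BT.leaf cJ14361) (BT.leaf cJ14362))))) (BT.node 14372 (BT.node 14367 (BT.node 14365 (BT.node 14364 (BT.node 14363 (BT.leaf cJ14363) (BT.leaf cJ14364)) (BT.leaf cJ14365)) (BT.node 14366 (BT.leaf cJ14366) (BT.leaf cJ14367))) (BT.node 14370 (BT.node 14369 (BT.node 14368 (BT.leaf cJ14368) (BT.leaf cJ14369)) (BT.leaf cJ14370)) (BT.node 14371 (BT.leaf cJ14371) (BT.leaf cJ14372)))) (BT.node 14377 (BT.node 14375 (BT.node 14374 (BT.node 14373 (BT.leaf cJ14373)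 (BT.leaf cJ14374)) (BT.leaf cJ14375)) (BT.node 14376 (BT.leaf cJ14376) (BT.leaf cJ14377))) (BT.node 14380 (BT.node 14379 (BT.node 14378 (BT.leaf cJ14378) (BT.leaf cJ14379)) (BT.leaf cJ14380)) (BT.node 14381 (BT.leaf cJ14381) (BT.leaf cJ14382))))))))
noncomputable def colJT_89 : BT ℕ := (BT.node 14463 (BT.node 14423 (BT.node 14403 (BT.node 14393 (BT.node 14388 (BT.node 14385 (BT.node 14384 (BT.node 14383 (BT.leaf cJ14383) (BT.leaf cJ14384)) (BT.leaf cJ14385)) (BT.node 14387 (BT.node 14386 (BT.leaf cJ14386) (BT.leaf cJ14387)) (BT.leaf cJ14388))) (BT.node 14391 (BT.node 14390 (BT.node 14389 (BT.leaf cJ14389) (BT.leaf cJ14390)) (BT.leaf cJ14391)) (BT.node 14392 (BT.leaf cJ14392) (BT.leaf cJ14393)))) (BT.node 14398 (BT.node 14396 (BT.node 14395 (BT.node 14394 (BT.leaf cJ14394) (BT.leaf cJ14395)) (BT.leaf cJ14396)) (BT.node 14397 (BT.leaf cJ14397) (BT.leaf cJ14398))) (BT.node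 14401 (BT.node 14400 (BT.node 14399 (BT.leaf cJ14399) (BT.leaf cJ14400)) (BT.leaf cJ14401)) (BT.node 14402 (BT.leaf cJ14402) (BT.leaf cJ14403))))) (BT.node 14413 (BT.node 14408 (BT.node 14406 (BT.node 14405 (BT.node 14404 (BT.leaf cJ14404) (BT.leaf cJ14405)) (BT.leaf cJ14406)) (BT.node 14407 (BT.leaf cJ14407) (BT.leaf cJ14408))) (BT.node 14411 (BT.node 14410 (BT.node 14409 (BT.leaf cJ14409) (BT.leaf cJ14410)) (BT.leaf cJ14411)) (BT.node 14412 (BT.leaf cJ14412) (BT.leaf cJ14413)))) (BT.node 14418 (BT.node 14416 (BT.node 14415 (BT.node 14414 (BT.leaf cJ14414) (BT.leaf cJ14415)) (BT.leaf cJ14416)) (BT.node 14417 (BT.leaf cJ14417) (BT.leaf cJ14418))) (BT.node 14421 (BT.node 14420 (BT.node 14419 (BT.leaf cJ14419) (BT.leaf cJ14420)) (BT.leaf cJ14421)) (BT.node 14422 (BT.leaf cJ14422) (BT.leaf cJ14423)))))) (BT.node 14443 (BT.node 14433 (BT.node 14428 (BT.node 14426 (BT.node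 14425 (BT.node 14424 (BT.leaf cJ14424) (BT.leaf cJ14425)) (BT.leaf cJ14426)) (BT.node 14427 (BT.leaf cJ14427) (BT.leaf cJ14428))) (BT.node 14431 (BT.node 14430 (BT.node 14429 (BT.leaf cJ14429) (BT.leaf cJ14430)) (BT.leaf cJ14431)) (BT.node 14432 (BT.leaf cJ14432) (BT.leaf cJ14433)))) (BT.node 14438 (BT.node 14436 (BT.node 14435 (BT.node 14434 (BT.leaf cJ14434) (BT.leaf cJ14435)) (BT.leaf cJ14436)) (BT.node 14437 (BT.leaf cJ14437) (BT.leaf cJ14438))) (BT.node 14441 (BT.node 14440 (BT.node 14439 (BT.leaf cJ14439) (BT.leaf cJ14440)) (BT.leaf cJ14441)) (BT.node 14442 (BT.leaf cJ14442) (BT.leaf cJ14443))))) (BT.node 14453 (BT.node 14448 (BT.node 14446 (BT.node 14445 (BT.node 14444 (BT.leaf cJ14444) (BT.leaf cJ14445)) (BT.leaf cJ14446)) (BT.node 14447 (BT.leaf cJ14447) (BT.leaf cJ14448))) (BT.node 14451 (BT.node 14450 (BT.node 14449 (BT.leaf cJ14449) (BT.leaf cJ14450)) (BT.leaf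 cJ14451)) (BT.node 14452 (BT.leaf cJ14452) (BT.leaf cJ14453)))) (BT.node 14458 (BT.node 14456 (BT.node 14455 (BT.node 14454 (BT.leaf cJ14454) (BT.leaf cJ14455)) (BT.leaf cJ14456)) (BT.node 14457 (BT.leaf cJ14457) (BT.leaf cJ14458))) (BT.node 14461 (BT.node 14460 (BT.node 14459 (BT.leaf cJ14459) (BT.leaf cJ14460)) (BT.leaf cJ14461)) (BT.node 14462 (BT.leaf cJ14462) (BT.leaf cJ14463))))))) (BT.node 14503 (BT.node 14483 (BT.node 14473 (BT.node 14468 (BT.node 14466 (BT.node 14465 (BT.node 14464 (BT.leaf cJ14464) (BT.leaf cJ14465)) (BT.leaf cJ14466)) (BT.node 14467 (BT.leaf cJ14467) (BT.leaf cJ14468))) (BT.node 14471 (BT.node 14470 (BT.node 14469 (BT.leaf cJ14469) (BT.leaf cJ14470)) (BT.leaf cJ14471)) (BT.node 14472 (BT.leaf cJ14472) (BT.leaf cJ14473)))) (BT.node 14478 (BT.node 14476 (BT.node 14475 (BT.node 14474 (BT.leaf cJ14474) (BT.leaf cJ14475)) (BT.leaf cJ14476)) (BT.node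 14477 (BT.leaf cJ14477) (BT.leaf cJ14478))) (BT.node 14481 (BT.node 14480 (BT.node 14479 (BT.leaf cJ14479) (BT.leaf cJ14480)) (BT.leaf cJ14481)) (BT.node 14482 (BT.leaf cJ14482) (BT.leaf cJ14483))))) (BT.node 14493 (BT.node 14488 (BT.node 14486 (BT.node 14485 (BT.node 14484 (BT.leaf cJ14484) (BT.leaf cJ14485)) (BT.leaf cJ14486)) (BT.node 14487 (BT.leaf cJ14487) (BT.leaf cJ14488))) (BT.node 14491 (BT.node 14490 (BT.node 14489 (BT.leaf cJ14489) (BT.leaf cJ14490)) (BT.leaf cJ14491)) (BT.node 14492 (BT.leaf cJ14492) (BT.leaf cJ14493)))) (BT.node 14498 (BT.node 14496 (BT.node 14495 (BT.node 14494 (BT.leaf cJ14494) (BT.leaf cJ14495)) (BT.leaf cJ14496)) (BT.node 14497 (BT.leaf cJ14497) (BT.leaf cJ14498))) (BT.node 14501 (BT.node 14500 (BT.node 14499 (BT.leaf cJ14499) (BT.leaf cJ14500)) (BT.leaf cJ14501)) (BT.node 14502 (BT.leaf cJ14502) (BT.leaf cJ14503)))))) (BT.node 14523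 (BT.node 14513 (BT.node 14508 (BT.node 14506 (BT.node 14505 (BT.node 14504 (BT.leaf cJ14504) (BT.leaf cJ14505)) (BT.leaf cJ14506)) (BT.node 14507 (BT.leaf cJ14507) (BT.leaf cJ14508))) (BT.node 14511 (BT.node 14510 (BT.node 14509 (BT.leaf cJ14509) (BT.leaf cJ14510)) (BT.leaf cJ14511)) (BT.node 14512 (BT.leaf cJ14512) (BT.leaf cJ14513)))) (BT.node 14518 (BT.node 14516 (BT.node 14515 (BT.node 14514 (BT.leaf cJ14514) (BT.leaf cJ14515)) (BT.leaf cJ14516)) (BT.node 14517 (BT.leaf cJ14517) (BT.leaf cJ14518))) (BT.node 14521 (BT.node 14520 (BT.node 14519 (BT.leaf cJ14519) (BT.leaf cJ14520)) (BT.leaf cJ14521)) (BT.node 14522 (BT.leaf cJ14522) (BT.leaf cJ14523))))) (BT.node 14533 (BT.node 14528 (BT.node 14526 (BT.node 14525 (BT.node 14524 (BT.leaf cJ14524) (BT.leaf cJ14525)) (BT.leaf cJ14526)) (BT.node 14527 (BT.leaf cJ14527) (BT.leaf cJ14528))) (BT.node 14531 (BT.node 14530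 (BT.node 14529 (BT.leaf cJ14529) (BT.leaf cJ14530)) (BT.leaf cJ14531)) (BT.node 14532 (BT.leaf cJ14532) (BT.leaf cJ14533)))) (BT.node 14538 (BT.node 14536 (BT.node 14535 (BT.node 14534 (BT.leaf cJ14534) (BT.leaf cJ14535)) (BT.leaf cJ14536)) (BT.node 14537 (BT.leaf cJ14537) (BT.leaf cJ14538))) (BT.node 14541 (BT.node 14540 (BT.node 14539 (BT.leaf cJ14539) (BT.leaf cJ14540)) (BT.leaf cJ14541)) (BT.node 14542 (BT.leaf cJ14542) (BT.leaf cJ14543))))))))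
noncomputable def colJT_90 : BT ℕ := (BT.node 14624 (BT.node 14584 (BT.node 14564 (BT.node 14554 (BT.node 14549 (BT.node 14546 (BT.node 14545 (BT.node 14544 (BT.leaf cJ14544) (BT.leaf cJ14545)) (BT.leaf cJ14546)) (BT.node 14548 (BT.node 14547 (BT.leaf cJ14547) (BT.leaf cJ14548)) (BT.leaf cJ14549))) (BT.node 14552 (BT.node 14551 (BT.node 14550 (BT.leaf cJ14550) (BT.leaf cJ14551)) (BT.leaf cJ14552)) (BT.node 14553 (BT.leaf cJ14553) (BT.leaf cJ14554)))) (BT.node 14559 (BT.node 14557 (BT.node 14556 (BT.node 14555 (BT.leaf cJ14555) (BT.leaf cJ14556)) (BT.leaf cJ14557)) (BT.node 14558 (BT.leaf cJ14558) (BT.leaf cJ14559))) (BT.node 14562 (BT.node 14561 (BT.node 14560 (BT.leaf cJ14560) (BT.leaf cJ14561)) (BT.leaf cJ14562)) (BT.node 14563 (BT.leaf cJ14563) (BT.leaf cJ14564))))) (BT.node 14574 (BT.node 14569 (BT.node 14567 (BT.node 14566 (BT.node 14565 (BT.leaf cJ14565) (BT.leaf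 cJ14566)) (BT.leaf cJ14567)) (BT.node 14568 (BT.leaf cJ14568) (BT.leaf cJ14569))) (BT.node 14572 (BT.node 14571 (BT.node 14570 (BT.leaf cJ14570) (BT.leaf cJ14571)) (BT.leaf cJ14572)) (BT.node 14573 (BT.leaf cJ14573) (BT.leaf cJ14574)))) (BT.node 14579 (BT.node 14577 (BT.node 14576 (BT.node 14575 (BT.leaf cJ14575) (BT.leaf cJ14576)) (BT.leaf cJ14577)) (BT.node 14578 (BT.leaf cJ14578) (BT.leaf cJ14579))) (BT.node 14582 (BT.node 14581 (BT.node 14580 (BT.leaf cJ14580) (BT.leaf cJ14581)) (BT.leaf cJ14582)) (BT.node 14583 (BT.leaf cJ14583) (BT.leaf cJ14584)))))) (BT.node 14604 (BT.node 14594 (BT.node 14589 (BT.node 14587 (BT.node 14586 (BT.node 14585 (BT.leaf cJ14585) (BT.leaf cJ14586)) (BT.leaf cJ14587)) (BT.node 14588 (BT.leaf cJ14588) (BT.leaf cJ14589))) (BT.node 14592 (BT.node 14591 (BT.node 14590 (BT.leaf cJ14590) (BT.leaf cJ14591)) (BT.leaf cJ14592)) (BT.node 14593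 (BT.leaf cJ14593) (BT.leaf cJ14594)))) (BT.node 14599 (BT.node 14597 (BT.node 14596 (BT.node 14595 (BT.leaf cJ14595) (BT.leaf cJ14596)) (BT.leaf cJ14597)) (BT.node 14598 (BT.leaf cJ14598) (BT.leaf cJ14599))) (BT.node 14602 (BT.node 14601 (BT.node 14600 (BT.leaf cJ14600) (BT.leaf cJ14601)) (BT.leaf cJ14602)) (BT.node 14603 (BT.leaf cJ14603) (BT.leaf cJ14604))))) (BT.node 14614 (BT.node 14609 (BT.node 14607 (BT.node 14606 (BT.node 14605 (BT.leaf cJ14605) (BT.leaf cJ14606)) (BT.leaf cJ14607)) (BT.node 14608 (BT.leaf cJ14608) (BT.leaf cJ14609))) (BT.node 14612 (BT.node 14611 (BT.node 14610 (BT.leaf cJ14610) (BT.leaf cJ14611)) (BT.leaf cJ14612)) (BT.node 14613 (BT.leaf cJ14613) (BT.leaf cJ14614)))) (BT.node 14619 (BT.node 14617 (BT.node 14616 (BT.node 14615 (BT.leaf cJ14615) (BT.leaf cJ14616)) (BT.leaf cJ14617)) (BT.node 14618 (BT.leaf cJ14618) (BT.leaf cJ14619))) (BT.node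 14622 (BT.node 14621 (BT.node 14620 (BT.leaf cJ14620) (BT.leaf cJ14621)) (BT.leaf cJ14622)) (BT.node 14623 (BT.leaf cJ14623) (BT.leaf cJ14624))))))) (BT.node 14665 (BT.node 14645 (BT.node 14635 (BT.node 14630 (BT.node 14627 (BT.node 14626 (BT.node 14625 (BT.leaf cJ14625) (BT.leaf cJ14626)) (BT.leaf cJ14627)) (BT.node 14629 (BT.node 14628 (BT.leaf cJ14628) (BT.leaf cJ14629)) (BT.leaf cJ14630))) (BT.node 14633 (BT.node 14632 (BT.node 14631 (BT.leaf cJ14631) (BT.leaf cJ14632)) (BT.leaf cJ14633)) (BT.node 14634 (BT.leaf cJ14634) (BT.leaf cJ14635)))) (BT.node 14640 (BT.node 14638 (BT.node 14637 (BT.node 14636 (BT.leaf cJ14636) (BT.leaf cJ14637)) (BT.leaf cJ14638)) (BT.node 14639 (BT.leaf cJ14639) (BT.leaf cJ14640))) (BT.node 14643 (BT.node 14642 (BT.node 14641 (BT.leaf cJ14641) (BT.leaf cJ14642)) (BT.leaf cJ14643)) (BT.node 14644 (BT.leaf cJ14644) (BT.leaf cJ14645)))))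 (BT.node 14655 (BT.node 14650 (BT.node 14648 (BT.node 14647 (BT.node 14646 (BT.leaf cJ14646) (BT.leaf cJ14647)) (BT.leaf cJ14648)) (BT.node 14649 (BT.leaf cJ14649) (BT.leaf cJ14650))) (BT.node 14653 (BT.node 14652 (BT.node 14651 (BT.leaf cJ14651) (BT.leaf cJ14652)) (BT.leaf cJ14653)) (BT.node 14654 (BT.leaf cJ14654) (BT.leaf cJ14655)))) (BT.node 14660 (BT.node 14658 (BT.node 14657 (BT.node 14656 (BT.leaf cJ14656) (BT.leaf cJ14657)) (BT.leaf cJ14658)) (BT.node 14659 (BT.leaf cJ14659) (BT.leaf cJ14660))) (BT.node 14663 (BT.node 14662 (BT.node 14661 (BT.leaf cJ14661) (BT.leaf cJ14662)) (BT.leaf cJ14663)) (BT.node 14664 (BT.leaf cJ14664) (BT.leaf cJ14665)))))) (BT.node 14685 (BT.node 14675 (BT.node 14670 (BT.node 14668 (BT.node 14667 (BT.node 14666 (BT.leaf cJ14666) (BT.leaf cJ14667)) (BT.leaf cJ14668)) (BT.node 14669 (BT.leaf cJ14669) (BT.leaf cJ14670))) (BT.node 14673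 (BT.node 14672 (BT.node 14671 (BT.leaf cJ14671) (BT.leaf cJ14672)) (BT.leaf cJ14673)) (BT.node 14674 (BT.leaf cJ14674) (BT.leaf cJ14675)))) (BT.node 14680 (BT.node 14678 (BT.node 14677 (BT.node 14676 (BT.leaf cJ14676) (BT.leaf cJ14677)) (BT.leaf cJ14678)) (BT.node 14679 (BT.leaf cJ14679) (BT.leaf cJ14680))) (BT.node 14683 (BT.node 14682 (BT.node 14681 (BT.leaf cJ14681) (BT.leaf cJ14682)) (BT.leaf cJ14683)) (BT.node 14684 (BT.leaf cJ14684) (BT.leaf cJ14685))))) (BT.node 14695 (BT.node 14690 (BT.node 14688 (BT.node 14687 (BT.node 14686 (BT.leaf cJ14686) (BT.leaf cJ14687)) (BT.leaf cJ14688)) (BT.node 14689 (BT.leaf cJ14689) (BT.leaf cJ14690))) (BT.node 14693 (BT.node 14692 (BT.node 14691 (BT.leaf cJ14691) (BT.leaf cJ14692)) (BT.leaf cJ14693)) (BT.node 14694 (BT.leaf cJ14694) (BT.leaf cJ14695)))) (BT.node 14700 (BT.node 14698 (BT.node 14697 (BT.node 14696 (BT.leaf cJ14696)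 (BT.leaf cJ14697)) (BT.leaf cJ14698)) (BT.node 14699 (BT.leaf cJ14699) (BT.leaf cJ14700))) (BT.node 14703 (BT.node 14702 (BT.node 14701 (BT.leaf cJ14701) (BT.leaf cJ14702)) (BT.leaf cJ14703)) (BT.node 14704 (BT.leaf cJ14704) (BT.leaf cJ14705))))))))
noncomputable def colJT_91 : BT ℕ := (BT.node 14786 (BT.node 14746 (BT.node 14726 (BT.node 14716 (BT.node 14711 (BT.node 14708 (BT.node 14707 (BT.node 14706 (BT.leaf cJ14706) (BT.leaf cJ14707)) (BT.leaf cJ14708)) (BT.node 14710 (BT.node 14709 (BT.leaf cJ14709) (BT.leaf cJ14710)) (BT.leaf cJ14711))) (BT.node 14714 (BT.node 14713 (BT.node 14712 (BT.leaf cJ14712) (BT.leaf cJ14713)) (BT.leaf cJ14714)) (BT.node 14715 (BT.leaf cJ14715) (BT.leaf cJ14716)))) (BT.node 14721 (BT.node 14719 (BT.node 14718 (BT.node 14717 (BT.leaf cJ14717) (BT.leaf cJ14718)) (BT.leaf cJ14719)) (BT.node 14720 (BT.leaf cJ14720) (BT.leaf cJ14721))) (BT.node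 14724 (BT.node 14723 (BT.node 14722 (BT.leaf cJ14722) (BT.leaf cJ14723)) (BT.leaf cJ14724)) (BT.node 14725 (BT.leaf cJ14725) (BT.leaf cJ14726))))) (BT.node 14736 (BT.node 14731 (BT.node 14729 (BT.node 14728 (BT.node 14727 (BT.leaf cJ14727) (BT.leaf cJ14728)) (BT.leaf cJ14729)) (BT.node 14730 (BT.leaf cJ14730) (BT.leaf cJ14731))) (BT.node 14734 (BT.node 14733 (BT.node 14732 (BT.leaf cJ14732) (BT.leaf cJ14733)) (BT.leaf cJ14734)) (BT.node 14735 (BT.leaf cJ14735) (BT.leaf cJ14736)))) (BT.node 14741 (BT.node 14739 (BT.node 14738 (BT.node 14737 (BT.leaf cJ14737) (BT.leaf cJ14738)) (BT.leaf cJ14739)) (BT.node 14740 (BT.leaf cJ14740) (BT.leaf cJ14741))) (BT.node 14744 (BT.node 14743 (BT.node 14742 (BT.leaf cJ14742) (BT.leaf cJ14743)) (BT.leaf cJ14744)) (BT.node 14745 (BT.leaf cJ14745) (BT.leaf cJ14746)))))) (BT.node 14766 (BT.node 14756 (BT.node 14751 (BT.node 14749 (BT.node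 14748 (BT.node 14747 (BT.leaf cJ14747) (BT.leaf cJ14748)) (BT.leaf cJ14749)) (BT.node 14750 (BT.leaf cJ14750) (BT.leaf cJ14751))) (BT.node 14754 (BT.node 14753 (BT.node 14752 (BT.leaf cJ14752) (BT.leaf cJ14753)) (BT.leaf cJ14754)) (BT.node 14755 (BT.leaf cJ14755) (BT.leaf cJ14756)))) (BT.node 14761 (BT.node 14759 (BT.node 14758 (BT.node 14757 (BT.leaf cJ14757) (BT.leaf cJ14758)) (BT.leaf cJ14759)) (BT.node 14760 (BT.leaf cJ14760) (BT.leaf cJ14761))) (BT.node 14764 (BT.node 14763 (BT.node 14762 (BT.leaf cJ14762) (BT.leaf cJ14763)) (BT.leaf cJ14764)) (BT.node 14765 (BT.leaf cJ14765) (BT.leaf cJ14766))))) (BT.node 14776 (BT.node 14771 (BT.node 14769 (BT.node 14768 (BT.node 14767 (BT.leaf cJ14767) (BT.leaf cJ14768)) (BT.leaf cJ14769)) (BT.node 14770 (BT.leaf cJ14770) (BT.leaf cJ14771))) (BT.node 14774 (BT.node 14773 (BT.node 14772 (BT.leaf cJ14772) (BT.leaf cJ14773)) (BT.leaf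 cJ14774)) (BT.node 14775 (BT.leaf cJ14775) (BT.leaf cJ14776)))) (BT.node 14781 (BT.node 14779 (BT.node 14778 (BT.node 14777 (BT.leaf cJ14777) (BT.leaf cJ14778)) (BT.leaf cJ14779)) (BT.node 14780 (BT.leaf cJ14780) (BT.leaf cJ14781))) (BT.node 14784 (BT.node 14783 (BT.node 14782 (BT.leaf cJ14782) (BT.leaf cJ14783)) (BT.leaf cJ14784)) (BT.node 14785 (BT.leaf cJ14785) (BT.leaf cJ14786))))))) (BT.node 14826 (BT.node 14806 (BT.node 14796 (BT.node 14791 (BT.node 14789 (BT.node 14788 (BT.node 14787 (BT.leaf cJ14787) (BT.leaf cJ14788)) (BT.leaf cJ14789)) (BT.node 14790 (BT.leaf cJ14790) (BT.leaf cJ14791))) (BT.node 14794 (BT.node 14793 (BT.node 14792 (BT.leaf cJ14792) (BT.leaf cJ14793)) (BT.leaf cJ14794)) (BT.node 14795 (BT.leaf cJ14795) (BT.leaf cJ14796)))) (BT.node 14801 (BT.node 14799 (BT.node 14798 (BT.node 14797 (BT.leaf cJ14797) (BT.leaf cJ14798)) (BT.leaf cJ14799)) (BT.node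 14800 (BT.leaf cJ14800) (BT.leaf cJ14801))) (BT.node 14804 (BT.node 14803 (BT.node 14802 (BT.leaf cJ14802) (BT.leaf cJ14803)) (BT.leaf cJ14804)) (BT.node 14805 (BT.leaf cJ14805) (BT.leaf cJ14806))))) (BT.node 14816 (BT.node 14811 (BT.node 14809 (BT.node 14808 (BT.node 14807 (BT.leaf cJ14807) (BT.leaf cJ14808)) (BT.leaf cJ14809)) (BT.node 14810 (BT.leaf cJ14810) (BT.leaf cJ14811))) (BT.node 14814 (BT.node 14813 (BT.node 14812 (BT.leaf cJ14812) (BT.leaf cJ14813)) (BT.leaf cJ14814)) (BT.node 14815 (BT.leaf cJ14815) (BT.leaf cJ14816)))) (BT.node 14821 (BT.node 14819 (BT.node 14818 (BT.node 14817 (BT.leaf cJ14817) (BT.leaf cJ14818)) (BT.leaf cJ14819)) (BT.node 14820 (BT.leaf cJ14820) (BT.leaf cJ14821))) (BT.node 14824 (BT.node 14823 (BT.node 14822 (BT.leaf cJ14822) (BT.leaf cJ14823)) (BT.leaf cJ14824)) (BT.node 14825 (BT.leaf cJ14825) (BT.leaf cJ14826)))))) (BT.node 14846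 (BT.node 14836 (BT.node 14831 (BT.node 14829 (BT.node 14828 (BT.node 14827 (BT.leaf cJ14827) (BT.leaf cJ14828)) (BT.leaf cJ14829)) (BT.node 14830 (BT.leaf cJ14830) (BT.leaf cJ14831))) (BT.node 14834 (BT.node 14833 (BT.node 14832 (BT.leaf cJ14832) (BT.leaf cJ14833)) (BT.leaf cJ14834)) (BT.node 14835 (BT.leaf cJ14835) (BT.leaf cJ14836)))) (BT.node 14841 (BT.node 14839 (BT.node 14838 (BT.node 14837 (BT.leaf cJ14837) (BT.leaf cJ14838)) (BT.leaf cJ14839)) (BT.node 14840 (BT.leaf cJ14840) (BT.leaf cJ14841))) (BT.node 14844 (BT.node 14843 (BT.node 14842 (BT.leaf cJ14842) (BT.leaf cJ14843)) (BT.leaf cJ14844)) (BT.node 14845 (BT.leaf cJ14845) (BT.leaf cJ14846))))) (BT.node 14856 (BT.node 14851 (BT.node 14849 (BT.node 14848 (BT.node 14847 (BT.leaf cJ14847) (BT.leaf cJ14848)) (BT.leaf cJ14849)) (BT.node 14850 (BT.leaf cJ14850) (BT.leaf cJ14851))) (BT.node 14854 (BT.node 14853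 (BT.node 14852 (BT.leaf cJ14852) (BT.leaf cJ14853)) (BT.leaf cJ14854)) (BT.node 14855 (BT.leaf cJ14855) (BT.leaf cJ14856)))) (BT.node 14861 (BT.node 14859 (BT.node 14858 (BT.node 14857 (BT.leaf cJ14857) (BT.leaf cJ14858)) (BT.leaf cJ14859)) (BT.node 14860 (BT.leaf cJ14860) (BT.leaf cJ14861))) (BT.node 14864 (BT.node 14863 (BT.node 14862 (BT.leaf cJ14862) (BT.leaf cJ14863)) (BT.leaf cJ14864)) (BT.node 14865 (BT.leaf cJ14865) (BT.leaf cJ14866))))))))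
noncomputable def colJT_92 : BT ℕ := (BT.node 14947 (BT.node 14907 (BT.node 14887 (BT.node 14877 (BT.node 14872 (BT.node 14869 (BT.node 14868 (BT.node 14867 (BT.leaf cJ14867) (BT.leaf cJ14868)) (BT.leaf cJ14869)) (BT.node 14871 (BT.node 14870 (BT.leaf cJ14870) (BT.leaf cJ14871)) (BT.leaf cJ14872))) (BT.node 14875 (BT.node 14874 (BT.node 14873 (BT.leaf cJ14873) (BT.leaf cJ14874)) (BT.leaf cJ14875)) (BT.node 14876 (BT.leaf cJ14876) (BT.leaf cJ14877)))) (BT.node 14882 (BT.node 14880 (BT.node 14879 (BT.node 14878 (BT.leaf cJ14878) (BT.leaf cJ14879)) (BT.leaf cJ14880)) (BT.node 14881 (BT.leaf cJ14881) (BT.leaf cJ14882))) (BT.node 14885 (BT.node 14884 (BT.node 14883 (BT.leaf cJ14883) (BT.leaf cJ14884)) (BT.leaf cJ14885)) (BT.node 14886 (BT.leaf cJ14886) (BT.leaf cJ14887))))) (BT.node 14897 (BT.node 14892 (BT.node 14890 (BT.node 14889 (BT.node 14888 (BT.leaf cJ14888) (BT.leaf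 cJ14889)) (BT.leaf cJ14890)) (BT.node 14891 (BT.leaf cJ14891) (BT.leaf cJ14892))) (BT.node 14895 (BT.node 14894 (BT.node 14893 (BT.leaf cJ14893) (BT.leaf cJ14894)) (BT.leaf cJ14895)) (BT.node 14896 (BT.leaf cJ14896) (BT.leaf cJ14897)))) (BT.node 14902 (BT.node 14900 (BT.node 14899 (BT.node 14898 (BT.leaf cJ14898) (BT.leaf cJ14899)) (BT.leaf cJ14900)) (BT.node 14901 (BT.leaf cJ14901) (BT.leaf cJ14902))) (BT.node 14905 (BT.node 14904 (BT.node 14903 (BT.leaf cJ14903) (BT.leaf cJ14904)) (BT.leaf cJ14905)) (BT.node 14906 (BT.leaf cJ14906) (BT.leaf cJ14907)))))) (BT.node 14927 (BT.node 14917 (BT.node 14912 (BT.node 14910 (BT.node 14909 (BT.node 14908 (BT.leaf cJ14908) (BT.leaf cJ14909)) (BT.leaf cJ14910)) (BT.node 14911 (BT.leaf cJ14911) (BT.leaf cJ14912))) (BT.node 14915 (BT.node 14914 (BT.node 14913 (BT.leaf cJ14913) (BT.leaf cJ14914)) (BT.leaf cJ14915)) (BT.node 14916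 (BT.leaf cJ14916) (BT.leaf cJ14917)))) (BT.node 14922 (BT.node 14920 (BT.node 14919 (BT.node 14918 (BT.leaf cJ14918) (BT.leaf cJ14919)) (BT.leaf cJ14920)) (BT.node 14921 (BT.leaf cJ14921) (BT.leaf cJ14922))) (BT.node 14925 (BT.node 14924 (BT.node 14923 (BT.leaf cJ14923) (BT.leaf cJ14924)) (BT.leaf cJ14925)) (BT.node 14926 (BT.leaf cJ14926) (BT.leaf cJ14927))))) (BT.node 14937 (BT.node 14932 (BT.node 14930 (BT.node 14929 (BT.node 14928 (BT.leaf cJ14928) (BT.leaf cJ14929)) (BT.leaf cJ14930)) (BT.node 14931 (BT.leaf cJ14931) (BT.leaf cJ14932))) (BT.node 14935 (BT.node 14934 (BT.node 14933 (BT.leaf cJ14933) (BT.leaf cJ14934)) (BT.leaf cJ14935)) (BT.node 14936 (BT.leaf cJ14936) (BT.leaf cJ14937)))) (BT.node 14942 (BT.node 14940 (BT.node 14939 (BT.node 14938 (BT.leaf cJ14938) (BT.leaf cJ14939)) (BT.leaf cJ14940)) (BT.node 14941 (BT.leaf cJ14941) (BT.leaf cJ14942))) (BT.node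 14945 (BT.node 14944 (BT.node 14943 (BT.leaf cJ14943) (BT.leaf cJ14944)) (BT.leaf cJ14945)) (BT.node 14946 (BT.leaf cJ14946) (BT.leaf cJ14947))))))) (BT.node 14988 (BT.node 14968 (BT.node 14958 (BT.node 14953 (BT.node 14950 (BT.node 14949 (BT.node 14948 (BT.leaf cJ14948) (BT.leaf cJ14949)) (BT.leaf cJ14950)) (BT.node 14952 (BT.node 14951 (BT.leaf cJ14951) (BT.leaf cJ14952)) (BT.leaf cJ14953))) (BT.node 14956 (BT.node 14955 (BT.node 14954 (BT.leaf cJ14954) (BT.leaf cJ14955)) (BT.leaf cJ14956)) (BT.node 14957 (BT.leaf cJ14957) (BT.leaf cJ14958)))) (BT.node 14963 (BT.node 14961 (BT.node 14960 (BT.node 14959 (BT.leaf cJ14959) (BT.leaf cJ14960)) (BT.leaf cJ14961)) (BT.node 14962 (BT.leaf cJ14962) (BT.leaf cJ14963))) (BT.node 14966 (BT.node 14965 (BT.node 14964 (BT.leaf cJ14964) (BT.leaf cJ14965)) (BT.leaf cJ14966)) (BT.node 14967 (BT.leaf cJ14967) (BT.leaf cJ14968)))))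 (BT.node 14978 (BT.node 14973 (BT.node 14971 (BT.node 14970 (BT.node 14969 (BT.leaf cJ14969) (BT.leaf cJ14970)) (BT.leaf cJ14971)) (BT.node 14972 (BT.leaf cJ14972) (BT.leaf cJ14973))) (BT.node 14976 (BT.node 14975 (BT.node 14974 (BT.leaf cJ14974) (BT.leaf cJ14975)) (BT.leaf cJ14976)) (BT.node 14977 (BT.leaf cJ14977) (BT.leaf cJ14978)))) (BT.node 14983 (BT.node 14981 (BT.node 14980 (BT.node 14979 (BT.leaf cJ14979) (BT.leaf cJ14980)) (BT.leaf cJ14981)) (BT.node 14982 (BT.leaf cJ14982) (BT.leaf cJ14983))) (BT.node 14986 (BT.node 14985 (BT.node 14984 (BT.leaf cJ14984) (BT.leaf cJ14985)) (BT.leaf cJ14986)) (BT.node 14987 (BT.leaf cJ14987) (BT.leaf cJ14988)))))) (BT.node 15008 (BT.node 14998 (BT.node 14993 (BT.node 14991 (BT.node 14990 (BT.node 14989 (BT.leaf cJ14989) (BT.leaf cJ14990)) (BT.leaf cJ14991)) (BT.node 14992 (BT.leaf cJ14992) (BT.leaf cJ14993))) (BT.node 14996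 (BT.node 14995 (BT.node 14994 (BT.leaf cJ14994) (BT.leaf cJ14995)) (BT.leaf cJ14996)) (BT.node 14997 (BT.leaf cJ14997) (BT.leaf cJ14998)))) (BT.node 15003 (BT.node 15001 (BT.node 15000 (BT.node 14999 (BT.leaf cJ14999) (BT.leaf cJ15000)) (BT.leaf cJ15001)) (BT.node 15002 (BT.leaf cJ15002) (BT.leaf cJ15003))) (BT.node 15006 (BT.node 15005 (BT.node 15004 (BT.leaf cJ15004) (BT.leaf cJ15005)) (BT.leaf cJ15006)) (BT.node 15007 (BT.leaf cJ15007) (BT.leaf cJ15008))))) (BT.node 15018 (BT.node 15013 (BT.node 15011 (BT.node 15010 (BT.node 15009 (BT.leaf cJ15009) (BT.leaf cJ15010)) (BT.leaf cJ15011)) (BT.node 15012 (BT.leaf cJ15012) (BT.leaf cJ15013))) (BT.node 15016 (BT.node 15015 (BT.node 15014 (BT.leaf cJ15014) (BT.leaf cJ15015)) (BT.leaf cJ15016)) (BT.node 15017 (BT.leaf cJ15017) (BT.leaf cJ15018)))) (BT.node 15023 (BT.node 15021 (BT.node 15020 (BT.node 15019 (BT.leaf cJ15019)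 (BT.leaf cJ15020)) (BT.leaf cJ15021)) (BT.node 15022 (BT.leaf cJ15022) (BT.leaf cJ15023))) (BT.node 15026 (BT.node 15025 (BT.node 15024 (BT.leaf cJ15024) (BT.leaf cJ15025)) (BT.leaf cJ15026)) (BT.node 15027 (BT.leaf cJ15027) (BT.leaf cJ15028))))))))
noncomputable def colJT_93 : BT ℕ := (BT.node 15109 (BT.node 15069 (BT.node 15049 (BT.node 15039 (BT.node 15034 (BT.node 15031 (BT.node 15030 (BT.node 15029 (BT.leaf cJ15029) (BT.leaf cJ15030)) (BT.leaf cJ15031)) (BT.node 15033 (BT.node 15032 (BT.leaf cJ15032) (BT.leaf cJ15033)) (BT.leaf cJ15034))) (BT.node 15037 (BT.node 15036 (BT.node 15035 (BT.leaf cJ15035) (BT.leaf cJ15036)) (BT.leaf cJ15037)) (BT.node 15038 (BT.leaf cJ15038) (BT.leaf cJ15039)))) (BT.node 15044 (BT.node 15042 (BT.node 15041 (BT.node 15040 (BT.leaf cJ15040) (BT.leaf cJ15041)) (BT.leaf cJ15042)) (BT.node 15043 (BT.leaf cJ15043) (BT.leaf cJ15044))) (BT.node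 15047 (BT.node 15046 (BT.node 15045 (BT.leaf cJ15045) (BT.leaf cJ15046)) (BT.leaf cJ15047)) (BT.node 15048 (BT.leaf cJ15048) (BT.leaf cJ15049))))) (BT.node 15059 (BT.node 15054 (BT.node 15052 (BT.node 15051 (BT.node 15050 (BT.leaf cJ15050) (BT.leaf cJ15051)) (BT.leaf cJ15052)) (BT.node 15053 (BT.leaf cJ15053) (BT.leaf cJ15054))) (BT.node 15057 (BT.node 15056 (BT.node 15055 (BT.leaf cJ15055) (BT.leaf cJ15056)) (BT.leaf cJ15057)) (BT.node 15058 (BT.leaf cJ15058) (BT.leaf cJ15059)))) (BT.node 15064 (BT.node 15062 (BT.node 15061 (BT.node 15060 (BT.leaf cJ15060) (BT.leaf cJ15061)) (BT.leaf cJ15062)) (BT.node 15063 (BT.leaf cJ15063) (BT.leaf cJ15064))) (BT.node 15067 (BT.node 15066 (BT.node 15065 (BT.leaf cJ15065) (BT.leaf cJ15066)) (BT.leaf cJ15067)) (BT.node 15068 (BT.leaf cJ15068) (BT.leaf cJ15069)))))) (BT.node 15089 (BT.node 15079 (BT.node 15074 (BT.node 15072 (BT.node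 15071 (BT.node 15070 (BT.leaf cJ15070) (BT.leaf cJ15071)) (BT.leaf cJ15072)) (BT.node 15073 (BT.leaf cJ15073) (BT.leaf cJ15074))) (BT.node 15077 (BT.node 15076 (BT.node 15075 (BT.leaf cJ15075) (BT.leaf cJ15076)) (BT.leaf cJ15077)) (BT.node 15078 (BT.leaf cJ15078) (BT.leaf cJ15079)))) (BT.node 15084 (BT.node 15082 (BT.node 15081 (BT.node 15080 (BT.leaf cJ15080) (BT.leaf cJ15081)) (BT.leaf cJ15082)) (BT.node 15083 (BT.leaf cJ15083) (BT.leaf cJ15084))) (BT.node 15087 (BT.node 15086 (BT.node 15085 (BT.leaf cJ15085) (BT.leaf cJ15086)) (BT.leaf cJ15087)) (BT.node 15088 (BT.leaf cJ15088) (BT.leaf cJ15089))))) (BT.node 15099 (BT.node 15094 (BT.node 15092 (BT.node 15091 (BT.node 15090 (BT.leaf cJ15090) (BT.leaf cJ15091)) (BT.leaf cJ15092)) (BT.node 15093 (BT.leaf cJ15093) (BT.leaf cJ15094))) (BT.node 15097 (BT.node 15096 (BT.node 15095 (BT.leaf cJ15095) (BT.leaf cJ15096)) (BT.leaf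 cJ15097)) (BT.node 15098 (BT.leaf cJ15098) (BT.leaf cJ15099)))) (BT.node 15104 (BT.node 15102 (BT.node 15101 (BT.node 15100 (BT.leaf cJ15100) (BT.leaf cJ15101)) (BT.leaf cJ15102)) (BT.node 15103 (BT.leaf cJ15103) (BT.leaf cJ15104))) (BT.node 15107 (BT.node 15106 (BT.node 15105 (BT.leaf cJ15105) (BT.leaf cJ15106)) (BT.leaf cJ15107)) (BT.node 15108 (BT.leaf cJ15108) (BT.leaf cJ15109))))))) (BT.node 15149 (BT.node 15129 (BT.node 15119 (BT.node 15114 (BT.node 15112 (BT.node 15111 (BT.node 15110 (BT.leaf cJ15110) (BT.leaf cJ15111)) (BT.leaf cJ15112)) (BT.node 15113 (BT.leaf cJ15113) (BT.leaf cJ15114))) (BT.node 15117 (BT.node 15116 (BT.node 15115 (BT.leaf cJ15115) (BT.leaf cJ15116)) (BT.leaf cJ15117)) (BT.node 15118 (BT.leaf cJ15118) (BT.leaf cJ15119)))) (BT.node 15124 (BT.node 15122 (BT.node 15121 (BT.node 15120 (BT.leaf cJ15120) (BT.leaf cJ15121)) (BT.leaf cJ15122)) (BT.node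 15123 (BT.leaf cJ15123) (BT.leaf cJ15124))) (BT.node 15127 (BT.node 15126 (BT.node 15125 (BT.leaf cJ15125) (BT.leaf cJ15126)) (BT.leaf cJ15127)) (BT.node 15128 (BT.leaf cJ15128) (BT.leaf cJ15129))))) (BT.node 15139 (BT.node 15134 (BT.node 15132 (BT.node 15131 (BT.node 15130 (BT.leaf cJ15130) (BT.leaf cJ15131)) (BT.leaf cJ15132)) (BT.node 15133 (BT.leaf cJ15133) (BT.leaf cJ15134))) (BT.node 15137 (BT.node 15136 (BT.node 15135 (BT.leaf cJ15135) (BT.leaf cJ15136)) (BT.leaf cJ15137)) (BT.node 15138 (BT.leaf cJ15138) (BT.leaf cJ15139)))) (BT.node 15144 (BT.node 15142 (BT.node 15141 (BT.node 15140 (BT.leaf cJ15140) (BT.leaf cJ15141)) (BT.leaf cJ15142)) (BT.node 15143 (BT.leaf cJ15143) (BT.leaf cJ15144))) (BT.node 15147 (BT.node 15146 (BT.node 15145 (BT.leaf cJ15145) (BT.leaf cJ15146)) (BT.leaf cJ15147)) (BT.node 15148 (BT.leaf cJ15148) (BT.leaf cJ15149)))))) (BT.node 15169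 (BT.node 15159 (BT.node 15154 (BT.node 15152 (BT.node 15151 (BT.node 15150 (BT.leaf cJ15150) (BT.leaf cJ15151)) (BT.leaf cJ15152)) (BT.node 15153 (BT.leaf cJ15153) (BT.leaf cJ15154))) (BT.node 15157 (BT.node 15156 (BT.node 15155 (BT.leaf cJ15155) (BT.leaf cJ15156)) (BT.leaf cJ15157)) (BT.node 15158 (BT.leaf cJ15158) (BT.leaf cJ15159)))) (BT.node 15164 (BT.node 15162 (BT.node 15161 (BT.node 15160 (BT.leaf cJ15160) (BT.leaf cJ15161)) (BT.leaf cJ15162)) (BT.node 15163 (BT.leaf cJ15163) (BT.leaf cJ15164))) (BT.node 15167 (BT.node 15166 (BT.node 15165 (BT.leaf cJ15165) (BT.leaf cJ15166)) (BT.leaf cJ15167)) (BT.node 15168 (BT.leaf cJ15168) (BT.leaf cJ15169))))) (BT.node 15179 (BT.node 15174 (BT.node 15172 (BT.node 15171 (BT.node 15170 (BT.leaf cJ15170) (BT.leaf cJ15171)) (BT.leaf cJ15172)) (BT.node 15173 (BT.leaf cJ15173) (BT.leaf cJ15174))) (BT.node 15177 (BT.node 15176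 (BT.node 15175 (BT.leaf cJ15175) (BT.leaf cJ15176)) (BT.leaf cJ15177)) (BT.node 15178 (BT.leaf cJ15178) (BT.leaf cJ15179)))) (BT.node 15184 (BT.node 15182 (BT.node 15181 (BT.node 15180 (BT.leaf cJ15180) (BT.leaf cJ15181)) (BT.leaf cJ15182)) (BT.node 15183 (BT.leaf cJ15183) (BT.leaf cJ15184))) (BT.node 15187 (BT.node 15186 (BT.node 15185 (BT.leaf cJ15185) (BT.leaf cJ15186)) (BT.leaf cJ15187)) (BT.node 15188 (BT.leaf cJ15188) (BT.leaf cJ15189))))))))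
noncomputable def colJT_94 : BT ℕ := (BT.node 15270 (BT.node 15230 (BT.node 15210 (BT.node 15200 (BT.node 15195 (BT.node 15192 (BT.node 15191 (BT.node 15190 (BT.leaf cJ15190) (BT.leaf cJ15191)) (BT.leaf cJ15192)) (BT.node 15194 (BT.node 15193 (BT.leaf cJ15193) (BT.leaf cJ15194)) (BT.leaf cJ15195))) (BT.node 15198 (BT.node 15197 (BT.node 15196 (BT.leaf cJ15196) (BT.leaf cJ15197)) (BT.leaf cJ15198)) (BT.node 15199 (BT.leaf cJ15199) (BT.leaf cJ15200)))) (BT.node 15205 (BT.node 15203 (BT.node 15202 (BT.node 15201 (BT.leaf cJ15201) (BT.leaf cJ15202)) (BT.leaf cJ15203)) (BT.node 15204 (BT.leaf cJ15204) (BT.leaf cJ15205))) (BT.node 15208 (BT.node 15207 (BT.node 15206 (BT.leaf cJ15206) (BT.leaf cJ15207)) (BT.leaf cJ15208)) (BT.node 15209 (BT.leaf cJ15209) (BT.leaf cJ15210))))) (BT.node 15220 (BT.node 15215 (BT.node 15213 (BT.node 15212 (BT.node 15211 (BT.leaf cJ15211) (BT.leaf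 cJ15212)) (BT.leaf cJ15213)) (BT.node 15214 (BT.leaf cJ15214) (BT.leaf cJ15215))) (BT.node 15218 (BT.node 15217 (BT.node 15216 (BT.leaf cJ15216) (BT.leaf cJ15217)) (BT.leaf cJ15218)) (BT.node 15219 (BT.leaf cJ15219) (BT.leaf cJ15220)))) (BT.node 15225 (BT.node 15223 (BT.node 15222 (BT.node 15221 (BT.leaf cJ15221) (BT.leaf cJ15222)) (BT.leaf cJ15223)) (BT.node 15224 (BT.leaf cJ15224) (BT.leaf cJ15225))) (BT.node 15228 (BT.node 15227 (BT.node 15226 (BT.leaf cJ15226) (BT.leaf cJ15227)) (BT.leaf cJ15228)) (BT.node 15229 (BT.leaf cJ15229) (BT.leaf cJ15230)))))) (BT.node 15250 (BT.node 15240 (BT.node 15235 (BT.node 15233 (BT.node 15232 (BT.node 15231 (BT.leaf cJ15231) (BT.leaf cJ15232)) (BT.leaf cJ15233)) (BT.node 15234 (BT.leaf cJ15234) (BT.leaf cJ15235))) (BT.node 15238 (BT.node 15237 (BT.node 15236 (BT.leaf cJ15236) (BT.leaf cJ15237)) (BT.leaf cJ15238)) (BT.node 15239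 (BT.leaf cJ15239) (BT.leaf cJ15240)))) (BT.node 15245 (BT.node 15243 (BT.node 15242 (BT.node 15241 (BT.leaf cJ15241) (BT.leaf cJ15242)) (BT.leaf cJ15243)) (BT.node 15244 (BT.leaf cJ15244) (BT.leaf cJ15245))) (BT.node 15248 (BT.node 15247 (BT.node 15246 (BT.leaf cJ15246) (BT.leaf cJ15247)) (BT.leaf cJ15248)) (BT.node 15249 (BT.leaf cJ15249) (BT.leaf cJ15250))))) (BT.node 15260 (BT.node 15255 (BT.node 15253 (BT.node 15252 (BT.node 15251 (BT.leaf cJ15251) (BT.leaf cJ15252)) (BT.leaf cJ15253)) (BT.node 15254 (BT.leaf cJ15254) (BT.leaf cJ15255))) (BT.node 15258 (BT.node 15257 (BT.node 15256 (BT.leaf cJ15256) (BT.leaf cJ15257)) (BT.leaf cJ15258)) (BT.node 15259 (BT.leaf cJ15259) (BT.leaf cJ15260)))) (BT.node 15265 (BT.node 15263 (BT.node 15262 (BT.node 15261 (BT.leaf cJ15261) (BT.leaf cJ15262)) (BT.leaf cJ15263)) (BT.node 15264 (BT.leaf cJ15264) (BT.leaf cJ15265))) (BT.node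 15268 (BT.node 15267 (BT.node 15266 (BT.leaf cJ15266) (BT.leaf cJ15267)) (BT.leaf cJ15268)) (BT.node 15269 (BT.leaf cJ15269) (BT.leaf cJ15270))))))) (BT.node 15311 (BT.node 15291 (BT.node 15281 (BT.node 15276 (BT.node 15273 (BT.node 15272 (BT.node 15271 (BT.leaf cJ15271) (BT.leaf cJ15272)) (BT.leaf cJ15273)) (BT.node 15275 (BT.node 15274 (BT.leaf cJ15274) (BT.leaf cJ15275)) (BT.leaf cJ15276))) (BT.node 15279 (BT.node 15278 (BT.node 15277 (BT.leaf cJ15277) (BT.leaf cJ15278)) (BT.leaf cJ15279)) (BT.node 15280 (BT.leaf cJ15280) (BT.leaf cJ15281)))) (BT.node 15286 (BT.node 15284 (BT.node 15283 (BT.node 15282 (BT.leaf cJ15282) (BT.leaf cJ15283)) (BT.leaf cJ15284)) (BT.node 15285 (BT.leaf cJ15285) (BT.leaf cJ15286))) (BT.node 15289 (BT.node 15288 (BT.node 15287 (BT.leaf cJ15287) (BT.leaf cJ15288)) (BT.leaf cJ15289)) (BT.node 15290 (BT.leaf cJ15290) (BT.leaf cJ15291)))))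 (BT.node 15301 (BT.node 15296 (BT.node 15294 (BT.node 15293 (BT.node 15292 (BT.leaf cJ15292) (BT.leaf cJ15293)) (BT.leaf cJ15294)) (BT.node 15295 (BT.leaf cJ15295) (BT.leaf cJ15296))) (BT.node 15299 (BT.node 15298 (BT.node 15297 (BT.leaf cJ15297) (BT.leaf cJ15298)) (BT.leaf cJ15299)) (BT.node 15300 (BT.leaf cJ15300) (BT.leaf cJ15301)))) (BT.node 15306 (BT.node 15304 (BT.node 15303 (BT.node 15302 (BT.leaf cJ15302) (BT.leaf cJ15303)) (BT.leaf cJ15304)) (BT.node 15305 (BT.leaf cJ15305) (BT.leaf cJ15306))) (BT.node 15309 (BT.node 15308 (BT.node 15307 (BT.leaf cJ15307) (BT.leaf cJ15308)) (BT.leaf cJ15309)) (BT.node 15310 (BT.leaf cJ15310) (BT.leaf cJ15311)))))) (BT.node 15331 (BT.node 15321 (BT.node 15316 (BT.node 15314 (BT.node 15313 (BT.node 15312 (BT.leaf cJ15312) (BT.leaf cJ15313)) (BT.leaf cJ15314)) (BT.node 15315 (BT.leaf cJ15315) (BT.leaf cJ15316))) (BT.node 15319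 (BT.node 15318 (BT.node 15317 (BT.leaf cJ15317) (BT.leaf cJ15318)) (BT.leaf cJ15319)) (BT.node 15320 (BT.leaf cJ15320) (BT.leaf cJ15321)))) (BT.node 15326 (BT.node 15324 (BT.node 15323 (BT.node 15322 (BT.leaf cJ15322) (BT.leaf cJ15323)) (BT.leaf cJ15324)) (BT.node 15325 (BT.leaf cJ15325) (BT.leaf cJ15326))) (BT.node 15329 (BT.node 15328 (BT.node 15327 (BT.leaf cJ15327) (BT.leaf cJ15328)) (BT.leaf cJ15329)) (BT.node 15330 (BT.leaf cJ15330) (BT.leaf cJ15331))))) (BT.node 15341 (BT.node 15336 (BT.node 15334 (BT.node 15333 (BT.node 15332 (BT.leaf cJ15332) (BT.leaf cJ15333)) (BT.leaf cJ15334)) (BT.node 15335 (BT.leaf cJ15335) (BT.leaf cJ15336))) (BT.node 15339 (BT.node 15338 (BT.node 15337 (BT.leaf cJ15337) (BT.leaf cJ15338)) (BT.leaf cJ15339)) (BT.node 15340 (BT.leaf cJ15340) (BT.leaf cJ15341)))) (BT.node 15346 (BT.node 15344 (BT.node 15343 (BT.node 15342 (BT.leaf cJ15342)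 (BT.leaf cJ15343)) (BT.leaf cJ15344)) (BT.node 15345 (BT.leaf cJ15345) (BT.leaf cJ15346))) (BT.node 15349 (BT.node 15348 (BT.node 15347 (BT.leaf cJ15347) (BT.leaf cJ15348)) (BT.leaf cJ15349)) (BT.node 15350 (BT.leaf cJ15350) (BT.leaf cJ15351))))))))
noncomputable def colJT_95 : BT ℕ := (BT.node 15432 (BT.node 15392 (BT.node 15372 (BT.node 15362 (BT.node 15357 (BT.node 15354 (BT.node 15353 (BT.node 15352 (BT.leaf cJ15352) (BT.leaf cJ15353)) (BT.leaf cJ15354)) (BT.node 15356 (BT.node 15355 (BT.leaf cJ15355) (BT.leaf cJ15356)) (BT.leaf cJ15357))) (BT.node 15360 (BT.node 15359 (BT.node 15358 (BT.leaf cJ15358) (BT.leaf cJ15359)) (BT.leaf cJ15360)) (BT.node 15361 (BT.leaf cJ15361) (BT.leaf cJ15362)))) (BT.node 15367 (BT.node 15365 (BT.node 15364 (BT.node 15363 (BT.leaf cJ15363) (BT.leaf cJ15364)) (BT.leaf cJ15365)) (BT.node 15366 (BT.leaf cJ15366) (BT.leaf cJ15367))) (BT.node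 15370 (BT.node 15369 (BT.node 15368 (BT.leaf cJ15368) (BT.leaf cJ15369)) (BT.leaf cJ15370)) (BT.node 15371 (BT.leaf cJ15371) (BT.leaf cJ15372))))) (BT.node 15382 (BT.node 15377 (BT.node 15375 (BT.node 15374 (BT.node 15373 (BT.leaf cJ15373) (BT.leaf cJ15374)) (BT.leaf cJ15375)) (BT.node 15376 (BT.leaf cJ15376) (BT.leaf cJ15377))) (BT.node 15380 (BT.node 15379 (BT.node 15378 (BT.leaf cJ15378) (BT.leaf cJ15379)) (BT.leaf cJ15380)) (BT.node 15381 (BT.leaf cJ15381) (BT.leaf cJ15382)))) (BT.node 15387 (BT.node 15385 (BT.node 15384 (BT.node 15383 (BT.leaf cJ15383) (BT.leaf cJ15384)) (BT.leaf cJ15385)) (BT.node 15386 (BT.leaf cJ15386) (BT.leaf cJ15387))) (BT.node 15390 (BT.node 15389 (BT.node 15388 (BT.leaf cJ15388) (BT.leaf cJ15389)) (BT.leaf cJ15390)) (BT.node 15391 (BT.leaf cJ15391) (BT.leaf cJ15392)))))) (BT.node 15412 (BT.node 15402 (BT.node 15397 (BT.node 15395 (BT.node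 15394 (BT.node 15393 (BT.leaf cJ15393) (BT.leaf cJ15394)) (BT.leaf cJ15395)) (BT.node 15396 (BT.leaf cJ15396) (BT.leaf cJ15397))) (BT.node 15400 (BT.node 15399 (BT.node 15398 (BT.leaf cJ15398) (BT.leaf cJ15399)) (BT.leaf cJ15400)) (BT.node 15401 (BT.leaf cJ15401) (BT.leaf cJ15402)))) (BT.node 15407 (BT.node 15405 (BT.node 15404 (BT.node 15403 (BT.leaf cJ15403) (BT.leaf cJ15404)) (BT.leaf cJ15405)) (BT.node 15406 (BT.leaf cJ15406) (BT.leaf cJ15407))) (BT.node 15410 (BT.node 15409 (BT.node 15408 (BT.leaf cJ15408) (BT.leaf cJ15409)) (BT.leaf cJ15410)) (BT.node 15411 (BT.leaf cJ15411) (BT.leaf cJ15412))))) (BT.node 15422 (BT.node 15417 (BT.node 15415 (BT.node 15414 (BT.node 15413 (BT.leaf cJ15413) (BT.leaf cJ15414)) (BT.leaf cJ15415)) (BT.node 15416 (BT.leaf cJ15416) (BT.leaf cJ15417))) (BT.node 15420 (BT.node 15419 (BT.node 15418 (BT.leaf cJ15418) (BT.leaf cJ15419)) (BT.leaf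 cJ15420)) (BT.node 15421 (BT.leaf cJ15421) (BT.leaf cJ15422)))) (BT.node 15427 (BT.node 15425 (BT.node 15424 (BT.node 15423 (BT.leaf cJ15423) (BT.leaf cJ15424)) (BT.leaf cJ15425)) (BT.node 15426 (BT.leaf cJ15426) (BT.leaf cJ15427))) (BT.node 15430 (BT.node 15429 (BT.node 15428 (BT.leaf cJ15428) (BT.leaf cJ15429)) (BT.leaf cJ15430)) (BT.node 15431 (BT.leaf cJ15431) (BT.leaf cJ15432))))))) (BT.node 15472 (BT.node 15452 (BT.node 15442 (BT.node 15437 (BT.node 15435 (BT.node 15434 (BT.node 15433 (BT.leaf cJ15433) (BT.leaf cJ15434)) (BT.leaf cJ15435)) (BT.node 15436 (BT.leaf cJ15436) (BT.leaf cJ15437))) (BT.node 15440 (BT.node 15439 (BT.node 15438 (BT.leaf cJ15438) (BT.leaf cJ15439)) (BT.leaf cJ15440)) (BT.node 15441 (BT.leaf cJ15441) (BT.leaf cJ15442)))) (BT.node 15447 (BT.node 15445 (BT.node 15444 (BT.node 15443 (BT.leaf cJ15443) (BT.leaf cJ15444)) (BT.leaf cJ15445)) (BT.node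 15446 (BT.leaf cJ15446) (BT.leaf cJ15447))) (BT.node 15450 (BT.node 15449 (BT.node 15448 (BT.leaf cJ15448) (BT.leaf cJ15449)) (BT.leaf cJ15450)) (BT.node 15451 (BT.leaf cJ15451) (BT.leaf cJ15452))))) (BT.node 15462 (BT.node 15457 (BT.node 15455 (BT.node 15454 (BT.node 15453 (BT.leaf cJ15453) (BT.leaf cJ15454)) (BT.leaf cJ15455)) (BT.node 15456 (BT.leaf cJ15456) (BT.leaf cJ15457))) (BT.node 15460 (BT.node 15459 (BT.node 15458 (BT.leaf cJ15458) (BT.leaf cJ15459)) (BT.leaf cJ15460)) (BT.node 15461 (BT.leaf cJ15461) (BT.leaf cJ15462)))) (BT.node 15467 (BT.node 15465 (BT.node 15464 (BT.node 15463 (BT.leaf cJ15463) (BT.leaf cJ15464)) (BT.leaf cJ15465)) (BT.node 15466 (BT.leaf cJ15466) (BT.leaf cJ15467))) (BT.node 15470 (BT.node 15469 (BT.node 15468 (BT.leaf cJ15468) (BT.leaf cJ15469)) (BT.leaf cJ15470)) (BT.node 15471 (BT.leaf cJ15471) (BT.leaf cJ15472)))))) (BT.node 15492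 (BT.node 15482 (BT.node 15477 (BT.node 15475 (BT.node 15474 (BT.node 15473 (BT.leaf cJ15473) (BT.leaf cJ15474)) (BT.leaf cJ15475)) (BT.node 15476 (BT.leaf cJ15476) (BT.leaf cJ15477))) (BT.node 15480 (BT.node 15479 (BT.node 15478 (BT.leaf cJ15478) (BT.leaf cJ15479)) (BT.leaf cJ15480)) (BT.node 15481 (BT.leaf cJ15481) (BT.leaf cJ15482)))) (BT.node 15487 (BT.node 15485 (BT.node 15484 (BT.node 15483 (BT.leaf cJ15483) (BT.leaf cJ15484)) (BT.leaf cJ15485)) (BT.node 15486 (BT.leaf cJ15486) (BT.leaf cJ15487))) (BT.node 15490 (BT.node 15489 (BT.node 15488 (BT.leaf cJ15488) (BT.leaf cJ15489)) (BT.leaf cJ15490)) (BT.node 15491 (BT.leaf cJ15491) (BT.leaf cJ15492))))) (BT.node 15502 (BT.node 15497 (BT.node 15495 (BT.node 15494 (BT.node 15493 (BT.leaf cJ15493) (BT.leaf cJ15494)) (BT.leaf cJ15495)) (BT.node 15496 (BT.leaf cJ15496) (BT.leaf cJ15497))) (BT.node 15500 (BT.node 15499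 (BT.node 15498 (BT.leaf cJ15498) (BT.leaf cJ15499)) (BT.leaf cJ15500)) (BT.node 15501 (BT.leaf cJ15501) (BT.leaf cJ15502)))) (BT.node 15507 (BT.node 15505 (BT.node 15504 (BT.node 15503 (BT.leaf cJ15503) (BT.leaf cJ15504)) (BT.leaf cJ15505)) (BT.node 15506 (BT.leaf cJ15506) (BT.leaf cJ15507))) (BT.node 15510 (BT.node 15509 (BT.node 15508 (BT.leaf cJ15508) (BT.leaf cJ15509)) (BT.leaf cJ15510)) (BT.node 15511 (BT.leaf cJ15511) (BT.leaf cJ15512))))))))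
noncomputable def colJT_96 : BT ℕ := (BT.node 15593 (BT.node 15553 (BT.node 15533 (BT.node 15523 (BT.node 15518 (BT.node 15515 (BT.node 15514 (BT.node 15513 (BT.leaf cJ15513) (BT.leaf cJ15514)) (BT.leaf cJ15515)) (BT.node 15517 (BT.node 15516 (BT.leaf cJ15516) (BT.leaf cJ15517)) (BT.leaf cJ15518))) (BT.node 15521 (BT.node 15520 (BT.node 15519 (BT.leaf cJ15519) (BT.leaf cJ15520)) (BT.leaf cJ15521)) (BT.node 15522 (BT.leaf cJ15522) (BT.leaf cJ15523)))) (BT.node 15528 (BT.node 15526 (BT.node 15525 (BT.node 15524 (BT.leaf cJ15524) (BT.leaf cJ15525)) (BT.leaf cJ15526)) (BT.node 15527 (BT.leaf cJ15527) (BT.leaf cJ15528))) (BT.node 15531 (BT.node 15530 (BT.node 15529 (BT.leaf cJ15529) (BT.leaf cJ15530)) (BT.leaf cJ15531)) (BT.node 15532 (BT.leaf cJ15532) (BT.leaf cJ15533))))) (BT.node 15543 (BT.node 15538 (BT.node 15536 (BT.node 15535 (BT.node 15534 (BT.leaf cJ15534) (BT.leaf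 cJ15535)) (BT.leaf cJ15536)) (BT.node 15537 (BT.leaf cJ15537) (BT.leaf cJ15538))) (BT.node 15541 (BT.node 15540 (BT.node 15539 (BT.leaf cJ15539) (BT.leaf cJ15540)) (BT.leaf cJ15541)) (BT.node 15542 (BT.leaf cJ15542) (BT.leaf cJ15543)))) (BT.node 15548 (BT.node 15546 (BT.node 15545 (BT.node 15544 (BT.leaf cJ15544) (BT.leaf cJ15545)) (BT.leaf cJ15546)) (BT.node 15547 (BT.leaf cJ15547) (BT.leaf cJ15548))) (BT.node 15551 (BT.node 15550 (BT.node 15549 (BT.leaf cJ15549) (BT.leaf cJ15550)) (BT.leaf cJ15551)) (BT.node 15552 (BT.leaf cJ15552) (BT.leaf cJ15553)))))) (BT.node 15573 (BT.node 15563 (BT.node 15558 (BT.node 15556 (BT.node 15555 (BT.node 15554 (BT.leaf cJ15554) (BT.leaf cJ15555)) (BT.leaf cJ15556)) (BT.node 15557 (BT.leaf cJ15557) (BT.leaf cJ15558))) (BT.node 15561 (BT.node 15560 (BT.node 15559 (BT.leaf cJ15559) (BT.leaf cJ15560)) (BT.leaf cJ15561)) (BT.node 15562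 (BT.leaf cJ15562) (BT.leaf cJ15563)))) (BT.node 15568 (BT.node 15566 (BT.node 15565 (BT.node 15564 (BT.leaf cJ15564) (BT.leaf cJ15565)) (BT.leaf cJ15566)) (BT.node 15567 (BT.leaf cJ15567) (BT.leaf cJ15568))) (BT.node 15571 (BT.node 15570 (BT.node 15569 (BT.leaf cJ15569) (BT.leaf cJ15570)) (BT.leaf cJ15571)) (BT.node 15572 (BT.leaf cJ15572) (BT.leaf cJ15573))))) (BT.node 15583 (BT.node 15578 (BT.node 15576 (BT.node 15575 (BT.node 15574 (BT.leaf cJ15574) (BT.leaf cJ15575)) (BT.leaf cJ15576)) (BT.node 15577 (BT.leaf cJ15577) (BT.leaf cJ15578))) (BT.node 15581 (BT.node 15580 (BT.node 15579 (BT.leaf cJ15579) (BT.leaf cJ15580)) (BT.leaf cJ15581)) (BT.node 15582 (BT.leaf cJ15582) (BT.leaf cJ15583)))) (BT.node 15588 (BT.node 15586 (BT.node 15585 (BT.node 15584 (BT.leaf cJ15584) (BT.leaf cJ15585)) (BT.leaf cJ15586)) (BT.node 15587 (BT.leaf cJ15587) (BT.leaf cJ15588))) (BT.node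 15591 (BT.node 15590 (BT.node 15589 (BT.leaf cJ15589) (BT.leaf cJ15590)) (BT.leaf cJ15591)) (BT.node 15592 (BT.leaf cJ15592) (BT.leaf cJ15593))))))) (BT.node 15634 (BT.node 15614 (BT.node 15604 (BT.node 15599 (BT.node 15596 (BT.node 15595 (BT.node 15594 (BT.leaf cJ15594) (BT.leaf cJ15595)) (BT.leaf cJ15596)) (BT.node 15598 (BT.node 15597 (BT.leaf cJ15597) (BT.leaf cJ15598)) (BT.leaf cJ15599))) (BT.node 15602 (BT.node 15601 (BT.node 15600 (BT.leaf cJ15600) (BT.leaf cJ15601)) (BT.leaf cJ15602)) (BT.node 15603 (BT.leaf cJ15603) (BT.leaf cJ15604)))) (BT.node 15609 (BT.node 15607 (BT.node 15606 (BT.node 15605 (BT.leaf cJ15605) (BT.leaf cJ15606)) (BT.leaf cJ15607)) (BT.node 15608 (BT.leaf cJ15608) (BT.leaf cJ15609))) (BT.node 15612 (BT.node 15611 (BT.node 15610 (BT.leaf cJ15610) (BT.leaf cJ15611)) (BT.leaf cJ15612)) (BT.node 15613 (BT.leaf cJ15613) (BT.leaf cJ15614)))))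 (BT.node 15624 (BT.node 15619 (BT.node 15617 (BT.node 15616 (BT.node 15615 (BT.leaf cJ15615) (BT.leaf cJ15616)) (BT.leaf cJ15617)) (BT.node 15618 (BT.leaf cJ15618) (BT.leaf cJ15619))) (BT.node 15622 (BT.node 15621 (BT.node 15620 (BT.leaf cJ15620) (BT.leaf cJ15621)) (BT.leaf cJ15622)) (BT.node 15623 (BT.leaf cJ15623) (BT.leaf cJ15624)))) (BT.node 15629 (BT.node 15627 (BT.node 15626 (BT.node 15625 (BT.leaf cJ15625) (BT.leaf cJ15626)) (BT.leaf cJ15627)) (BT.node 15628 (BT.leaf cJ15628) (BT.leaf cJ15629))) (BT.node 15632 (BT.node 15631 (BT.node 15630 (BT.leaf cJ15630) (BT.leaf cJ15631)) (BT.leaf cJ15632)) (BT.node 15633 (BT.leaf cJ15633) (BT.leaf cJ15634)))))) (BT.node 15654 (BT.node 15644 (BT.node 15639 (BT.node 15637 (BT.node 15636 (BT.node 15635 (BT.leaf cJ15635) (BT.leaf cJ15636)) (BT.leaf cJ15637)) (BT.node 15638 (BT.leaf cJ15638) (BT.leaf cJ15639))) (BT.node 15642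 (BT.node 15641 (BT.node 15640 (BT.leaf cJ15640) (BT.leaf cJ15641)) (BT.leaf cJ15642)) (BT.node 15643 (BT.leaf cJ15643) (BT.leaf cJ15644)))) (BT.node 15649 (BT.node 15647 (BT.node 15646 (BT.node 15645 (BT.leaf cJ15645) (BT.leaf cJ15646)) (BT.leaf cJ15647)) (BT.node 15648 (BT.leaf cJ15648) (BT.leaf cJ15649))) (BT.node 15652 (BT.node 15651 (BT.node 15650 (BT.leaf cJ15650) (BT.leaf cJ15651)) (BT.leaf cJ15652)) (BT.node 15653 (BT.leaf cJ15653) (BT.leaf cJ15654))))) (BT.node 15664 (BT.node 15659 (BT.node 15657 (BT.node 15656 (BT.node 15655 (BT.leaf cJ15655) (BT.leaf cJ15656)) (BT.leaf cJ15657)) (BT.node 15658 (BT.leaf cJ15658) (BT.leaf cJ15659))) (BT.node 15662 (BT.node 15661 (BT.node 15660 (BT.leaf cJ15660) (BT.leaf cJ15661)) (BT.leaf cJ15662)) (BT.node 15663 (BT.leaf cJ15663) (BT.leaf cJ15664)))) (BT.node 15669 (BT.node 15667 (BT.node 15666 (BT.node 15665 (BT.leaf cJ15665)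 (BT.leaf cJ15666)) (BT.leaf cJ15667)) (BT.node 15668 (BT.leaf cJ15668) (BT.leaf cJ15669))) (BT.node 15672 (BT.node 15671 (BT.node 15670 (BT.leaf cJ15670) (BT.leaf cJ15671)) (BT.leaf cJ15672)) (BT.node 15673 (BT.leaf cJ15673) (BT.leaf cJ15674))))))))
noncomputable def colJT_97 : BT ℕ := (BT.node 15755 (BT.node 15715 (BT.node 15695 (BT.node 15685 (BT.node 15680 (BT.node 15677 (BT.node 15676 (BT.node 15675 (BT.leaf cJ15675) (BT.leaf cJ15676)) (BT.leaf cJ15677)) (BT.node 15679 (BT.node 15678 (BT.leaf cJ15678) (BT.leaf cJ15679)) (BT.leaf cJ15680))) (BT.node 15683 (BT.node 15682 (BT.node 15681 (BT.leaf cJ15681) (BT.leaf cJ15682)) (BT.leaf cJ15683)) (BT.node 15684 (BT.leaf cJ15684) (BT.leaf cJ15685)))) (BT.node 15690 (BT.node 15688 (BT.node 15687 (BT.node 15686 (BT.leaf cJ15686) (BT.leaf cJ15687)) (BT.leaf cJ15688)) (BT.node 15689 (BT.leaf cJ15689) (BT.leaf cJ15690))) (BT.node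 15693 (BT.node 15692 (BT.node 15691 (BT.leaf cJ15691) (BT.leaf cJ15692)) (BT.leaf cJ15693)) (BT.node 15694 (BT.leaf cJ15694) (BT.leaf cJ15695))))) (BT.node 15705 (BT.node 15700 (BT.node 15698 (BT.node 15697 (BT.node 15696 (BT.leaf cJ15696) (BT.leaf cJ15697)) (BT.leaf cJ15698)) (BT.node 15699 (BT.leaf cJ15699) (BT.leaf cJ15700))) (BT.node 15703 (BT.node 15702 (BT.node 15701 (BT.leaf cJ15701) (BT.leaf cJ15702)) (BT.leaf cJ15703)) (BT.node 15704 (BT.leaf cJ15704) (BT.leaf cJ15705)))) (BT.node 15710 (BT.node 15708 (BT.node 15707 (BT.node 15706 (BT.leaf cJ15706) (BT.leaf cJ15707)) (BT.leaf cJ15708)) (BT.node 15709 (BT.leaf cJ15709) (BT.leaf cJ15710))) (BT.node 15713 (BT.node 15712 (BT.node 15711 (BT.leaf cJ15711) (BT.leaf cJ15712)) (BT.leaf cJ15713)) (BT.node 15714 (BT.leaf cJ15714) (BT.leaf cJ15715)))))) (BT.node 15735 (BT.node 15725 (BT.node 15720 (BT.node 15718 (BT.node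 15717 (BT.node 15716 (BT.leaf cJ15716) (BT.leaf cJ15717)) (BT.leaf cJ15718)) (BT.node 15719 (BT.leaf cJ15719) (BT.leaf cJ15720))) (BT.node 15723 (BT.node 15722 (BT.node 15721 (BT.leaf cJ15721) (BT.leaf cJ15722)) (BT.leaf cJ15723)) (BT.node 15724 (BT.leaf cJ15724) (BT.leaf cJ15725)))) (BT.node 15730 (BT.node 15728 (BT.node 15727 (BT.node 15726 (BT.leaf cJ15726) (BT.leaf cJ15727)) (BT.leaf cJ15728)) (BT.node 15729 (BT.leaf cJ15729) (BT.leaf cJ15730))) (BT.node 15733 (BT.node 15732 (BT.node 15731 (BT.leaf cJ15731) (BT.leaf cJ15732)) (BT.leaf cJ15733)) (BT.node 15734 (BT.leaf cJ15734) (BT.leaf cJ15735))))) (BT.node 15745 (BT.node 15740 (BT.node 15738 (BT.node 15737 (BT.node 15736 (BT.leaf cJ15736) (BT.leaf cJ15737)) (BT.leaf cJ15738)) (BT.node 15739 (BT.leaf cJ15739) (BT.leaf cJ15740))) (BT.node 15743 (BT.node 15742 (BT.node 15741 (BT.leaf cJ15741) (BT.leaf cJ15742)) (BT.leaf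 cJ15743)) (BT.node 15744 (BT.leaf cJ15744) (BT.leaf cJ15745)))) (BT.node 15750 (BT.node 15748 (BT.node 15747 (BT.node 15746 (BT.leaf cJ15746) (BT.leaf cJ15747)) (BT.leaf cJ15748)) (BT.node 15749 (BT.leaf cJ15749) (BT.leaf cJ15750))) (BT.node 15753 (BT.node 15752 (BT.node 15751 (BT.leaf cJ15751) (BT.leaf cJ15752)) (BT.leaf cJ15753)) (BT.node 15754 (BT.leaf cJ15754) (BT.leaf cJ15755))))))) (BT.node 15796 (BT.node 15776 (BT.node 15766 (BT.node 15761 (BT.node 15758 (BT.node 15757 (BT.node 15756 (BT.leaf cJ15756) (BT.leaf cJ15757)) (BT.leaf cJ15758)) (BT.node 15760 (BT.node 15759 (BT.leaf cJ15759) (BT.leaf cJ15760)) (BT.leaf cJ15761))) (BT.node 15764 (BT.node 15763 (BT.node 15762 (BT.leaf cJ15762) (BT.leaf cJ15763)) (BT.leaf cJ15764)) (BT.node 15765 (BT.leaf cJ15765) (BT.leaf cJ15766)))) (BT.node 15771 (BT.node 15769 (BT.node 15768 (BT.node 15767 (BT.leaf cJ15767) (BT.leaf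 cJ15768)) (BT.leaf cJ15769)) (BT.node 15770 (BT.leaf cJ15770) (BT.leaf cJ15771))) (BT.node 15774 (BT.node 15773 (BT.node 15772 (BT.leaf cJ15772) (BT.leaf cJ15773)) (BT.leaf cJ15774)) (BT.node 15775 (BT.leaf cJ15775) (BT.leaf cJ15776))))) (BT.node 15786 (BT.node 15781 (BT.node 15779 (BT.node 15778 (BT.node 15777 (BT.leaf cJ15777) (BT.leaf cJ15778)) (BT.leaf cJ15779)) (BT.node 15780 (BT.leaf cJ15780) (BT.leaf cJ15781))) (BT.node 15784 (BT.node 15783 (BT.node 15782 (BT.leaf cJ15782) (BT.leaf cJ15783)) (BT.leaf cJ15784)) (BT.node 15785 (BT.leaf cJ15785) (BT.leaf cJ15786)))) (BT.node 15791 (BT.node 15789 (BT.node 15788 (BT.node 15787 (BT.leaf cJ15787) (BT.leaf cJ15788)) (BT.leaf cJ15789)) (BT.node 15790 (BT.leaf cJ15790) (BT.leaf cJ15791))) (BT.node 15794 (BT.node 15793 (BT.node 15792 (BT.leaf cJ15792) (BT.leaf cJ15793)) (BT.leaf cJ15794)) (BT.node 15795 (BT.leaf cJ15795)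 (BT.leaf cJ15796)))))) (BT.node 15816 (BT.node 15806 (BT.node 15801 (BT.node 15799 (BT.node 15798 (BT.node 15797 (BT.leaf cJ15797) (BT.leaf cJ15798)) (BT.leaf cJ15799)) (BT.node 15800 (BT.leaf cJ15800) (BT.leaf cJ15801))) (BT.node 15804 (BT.node 15803 (BT.node 15802 (BT.leaf cJ15802) (BT.leaf cJ15803)) (BT.leaf cJ15804)) (BT.node 15805 (BT.leaf cJ15805) (BT.leaf cJ15806)))) (BT.node 15811 (BT.node 15809 (BT.node 15808 (BT.node 15807 (BT.leaf cJ15807) (BT.leaf cJ15808)) (BT.leaf cJ15809)) (BT.node 15810 (BT.leaf cJ15810) (BT.leaf cJ15811))) (BT.node 15814 (BT.node 15813 (BT.node 15812 (BT.leaf cJ15812) (BT.leaf cJ15813)) (BT.leaf cJ15814)) (BT.node 15815 (BT.leaf cJ15815) (BT.leaf cJ15816))))) (BT.node 15826 (BT.node 15821 (BT.node 15819 (BT.node 15818 (BT.node 15817 (BT.leaf cJ15817) (BT.leaf cJ15818)) (BT.leaf cJ15819)) (BT.node 15820 (BT.leaf cJ15820) (BT.leaf cJ15821)))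 (BT.node 15824 (BT.node 15823 (BT.node 15822 (BT.leaf cJ15822) (BT.leaf cJ15823)) (BT.leaf cJ15824)) (BT.node 15825 (BT.leaf cJ15825) (BT.leaf cJ15826)))) (BT.node 15831 (BT.node 15829 (BT.node 15828 (BT.node 15827 (BT.leaf cJ15827) (BT.leaf cJ15828)) (BT.leaf cJ15829)) (BT.node 15830 (BT.leaf cJ15830) (BT.leaf cJ15831))) (BT.node 15834 (BT.node 15833 (BT.node 15832 (BT.leaf cJ15832) (BT.leaf cJ15833)) (BT.leaf cJ15834)) (BT.node 15835 (BT.leaf cJ15835) (BT.leaf cJ15836))))))))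
noncomputable def colJT_98 : BT ℕ := (BT.node 15917 (BT.node 15877 (BT.node 15857 (BT.node 15847 (BT.node 15842 (BT.node 15839 (BT.node 15838 (BT.node 15837 (BT.leaf cJ15837) (BT.leaf cJ15838)) (BT.leaf cJ15839)) (BT.node 15841 (BT.node 15840 (BT.leaf cJ15840) (BT.leaf cJ15841)) (BT.leaf cJ15842))) (BT.node 15845 (BT.node 15844 (BT.node 15843 (BT.leaf cJ15843) (BT.leaf cJ15844)) (BT.leaf cJ15845)) (BT.node 15846 (BT.leaf cJ15846) (BT.leaf cJ15847)))) (BT.node 15852 (BT.node 15850 (BT.node 15849 (BT.node 15848 (BT.leaf cJ15848) (BT.leaf cJ15849)) (BT.leaf cJ15850)) (BT.node 15851 (BT.leaf cJ15851) (BT.leaf cJ15852))) (BT.node 15855 (BT.node 15854 (BT.node 15853 (BT.leaf cJ15853) (BT.leaf cJ15854)) (BT.leaf cJ15855)) (BT.node 15856 (BT.leaf cJ15856) (BT.leaf cJ15857))))) (BT.node 15867 (BT.node 15862 (BT.node 15860 (BT.node 15859 (BT.node 15858 (BT.leaf cJ15858) (BT.leaf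 cJ15859)) (BT.leaf cJ15860)) (BT.node 15861 (BT.leaf cJ15861) (BT.leaf cJ15862))) (BT.node 15865 (BT.node 15864 (BT.node 15863 (BT.leaf cJ15863) (BT.leaf cJ15864)) (BT.leaf cJ15865)) (BT.node 15866 (BT.leaf cJ15866) (BT.leaf cJ15867)))) (BT.node 15872 (BT.node 15870 (BT.node 15869 (BT.node 15868 (BT.leaf cJ15868) (BT.leaf cJ15869)) (BT.leaf cJ15870)) (BT.node 15871 (BT.leaf cJ15871) (BT.leaf cJ15872))) (BT.node 15875 (BT.node 15874 (BT.node 15873 (BT.leaf cJ15873) (BT.leaf cJ15874)) (BT.leaf cJ15875)) (BT.node 15876 (BT.leaf cJ15876) (BT.leaf cJ15877)))))) (BT.node 15897 (BT.node 15887 (BT.node 15882 (BT.node 15880 (BT.node 15879 (BT.node 15878 (BT.leaf cJ15878) (BT.leaf cJ15879)) (BT.leaf cJ15880)) (BT.node 15881 (BT.leaf cJ15881) (BT.leaf cJ15882))) (BT.node 15885 (BT.node 15884 (BT.node 15883 (BT.leaf cJ15883) (BT.leaf cJ15884)) (BT.leaf cJ15885)) (BT.node 15886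 (BT.leaf cJ15886) (BT.leaf cJ15887)))) (BT.node 15892 (BT.node 15890 (BT.node 15889 (BT.node 15888 (BT.leaf cJ15888) (BT.leaf cJ15889)) (BT.leaf cJ15890)) (BT.node 15891 (BT.leaf cJ15891) (BT.leaf cJ15892))) (BT.node 15895 (BT.node 15894 (BT.node 15893 (BT.leaf cJ15893) (BT.leaf cJ15894)) (BT.leaf cJ15895)) (BT.node 15896 (BT.leaf cJ15896) (BT.leaf cJ15897))))) (BT.node 15907 (BT.node 15902 (BT.node 15900 (BT.node 15899 (BT.node 15898 (BT.leaf cJ15898) (BT.leaf cJ15899)) (BT.leaf cJ15900)) (BT.node 15901 (BT.leaf cJ15901) (BT.leaf cJ15902))) (BT.node 15905 (BT.node 15904 (BT.node 15903 (BT.leaf cJ15903) (BT.leaf cJ15904)) (BT.leaf cJ15905)) (BT.node 15906 (BT.leaf cJ15906) (BT.leaf cJ15907)))) (BT.node 15912 (BT.node 15910 (BT.node 15909 (BT.node 15908 (BT.leaf cJ15908) (BT.leaf cJ15909)) (BT.leaf cJ15910)) (BT.node 15911 (BT.leaf cJ15911) (BT.leaf cJ15912))) (BT.node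 15915 (BT.node 15914 (BT.node 15913 (BT.leaf cJ15913) (BT.leaf cJ15914)) (BT.leaf cJ15915)) (BT.node 15916 (BT.leaf cJ15916) (BT.leaf cJ15917))))))) (BT.node 15958 (BT.node 15938 (BT.node 15928 (BT.node 15923 (BT.node 15920 (BT.node 15919 (BT.node 15918 (BT.leaf cJ15918) (BT.leaf cJ15919)) (BT.leaf cJ15920)) (BT.node 15922 (BT.node 15921 (BT.leaf cJ15921) (BT.leaf cJ15922)) (BT.leaf cJ15923))) (BT.node 15926 (BT.node 15925 (BT.node 15924 (BT.leaf cJ15924) (BT.leaf cJ15925)) (BT.leaf cJ15926)) (BT.node 15927 (BT.leaf cJ15927) (BT.leaf cJ15928)))) (BT.node 15933 (BT.node 15931 (BT.node 15930 (BT.node 15929 (BT.leaf cJ15929) (BT.leaf cJ15930)) (BT.leaf cJ15931)) (BT.node 15932 (BT.leaf cJ15932) (BT.leaf cJ15933))) (BT.node 15936 (BT.node 15935 (BT.node 15934 (BT.leaf cJ15934) (BT.leaf cJ15935)) (BT.leaf cJ15936)) (BT.node 15937 (BT.leaf cJ15937) (BT.leaf cJ15938)))))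 (BT.node 15948 (BT.node 15943 (BT.node 15941 (BT.node 15940 (BT.node 15939 (BT.leaf cJ15939) (BT.leaf cJ15940)) (BT.leaf cJ15941)) (BT.node 15942 (BT.leaf cJ15942) (BT.leaf cJ15943))) (BT.node 15946 (BT.node 15945 (BT.node 15944 (BT.leaf cJ15944) (BT.leaf cJ15945)) (BT.leaf cJ15946)) (BT.node 15947 (BT.leaf cJ15947) (BT.leaf cJ15948)))) (BT.node 15953 (BT.node 15951 (BT.node 15950 (BT.node 15949 (BT.leaf cJ15949) (BT.leaf cJ15950)) (BT.leaf cJ15951)) (BT.node 15952 (BT.leaf cJ15952) (BT.leaf cJ15953))) (BT.node 15956 (BT.node 15955 (BT.node 15954 (BT.leaf cJ15954) (BT.leaf cJ15955)) (BT.leaf cJ15956)) (BT.node 15957 (BT.leaf cJ15957) (BT.leaf cJ15958)))))) (BT.node 15978 (BT.node 15968 (BT.node 15963 (BT.node 15961 (BT.node 15960 (BT.node 15959 (BT.leaf cJ15959) (BT.leaf cJ15960)) (BT.leaf cJ15961)) (BT.node 15962 (BT.leaf cJ15962) (BT.leaf cJ15963))) (BT.node 15966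 (BT.node 15965 (BT.node 15964 (BT.leaf cJ15964) (BT.leaf cJ15965)) (BT.leaf cJ15966)) (BT.node 15967 (BT.leaf cJ15967) (BT.leaf cJ15968)))) (BT.node 15973 (BT.node 15971 (BT.node 15970 (BT.node 15969 (BT.leaf cJ15969) (BT.leaf cJ15970)) (BT.leaf cJ15971)) (BT.node 15972 (BT.leaf cJ15972) (BT.leaf cJ15973))) (BT.node 15976 (BT.node 15975 (BT.node 15974 (BT.leaf cJ15974) (BT.leaf cJ15975)) (BT.leaf cJ15976)) (BT.node 15977 (BT.leaf cJ15977) (BT.leaf cJ15978))))) (BT.node 15988 (BT.node 15983 (BT.node 15981 (BT.node 15980 (BT.node 15979 (BT.leaf cJ15979) (BT.leaf cJ15980)) (BT.leaf cJ15981)) (BT.node 15982 (BT.leaf cJ15982) (BT.leaf cJ15983))) (BT.node 15986 (BT.node 15985 (BT.node 15984 (BT.leaf cJ15984) (BT.leaf cJ15985)) (BT.leaf cJ15986)) (BT.node 15987 (BT.leaf cJ15987) (BT.leaf cJ15988)))) (BT.node 15993 (BT.node 15991 (BT.node 15990 (BT.node 15989 (BT.leaf cJ15989)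 (BT.leaf cJ15990)) (BT.leaf cJ15991)) (BT.node 15992 (BT.leaf cJ15992) (BT.leaf cJ15993))) (BT.node 15996 (BT.node 15995 (BT.node 15994 (BT.leaf cJ15994) (BT.leaf cJ15995)) (BT.leaf cJ15996)) (BT.node 15997 (BT.leaf cJ15997) (BT.leaf cJ15998))))))))
noncomputable def colJT_99 : BT ℕ := (BT.node 16079 (BT.node 16039 (BT.node 16019 (BT.node 16009 (BT.node 16004 (BT.node 16001 (BT.node 16000 (BT.node 15999 (BT.leaf cJ15999) (BT.leaf cJ16000)) (BT.leaf cJ16001)) (BT.node 16003 (BT.node 16002 (BT.leaf cJ16002) (BT.leaf cJ16003)) (BT.leaf cJ16004))) (BT.node 16007 (BT.node 16006 (BT.node 16005 (BT.leaf cJ16005) (BT.leaf cJ16006)) (BT.leaf cJ16007)) (BT.node 16008 (BT.leaf cJ16008) (BT.leaf cJ16009)))) (BT.node 16014 (BT.node 16012 (BT.node 16011 (BT.node 16010 (BT.leaf cJ16010) (BT.leaf cJ16011)) (BT.leaf cJ16012)) (BT.node 16013 (BT.leaf cJ16013) (BT.leaf cJ16014))) (BT.node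 16017 (BT.node 16016 (BT.node 16015 (BT.leaf cJ16015) (BT.leaf cJ16016)) (BT.leaf cJ16017)) (BT.node 16018 (BT.leaf cJ16018) (BT.leaf cJ16019))))) (BT.node 16029 (BT.node 16024 (BT.node 16022 (BT.node 16021 (BT.node 16020 (BT.leaf cJ16020) (BT.leaf cJ16021)) (BT.leaf cJ16022)) (BT.node 16023 (BT.leaf cJ16023) (BT.leaf cJ16024))) (BT.node 16027 (BT.node 16026 (BT.node 16025 (BT.leaf cJ16025) (BT.leaf cJ16026)) (BT.leaf cJ16027)) (BT.node 16028 (BT.leaf cJ16028) (BT.leaf cJ16029)))) (BT.node 16034 (BT.node 16032 (BT.node 16031 (BT.node 16030 (BT.leaf cJ16030) (BT.leaf cJ16031)) (BT.leaf cJ16032)) (BT.node 16033 (BT.leaf cJ16033) (BT.leaf cJ16034))) (BT.node 16037 (BT.node 16036 (BT.node 16035 (BT.leaf cJ16035) (BT.leaf cJ16036)) (BT.leaf cJ16037)) (BT.node 16038 (BT.leaf cJ16038) (BT.leaf cJ16039)))))) (BT.node 16059 (BT.node 16049 (BT.node 16044 (BT.node 16042 (BT.node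 16041 (BT.node 16040 (BT.leaf cJ16040) (BT.leaf cJ16041)) (BT.leaf cJ16042)) (BT.node 16043 (BT.leaf cJ16043) (BT.leaf cJ16044))) (BT.node 16047 (BT.node 16046 (BT.node 16045 (BT.leaf cJ16045) (BT.leaf cJ16046)) (BT.leaf cJ16047)) (BT.node 16048 (BT.leaf cJ16048) (BT.leaf cJ16049)))) (BT.node 16054 (BT.node 16052 (BT.node 16051 (BT.node 16050 (BT.leaf cJ16050) (BT.leaf cJ16051)) (BT.leaf cJ16052)) (BT.node 16053 (BT.leaf cJ16053) (BT.leaf cJ16054))) (BT.node 16057 (BT.node 16056 (BT.node 16055 (BT.leaf cJ16055) (BT.leaf cJ16056)) (BT.leaf cJ16057)) (BT.node 16058 (BT.leaf cJ16058) (BT.leaf cJ16059))))) (BT.node 16069 (BT.node 16064 (BT.node 16062 (BT.node 16061 (BT.node 16060 (BT.leaf cJ16060) (BT.leaf cJ16061)) (BT.leaf cJ16062)) (BT.node 16063 (BT.leaf cJ16063) (BT.leaf cJ16064))) (BT.node 16067 (BT.node 16066 (BT.node 16065 (BT.leaf cJ16065) (BT.leaf cJ16066)) (BT.leaf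 cJ16067)) (BT.node 16068 (BT.leaf cJ16068) (BT.leaf cJ16069)))) (BT.node 16074 (BT.node 16072 (BT.node 16071 (BT.node 16070 (BT.leaf cJ16070) (BT.leaf cJ16071)) (BT.leaf cJ16072)) (BT.node 16073 (BT.leaf cJ16073) (BT.leaf cJ16074))) (BT.node 16077 (BT.node 16076 (BT.node 16075 (BT.leaf cJ16075) (BT.leaf cJ16076)) (BT.leaf cJ16077)) (BT.node 16078 (BT.leaf cJ16078) (BT.leaf cJ16079))))))) (BT.node 16119 (BT.node 16099 (BT.node 16089 (BT.node 16084 (BT.node 16082 (BT.node 16081 (BT.node 16080 (BT.leaf cJ16080) (BT.leaf cJ16081)) (BT.leaf cJ16082)) (BT.node 16083 (BT.leaf cJ16083) (BT.leaf cJ16084))) (BT.node 16087 (BT.node 16086 (BT.node 16085 (BT.leaf cJ16085) (BT.leaf cJ16086)) (BT.leaf cJ16087)) (BT.node 16088 (BT.leaf cJ16088) (BT.leaf cJ16089)))) (BT.node 16094 (BT.node 16092 (BT.node 16091 (BT.node 16090 (BT.leaf cJ16090) (BT.leaf cJ16091)) (BT.leaf cJ16092)) (BT.node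 16093 (BT.leaf cJ16093) (BT.leaf cJ16094))) (BT.node 16097 (BT.node 16096 (BT.node 16095 (BT.leaf cJ16095) (BT.leaf cJ16096)) (BT.leaf cJ16097)) (BT.node 16098 (BT.leaf cJ16098) (BT.leaf cJ16099))))) (BT.node 16109 (BT.node 16104 (BT.node 16102 (BT.node 16101 (BT.node 16100 (BT.leaf cJ16100) (BT.leaf cJ16101)) (BT.leaf cJ16102)) (BT.node 16103 (BT.leaf cJ16103) (BT.leaf cJ16104))) (BT.node 16107 (BT.node 16106 (BT.node 16105 (BT.leaf cJ16105) (BT.leaf cJ16106)) (BT.leaf cJ16107)) (BT.node 16108 (BT.leaf cJ16108) (BT.leaf cJ16109)))) (BT.node 16114 (BT.node 16112 (BT.node 16111 (BT.node 16110 (BT.leaf cJ16110) (BT.leaf cJ16111)) (BT.leaf cJ16112)) (BT.node 16113 (BT.leaf cJ16113) (BT.leaf cJ16114))) (BT.node 16117 (BT.node 16116 (BT.node 16115 (BT.leaf cJ16115) (BT.leaf cJ16116)) (BT.leaf cJ16117)) (BT.node 16118 (BT.leaf cJ16118) (BT.leaf cJ16119)))))) (BT.node 16139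 (BT.node 16129 (BT.node 16124 (BT.node 16122 (BT.node 16121 (BT.node 16120 (BT.leaf cJ16120) (BT.leaf cJ16121)) (BT.leaf cJ16122)) (BT.node 16123 (BT.leaf cJ16123) (BT.leaf cJ16124))) (BT.node 16127 (BT.node 16126 (BT.node 16125 (BT.leaf cJ16125) (BT.leaf cJ16126)) (BT.leaf cJ16127)) (BT.node 16128 (BT.leaf cJ16128) (BT.leaf cJ16129)))) (BT.node 16134 (BT.node 16132 (BT.node 16131 (BT.node 16130 (BT.leaf cJ16130) (BT.leaf cJ16131)) (BT.leaf cJ16132)) (BT.node 16133 (BT.leaf cJ16133) (BT.leaf cJ16134))) (BT.node 16137 (BT.node 16136 (BT.node 16135 (BT.leaf cJ16135) (BT.leaf cJ16136)) (BT.leaf cJ16137)) (BT.node 16138 (BT.leaf cJ16138) (BT.leaf cJ16139))))) (BT.node 16149 (BT.node 16144 (BT.node 16142 (BT.node 16141 (BT.node 16140 (BT.leaf cJ16140) (BT.leaf cJ16141)) (BT.leaf cJ16142)) (BT.node 16143 (BT.leaf cJ16143) (BT.leaf cJ16144))) (BT.node 16147 (BT.node 16146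 (BT.node 16145 (BT.leaf cJ16145) (BT.leaf cJ16146)) (BT.leaf cJ16147)) (BT.node 16148 (BT.leaf cJ16148) (BT.leaf cJ16149)))) (BT.node 16154 (BT.node 16152 (BT.node 16151 (BT.node 16150 (BT.leaf cJ16150) (BT.leaf cJ16151)) (BT.leaf cJ16152)) (BT.node 16153 (BT.leaf cJ16153) (BT.leaf cJ16154))) (BT.node 16157 (BT.node 16156 (BT.node 16155 (BT.leaf cJ16155) (BT.leaf cJ16156)) (BT.leaf cJ16157)) (BT.node 16158 (BT.leaf cJ16158) (BT.leaf cJ16159))))))))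
noncomputable def colJT_100 : BT ℕ := (BT.node 16240 (BT.node 16200 (BT.node 16180 (BT.node 16170 (BT.node 16165 (BT.node 16162 (BT.node 16161 (BT.node 16160 (BT.leaf cJ16160) (BT.leaf cJ16161)) (BT.leaf cJ16162)) (BT.node 16164 (BT.node 16163 (BT.leaf cJ16163) (BT.leaf cJ16164)) (BT.leaf cJ16165))) (BT.node 16168 (BT.node 16167 (BT.node 16166 (BT.leaf cJ16166) (BT.leaf cJ16167)) (BT.leaf cJ16168)) (BT.node 16169 (BT.leaf cJ16169) (BT.leaf cJ16170)))) (BT.node 16175 (BT.node 16173 (BT.node 16172 (BT.node 16171 (BT.leaf cJ16171) (BT.leaf cJ16172)) (BT.leaf cJ16173)) (BT.node 16174 (BT.leaf cJ16174) (BT.leaf cJ16175))) (BT.node 16178 (BT.node 16177 (BT.node 16176 (BT.leaf cJ16176) (BT.leaf cJ16177)) (BT.leaf cJ16178)) (BT.node 16179 (BT.leaf cJ16179) (BT.leaf cJ16180))))) (BT.node 16190 (BT.node 16185 (BT.node 16183 (BT.node 16182 (BT.node 16181 (BT.leaf cJ16181) (BT.leaf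 cJ16182)) (BT.leaf cJ16183)) (BT.node 16184 (BT.leaf cJ16184) (BT.leaf cJ16185))) (BT.node 16188 (BT.node 16187 (BT.node 16186 (BT.leaf cJ16186) (BT.leaf cJ16187)) (BT.leaf cJ16188)) (BT.node 16189 (BT.leaf cJ16189) (BT.leaf cJ16190)))) (BT.node 16195 (BT.node 16193 (BT.node 16192 (BT.node 16191 (BT.leaf cJ16191) (BT.leaf cJ16192)) (BT.leaf cJ16193)) (BT.node 16194 (BT.leaf cJ16194) (BT.leaf cJ16195))) (BT.node 16198 (BT.node 16197 (BT.node 16196 (BT.leaf cJ16196) (BT.leaf cJ16197)) (BT.leaf cJ16198)) (BT.node 16199 (BT.leaf cJ16199) (BT.leaf cJ16200)))))) (BT.node 16220 (BT.node 16210 (BT.node 16205 (BT.node 16203 (BT.node 16202 (BT.node 16201 (BT.leaf cJ16201) (BT.leaf cJ16202)) (BT.leaf cJ16203)) (BT.node 16204 (BT.leaf cJ16204) (BT.leaf cJ16205))) (BT.node 16208 (BT.node 16207 (BT.node 16206 (BT.leaf cJ16206) (BT.leaf cJ16207)) (BT.leaf cJ16208)) (BT.node 16209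 (BT.leaf cJ16209) (BT.leaf cJ16210)))) (BT.node 16215 (BT.node 16213 (BT.node 16212 (BT.node 16211 (BT.leaf cJ16211) (BT.leaf cJ16212)) (BT.leaf cJ16213)) (BT.node 16214 (BT.leaf cJ16214) (BT.leaf cJ16215))) (BT.node 16218 (BT.node 16217 (BT.node 16216 (BT.leaf cJ16216) (BT.leaf cJ16217)) (BT.leaf cJ16218)) (BT.node 16219 (BT.leaf cJ16219) (BT.leaf cJ16220))))) (BT.node 16230 (BT.node 16225 (BT.node 16223 (BT.node 16222 (BT.node 16221 (BT.leaf cJ16221) (BT.leaf cJ16222)) (BT.leaf cJ16223)) (BT.node 16224 (BT.leaf cJ16224) (BT.leaf cJ16225))) (BT.node 16228 (BT.node 16227 (BT.node 16226 (BT.leaf cJ16226) (BT.leaf cJ16227)) (BT.leaf cJ16228)) (BT.node 16229 (BT.leaf cJ16229) (BT.leaf cJ16230)))) (BT.node 16235 (BT.node 16233 (BT.node 16232 (BT.node 16231 (BT.leaf cJ16231) (BT.leaf cJ16232)) (BT.leaf cJ16233)) (BT.node 16234 (BT.leaf cJ16234) (BT.leaf cJ16235))) (BT.node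 16238 (BT.node 16237 (BT.node 16236 (BT.leaf cJ16236) (BT.leaf cJ16237)) (BT.leaf cJ16238)) (BT.node 16239 (BT.leaf cJ16239) (BT.leaf cJ16240))))))) (BT.node 16281 (BT.node 16261 (BT.node 16251 (BT.node 16246 (BT.node 16243 (BT.node 16242 (BT.node 16241 (BT.leaf cJ16241) (BT.leaf cJ16242)) (BT.leaf cJ16243)) (BT.node 16245 (BT.node 16244 (BT.leaf cJ16244) (BT.leaf cJ16245)) (BT.leaf cJ16246))) (BT.node 16249 (BT.node 16248 (BT.node 16247 (BT.leaf cJ16247) (BT.leaf cJ16248)) (BT.leaf cJ16249)) (BT.node 16250 (BT.leaf cJ16250) (BT.leaf cJ16251)))) (BT.node 16256 (BT.node 16254 (BT.node 16253 (BT.node 16252 (BT.leaf cJ16252) (BT.leaf cJ16253)) (BT.leaf cJ16254)) (BT.node 16255 (BT.leaf cJ16255) (BT.leaf cJ16256))) (BT.node 16259 (BT.node 16258 (BT.node 16257 (BT.leaf cJ16257) (BT.leaf cJ16258)) (BT.leaf cJ16259)) (BT.node 16260 (BT.leaf cJ16260) (BT.leaf cJ16261)))))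 (BT.node 16271 (BT.node 16266 (BT.node 16264 (BT.node 16263 (BT.node 16262 (BT.leaf cJ16262) (BT.leaf cJ16263)) (BT.leaf cJ16264)) (BT.node 16265 (BT.leaf cJ16265) (BT.leaf cJ16266))) (BT.node 16269 (BT.node 16268 (BT.node 16267 (BT.leaf cJ16267) (BT.leaf cJ16268)) (BT.leaf cJ16269)) (BT.node 16270 (BT.leaf cJ16270) (BT.leaf cJ16271)))) (BT.node 16276 (BT.node 16274 (BT.node 16273 (BT.node 16272 (BT.leaf cJ16272) (BT.leaf cJ16273)) (BT.leaf cJ16274)) (BT.node 16275 (BT.leaf cJ16275) (BT.leaf cJ16276))) (BT.node 16279 (BT.node 16278 (BT.node 16277 (BT.leaf cJ16277) (BT.leaf cJ16278)) (BT.leaf cJ16279)) (BT.node 16280 (BT.leaf cJ16280) (BT.leaf cJ16281)))))) (BT.node 16301 (BT.node 16291 (BT.node 16286 (BT.node 16284 (BT.node 16283 (BT.node 16282 (BT.leaf cJ16282) (BT.leaf cJ16283)) (BT.leaf cJ16284)) (BT.node 16285 (BT.leaf cJ16285) (BT.leaf cJ16286))) (BT.node 16289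 (BT.node 16288 (BT.node 16287 (BT.leaf cJ16287) (BT.leaf cJ16288)) (BT.leaf cJ16289)) (BT.node 16290 (BT.leaf cJ16290) (BT.leaf cJ16291)))) (BT.node 16296 (BT.node 16294 (BT.node 16293 (BT.node 16292 (BT.leaf cJ16292) (BT.leaf cJ16293)) (BT.leaf cJ16294)) (BT.node 16295 (BT.leaf cJ16295) (BT.leaf cJ16296))) (BT.node 16299 (BT.node 16298 (BT.node 16297 (BT.leaf cJ16297) (BT.leaf cJ16298)) (BT.leaf cJ16299)) (BT.node 16300 (BT.leaf cJ16300) (BT.leaf cJ16301))))) (BT.node 16311 (BT.node 16306 (BT.node 16304 (BT.node 16303 (BT.node 16302 (BT.leaf cJ16302) (BT.leaf cJ16303)) (BT.leaf cJ16304)) (BT.node 16305 (BT.leaf cJ16305) (BT.leaf cJ16306))) (BT.node 16309 (BT.node 16308 (BT.node 16307 (BT.leaf cJ16307) (BT.leaf cJ16308)) (BT.leaf cJ16309)) (BT.node 16310 (BT.leaf cJ16310) (BT.leaf cJ16311)))) (BT.node 16316 (BT.node 16314 (BT.node 16313 (BT.node 16312 (BT.leaf cJ16312)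 (BT.leaf cJ16313)) (BT.leaf cJ16314)) (BT.node 16315 (BT.leaf cJ16315) (BT.leaf cJ16316))) (BT.node 16319 (BT.node 16318 (BT.node 16317 (BT.leaf cJ16317) (BT.leaf cJ16318)) (BT.leaf cJ16319)) (BT.node 16320 (BT.leaf cJ16320) (BT.leaf cJ16321))))))))
noncomputable def colJT_101 : BT ℕ := (BT.node 16402 (BT.node 16362 (BT.node 16342 (BT.node 16332 (BT.node 16327 (BT.node 16324 (BT.node 16323 (BT.node 16322 (BT.leaf cJ16322) (BT.leaf cJ16323)) (BT.leaf cJ16324)) (BT.node 16326 (BT.node 16325 (BT.leaf cJ16325) (BT.leaf cJ16326)) (BT.leaf cJ16327))) (BT.node 16330 (BT.node 16329 (BT.node 16328 (BT.leaf cJ16328) (BT.leaf cJ16329)) (BT.leaf cJ16330)) (BT.node 16331 (BT.leaf cJ16331) (BT.leaf cJ16332)))) (BT.node 16337 (BT.node 16335 (BT.node 16334 (BT.node 16333 (BT.leaf cJ16333) (BT.leaf cJ16334)) (BT.leaf cJ16335)) (BT.node 16336 (BT.leaf cJ16336) (BT.leaf cJ16337))) (BT.node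 16340 (BT.node 16339 (BT.node 16338 (BT.leaf cJ16338) (BT.leaf cJ16339)) (BT.leaf cJ16340)) (BT.node 16341 (BT.leaf cJ16341) (BT.leaf cJ16342))))) (BT.node 16352 (BT.node 16347 (BT.node 16345 (BT.node 16344 (BT.node 16343 (BT.leaf cJ16343) (BT.leaf cJ16344)) (BT.leaf cJ16345)) (BT.node 16346 (BT.leaf cJ16346) (BT.leaf cJ16347))) (BT.node 16350 (BT.node 16349 (BT.node 16348 (BT.leaf cJ16348) (BT.leaf cJ16349)) (BT.leaf cJ16350)) (BT.node 16351 (BT.leaf cJ16351) (BT.leaf cJ16352)))) (BT.node 16357 (BT.node 16355 (BT.node 16354 (BT.node 16353 (BT.leaf cJ16353) (BT.leaf cJ16354)) (BT.leaf cJ16355)) (BT.node 16356 (BT.leaf cJ16356) (BT.leaf cJ16357))) (BT.node 16360 (BT.node 16359 (BT.node 16358 (BT.leaf cJ16358) (BT.leaf cJ16359)) (BT.leaf cJ16360)) (BT.node 16361 (BT.leaf cJ16361) (BT.leaf cJ16362)))))) (BT.node 16382 (BT.node 16372 (BT.node 16367 (BT.node 16365 (BT.node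 16364 (BT.node 16363 (BT.leaf cJ16363) (BT.leaf cJ16364)) (BT.leaf cJ16365)) (BT.node 16366 (BT.leaf cJ16366) (BT.leaf cJ16367))) (BT.node 16370 (BT.node 16369 (BT.node 16368 (BT.leaf cJ16368) (BT.leaf cJ16369)) (BT.leaf cJ16370)) (BT.node 16371 (BT.leaf cJ16371) (BT.leaf cJ16372)))) (BT.node 16377 (BT.node 16375 (BT.node 16374 (BT.node 16373 (BT.leaf cJ16373) (BT.leaf cJ16374)) (BT.leaf cJ16375)) (BT.node 16376 (BT.leaf cJ16376) (BT.leaf cJ16377))) (BT.node 16380 (BT.node 16379 (BT.node 16378 (BT.leaf cJ16378) (BT.leaf cJ16379)) (BT.leaf cJ16380)) (BT.node 16381 (BT.leaf cJ16381) (BT.leaf cJ16382))))) (BT.node 16392 (BT.node 16387 (BT.node 16385 (BT.node 16384 (BT.node 16383 (BT.leaf cJ16383) (BT.leaf cJ16384)) (BT.leaf cJ16385)) (BT.node 16386 (BT.leaf cJ16386) (BT.leaf cJ16387))) (BT.node 16390 (BT.node 16389 (BT.node 16388 (BT.leaf cJ16388) (BT.leaf cJ16389)) (BT.leaf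 cJ16390)) (BT.node 16391 (BT.leaf cJ16391) (BT.leaf cJ16392)))) (BT.node 16397 (BT.node 16395 (BT.node 16394 (BT.node 16393 (BT.leaf cJ16393) (BT.leaf cJ16394)) (BT.leaf cJ16395)) (BT.node 16396 (BT.leaf cJ16396) (BT.leaf cJ16397))) (BT.node 16400 (BT.node 16399 (BT.node 16398 (BT.leaf cJ16398) (BT.leaf cJ16399)) (BT.leaf cJ16400)) (BT.node 16401 (BT.leaf cJ16401) (BT.leaf cJ16402))))))) (BT.node 16442 (BT.node 16422 (BT.node 16412 (BT.node 16407 (BT.node 16405 (BT.node 16404 (BT.node 16403 (BT.leaf cJ16403) (BT.leaf cJ16404)) (BT.leaf cJ16405)) (BT.node 16406 (BT.leaf cJ16406) (BT.leaf cJ16407))) (BT.node 16410 (BT.node 16409 (BT.node 16408 (BT.leaf cJ16408) (BT.leaf cJ16409)) (BT.leaf cJ16410)) (BT.node 16411 (BT.leaf cJ16411) (BT.leaf cJ16412)))) (BT.node 16417 (BT.node 16415 (BT.node 16414 (BT.node 16413 (BT.leaf cJ16413) (BT.leaf cJ16414)) (BT.leaf cJ16415)) (BT.node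 16416 (BT.leaf cJ16416) (BT.leaf cJ16417))) (BT.node 16420 (BT.node 16419 (BT.node 16418 (BT.leaf cJ16418) (BT.leaf cJ16419)) (BT.leaf cJ16420)) (BT.node 16421 (BT.leaf cJ16421) (BT.leaf cJ16422))))) (BT.node 16432 (BT.node 16427 (BT.node 16425 (BT.node 16424 (BT.node 16423 (BT.leaf cJ16423) (BT.leaf cJ16424)) (BT.leaf cJ16425)) (BT.node 16426 (BT.leaf cJ16426) (BT.leaf cJ16427))) (BT.node 16430 (BT.node 16429 (BT.node 16428 (BT.leaf cJ16428) (BT.leaf cJ16429)) (BT.leaf cJ16430)) (BT.node 16431 (BT.leaf cJ16431) (BT.leaf cJ16432)))) (BT.node 16437 (BT.node 16435 (BT.node 16434 (BT.node 16433 (BT.leaf cJ16433) (BT.leaf cJ16434)) (BT.leaf cJ16435)) (BT.node 16436 (BT.leaf cJ16436) (BT.leaf cJ16437))) (BT.node 16440 (BT.node 16439 (BT.node 16438 (BT.leaf cJ16438) (BT.leaf cJ16439)) (BT.leaf cJ16440)) (BT.node 16441 (BT.leaf cJ16441) (BT.leaf cJ16442)))))) (BT.node 16462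 (BT.node 16452 (BT.node 16447 (BT.node 16445 (BT.node 16444 (BT.node 16443 (BT.leaf cJ16443) (BT.leaf cJ16444)) (BT.leaf cJ16445)) (BT.node 16446 (BT.leaf cJ16446) (BT.leaf cJ16447))) (BT.node 16450 (BT.node 16449 (BT.node 16448 (BT.leaf cJ16448) (BT.leaf cJ16449)) (BT.leaf cJ16450)) (BT.node 16451 (BT.leaf cJ16451) (BT.leaf cJ16452)))) (BT.node 16457 (BT.node 16455 (BT.node 16454 (BT.node 16453 (BT.leaf cJ16453) (BT.leaf cJ16454)) (BT.leaf cJ16455)) (BT.node 16456 (BT.leaf cJ16456) (BT.leaf cJ16457))) (BT.node 16460 (BT.node 16459 (BT.node 16458 (BT.leaf cJ16458) (BT.leaf cJ16459)) (BT.leaf cJ16460)) (BT.node 16461 (BT.leaf cJ16461) (BT.leaf cJ16462))))) (BT.node 16472 (BT.node 16467 (BT.node 16465 (BT.node 16464 (BT.node 16463 (BT.leaf cJ16463) (BT.leaf cJ16464)) (BT.leaf cJ16465)) (BT.node 16466 (BT.leaf cJ16466) (BT.leaf cJ16467))) (BT.node 16470 (BT.node 16469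 (BT.node 16468 (BT.leaf cJ16468) (BT.leaf cJ16469)) (BT.leaf cJ16470)) (BT.node 16471 (BT.leaf cJ16471) (BT.leaf cJ16472)))) (BT.node 16477 (BT.node 16475 (BT.node 16474 (BT.node 16473 (BT.leaf cJ16473) (BT.leaf cJ16474)) (BT.leaf cJ16475)) (BT.node 16476 (BT.leaf cJ16476) (BT.leaf cJ16477))) (BT.node 16480 (BT.node 16479 (BT.node 16478 (BT.leaf cJ16478) (BT.leaf cJ16479)) (BT.leaf cJ16480)) (BT.node 16481 (BT.leaf cJ16481) (BT.leaf cJ16482))))))))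
noncomputable def colJT_102 : BT ℕ := (BT.node 16563 (BT.node 16523 (BT.node 16503 (BT.node 16493 (BT.node 16488 (BT.node 16485 (BT.node 16484 (BT.node 16483 (BT.leaf cJ16483) (BT.leaf cJ16484)) (BT.leaf cJ16485)) (BT.node 16487 (BT.node 16486 (BT.leaf cJ16486) (BT.leaf cJ16487)) (BT.leaf cJ16488))) (BT.node 16491 (BT.node 16490 (BT.node 16489 (BT.leaf cJ16489) (BT.leaf cJ16490)) (BT.leaf cJ16491)) (BT.node 16492 (BT.leaf cJ16492) (BT.leaf cJ16493)))) (BT.node 16498 (BT.node 16496 (BT.node 16495 (BT.node 16494 (BT.leaf cJ16494) (BT.leaf cJ16495)) (BT.leaf cJ16496)) (BT.node 16497 (BT.leaf cJ16497) (BT.leaf cJ16498))) (BT.node 16501 (BT.node 16500 (BT.node 16499 (BT.leaf cJ16499) (BT.leaf cJ16500)) (BT.leaf cJ16501)) (BT.node 16502 (BT.leaf cJ16502) (BT.leaf cJ16503))))) (BT.node 16513 (BT.node 16508 (BT.node 16506 (BT.node 16505 (BT.node 16504 (BT.leaf cJ16504) (BT.leaf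 cJ16505)) (BT.leaf cJ16506)) (BT.node 16507 (BT.leaf cJ16507) (BT.leaf cJ16508))) (BT.node 16511 (BT.node 16510 (BT.node 16509 (BT.leaf cJ16509) (BT.leaf cJ16510)) (BT.leaf cJ16511)) (BT.node 16512 (BT.leaf cJ16512) (BT.leaf cJ16513)))) (BT.node 16518 (BT.node 16516 (BT.node 16515 (BT.node 16514 (BT.leaf cJ16514) (BT.leaf cJ16515)) (BT.leaf cJ16516)) (BT.node 16517 (BT.leaf cJ16517) (BT.leaf cJ16518))) (BT.node 16521 (BT.node 16520 (BT.node 16519 (BT.leaf cJ16519) (BT.leaf cJ16520)) (BT.leaf cJ16521)) (BT.node 16522 (BT.leaf cJ16522) (BT.leaf cJ16523)))))) (BT.node 16543 (BT.node 16533 (BT.node 16528 (BT.node 16526 (BT.node 16525 (BT.node 16524 (BT.leaf cJ16524) (BT.leaf cJ16525)) (BT.leaf cJ16526)) (BT.node 16527 (BT.leaf cJ16527) (BT.leaf cJ16528))) (BT.node 16531 (BT.node 16530 (BT.node 16529 (BT.leaf cJ16529) (BT.leaf cJ16530)) (BT.leaf cJ16531)) (BT.node 16532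 (BT.leaf cJ16532) (BT.leaf cJ16533)))) (BT.node 16538 (BT.node 16536 (BT.node 16535 (BT.node 16534 (BT.leaf cJ16534) (BT.leaf cJ16535)) (BT.leaf cJ16536)) (BT.node 16537 (BT.leaf cJ16537) (BT.leaf cJ16538))) (BT.node 16541 (BT.node 16540 (BT.node 16539 (BT.leaf cJ16539) (BT.leaf cJ16540)) (BT.leaf cJ16541)) (BT.node 16542 (BT.leaf cJ16542) (BT.leaf cJ16543))))) (BT.node 16553 (BT.node 16548 (BT.node 16546 (BT.node 16545 (BT.node 16544 (BT.leaf cJ16544) (BT.leaf cJ16545)) (BT.leaf cJ16546)) (BT.node 16547 (BT.leaf cJ16547) (BT.leaf cJ16548))) (BT.node 16551 (BT.node 16550 (BT.node 16549 (BT.leaf cJ16549) (BT.leaf cJ16550)) (BT.leaf cJ16551)) (BT.node 16552 (BT.leaf cJ16552) (BT.leaf cJ16553)))) (BT.node 16558 (BT.node 16556 (BT.node 16555 (BT.node 16554 (BT.leaf cJ16554) (BT.leaf cJ16555)) (BT.leaf cJ16556)) (BT.node 16557 (BT.leaf cJ16557) (BT.leaf cJ16558))) (BT.node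 16561 (BT.node 16560 (BT.node 16559 (BT.leaf cJ16559) (BT.leaf cJ16560)) (BT.leaf cJ16561)) (BT.node 16562 (BT.leaf cJ16562) (BT.leaf cJ16563))))))) (BT.node 16604 (BT.node 16584 (BT.node 16574 (BT.node 16569 (BT.node 16566 (BT.node 16565 (BT.node 16564 (BT.leaf cJ16564) (BT.leaf cJ16565)) (BT.leaf cJ16566)) (BT.node 16568 (BT.node 16567 (BT.leaf cJ16567) (BT.leaf cJ16568)) (BT.leaf cJ16569))) (BT.node 16572 (BT.node 16571 (BT.node 16570 (BT.leaf cJ16570) (BT.leaf cJ16571)) (BT.leaf cJ16572)) (BT.node 16573 (BT.leaf cJ16573) (BT.leaf cJ16574)))) (BT.node 16579 (BT.node 16577 (BT.node 16576 (BT.node 16575 (BT.leaf cJ16575) (BT.leaf cJ16576)) (BT.leaf cJ16577)) (BT.node 16578 (BT.leaf cJ16578) (BT.leaf cJ16579))) (BT.node 16582 (BT.node 16581 (BT.node 16580 (BT.leaf cJ16580) (BT.leaf cJ16581)) (BT.leaf cJ16582)) (BT.node 16583 (BT.leaf cJ16583) (BT.leaf cJ16584)))))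 (BT.node 16594 (BT.node 16589 (BT.node 16587 (BT.node 16586 (BT.node 16585 (BT.leaf cJ16585) (BT.leaf cJ16586)) (BT.leaf cJ16587)) (BT.node 16588 (BT.leaf cJ16588) (BT.leaf cJ16589))) (BT.node 16592 (BT.node 16591 (BT.node 16590 (BT.leaf cJ16590) (BT.leaf cJ16591)) (BT.leaf cJ16592)) (BT.node 16593 (BT.leaf cJ16593) (BT.leaf cJ16594)))) (BT.node 16599 (BT.node 16597 (BT.node 16596 (BT.node 16595 (BT.leaf cJ16595) (BT.leaf cJ16596)) (BT.leaf cJ16597)) (BT.node 16598 (BT.leaf cJ16598) (BT.leaf cJ16599))) (BT.node 16602 (BT.node 16601 (BT.node 16600 (BT.leaf cJ16600) (BT.leaf cJ16601)) (BT.leaf cJ16602)) (BT.node 16603 (BT.leaf cJ16603) (BT.leaf cJ16604)))))) (BT.node 16624 (BT.node 16614 (BT.node 16609 (BT.node 16607 (BT.node 16606 (BT.node 16605 (BT.leaf cJ16605) (BT.leaf cJ16606)) (BT.leaf cJ16607)) (BT.node 16608 (BT.leaf cJ16608) (BT.leaf cJ16609))) (BT.node 16612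 (BT.node 16611 (BT.node 16610 (BT.leaf cJ16610) (BT.leaf cJ16611)) (BT.leaf cJ16612)) (BT.node 16613 (BT.leaf cJ16613) (BT.leaf cJ16614)))) (BT.node 16619 (BT.node 16617 (BT.node 16616 (BT.node 16615 (BT.leaf cJ16615) (BT.leaf cJ16616)) (BT.leaf cJ16617)) (BT.node 16618 (BT.leaf cJ16618) (BT.leaf cJ16619))) (BT.node 16622 (BT.node 16621 (BT.node 16620 (BT.leaf cJ16620) (BT.leaf cJ16621)) (BT.leaf cJ16622)) (BT.node 16623 (BT.leaf cJ16623) (BT.leaf cJ16624))))) (BT.node 16634 (BT.node 16629 (BT.node 16627 (BT.node 16626 (BT.node 16625 (BT.leaf cJ16625) (BT.leaf cJ16626)) (BT.leaf cJ16627)) (BT.node 16628 (BT.leaf cJ16628) (BT.leaf cJ16629))) (BT.node 16632 (BT.node 16631 (BT.node 16630 (BT.leaf cJ16630) (BT.leaf cJ16631)) (BT.leaf cJ16632)) (BT.node 16633 (BT.leaf cJ16633) (BT.leaf cJ16634)))) (BT.node 16639 (BT.node 16637 (BT.node 16636 (BT.node 16635 (BT.leaf cJ16635)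 (BT.leaf cJ16636)) (BT.leaf cJ16637)) (BT.node 16638 (BT.leaf cJ16638) (BT.leaf cJ16639))) (BT.node 16642 (BT.node 16641 (BT.node 16640 (BT.leaf cJ16640) (BT.leaf cJ16641)) (BT.leaf cJ16642)) (BT.node 16643 (BT.leaf cJ16643) (BT.leaf cJ16644))))))))
noncomputable def colJT_103 : BT ℕ := (BT.node 16725 (BT.node 16685 (BT.node 16665 (BT.node 16655 (BT.node 16650 (BT.node 16647 (BT.node 16646 (BT.node 16645 (BT.leaf cJ16645) (BT.leaf cJ16646)) (BT.leaf cJ16647)) (BT.node 16649 (BT.node 16648 (BT.leaf cJ16648) (BT.leaf cJ16649)) (BT.leaf cJ16650))) (BT.node 16653 (BT.node 16652 (BT.node 16651 (BT.leaf cJ16651) (BT.leaf cJ16652)) (BT.leaf cJ16653)) (BT.node 16654 (BT.leaf cJ16654) (BT.leaf cJ16655)))) (BT.node 16660 (BT.node 16658 (BT.node 16657 (BT.node 16656 (BT.leaf cJ16656) (BT.leaf cJ16657)) (BT.leaf cJ16658)) (BT.node 16659 (BT.leaf cJ16659) (BT.leaf cJ16660))) (BT.node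 16663 (BT.node 16662 (BT.node 16661 (BT.leaf cJ16661) (BT.leaf cJ16662)) (BT.leaf cJ16663)) (BT.node 16664 (BT.leaf cJ16664) (BT.leaf cJ16665))))) (BT.node 16675 (BT.node 16670 (BT.node 16668 (BT.node 16667 (BT.node 16666 (BT.leaf cJ16666) (BT.leaf cJ16667)) (BT.leaf cJ16668)) (BT.node 16669 (BT.leaf cJ16669) (BT.leaf cJ16670))) (BT.node 16673 (BT.node 16672 (BT.node 16671 (BT.leaf cJ16671) (BT.leaf cJ16672)) (BT.leaf cJ16673)) (BT.node 16674 (BT.leaf cJ16674) (BT.leaf cJ16675)))) (BT.node 16680 (BT.node 16678 (BT.node 16677 (BT.node 16676 (BT.leaf cJ16676) (BT.leaf cJ16677)) (BT.leaf cJ16678)) (BT.node 16679 (BT.leaf cJ16679) (BT.leaf cJ16680))) (BT.node 16683 (BT.node 16682 (BT.node 16681 (BT.leaf cJ16681) (BT.leaf cJ16682)) (BT.leaf cJ16683)) (BT.node 16684 (BT.leaf cJ16684) (BT.leaf cJ16685)))))) (BT.node 16705 (BT.node 16695 (BT.node 16690 (BT.node 16688 (BT.node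 16687 (BT.node 16686 (BT.leaf cJ16686) (BT.leaf cJ16687)) (BT.leaf cJ16688)) (BT.node 16689 (BT.leaf cJ16689) (BT.leaf cJ16690))) (BT.node 16693 (BT.node 16692 (BT.node 16691 (BT.leaf cJ16691) (BT.leaf cJ16692)) (BT.leaf cJ16693)) (BT.node 16694 (BT.leaf cJ16694) (BT.leaf cJ16695)))) (BT.node 16700 (BT.node 16698 (BT.node 16697 (BT.node 16696 (BT.leaf cJ16696) (BT.leaf cJ16697)) (BT.leaf cJ16698)) (BT.node 16699 (BT.leaf cJ16699) (BT.leaf cJ16700))) (BT.node 16703 (BT.node 16702 (BT.node 16701 (BT.leaf cJ16701) (BT.leaf cJ16702)) (BT.leaf cJ16703)) (BT.node 16704 (BT.leaf cJ16704) (BT.leaf cJ16705))))) (BT.node 16715 (BT.node 16710 (BT.node 16708 (BT.node 16707 (BT.node 16706 (BT.leaf cJ16706) (BT.leaf cJ16707)) (BT.leaf cJ16708)) (BT.node 16709 (BT.leaf cJ16709) (BT.leaf cJ16710))) (BT.node 16713 (BT.node 16712 (BT.node 16711 (BT.leaf cJ16711) (BT.leaf cJ16712)) (BT.leaf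 cJ16713)) (BT.node 16714 (BT.leaf cJ16714) (BT.leaf cJ16715)))) (BT.node 16720 (BT.node 16718 (BT.node 16717 (BT.node 16716 (BT.leaf cJ16716) (BT.leaf cJ16717)) (BT.leaf cJ16718)) (BT.node 16719 (BT.leaf cJ16719) (BT.leaf cJ16720))) (BT.node 16723 (BT.node 16722 (BT.node 16721 (BT.leaf cJ16721) (BT.leaf cJ16722)) (BT.leaf cJ16723)) (BT.node 16724 (BT.leaf cJ16724) (BT.leaf cJ16725))))))) (BT.node 16765 (BT.node 16745 (BT.node 16735 (BT.node 16730 (BT.node 16728 (BT.node 16727 (BT.node 16726 (BT.leaf cJ16726) (BT.leaf cJ16727)) (BT.leaf cJ16728)) (BT.node 16729 (BT.leaf cJ16729) (BT.leaf cJ16730))) (BT.node 16733 (BT.node 16732 (BT.node 16731 (BT.leaf cJ16731) (BT.leaf cJ16732)) (BT.leaf cJ16733)) (BT.node 16734 (BT.leaf cJ16734) (BT.leaf cJ16735)))) (BT.node 16740 (BT.node 16738 (BT.node 16737 (BT.node 16736 (BT.leaf cJ16736) (BT.leaf cJ16737)) (BT.leaf cJ16738)) (BT.node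 16739 (BT.leaf cJ16739) (BT.leaf cJ16740))) (BT.node 16743 (BT.node 16742 (BT.node 16741 (BT.leaf cJ16741) (BT.leaf cJ16742)) (BT.leaf cJ16743)) (BT.node 16744 (BT.leaf cJ16744) (BT.leaf cJ16745))))) (BT.node 16755 (BT.node 16750 (BT.node 16748 (BT.node 16747 (BT.node 16746 (BT.leaf cJ16746) (BT.leaf cJ16747)) (BT.leaf cJ16748)) (BT.node 16749 (BT.leaf cJ16749) (BT.leaf cJ16750))) (BT.node 16753 (BT.node 16752 (BT.node 16751 (BT.leaf cJ16751) (BT.leaf cJ16752)) (BT.leaf cJ16753)) (BT.node 16754 (BT.leaf cJ16754) (BT.leaf cJ16755)))) (BT.node 16760 (BT.node 16758 (BT.node 16757 (BT.node 16756 (BT.leaf cJ16756) (BT.leaf cJ16757)) (BT.leaf cJ16758)) (BT.node 16759 (BT.leaf cJ16759) (BT.leaf cJ16760))) (BT.node 16763 (BT.node 16762 (BT.node 16761 (BT.leaf cJ16761) (BT.leaf cJ16762)) (BT.leaf cJ16763)) (BT.node 16764 (BT.leaf cJ16764) (BT.leaf cJ16765)))))) (BT.node 16785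 (BT.node 16775 (BT.node 16770 (BT.node 16768 (BT.node 16767 (BT.node 16766 (BT.leaf cJ16766) (BT.leaf cJ16767)) (BT.leaf cJ16768)) (BT.node 16769 (BT.leaf cJ16769) (BT.leaf cJ16770))) (BT.node 16773 (BT.node 16772 (BT.node 16771 (BT.leaf cJ16771) (BT.leaf cJ16772)) (BT.leaf cJ16773)) (BT.node 16774 (BT.leaf cJ16774) (BT.leaf cJ16775)))) (BT.node 16780 (BT.node 16778 (BT.node 16777 (BT.node 16776 (BT.leaf cJ16776) (BT.leaf cJ16777)) (BT.leaf cJ16778)) (BT.node 16779 (BT.leaf cJ16779) (BT.leaf cJ16780))) (BT.node 16783 (BT.node 16782 (BT.node 16781 (BT.leaf cJ16781) (BT.leaf cJ16782)) (BT.leaf cJ16783)) (BT.node 16784 (BT.leaf cJ16784) (BT.leaf cJ16785))))) (BT.node 16795 (BT.node 16790 (BT.node 16788 (BT.node 16787 (BT.node 16786 (BT.leaf cJ16786) (BT.leaf cJ16787)) (BT.leaf cJ16788)) (BT.node 16789 (BT.leaf cJ16789) (BT.leaf cJ16790))) (BT.node 16793 (BT.node 16792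 (BT.node 16791 (BT.leaf cJ16791) (BT.leaf cJ16792)) (BT.leaf cJ16793)) (BT.node 16794 (BT.leaf cJ16794) (BT.leaf cJ16795)))) (BT.node 16800 (BT.node 16798 (BT.node 16797 (BT.node 16796 (BT.leaf cJ16796) (BT.leaf cJ16797)) (BT.leaf cJ16798)) (BT.node 16799 (BT.leaf cJ16799) (BT.leaf cJ16800))) (BT.node 16803 (BT.node 16802 (BT.node 16801 (BT.leaf cJ16801) (BT.leaf cJ16802)) (BT.leaf cJ16803)) (BT.node 16804 (BT.leaf cJ16804) (BT.leaf cJ16805))))))))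
noncomputable def colJT_104 : BT ℕ := (BT.node 16886 (BT.node 16846 (BT.node 16826 (BT.node 16816 (BT.node 16811 (BT.node 16808 (BT.node 16807 (BT.node 16806 (BT.leaf cJ16806) (BT.leaf cJ16807)) (BT.leaf cJ16808)) (BT.node 16810 (BT.node 16809 (BT.leaf cJ16809) (BT.leaf cJ16810)) (BT.leaf cJ16811))) (BT.node 16814 (BT.node 16813 (BT.node 16812 (BT.leaf cJ16812) (BT.leaf cJ16813)) (BT.leaf cJ16814)) (BT.node 16815 (BT.leaf cJ16815) (BT.leaf cJ16816)))) (BT.node 16821 (BT.node 16819 (BT.node 16818 (BT.node 16817 (BT.leaf cJ16817) (BT.leaf cJ16818)) (BT.leaf cJ16819)) (BT.node 16820 (BT.leaf cJ16820) (BT.leaf cJ16821))) (BT.node 16824 (BT.node 16823 (BT.node 16822 (BT.leaf cJ16822) (BT.leaf cJ16823)) (BT.leaf cJ16824)) (BT.node 16825 (BT.leaf cJ16825) (BT.leaf cJ16826))))) (BT.node 16836 (BT.node 16831 (BT.node 16829 (BT.node 16828 (BT.node 16827 (BT.leaf cJ16827) (BT.leaf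 cJ16828)) (BT.leaf cJ16829)) (BT.node 16830 (BT.leaf cJ16830) (BT.leaf cJ16831))) (BT.node 16834 (BT.node 16833 (BT.node 16832 (BT.leaf cJ16832) (BT.leaf cJ16833)) (BT.leaf cJ16834)) (BT.node 16835 (BT.leaf cJ16835) (BT.leaf cJ16836)))) (BT.node 16841 (BT.node 16839 (BT.node 16838 (BT.node 16837 (BT.leaf cJ16837) (BT.leaf cJ16838)) (BT.leaf cJ16839)) (BT.node 16840 (BT.leaf cJ16840) (BT.leaf cJ16841))) (BT.node 16844 (BT.node 16843 (BT.node 16842 (BT.leaf cJ16842) (BT.leaf cJ16843)) (BT.leaf cJ16844)) (BT.node 16845 (BT.leaf cJ16845) (BT.leaf cJ16846)))))) (BT.node 16866 (BT.node 16856 (BT.node 16851 (BT.node 16849 (BT.node 16848 (BT.node 16847 (BT.leaf cJ16847) (BT.leaf cJ16848)) (BT.leaf cJ16849)) (BT.node 16850 (BT.leaf cJ16850) (BT.leaf cJ16851))) (BT.node 16854 (BT.node 16853 (BT.node 16852 (BT.leaf cJ16852) (BT.leaf cJ16853)) (BT.leaf cJ16854)) (BT.node 16855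 (BT.leaf cJ16855) (BT.leaf cJ16856)))) (BT.node 16861 (BT.node 16859 (BT.node 16858 (BT.node 16857 (BT.leaf cJ16857) (BT.leaf cJ16858)) (BT.leaf cJ16859)) (BT.node 16860 (BT.leaf cJ16860) (BT.leaf cJ16861))) (BT.node 16864 (BT.node 16863 (BT.node 16862 (BT.leaf cJ16862) (BT.leaf cJ16863)) (BT.leaf cJ16864)) (BT.node 16865 (BT.leaf cJ16865) (BT.leaf cJ16866))))) (BT.node 16876 (BT.node 16871 (BT.node 16869 (BT.node 16868 (BT.node 16867 (BT.leaf cJ16867) (BT.leaf cJ16868)) (BT.leaf cJ16869)) (BT.node 16870 (BT.leaf cJ16870) (BT.leaf cJ16871))) (BT.node 16874 (BT.node 16873 (BT.node 16872 (BT.leaf cJ16872) (BT.leaf cJ16873)) (BT.leaf cJ16874)) (BT.node 16875 (BT.leaf cJ16875) (BT.leaf cJ16876)))) (BT.node 16881 (BT.node 16879 (BT.node 16878 (BT.node 16877 (BT.leaf cJ16877) (BT.leaf cJ16878)) (BT.leaf cJ16879)) (BT.node 16880 (BT.leaf cJ16880) (BT.leaf cJ16881))) (BT.node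 16884 (BT.node 16883 (BT.node 16882 (BT.leaf cJ16882) (BT.leaf cJ16883)) (BT.leaf cJ16884)) (BT.node 16885 (BT.leaf cJ16885) (BT.leaf cJ16886))))))) (BT.node 16927 (BT.node 16907 (BT.node 16897 (BT.node 16892 (BT.node 16889 (BT.node 16888 (BT.node 16887 (BT.leaf cJ16887) (BT.leaf cJ16888)) (BT.leaf cJ16889)) (BT.node 16891 (BT.node 16890 (BT.leaf cJ16890) (BT.leaf cJ16891)) (BT.leaf cJ16892))) (BT.node 16895 (BT.node 16894 (BT.node 16893 (BT.leaf cJ16893) (BT.leaf cJ16894)) (BT.leaf cJ16895)) (BT.node 16896 (BT.leaf cJ16896) (BT.leaf cJ16897)))) (BT.node 16902 (BT.node 16900 (BT.node 16899 (BT.node 16898 (BT.leaf cJ16898) (BT.leaf cJ16899)) (BT.leaf cJ16900)) (BT.node 16901 (BT.leaf cJ16901) (BT.leaf cJ16902))) (BT.node 16905 (BT.node 16904 (BT.node 16903 (BT.leaf cJ16903) (BT.leaf cJ16904)) (BT.leaf cJ16905)) (BT.node 16906 (BT.leaf cJ16906) (BT.leaf cJ16907)))))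 (BT.node 16917 (BT.node 16912 (BT.node 16910 (BT.node 16909 (BT.node 16908 (BT.leaf cJ16908) (BT.leaf cJ16909)) (BT.leaf cJ16910)) (BT.node 16911 (BT.leaf cJ16911) (BT.leaf cJ16912))) (BT.node 16915 (BT.node 16914 (BT.node 16913 (BT.leaf cJ16913) (BT.leaf cJ16914)) (BT.leaf cJ16915)) (BT.node 16916 (BT.leaf cJ16916) (BT.leaf cJ16917)))) (BT.node 16922 (BT.node 16920 (BT.node 16919 (BT.node 16918 (BT.leaf cJ16918) (BT.leaf cJ16919)) (BT.leaf cJ16920)) (BT.node 16921 (BT.leaf cJ16921) (BT.leaf cJ16922))) (BT.node 16925 (BT.node 16924 (BT.node 16923 (BT.leaf cJ16923) (BT.leaf cJ16924)) (BT.leaf cJ16925)) (BT.node 16926 (BT.leaf cJ16926) (BT.leaf cJ16927)))))) (BT.node 16947 (BT.node 16937 (BT.node 16932 (BT.node 16930 (BT.node 16929 (BT.node 16928 (BT.leaf cJ16928) (BT.leaf cJ16929)) (BT.leaf cJ16930)) (BT.node 16931 (BT.leaf cJ16931) (BT.leaf cJ16932))) (BT.node 16935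 (BT.node 16934 (BT.node 16933 (BT.leaf cJ16933) (BT.leaf cJ16934)) (BT.leaf cJ16935)) (BT.node 16936 (BT.leaf cJ16936) (BT.leaf cJ16937)))) (BT.node 16942 (BT.node 16940 (BT.node 16939 (BT.node 16938 (BT.leaf cJ16938) (BT.leaf cJ16939)) (BT.leaf cJ16940)) (BT.node 16941 (BT.leaf cJ16941) (BT.leaf cJ16942))) (BT.node 16945 (BT.node 16944 (BT.node 16943 (BT.leaf cJ16943) (BT.leaf cJ16944)) (BT.leaf cJ16945)) (BT.node 16946 (BT.leaf cJ16946) (BT.leaf cJ16947))))) (BT.node 16957 (BT.node 16952 (BT.node 16950 (BT.node 16949 (BT.node 16948 (BT.leaf cJ16948) (BT.leaf cJ16949)) (BT.leaf cJ16950)) (BT.node 16951 (BT.leaf cJ16951) (BT.leaf cJ16952))) (BT.node 16955 (BT.node 16954 (BT.node 16953 (BT.leaf cJ16953) (BT.leaf cJ16954)) (BT.leaf cJ16955)) (BT.node 16956 (BT.leaf cJ16956) (BT.leaf cJ16957)))) (BT.node 16962 (BT.node 16960 (BT.node 16959 (BT.node 16958 (BT.leaf cJ16958)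 (BT.leaf cJ16959)) (BT.leaf cJ16960)) (BT.node 16961 (BT.leaf cJ16961) (BT.leaf cJ16962))) (BT.node 16965 (BT.node 16964 (BT.node 16963 (BT.leaf cJ16963) (BT.leaf cJ16964)) (BT.leaf cJ16965)) (BT.node 16966 (BT.leaf cJ16966) (BT.leaf cJ16967))))))))
noncomputable def colJT_105 : BT ℕ := (BT.node 17048 (BT.node 17008 (BT.node 16988 (BT.node 16978 (BT.node 16973 (BT.node 16970 (BT.node 16969 (BT.node 16968 (BT.leaf cJ16968) (BT.leaf cJ16969)) (BT.leaf cJ16970)) (BT.node 16972 (BT.node 16971 (BT.leaf cJ16971) (BT.leaf cJ16972)) (BT.leaf cJ16973))) (BT.node 16976 (BT.node 16975 (BT.node 16974 (BT.leaf cJ16974) (BT.leaf cJ16975)) (BT.leaf cJ16976)) (BT.node 16977 (BT.leaf cJ16977) (BT.leaf cJ16978)))) (BT.node 16983 (BT.node 16981 (BT.node 16980 (BT.node 16979 (BT.leaf cJ16979) (BT.leaf cJ16980)) (BT.leaf cJ16981)) (BT.node 16982 (BT.leaf cJ16982) (BT.leaf cJ16983))) (BT.node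 16986 (BT.node 16985 (BT.node 16984 (BT.leaf cJ16984) (BT.leaf cJ16985)) (BT.leaf cJ16986)) (BT.node 16987 (BT.leaf cJ16987) (BT.leaf cJ16988))))) (BT.node 16998 (BT.node 16993 (BT.node 16991 (BT.node 16990 (BT.node 16989 (BT.leaf cJ16989) (BT.leaf cJ16990)) (BT.leaf cJ16991)) (BT.node 16992 (BT.leaf cJ16992) (BT.leaf cJ16993))) (BT.node 16996 (BT.node 16995 (BT.node 16994 (BT.leaf cJ16994) (BT.leaf cJ16995)) (BT.leaf cJ16996)) (BT.node 16997 (BT.leaf cJ16997) (BT.leaf cJ16998)))) (BT.node 17003 (BT.node 17001 (BT.node 17000 (BT.node 16999 (BT.leaf cJ16999) (BT.leaf cJ17000)) (BT.leaf cJ17001)) (BT.node 17002 (BT.leaf cJ17002) (BT.leaf cJ17003))) (BT.node 17006 (BT.node 17005 (BT.node 17004 (BT.leaf cJ17004) (BT.leaf cJ17005)) (BT.leaf cJ17006)) (BT.node 17007 (BT.leaf cJ17007) (BT.leaf cJ17008)))))) (BT.node 17028 (BT.node 17018 (BT.node 17013 (BT.node 17011 (BT.node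 17010 (BT.node 17009 (BT.leaf cJ17009) (BT.leaf cJ17010)) (BT.leaf cJ17011)) (BT.node 17012 (BT.leaf cJ17012) (BT.leaf cJ17013))) (BT.node 17016 (BT.node 17015 (BT.node 17014 (BT.leaf cJ17014) (BT.leaf cJ17015)) (BT.leaf cJ17016)) (BT.node 17017 (BT.leaf cJ17017) (BT.leaf cJ17018)))) (BT.node 17023 (BT.node 17021 (BT.node 17020 (BT.node 17019 (BT.leaf cJ17019) (BT.leaf cJ17020)) (BT.leaf cJ17021)) (BT.node 17022 (BT.leaf cJ17022) (BT.leaf cJ17023))) (BT.node 17026 (BT.node 17025 (BT.node 17024 (BT.leaf cJ17024) (BT.leaf cJ17025)) (BT.leaf cJ17026)) (BT.node 17027 (BT.leaf cJ17027) (BT.leaf cJ17028))))) (BT.node 17038 (BT.node 17033 (BT.node 17031 (BT.node 17030 (BT.node 17029 (BT.leaf cJ17029) (BT.leaf cJ17030)) (BT.leaf cJ17031)) (BT.node 17032 (BT.leaf cJ17032) (BT.leaf cJ17033))) (BT.node 17036 (BT.node 17035 (BT.node 17034 (BT.leaf cJ17034) (BT.leaf cJ17035)) (BT.leaf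 cJ17036)) (BT.node 17037 (BT.leaf cJ17037) (BT.leaf cJ17038)))) (BT.node 17043 (BT.node 17041 (BT.node 17040 (BT.node 17039 (BT.leaf cJ17039) (BT.leaf cJ17040)) (BT.leaf cJ17041)) (BT.node 17042 (BT.leaf cJ17042) (BT.leaf cJ17043))) (BT.node 17046 (BT.node 17045 (BT.node 17044 (BT.leaf cJ17044) (BT.leaf cJ17045)) (BT.leaf cJ17046)) (BT.node 17047 (BT.leaf cJ17047) (BT.leaf cJ17048))))))) (BT.node 17088 (BT.node 17068 (BT.node 17058 (BT.node 17053 (BT.node 17051 (BT.node 17050 (BT.node 17049 (BT.leaf cJ17049) (BT.leaf cJ17050)) (BT.leaf cJ17051)) (BT.node 17052 (BT.leaf cJ17052) (BT.leaf cJ17053))) (BT.node 17056 (BT.node 17055 (BT.node 17054 (BT.leaf cJ17054) (BT.leaf cJ17055)) (BT.leaf cJ17056)) (BT.node 17057 (BT.leaf cJ17057) (BT.leaf cJ17058)))) (BT.node 17063 (BT.node 17061 (BT.node 17060 (BT.node 17059 (BT.leaf cJ17059) (BT.leaf cJ17060)) (BT.leaf cJ17061)) (BT.node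 17062 (BT.leaf cJ17062) (BT.leaf cJ17063))) (BT.node 17066 (BT.node 17065 (BT.node 17064 (BT.leaf cJ17064) (BT.leaf cJ17065)) (BT.leaf cJ17066)) (BT.node 17067 (BT.leaf cJ17067) (BT.leaf cJ17068))))) (BT.node 17078 (BT.node 17073 (BT.node 17071 (BT.node 17070 (BT.node 17069 (BT.leaf cJ17069) (BT.leaf cJ17070)) (BT.leaf cJ17071)) (BT.node 17072 (BT.leaf cJ17072) (BT.leaf cJ17073))) (BT.node 17076 (BT.node 17075 (BT.node 17074 (BT.leaf cJ17074) (BT.leaf cJ17075)) (BT.leaf cJ17076)) (BT.node 17077 (BT.leaf cJ17077) (BT.leaf cJ17078)))) (BT.node 17083 (BT.node 17081 (BT.node 17080 (BT.node 17079 (BT.leaf cJ17079) (BT.leaf cJ17080)) (BT.leaf cJ17081)) (BT.node 17082 (BT.leaf cJ17082) (BT.leaf cJ17083))) (BT.node 17086 (BT.node 17085 (BT.node 17084 (BT.leaf cJ17084) (BT.leaf cJ17085)) (BT.leaf cJ17086)) (BT.node 17087 (BT.leaf cJ17087) (BT.leaf cJ17088)))))) (BT.node 17108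 (BT.node 17098 (BT.node 17093 (BT.node 17091 (BT.node 17090 (BT.node 17089 (BT.leaf cJ17089) (BT.leaf cJ17090)) (BT.leaf cJ17091)) (BT.node 17092 (BT.leaf cJ17092) (BT.leaf cJ17093))) (BT.node 17096 (BT.node 17095 (BT.node 17094 (BT.leaf cJ17094) (BT.leaf cJ17095)) (BT.leaf cJ17096)) (BT.node 17097 (BT.leaf cJ17097) (BT.leaf cJ17098)))) (BT.node 17103 (BT.node 17101 (BT.node 17100 (BT.node 17099 (BT.leaf cJ17099) (BT.leaf cJ17100)) (BT.leaf cJ17101)) (BT.node 17102 (BT.leaf cJ17102) (BT.leaf cJ17103))) (BT.node 17106 (BT.node 17105 (BT.node 17104 (BT.leaf cJ17104) (BT.leaf cJ17105)) (BT.leaf cJ17106)) (BT.node 17107 (BT.leaf cJ17107) (BT.leaf cJ17108))))) (BT.node 17118 (BT.node 17113 (BT.node 17111 (BT.node 17110 (BT.node 17109 (BT.leaf cJ17109) (BT.leaf cJ17110)) (BT.leaf cJ17111)) (BT.node 17112 (BT.leaf cJ17112) (BT.leaf cJ17113))) (BT.node 17116 (BT.node 17115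 (BT.node 17114 (BT.leaf cJ17114) (BT.leaf cJ17115)) (BT.leaf cJ17116)) (BT.node 17117 (BT.leaf cJ17117) (BT.leaf cJ17118)))) (BT.node 17123 (BT.node 17121 (BT.node 17120 (BT.node 17119 (BT.leaf cJ17119) (BT.leaf cJ17120)) (BT.leaf cJ17121)) (BT.node 17122 (BT.leaf cJ17122) (BT.leaf cJ17123))) (BT.node 17126 (BT.node 17125 (BT.node 17124 (BT.leaf cJ17124) (BT.leaf cJ17125)) (BT.leaf cJ17126)) (BT.node 17127 (BT.leaf cJ17127) (BT.leaf cJ17128))))))))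
noncomputable def colJT_106 : BT ℕ := (BT.node 17209 (BT.node 17169 (BT.node 17149 (BT.node 17139 (BT.node 17134 (BT.node 17131 (BT.node 17130 (BT.node 17129 (BT.leaf cJ17129) (BT.leaf cJ17130)) (BT.leaf cJ17131)) (BT.node 17133 (BT.node 17132 (BT.leaf cJ17132) (BT.leaf cJ17133)) (BT.leaf cJ17134))) (BT.node 17137 (BT.node 17136 (BT.node 17135 (BT.leaf cJ17135) (BT.leaf cJ17136)) (BT.leaf cJ17137)) (BT.node 17138 (BT.leaf cJ17138) (BT.leaf cJ17139)))) (BT.node 17144 (BT.node 17142 (BT.node 17141 (BT.node 17140 (BT.leaf cJ17140) (BT.leaf cJ17141)) (BT.leaf cJ17142)) (BT.node 17143 (BT.leaf cJ17143) (BT.leaf cJ17144))) (BT.node 17147 (BT.node 17146 (BT.node 17145 (BT.leaf cJ17145) (BT.leaf cJ17146)) (BT.leaf cJ17147)) (BT.node 17148 (BT.leaf cJ17148) (BT.leaf cJ17149))))) (BT.node 17159 (BT.node 17154 (BT.node 17152 (BT.node 17151 (BT.node 17150 (BT.leaf cJ17150) (BT.leaf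 cJ17151)) (BT.leaf cJ17152)) (BT.node 17153 (BT.leaf cJ17153) (BT.leaf cJ17154))) (BT.node 17157 (BT.node 17156 (BT.node 17155 (BT.leaf cJ17155) (BT.leaf cJ17156)) (BT.leaf cJ17157)) (BT.node 17158 (BT.leaf cJ17158) (BT.leaf cJ17159)))) (BT.node 17164 (BT.node 17162 (BT.node 17161 (BT.node 17160 (BT.leaf cJ17160) (BT.leaf cJ17161)) (BT.leaf cJ17162)) (BT.node 17163 (BT.leaf cJ17163) (BT.leaf cJ17164))) (BT.node 17167 (BT.node 17166 (BT.node 17165 (BT.leaf cJ17165) (BT.leaf cJ17166)) (BT.leaf cJ17167)) (BT.node 17168 (BT.leaf cJ17168) (BT.leaf cJ17169)))))) (BT.node 17189 (BT.node 17179 (BT.node 17174 (BT.node 17172 (BT.node 17171 (BT.node 17170 (BT.leaf cJ17170) (BT.leaf cJ17171)) (BT.leaf cJ17172)) (BT.node 17173 (BT.leaf cJ17173) (BT.leaf cJ17174))) (BT.node 17177 (BT.node 17176 (BT.node 17175 (BT.leaf cJ17175) (BT.leaf cJ17176)) (BT.leaf cJ17177)) (BT.node 17178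 (BT.leaf cJ17178) (BT.leaf cJ17179)))) (BT.node 17184 (BT.node 17182 (BT.node 17181 (BT.node 17180 (BT.leaf cJ17180) (BT.leaf cJ17181)) (BT.leaf cJ17182)) (BT.node 17183 (BT.leaf cJ17183) (BT.leaf cJ17184))) (BT.node 17187 (BT.node 17186 (BT.node 17185 (BT.leaf cJ17185) (BT.leaf cJ17186)) (BT.leaf cJ17187)) (BT.node 17188 (BT.leaf cJ17188) (BT.leaf cJ17189))))) (BT.node 17199 (BT.node 17194 (BT.node 17192 (BT.node 17191 (BT.node 17190 (BT.leaf cJ17190) (BT.leaf cJ17191)) (BT.leaf cJ17192)) (BT.node 17193 (BT.leaf cJ17193) (BT.leaf cJ17194))) (BT.node 17197 (BT.node 17196 (BT.node 17195 (BT.leaf cJ17195) (BT.leaf cJ17196)) (BT.leaf cJ17197)) (BT.node 17198 (BT.leaf cJ17198) (BT.leaf cJ17199)))) (BT.node 17204 (BT.node 17202 (BT.node 17201 (BT.node 17200 (BT.leaf cJ17200) (BT.leaf cJ17201)) (BT.leaf cJ17202)) (BT.node 17203 (BT.leaf cJ17203) (BT.leaf cJ17204))) (BT.node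 17207 (BT.node 17206 (BT.node 17205 (BT.leaf cJ17205) (BT.leaf cJ17206)) (BT.leaf cJ17207)) (BT.node 17208 (BT.leaf cJ17208) (BT.leaf cJ17209))))))) (BT.node 17250 (BT.node 17230 (BT.node 17220 (BT.node 17215 (BT.node 17212 (BT.node 17211 (BT.node 17210 (BT.leaf cJ17210) (BT.leaf cJ17211)) (BT.leaf cJ17212)) (BT.node 17214 (BT.node 17213 (BT.leaf cJ17213) (BT.leaf cJ17214)) (BT.leaf cJ17215))) (BT.node 17218 (BT.node 17217 (BT.node 17216 (BT.leaf cJ17216) (BT.leaf cJ17217)) (BT.leaf cJ17218)) (BT.node 17219 (BT.leaf cJ17219) (BT.leaf cJ17220)))) (BT.node 17225 (BT.node 17223 (BT.node 17222 (BT.node 17221 (BT.leaf cJ17221) (BT.leaf cJ17222)) (BT.leaf cJ17223)) (BT.node 17224 (BT.leaf cJ17224) (BT.leaf cJ17225))) (BT.node 17228 (BT.node 17227 (BT.node 17226 (BT.leaf cJ17226) (BT.leaf cJ17227)) (BT.leaf cJ17228)) (BT.node 17229 (BT.leaf cJ17229) (BT.leaf cJ17230)))))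 (BT.node 17240 (BT.node 17235 (BT.node 17233 (BT.node 17232 (BT.node 17231 (BT.leaf cJ17231) (BT.leaf cJ17232)) (BT.leaf cJ17233)) (BT.node 17234 (BT.leaf cJ17234) (BT.leaf cJ17235))) (BT.node 17238 (BT.node 17237 (BT.node 17236 (BT.leaf cJ17236) (BT.leaf cJ17237)) (BT.leaf cJ17238)) (BT.node 17239 (BT.leaf cJ17239) (BT.leaf cJ17240)))) (BT.node 17245 (BT.node 17243 (BT.node 17242 (BT.node 17241 (BT.leaf cJ17241) (BT.leaf cJ17242)) (BT.leaf cJ17243)) (BT.node 17244 (BT.leaf cJ17244) (BT.leaf cJ17245))) (BT.node 17248 (BT.node 17247 (BT.node 17246 (BT.leaf cJ17246) (BT.leaf cJ17247)) (BT.leaf cJ17248)) (BT.node 17249 (BT.leaf cJ17249) (BT.leaf cJ17250)))))) (BT.node 17270 (BT.node 17260 (BT.node 17255 (BT.node 17253 (BT.node 17252 (BT.node 17251 (BT.leaf cJ17251) (BT.leaf cJ17252)) (BT.leaf cJ17253)) (BT.node 17254 (BT.leaf cJ17254) (BT.leaf cJ17255))) (BT.node 17258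 (BT.node 17257 (BT.node 17256 (BT.leaf cJ17256) (BT.leaf cJ17257)) (BT.leaf cJ17258)) (BT.node 17259 (BT.leaf cJ17259) (BT.leaf cJ17260)))) (BT.node 17265 (BT.node 17263 (BT.node 17262 (BT.node 17261 (BT.leaf cJ17261) (BT.leaf cJ17262)) (BT.leaf cJ17263)) (BT.node 17264 (BT.leaf cJ17264) (BT.leaf cJ17265))) (BT.node 17268 (BT.node 17267 (BT.node 17266 (BT.leaf cJ17266) (BT.leaf cJ17267)) (BT.leaf cJ17268)) (BT.node 17269 (BT.leaf cJ17269) (BT.leaf cJ17270))))) (BT.node 17280 (BT.node 17275 (BT.node 17273 (BT.node 17272 (BT.node 17271 (BT.leaf cJ17271) (BT.leaf cJ17272)) (BT.leaf cJ17273)) (BT.node 17274 (BT.leaf cJ17274) (BT.leaf cJ17275))) (BT.node 17278 (BT.node 17277 (BT.node 17276 (BT.leaf cJ17276) (BT.leaf cJ17277)) (BT.leaf cJ17278)) (BT.node 17279 (BT.leaf cJ17279) (BT.leaf cJ17280)))) (BT.node 17285 (BT.node 17283 (BT.node 17282 (BT.node 17281 (BT.leaf cJ17281)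 (BT.leaf cJ17282)) (BT.leaf cJ17283)) (BT.node 17284 (BT.leaf cJ17284) (BT.leaf cJ17285))) (BT.node 17288 (BT.node 17287 (BT.node 17286 (BT.leaf cJ17286) (BT.leaf cJ17287)) (BT.leaf cJ17288)) (BT.node 17289 (BT.leaf cJ17289) (BT.leaf cJ17290))))))))
noncomputable def colJT_107 : BT ℕ := (BT.node 17371 (BT.node 17331 (BT.node 17311 (BT.node 17301 (BT.node 17296 (BT.node 17293 (BT.node 17292 (BT.node 17291 (BT.leaf cJ17291) (BT.leaf cJ17292)) (BT.leaf cJ17293)) (BT.node 17295 (BT.node 17294 (BT.leaf cJ17294) (BT.leaf cJ17295)) (BT.leaf cJ17296))) (BT.node 17299 (BT.node 17298 (BT.node 17297 (BT.leaf cJ17297) (BT.leaf cJ17298)) (BT.leaf cJ17299)) (BT.node 17300 (BT.leaf cJ17300) (BT.leaf cJ17301)))) (BT.node 17306 (BT.node 17304 (BT.node 17303 (BT.node 17302 (BT.leaf cJ17302) (BT.leaf cJ17303)) (BT.leaf cJ17304)) (BT.node 17305 (BT.leaf cJ17305) (BT.leaf cJ17306))) (BT.node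 17309 (BT.node 17308 (BT.node 17307 (BT.leaf cJ17307) (BT.leaf cJ17308)) (BT.leaf cJ17309)) (BT.node 17310 (BT.leaf cJ17310) (BT.leaf cJ17311))))) (BT.node 17321 (BT.node 17316 (BT.node 17314 (BT.node 17313 (BT.node 17312 (BT.leaf cJ17312) (BT.leaf cJ17313)) (BT.leaf cJ17314)) (BT.node 17315 (BT.leaf cJ17315) (BT.leaf cJ17316))) (BT.node 17319 (BT.node 17318 (BT.node 17317 (BT.leaf cJ17317) (BT.leaf cJ17318)) (BT.leaf cJ17319)) (BT.node 17320 (BT.leaf cJ17320) (BT.leaf cJ17321)))) (BT.node 17326 (BT.node 17324 (BT.node 17323 (BT.node 17322 (BT.leaf cJ17322) (BT.leaf cJ17323)) (BT.leaf cJ17324)) (BT.node 17325 (BT.leaf cJ17325) (BT.leaf cJ17326))) (BT.node 17329 (BT.node 17328 (BT.node 17327 (BT.leaf cJ17327) (BT.leaf cJ17328)) (BT.leaf cJ17329)) (BT.node 17330 (BT.leaf cJ17330) (BT.leaf cJ17331)))))) (BT.node 17351 (BT.node 17341 (BT.node 17336 (BT.node 17334 (BT.node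 17333 (BT.node 17332 (BT.leaf cJ17332) (BT.leaf cJ17333)) (BT.leaf cJ17334)) (BT.node 17335 (BT.leaf cJ17335) (BT.leaf cJ17336))) (BT.node 17339 (BT.node 17338 (BT.node 17337 (BT.leaf cJ17337) (BT.leaf cJ17338)) (BT.leaf cJ17339)) (BT.node 17340 (BT.leaf cJ17340) (BT.leaf cJ17341)))) (BT.node 17346 (BT.node 17344 (BT.node 17343 (BT.node 17342 (BT.leaf cJ17342) (BT.leaf cJ17343)) (BT.leaf cJ17344)) (BT.node 17345 (BT.leaf cJ17345) (BT.leaf cJ17346))) (BT.node 17349 (BT.node 17348 (BT.node 17347 (BT.leaf cJ17347) (BT.leaf cJ17348)) (BT.leaf cJ17349)) (BT.node 17350 (BT.leaf cJ17350) (BT.leaf cJ17351))))) (BT.node 17361 (BT.node 17356 (BT.node 17354 (BT.node 17353 (BT.node 17352 (BT.leaf cJ17352) (BT.leaf cJ17353)) (BT.leaf cJ17354)) (BT.node 17355 (BT.leaf cJ17355) (BT.leaf cJ17356))) (BT.node 17359 (BT.node 17358 (BT.node 17357 (BT.leaf cJ17357) (BT.leaf cJ17358)) (BT.leaf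 cJ17359)) (BT.node 17360 (BT.leaf cJ17360) (BT.leaf cJ17361)))) (BT.node 17366 (BT.node 17364 (BT.node 17363 (BT.node 17362 (BT.leaf cJ17362) (BT.leaf cJ17363)) (BT.leaf cJ17364)) (BT.node 17365 (BT.leaf cJ17365) (BT.leaf cJ17366))) (BT.node 17369 (BT.node 17368 (BT.node 17367 (BT.leaf cJ17367) (BT.leaf cJ17368)) (BT.leaf cJ17369)) (BT.node 17370 (BT.leaf cJ17370) (BT.leaf cJ17371))))))) (BT.node 17411 (BT.node 17391 (BT.node 17381 (BT.node 17376 (BT.node 17374 (BT.node 17373 (BT.node 17372 (BT.leaf cJ17372) (BT.leaf cJ17373)) (BT.leaf cJ17374)) (BT.node 17375 (BT.leaf cJ17375) (BT.leaf cJ17376))) (BT.node 17379 (BT.node 17378 (BT.node 17377 (BT.leaf cJ17377) (BT.leaf cJ17378)) (BT.leaf cJ17379)) (BT.node 17380 (BT.leaf cJ17380) (BT.leaf cJ17381)))) (BT.node 17386 (BT.node 17384 (BT.node 17383 (BT.node 17382 (BT.leaf cJ17382) (BT.leaf cJ17383)) (BT.leaf cJ17384)) (BT.node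 17385 (BT.leaf cJ17385) (BT.leaf cJ17386))) (BT.node 17389 (BT.node 17388 (BT.node 17387 (BT.leaf cJ17387) (BT.leaf cJ17388)) (BT.leaf cJ17389)) (BT.node 17390 (BT.leaf cJ17390) (BT.leaf cJ17391))))) (BT.node 17401 (BT.node 17396 (BT.node 17394 (BT.node 17393 (BT.node 17392 (BT.leaf cJ17392) (BT.leaf cJ17393)) (BT.leaf cJ17394)) (BT.node 17395 (BT.leaf cJ17395) (BT.leaf cJ17396))) (BT.node 17399 (BT.node 17398 (BT.node 17397 (BT.leaf cJ17397) (BT.leaf cJ17398)) (BT.leaf cJ17399)) (BT.node 17400 (BT.leaf cJ17400) (BT.leaf cJ17401)))) (BT.node 17406 (BT.node 17404 (BT.node 17403 (BT.node 17402 (BT.leaf cJ17402) (BT.leaf cJ17403)) (BT.leaf cJ17404)) (BT.node 17405 (BT.leaf cJ17405) (BT.leaf cJ17406))) (BT.node 17409 (BT.node 17408 (BT.node 17407 (BT.leaf cJ17407) (BT.leaf cJ17408)) (BT.leaf cJ17409)) (BT.node 17410 (BT.leaf cJ17410) (BT.leaf cJ17411)))))) (BT.node 17431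 (BT.node 17421 (BT.node 17416 (BT.node 17414 (BT.node 17413 (BT.node 17412 (BT.leaf cJ17412) (BT.leaf cJ17413)) (BT.leaf cJ17414)) (BT.node 17415 (BT.leaf cJ17415) (BT.leaf cJ17416))) (BT.node 17419 (BT.node 17418 (BT.node 17417 (BT.leaf cJ17417) (BT.leaf cJ17418)) (BT.leaf cJ17419)) (BT.node 17420 (BT.leaf cJ17420) (BT.leaf cJ17421)))) (BT.node 17426 (BT.node 17424 (BT.node 17423 (BT.node 17422 (BT.leaf cJ17422) (BT.leaf cJ17423)) (BT.leaf cJ17424)) (BT.node 17425 (BT.leaf cJ17425) (BT.leaf cJ17426))) (BT.node 17429 (BT.node 17428 (BT.node 17427 (BT.leaf cJ17427) (BT.leaf cJ17428)) (BT.leaf cJ17429)) (BT.node 17430 (BT.leaf cJ17430) (BT.leaf cJ17431))))) (BT.node 17441 (BT.node 17436 (BT.node 17434 (BT.node 17433 (BT.node 17432 (BT.leaf cJ17432) (BT.leaf cJ17433)) (BT.leaf cJ17434)) (BT.node 17435 (BT.leaf cJ17435) (BT.leaf cJ17436))) (BT.node 17439 (BT.node 17438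 (BT.node 17437 (BT.leaf cJ17437) (BT.leaf cJ17438)) (BT.leaf cJ17439)) (BT.node 17440 (BT.leaf cJ17440) (BT.leaf cJ17441)))) (BT.node 17446 (BT.node 17444 (BT.node 17443 (BT.node 17442 (BT.leaf cJ17442) (BT.leaf cJ17443)) (BT.leaf cJ17444)) (BT.node 17445 (BT.leaf cJ17445) (BT.leaf cJ17446))) (BT.node 17449 (BT.node 17448 (BT.node 17447 (BT.leaf cJ17447) (BT.leaf cJ17448)) (BT.leaf cJ17449)) (BT.node 17450 (BT.leaf cJ17450) (BT.leaf cJ17451))))))))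
noncomputable def colJT_108 : BT ℕ := (BT.node 17532 (BT.node 17492 (BT.node 17472 (BT.node 17462 (BT.node 17457 (BT.node 17454 (BT.node 17453 (BT.node 17452 (BT.leaf cJ17452) (BT.leaf cJ17453)) (BT.leaf cJ17454)) (BT.node 17456 (BT.node 17455 (BT.leaf cJ17455) (BT.leaf cJ17456)) (BT.leaf cJ17457))) (BT.node 17460 (BT.node 17459 (BT.node 17458 (BT.leaf cJ17458) (BT.leaf cJ17459)) (BT.leaf cJ17460)) (BT.node 17461 (BT.leaf cJ17461) (BT.leaf cJ17462)))) (BT.node 17467 (BT.node 17465 (BT.node 17464 (BT.node 17463 (BT.leaf cJ17463) (BT.leaf cJ17464)) (BT.leaf cJ17465)) (BT.node 17466 (BT.leaf cJ17466) (BT.leaf cJ17467))) (BT.node 17470 (BT.node 17469 (BT.node 17468 (BT.leaf cJ17468) (BT.leaf cJ17469)) (BT.leaf cJ17470)) (BT.node 17471 (BT.leaf cJ17471) (BT.leaf cJ17472))))) (BT.node 17482 (BT.node 17477 (BT.node 17475 (BT.node 17474 (BT.node 17473 (BT.leaf cJ17473) (BT.leaf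 cJ17474)) (BT.leaf cJ17475)) (BT.node 17476 (BT.leaf cJ17476) (BT.leaf cJ17477))) (BT.node 17480 (BT.node 17479 (BT.node 17478 (BT.leaf cJ17478) (BT.leaf cJ17479)) (BT.leaf cJ17480)) (BT.node 17481 (BT.leaf cJ17481) (BT.leaf cJ17482)))) (BT.node 17487 (BT.node 17485 (BT.node 17484 (BT.node 17483 (BT.leaf cJ17483) (BT.leaf cJ17484)) (BT.leaf cJ17485)) (BT.node 17486 (BT.leaf cJ17486) (BT.leaf cJ17487))) (BT.node 17490 (BT.node 17489 (BT.node 17488 (BT.leaf cJ17488) (BT.leaf cJ17489)) (BT.leaf cJ17490)) (BT.node 17491 (BT.leaf cJ17491) (BT.leaf cJ17492)))))) (BT.node 17512 (BT.node 17502 (BT.node 17497 (BT.node 17495 (BT.node 17494 (BT.node 17493 (BT.leaf cJ17493) (BT.leaf cJ17494)) (BT.leaf cJ17495)) (BT.node 17496 (BT.leaf cJ17496) (BT.leaf cJ17497))) (BT.node 17500 (BT.node 17499 (BT.node 17498 (BT.leaf cJ17498) (BT.leaf cJ17499)) (BT.leaf cJ17500)) (BT.node 17501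 (BT.leaf cJ17501) (BT.leaf cJ17502)))) (BT.node 17507 (BT.node 17505 (BT.node 17504 (BT.node 17503 (BT.leaf cJ17503) (BT.leaf cJ17504)) (BT.leaf cJ17505)) (BT.node 17506 (BT.leaf cJ17506) (BT.leaf cJ17507))) (BT.node 17510 (BT.node 17509 (BT.node 17508 (BT.leaf cJ17508) (BT.leaf cJ17509)) (BT.leaf cJ17510)) (BT.node 17511 (BT.leaf cJ17511) (BT.leaf cJ17512))))) (BT.node 17522 (BT.node 17517 (BT.node 17515 (BT.node 17514 (BT.node 17513 (BT.leaf cJ17513) (BT.leaf cJ17514)) (BT.leaf cJ17515)) (BT.node 17516 (BT.leaf cJ17516) (BT.leaf cJ17517))) (BT.node 17520 (BT.node 17519 (BT.node 17518 (BT.leaf cJ17518) (BT.leaf cJ17519)) (BT.leaf cJ17520)) (BT.node 17521 (BT.leaf cJ17521) (BT.leaf cJ17522)))) (BT.node 17527 (BT.node 17525 (BT.node 17524 (BT.node 17523 (BT.leaf cJ17523) (BT.leaf cJ17524)) (BT.leaf cJ17525)) (BT.node 17526 (BT.leaf cJ17526) (BT.leaf cJ17527))) (BT.node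 17530 (BT.node 17529 (BT.node 17528 (BT.leaf cJ17528) (BT.leaf cJ17529)) (BT.leaf cJ17530)) (BT.node 17531 (BT.leaf cJ17531) (BT.leaf cJ17532))))))) (BT.node 17573 (BT.node 17553 (BT.node 17543 (BT.node 17538 (BT.node 17535 (BT.node 17534 (BT.node 17533 (BT.leaf cJ17533) (BT.leaf cJ17534)) (BT.leaf cJ17535)) (BT.node 17537 (BT.node 17536 (BT.leaf cJ17536) (BT.leaf cJ17537)) (BT.leaf cJ17538))) (BT.node 17541 (BT.node 17540 (BT.node 17539 (BT.leaf cJ17539) (BT.leaf cJ17540)) (BT.leaf cJ17541)) (BT.node 17542 (BT.leaf cJ17542) (BT.leaf cJ17543)))) (BT.node 17548 (BT.node 17546 (BT.node 17545 (BT.node 17544 (BT.leaf cJ17544) (BT.leaf cJ17545)) (BT.leaf cJ17546)) (BT.node 17547 (BT.leaf cJ17547) (BT.leaf cJ17548))) (BT.node 17551 (BT.node 17550 (BT.node 17549 (BT.leaf cJ17549) (BT.leaf cJ17550)) (BT.leaf cJ17551)) (BT.node 17552 (BT.leaf cJ17552) (BT.leaf cJ17553)))))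 (BT.node 17563 (BT.node 17558 (BT.node 17556 (BT.node 17555 (BT.node 17554 (BT.leaf cJ17554) (BT.leaf cJ17555)) (BT.leaf cJ17556)) (BT.node 17557 (BT.leaf cJ17557) (BT.leaf cJ17558))) (BT.node 17561 (BT.node 17560 (BT.node 17559 (BT.leaf cJ17559) (BT.leaf cJ17560)) (BT.leaf cJ17561)) (BT.node 17562 (BT.leaf cJ17562) (BT.leaf cJ17563)))) (BT.node 17568 (BT.node 17566 (BT.node 17565 (BT.node 17564 (BT.leaf cJ17564) (BT.leaf cJ17565)) (BT.leaf cJ17566)) (BT.node 17567 (BT.leaf cJ17567) (BT.leaf cJ17568))) (BT.node 17571 (BT.node 17570 (BT.node 17569 (BT.leaf cJ17569) (BT.leaf cJ17570)) (BT.leaf cJ17571)) (BT.node 17572 (BT.leaf cJ17572) (BT.leaf cJ17573)))))) (BT.node 17593 (BT.node 17583 (BT.node 17578 (BT.node 17576 (BT.node 17575 (BT.node 17574 (BT.leaf cJ17574) (BT.leaf cJ17575)) (BT.leaf cJ17576)) (BT.node 17577 (BT.leaf cJ17577) (BT.leaf cJ17578))) (BT.node 17581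 (BT.node 17580 (BT.node 17579 (BT.leaf cJ17579) (BT.leaf cJ17580)) (BT.leaf cJ17581)) (BT.node 17582 (BT.leaf cJ17582) (BT.leaf cJ17583)))) (BT.node 17588 (BT.node 17586 (BT.node 17585 (BT.node 17584 (BT.leaf cJ17584) (BT.leaf cJ17585)) (BT.leaf cJ17586)) (BT.node 17587 (BT.leaf cJ17587) (BT.leaf cJ17588))) (BT.node 17591 (BT.node 17590 (BT.node 17589 (BT.leaf cJ17589) (BT.leaf cJ17590)) (BT.leaf cJ17591)) (BT.node 17592 (BT.leaf cJ17592) (BT.leaf cJ17593))))) (BT.node 17603 (BT.node 17598 (BT.node 17596 (BT.node 17595 (BT.node 17594 (BT.leaf cJ17594) (BT.leaf cJ17595)) (BT.leaf cJ17596)) (BT.node 17597 (BT.leaf cJ17597) (BT.leaf cJ17598))) (BT.node 17601 (BT.node 17600 (BT.node 17599 (BT.leaf cJ17599) (BT.leaf cJ17600)) (BT.leaf cJ17601)) (BT.node 17602 (BT.leaf cJ17602) (BT.leaf cJ17603)))) (BT.node 17608 (BT.node 17606 (BT.node 17605 (BT.node 17604 (BT.leaf cJ17604)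 (BT.leaf cJ17605)) (BT.leaf cJ17606)) (BT.node 17607 (BT.leaf cJ17607) (BT.leaf cJ17608))) (BT.node 17611 (BT.node 17610 (BT.node 17609 (BT.leaf cJ17609) (BT.leaf cJ17610)) (BT.leaf cJ17611)) (BT.node 17612 (BT.leaf cJ17612) (BT.leaf cJ17613))))))))
noncomputable def colJT_109 : BT ℕ := (BT.node 17694 (BT.node 17654 (BT.node 17634 (BT.node 17624 (BT.node 17619 (BT.node 17616 (BT.node 17615 (BT.node 17614 (BT.leaf cJ17614) (BT.leaf cJ17615)) (BT.leaf cJ17616)) (BT.node 17618 (BT.node 17617 (BT.leaf cJ17617) (BT.leaf cJ17618)) (BT.leaf cJ17619))) (BT.node 17622 (BT.node 17621 (BT.node 17620 (BT.leaf cJ17620) (BT.leaf cJ17621)) (BT.leaf cJ17622)) (BT.node 17623 (BT.leaf cJ17623) (BT.leaf cJ17624)))) (BT.node 17629 (BT.node 17627 (BT.node 17626 (BT.node 17625 (BT.leaf cJ17625) (BT.leaf cJ17626)) (BT.leaf cJ17627)) (BT.node 17628 (BT.leaf cJ17628) (BT.leaf cJ17629))) (BT.node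 17632 (BT.node 17631 (BT.node 17630 (BT.leaf cJ17630) (BT.leaf cJ17631)) (BT.leaf cJ17632)) (BT.node 17633 (BT.leaf cJ17633) (BT.leaf cJ17634))))) (BT.node 17644 (BT.node 17639 (BT.node 17637 (BT.node 17636 (BT.node 17635 (BT.leaf cJ17635) (BT.leaf cJ17636)) (BT.leaf cJ17637)) (BT.node 17638 (BT.leaf cJ17638) (BT.leaf cJ17639))) (BT.node 17642 (BT.node 17641 (BT.node 17640 (BT.leaf cJ17640) (BT.leaf cJ17641)) (BT.leaf cJ17642)) (BT.node 17643 (BT.leaf cJ17643) (BT.leaf cJ17644)))) (BT.node 17649 (BT.node 17647 (BT.node 17646 (BT.node 17645 (BT.leaf cJ17645) (BT.leaf cJ17646)) (BT.leaf cJ17647)) (BT.node 17648 (BT.leaf cJ17648) (BT.leaf cJ17649))) (BT.node 17652 (BT.node 17651 (BT.node 17650 (BT.leaf cJ17650) (BT.leaf cJ17651)) (BT.leaf cJ17652)) (BT.node 17653 (BT.leaf cJ17653) (BT.leaf cJ17654)))))) (BT.node 17674 (BT.node 17664 (BT.node 17659 (BT.node 17657 (BT.node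 17656 (BT.node 17655 (BT.leaf cJ17655) (BT.leaf cJ17656)) (BT.leaf cJ17657)) (BT.node 17658 (BT.leaf cJ17658) (BT.leaf cJ17659))) (BT.node 17662 (BT.node 17661 (BT.node 17660 (BT.leaf cJ17660) (BT.leaf cJ17661)) (BT.leaf cJ17662)) (BT.node 17663 (BT.leaf cJ17663) (BT.leaf cJ17664)))) (BT.node 17669 (BT.node 17667 (BT.node 17666 (BT.node 17665 (BT.leaf cJ17665) (BT.leaf cJ17666)) (BT.leaf cJ17667)) (BT.node 17668 (BT.leaf cJ17668) (BT.leaf cJ17669))) (BT.node 17672 (BT.node 17671 (BT.node 17670 (BT.leaf cJ17670) (BT.leaf cJ17671)) (BT.leaf cJ17672)) (BT.node 17673 (BT.leaf cJ17673) (BT.leaf cJ17674))))) (BT.node 17684 (BT.node 17679 (BT.node 17677 (BT.node 17676 (BT.node 17675 (BT.leaf cJ17675) (BT.leaf cJ17676)) (BT.leaf cJ17677)) (BT.node 17678 (BT.leaf cJ17678) (BT.leaf cJ17679))) (BT.node 17682 (BT.node 17681 (BT.node 17680 (BT.leaf cJ17680) (BT.leaf cJ17681)) (BT.leaf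 cJ17682)) (BT.node 17683 (BT.leaf cJ17683) (BT.leaf cJ17684)))) (BT.node 17689 (BT.node 17687 (BT.node 17686 (BT.node 17685 (BT.leaf cJ17685) (BT.leaf cJ17686)) (BT.leaf cJ17687)) (BT.node 17688 (BT.leaf cJ17688) (BT.leaf cJ17689))) (BT.node 17692 (BT.node 17691 (BT.node 17690 (BT.leaf cJ17690) (BT.leaf cJ17691)) (BT.leaf cJ17692)) (BT.node 17693 (BT.leaf cJ17693) (BT.leaf cJ17694))))))) (BT.node 17734 (BT.node 17714 (BT.node 17704 (BT.node 17699 (BT.node 17697 (BT.node 17696 (BT.node 17695 (BT.leaf cJ17695) (BT.leaf cJ17696)) (BT.leaf cJ17697)) (BT.node 17698 (BT.leaf cJ17698) (BT.leaf cJ17699))) (BT.node 17702 (BT.node 17701 (BT.node 17700 (BT.leaf cJ17700) (BT.leaf cJ17701)) (BT.leaf cJ17702)) (BT.node 17703 (BT.leaf cJ17703) (BT.leaf cJ17704)))) (BT.node 17709 (BT.node 17707 (BT.node 17706 (BT.node 17705 (BT.leaf cJ17705) (BT.leaf cJ17706)) (BT.leaf cJ17707)) (BT.node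 17708 (BT.leaf cJ17708) (BT.leaf cJ17709))) (BT.node 17712 (BT.node 17711 (BT.node 17710 (BT.leaf cJ17710) (BT.leaf cJ17711)) (BT.leaf cJ17712)) (BT.node 17713 (BT.leaf cJ17713) (BT.leaf cJ17714))))) (BT.node 17724 (BT.node 17719 (BT.node 17717 (BT.node 17716 (BT.node 17715 (BT.leaf cJ17715) (BT.leaf cJ17716)) (BT.leaf cJ17717)) (BT.node 17718 (BT.leaf cJ17718) (BT.leaf cJ17719))) (BT.node 17722 (BT.node 17721 (BT.node 17720 (BT.leaf cJ17720) (BT.leaf cJ17721)) (BT.leaf cJ17722)) (BT.node 17723 (BT.leaf cJ17723) (BT.leaf cJ17724)))) (BT.node 17729 (BT.node 17727 (BT.node 17726 (BT.node 17725 (BT.leaf cJ17725) (BT.leaf cJ17726)) (BT.leaf cJ17727)) (BT.node 17728 (BT.leaf cJ17728) (BT.leaf cJ17729))) (BT.node 17732 (BT.node 17731 (BT.node 17730 (BT.leaf cJ17730) (BT.leaf cJ17731)) (BT.leaf cJ17732)) (BT.node 17733 (BT.leaf cJ17733) (BT.leaf cJ17734)))))) (BT.node 17754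 (BT.node 17744 (BT.node 17739 (BT.node 17737 (BT.node 17736 (BT.node 17735 (BT.leaf cJ17735) (BT.leaf cJ17736)) (BT.leaf cJ17737)) (BT.node 17738 (BT.leaf cJ17738) (BT.leaf cJ17739))) (BT.node 17742 (BT.node 17741 (BT.node 17740 (BT.leaf cJ17740) (BT.leaf cJ17741)) (BT.leaf cJ17742)) (BT.node 17743 (BT.leaf cJ17743) (BT.leaf cJ17744)))) (BT.node 17749 (BT.node 17747 (BT.node 17746 (BT.node 17745 (BT.leaf cJ17745) (BT.leaf cJ17746)) (BT.leaf cJ17747)) (BT.node 17748 (BT.leaf cJ17748) (BT.leaf cJ17749))) (BT.node 17752 (BT.node 17751 (BT.node 17750 (BT.leaf cJ17750) (BT.leaf cJ17751)) (BT.leaf cJ17752)) (BT.node 17753 (BT.leaf cJ17753) (BT.leaf cJ17754))))) (BT.node 17764 (BT.node 17759 (BT.node 17757 (BT.node 17756 (BT.node 17755 (BT.leaf cJ17755) (BT.leaf cJ17756)) (BT.leaf cJ17757)) (BT.node 17758 (BT.leaf cJ17758) (BT.leaf cJ17759))) (BT.node 17762 (BT.node 17761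 (BT.node 17760 (BT.leaf cJ17760) (BT.leaf cJ17761)) (BT.leaf cJ17762)) (BT.node 17763 (BT.leaf cJ17763) (BT.leaf cJ17764)))) (BT.node 17769 (BT.node 17767 (BT.node 17766 (BT.node 17765 (BT.leaf cJ17765) (BT.leaf cJ17766)) (BT.leaf cJ17767)) (BT.node 17768 (BT.leaf cJ17768) (BT.leaf cJ17769))) (BT.node 17772 (BT.node 17771 (BT.node 17770 (BT.leaf cJ17770) (BT.leaf cJ17771)) (BT.leaf cJ17772)) (BT.node 17773 (BT.leaf cJ17773) (BT.leaf cJ17774))))))))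
noncomputable def colJT_110 : BT ℕ := (BT.node 17855 (BT.node 17815 (BT.node 17795 (BT.node 17785 (BT.node 17780 (BT.node 17777 (BT.node 17776 (BT.node 17775 (BT.leaf cJ17775) (BT.leaf cJ17776)) (BT.leaf cJ17777)) (BT.node 17779 (BT.node 17778 (BT.leaf cJ17778) (BT.leaf cJ17779)) (BT.leaf cJ17780))) (BT.node 17783 (BT.node 17782 (BT.node 17781 (BT.leaf cJ17781) (BT.leaf cJ17782)) (BT.leaf cJ17783)) (BT.node 17784 (BT.leaf cJ17784) (BT.leaf cJ17785)))) (BT.node 17790 (BT.node 17788 (BT.node 17787 (BT.node 17786 (BT.leaf cJ17786) (BT.leaf cJ17787)) (BT.leaf cJ17788)) (BT.node 17789 (BT.leaf cJ17789) (BT.leaf cJ17790))) (BT.node 17793 (BT.node 17792 (BT.node 17791 (BT.leaf cJ17791) (BT.leaf cJ17792)) (BT.leaf cJ17793)) (BT.node 17794 (BT.leaf cJ17794) (BT.leaf cJ17795))))) (BT.node 17805 (BT.node 17800 (BT.node 17798 (BT.node 17797 (BT.node 17796 (BT.leaf cJ17796) (BT.leaf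 cJ17797)) (BT.leaf cJ17798)) (BT.node 17799 (BT.leaf cJ17799) (BT.leaf cJ17800))) (BT.node 17803 (BT.node 17802 (BT.node 17801 (BT.leaf cJ17801) (BT.leaf cJ17802)) (BT.leaf cJ17803)) (BT.node 17804 (BT.leaf cJ17804) (BT.leaf cJ17805)))) (BT.node 17810 (BT.node 17808 (BT.node 17807 (BT.node 17806 (BT.leaf cJ17806) (BT.leaf cJ17807)) (BT.leaf cJ17808)) (BT.node 17809 (BT.leaf cJ17809) (BT.leaf cJ17810))) (BT.node 17813 (BT.node 17812 (BT.node 17811 (BT.leaf cJ17811) (BT.leaf cJ17812)) (BT.leaf cJ17813)) (BT.node 17814 (BT.leaf cJ17814) (BT.leaf cJ17815)))))) (BT.node 17835 (BT.node 17825 (BT.node 17820 (BT.node 17818 (BT.node 17817 (BT.node 17816 (BT.leaf cJ17816) (BT.leaf cJ17817)) (BT.leaf cJ17818)) (BT.node 17819 (BT.leaf cJ17819) (BT.leaf cJ17820))) (BT.node 17823 (BT.node 17822 (BT.node 17821 (BT.leaf cJ17821) (BT.leaf cJ17822)) (BT.leaf cJ17823)) (BT.node 17824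 (BT.leaf cJ17824) (BT.leaf cJ17825)))) (BT.node 17830 (BT.node 17828 (BT.node 17827 (BT.node 17826 (BT.leaf cJ17826) (BT.leaf cJ17827)) (BT.leaf cJ17828)) (BT.node 17829 (BT.leaf cJ17829) (BT.leaf cJ17830))) (BT.node 17833 (BT.node 17832 (BT.node 17831 (BT.leaf cJ17831) (BT.leaf cJ17832)) (BT.leaf cJ17833)) (BT.node 17834 (BT.leaf cJ17834) (BT.leaf cJ17835))))) (BT.node 17845 (BT.node 17840 (BT.node 17838 (BT.node 17837 (BT.node 17836 (BT.leaf cJ17836) (BT.leaf cJ17837)) (BT.leaf cJ17838)) (BT.node 17839 (BT.leaf cJ17839) (BT.leaf cJ17840))) (BT.node 17843 (BT.node 17842 (BT.node 17841 (BT.leaf cJ17841) (BT.leaf cJ17842)) (BT.leaf cJ17843)) (BT.node 17844 (BT.leaf cJ17844) (BT.leaf cJ17845)))) (BT.node 17850 (BT.node 17848 (BT.node 17847 (BT.node 17846 (BT.leaf cJ17846) (BT.leaf cJ17847)) (BT.leaf cJ17848)) (BT.node 17849 (BT.leaf cJ17849) (BT.leaf cJ17850))) (BT.node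 17853 (BT.node 17852 (BT.node 17851 (BT.leaf cJ17851) (BT.leaf cJ17852)) (BT.leaf cJ17853)) (BT.node 17854 (BT.leaf cJ17854) (BT.leaf cJ17855))))))) (BT.node 17896 (BT.node 17876 (BT.node 17866 (BT.node 17861 (BT.node 17858 (BT.node 17857 (BT.node 17856 (BT.leaf cJ17856) (BT.leaf cJ17857)) (BT.leaf cJ17858)) (BT.node 17860 (BT.node 17859 (BT.leaf cJ17859) (BT.leaf cJ17860)) (BT.leaf cJ17861))) (BT.node 17864 (BT.node 17863 (BT.node 17862 (BT.leaf cJ17862) (BT.leaf cJ17863)) (BT.leaf cJ17864)) (BT.node 17865 (BT.leaf cJ17865) (BT.leaf cJ17866)))) (BT.node 17871 (BT.node 17869 (BT.node 17868 (BT.node 17867 (BT.leaf cJ17867) (BT.leaf cJ17868)) (BT.leaf cJ17869)) (BT.node 17870 (BT.leaf cJ17870) (BT.leaf cJ17871))) (BT.node 17874 (BT.node 17873 (BT.node 17872 (BT.leaf cJ17872) (BT.leaf cJ17873)) (BT.leaf cJ17874)) (BT.node 17875 (BT.leaf cJ17875) (BT.leaf cJ17876)))))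 (BT.node 17886 (BT.node 17881 (BT.node 17879 (BT.node 17878 (BT.node 17877 (BT.leaf cJ17877) (BT.leaf cJ17878)) (BT.leaf cJ17879)) (BT.node 17880 (BT.leaf cJ17880) (BT.leaf cJ17881))) (BT.node 17884 (BT.node 17883 (BT.node 17882 (BT.leaf cJ17882) (BT.leaf cJ17883)) (BT.leaf cJ17884)) (BT.node 17885 (BT.leaf cJ17885) (BT.leaf cJ17886)))) (BT.node 17891 (BT.node 17889 (BT.node 17888 (BT.node 17887 (BT.leaf cJ17887) (BT.leaf cJ17888)) (BT.leaf cJ17889)) (BT.node 17890 (BT.leaf cJ17890) (BT.leaf cJ17891))) (BT.node 17894 (BT.node 17893 (BT.node 17892 (BT.leaf cJ17892) (BT.leaf cJ17893)) (BT.leaf cJ17894)) (BT.node 17895 (BT.leaf cJ17895) (BT.leaf cJ17896)))))) (BT.node 17916 (BT.node 17906 (BT.node 17901 (BT.node 17899 (BT.node 17898 (BT.node 17897 (BT.leaf cJ17897) (BT.leaf cJ17898)) (BT.leaf cJ17899)) (BT.node 17900 (BT.leaf cJ17900) (BT.leaf cJ17901))) (BT.node 17904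 (BT.node 17903 (BT.node 17902 (BT.leaf cJ17902) (BT.leaf cJ17903)) (BT.leaf cJ17904)) (BT.node 17905 (BT.leaf cJ17905) (BT.leaf cJ17906)))) (BT.node 17911 (BT.node 17909 (BT.node 17908 (BT.node 17907 (BT.leaf cJ17907) (BT.leaf cJ17908)) (BT.leaf cJ17909)) (BT.node 17910 (BT.leaf cJ17910) (BT.leaf cJ17911))) (BT.node 17914 (BT.node 17913 (BT.node 17912 (BT.leaf cJ17912) (BT.leaf cJ17913)) (BT.leaf cJ17914)) (BT.node 17915 (BT.leaf cJ17915) (BT.leaf cJ17916))))) (BT.node 17926 (BT.node 17921 (BT.node 17919 (BT.node 17918 (BT.node 17917 (BT.leaf cJ17917) (BT.leaf cJ17918)) (BT.leaf cJ17919)) (BT.node 17920 (BT.leaf cJ17920) (BT.leaf cJ17921))) (BT.node 17924 (BT.node 17923 (BT.node 17922 (BT.leaf cJ17922) (BT.leaf cJ17923)) (BT.leaf cJ17924)) (BT.node 17925 (BT.leaf cJ17925) (BT.leaf cJ17926)))) (BT.node 17931 (BT.node 17929 (BT.node 17928 (BT.node 17927 (BT.leaf cJ17927)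 (BT.leaf cJ17928)) (BT.leaf cJ17929)) (BT.node 17930 (BT.leaf cJ17930) (BT.leaf cJ17931))) (BT.node 17934 (BT.node 17933 (BT.node 17932 (BT.leaf cJ17932) (BT.leaf cJ17933)) (BT.leaf cJ17934)) (BT.node 17935 (BT.leaf cJ17935) (BT.leaf cJ17936))))))))
noncomputable def colJT_111 : BT ℕ := (BT.node 18017 (BT.node 17977 (BT.node 17957 (BT.node 17947 (BT.node 17942 (BT.node 17939 (BT.node 17938 (BT.node 17937 (BT.leaf cJ17937) (BT.leaf cJ17938)) (BT.leaf cJ17939)) (BT.node 17941 (BT.node 17940 (BT.leaf cJ17940) (BT.leaf cJ17941)) (BT.leaf cJ17942))) (BT.node 17945 (BT.node 17944 (BT.node 17943 (BT.leaf cJ17943) (BT.leaf cJ17944)) (BT.leaf cJ17945)) (BT.node 17946 (BT.leaf cJ17946) (BT.leaf cJ17947)))) (BT.node 17952 (BT.node 17950 (BT.node 17949 (BT.node 17948 (BT.leaf cJ17948) (BT.leaf cJ17949)) (BT.leaf cJ17950)) (BT.node 17951 (BT.leaf cJ17951) (BT.leaf cJ17952))) (BT.node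 17955 (BT.node 17954 (BT.node 17953 (BT.leaf cJ17953) (BT.leaf cJ17954)) (BT.leaf cJ17955)) (BT.node 17956 (BT.leaf cJ17956) (BT.leaf cJ17957))))) (BT.node 17967 (BT.node 17962 (BT.node 17960 (BT.node 17959 (BT.node 17958 (BT.leaf cJ17958) (BT.leaf cJ17959)) (BT.leaf cJ17960)) (BT.node 17961 (BT.leaf cJ17961) (BT.leaf cJ17962))) (BT.node 17965 (BT.node 17964 (BT.node 17963 (BT.leaf cJ17963) (BT.leaf cJ17964)) (BT.leaf cJ17965)) (BT.node 17966 (BT.leaf cJ17966) (BT.leaf cJ17967)))) (BT.node 17972 (BT.node 17970 (BT.node 17969 (BT.node 17968 (BT.leaf cJ17968) (BT.leaf cJ17969)) (BT.leaf cJ17970)) (BT.node 17971 (BT.leaf cJ17971) (BT.leaf cJ17972))) (BT.node 17975 (BT.node 17974 (BT.node 17973 (BT.leaf cJ17973) (BT.leaf cJ17974)) (BT.leaf cJ17975)) (BT.node 17976 (BT.leaf cJ17976) (BT.leaf cJ17977)))))) (BT.node 17997 (BT.node 17987 (BT.node 17982 (BT.node 17980 (BT.node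 17979 (BT.node 17978 (BT.leaf cJ17978) (BT.leaf cJ17979)) (BT.leaf cJ17980)) (BT.node 17981 (BT.leaf cJ17981) (BT.leaf cJ17982))) (BT.node 17985 (BT.node 17984 (BT.node 17983 (BT.leaf cJ17983) (BT.leaf cJ17984)) (BT.leaf cJ17985)) (BT.node 17986 (BT.leaf cJ17986) (BT.leaf cJ17987)))) (BT.node 17992 (BT.node 17990 (BT.node 17989 (BT.node 17988 (BT.leaf cJ17988) (BT.leaf cJ17989)) (BT.leaf cJ17990)) (BT.node 17991 (BT.leaf cJ17991) (BT.leaf cJ17992))) (BT.node 17995 (BT.node 17994 (BT.node 17993 (BT.leaf cJ17993) (BT.leaf cJ17994)) (BT.leaf cJ17995)) (BT.node 17996 (BT.leaf cJ17996) (BT.leaf cJ17997))))) (BT.node 18007 (BT.node 18002 (BT.node 18000 (BT.node 17999 (BT.node 17998 (BT.leaf cJ17998) (BT.leaf cJ17999)) (BT.leaf cJ18000)) (BT.node 18001 (BT.leaf cJ18001) (BT.leaf cJ18002))) (BT.node 18005 (BT.node 18004 (BT.node 18003 (BT.leaf cJ18003) (BT.leaf cJ18004)) (BT.leaf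 cJ18005)) (BT.node 18006 (BT.leaf cJ18006) (BT.leaf cJ18007)))) (BT.node 18012 (BT.node 18010 (BT.node 18009 (BT.node 18008 (BT.leaf cJ18008) (BT.leaf cJ18009)) (BT.leaf cJ18010)) (BT.node 18011 (BT.leaf cJ18011) (BT.leaf cJ18012))) (BT.node 18015 (BT.node 18014 (BT.node 18013 (BT.leaf cJ18013) (BT.leaf cJ18014)) (BT.leaf cJ18015)) (BT.node 18016 (BT.leaf cJ18016) (BT.leaf cJ18017))))))) (BT.node 18057 (BT.node 18037 (BT.node 18027 (BT.node 18022 (BT.node 18020 (BT.node 18019 (BT.node 18018 (BT.leaf cJ18018) (BT.leaf cJ18019)) (BT.leaf cJ18020)) (BT.node 18021 (BT.leaf cJ18021) (BT.leaf cJ18022))) (BT.node 18025 (BT.node 18024 (BT.node 18023 (BT.leaf cJ18023) (BT.leaf cJ18024)) (BT.leaf cJ18025)) (BT.node 18026 (BT.leaf cJ18026) (BT.leaf cJ18027)))) (BT.node 18032 (BT.node 18030 (BT.node 18029 (BT.node 18028 (BT.leaf cJ18028) (BT.leaf cJ18029)) (BT.leaf cJ18030)) (BT.node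 18031 (BT.leaf cJ18031) (BT.leaf cJ18032))) (BT.node 18035 (BT.node 18034 (BT.node 18033 (BT.leaf cJ18033) (BT.leaf cJ18034)) (BT.leaf cJ18035)) (BT.node 18036 (BT.leaf cJ18036) (BT.leaf cJ18037))))) (BT.node 18047 (BT.node 18042 (BT.node 18040 (BT.node 18039 (BT.node 18038 (BT.leaf cJ18038) (BT.leaf cJ18039)) (BT.leaf cJ18040)) (BT.node 18041 (BT.leaf cJ18041) (BT.leaf cJ18042))) (BT.node 18045 (BT.node 18044 (BT.node 18043 (BT.leaf cJ18043) (BT.leaf cJ18044)) (BT.leaf cJ18045)) (BT.node 18046 (BT.leaf cJ18046) (BT.leaf cJ18047)))) (BT.node 18052 (BT.node 18050 (BT.node 18049 (BT.node 18048 (BT.leaf cJ18048) (BT.leaf cJ18049)) (BT.leaf cJ18050)) (BT.node 18051 (BT.leaf cJ18051) (BT.leaf cJ18052))) (BT.node 18055 (BT.node 18054 (BT.node 18053 (BT.leaf cJ18053) (BT.leaf cJ18054)) (BT.leaf cJ18055)) (BT.node 18056 (BT.leaf cJ18056) (BT.leaf cJ18057)))))) (BT.node 18077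 (BT.node 18067 (BT.node 18062 (BT.node 18060 (BT.node 18059 (BT.node 18058 (BT.leaf cJ18058) (BT.leaf cJ18059)) (BT.leaf cJ18060)) (BT.node 18061 (BT.leaf cJ18061) (BT.leaf cJ18062))) (BT.node 18065 (BT.node 18064 (BT.node 18063 (BT.leaf cJ18063) (BT.leaf cJ18064)) (BT.leaf cJ18065)) (BT.node 18066 (BT.leaf cJ18066) (BT.leaf cJ18067)))) (BT.node 18072 (BT.node 18070 (BT.node 18069 (BT.node 18068 (BT.leaf cJ18068) (BT.leaf cJ18069)) (BT.leaf cJ18070)) (BT.node 18071 (BT.leaf cJ18071) (BT.leaf cJ18072))) (BT.node 18075 (BT.node 18074 (BT.node 18073 (BT.leaf cJ18073) (BT.leaf cJ18074)) (BT.leaf cJ18075)) (BT.node 18076 (BT.leaf cJ18076) (BT.leaf cJ18077))))) (BT.node 18087 (BT.node 18082 (BT.node 18080 (BT.node 18079 (BT.node 18078 (BT.leaf cJ18078) (BT.leaf cJ18079)) (BT.leaf cJ18080)) (BT.node 18081 (BT.leaf cJ18081) (BT.leaf cJ18082))) (BT.node 18085 (BT.node 18084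 (BT.node 18083 (BT.leaf cJ18083) (BT.leaf cJ18084)) (BT.leaf cJ18085)) (BT.node 18086 (BT.leaf cJ18086) (BT.leaf cJ18087)))) (BT.node 18092 (BT.node 18090 (BT.node 18089 (BT.node 18088 (BT.leaf cJ18088) (BT.leaf cJ18089)) (BT.leaf cJ18090)) (BT.node 18091 (BT.leaf cJ18091) (BT.leaf cJ18092))) (BT.node 18095 (BT.node 18094 (BT.node 18093 (BT.leaf cJ18093) (BT.leaf cJ18094)) (BT.leaf cJ18095)) (BT.node 18096 (BT.leaf cJ18096) (BT.leaf cJ18097))))))))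
noncomputable def colJT_112 : BT ℕ := (BT.node 18178 (BT.node 18138 (BT.node 18118 (BT.node 18108 (BT.node 18103 (BT.node 18100 (BT.node 18099 (BT.node 18098 (BT.leaf cJ18098) (BT.leaf cJ18099)) (BT.leaf cJ18100)) (BT.node 18102 (BT.node 18101 (BT.leaf cJ18101) (BT.leaf cJ18102)) (BT.leaf cJ18103))) (BT.node 18106 (BT.node 18105 (BT.node 18104 (BT.leaf cJ18104) (BT.leaf cJ18105)) (BT.leaf cJ18106)) (BT.node 18107 (BT.leaf cJ18107) (BT.leaf cJ18108)))) (BT.node 18113 (BT.node 18111 (BT.node 18110 (BT.node 18109 (BT.leaf cJ18109) (BT.leaf cJ18110)) (BT.leaf cJ18111)) (BT.node 18112 (BT.leaf cJ18112) (BT.leaf cJ18113))) (BT.node 18116 (BT.node 18115 (BT.node 18114 (BT.leaf cJ18114) (BT.leaf cJ18115)) (BT.leaf cJ18116)) (BT.node 18117 (BT.leaf cJ18117) (BT.leaf cJ18118))))) (BT.node 18128 (BT.node 18123 (BT.node 18121 (BT.node 18120 (BT.node 18119 (BT.leaf cJ18119) (BT.leaf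 cJ18120)) (BT.leaf cJ18121)) (BT.node 18122 (BT.leaf cJ18122) (BT.leaf cJ18123))) (BT.node 18126 (BT.node 18125 (BT.node 18124 (BT.leaf cJ18124) (BT.leaf cJ18125)) (BT.leaf cJ18126)) (BT.node 18127 (BT.leaf cJ18127) (BT.leaf cJ18128)))) (BT.node 18133 (BT.node 18131 (BT.node 18130 (BT.node 18129 (BT.leaf cJ18129) (BT.leaf cJ18130)) (BT.leaf cJ18131)) (BT.node 18132 (BT.leaf cJ18132) (BT.leaf cJ18133))) (BT.node 18136 (BT.node 18135 (BT.node 18134 (BT.leaf cJ18134) (BT.leaf cJ18135)) (BT.leaf cJ18136)) (BT.node 18137 (BT.leaf cJ18137) (BT.leaf cJ18138)))))) (BT.node 18158 (BT.node 18148 (BT.node 18143 (BT.node 18141 (BT.node 18140 (BT.node 18139 (BT.leaf cJ18139) (BT.leaf cJ18140)) (BT.leaf cJ18141)) (BT.node 18142 (BT.leaf cJ18142) (BT.leaf cJ18143))) (BT.node 18146 (BT.node 18145 (BT.node 18144 (BT.leaf cJ18144) (BT.leaf cJ18145)) (BT.leaf cJ18146)) (BT.node 18147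 (BT.leaf cJ18147) (BT.leaf cJ18148)))) (BT.node 18153 (BT.node 18151 (BT.node 18150 (BT.node 18149 (BT.leaf cJ18149) (BT.leaf cJ18150)) (BT.leaf cJ18151)) (BT.node 18152 (BT.leaf cJ18152) (BT.leaf cJ18153))) (BT.node 18156 (BT.node 18155 (BT.node 18154 (BT.leaf cJ18154) (BT.leaf cJ18155)) (BT.leaf cJ18156)) (BT.node 18157 (BT.leaf cJ18157) (BT.leaf cJ18158))))) (BT.node 18168 (BT.node 18163 (BT.node 18161 (BT.node 18160 (BT.node 18159 (BT.leaf cJ18159) (BT.leaf cJ18160)) (BT.leaf cJ18161)) (BT.node 18162 (BT.leaf cJ18162) (BT.leaf cJ18163))) (BT.node 18166 (BT.node 18165 (BT.node 18164 (BT.leaf cJ18164) (BT.leaf cJ18165)) (BT.leaf cJ18166)) (BT.node 18167 (BT.leaf cJ18167) (BT.leaf cJ18168)))) (BT.node 18173 (BT.node 18171 (BT.node 18170 (BT.node 18169 (BT.leaf cJ18169) (BT.leaf cJ18170)) (BT.leaf cJ18171)) (BT.node 18172 (BT.leaf cJ18172) (BT.leaf cJ18173))) (BT.node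 18176 (BT.node 18175 (BT.node 18174 (BT.leaf cJ18174) (BT.leaf cJ18175)) (BT.leaf cJ18176)) (BT.node 18177 (BT.leaf cJ18177) (BT.leaf cJ18178))))))) (BT.node 18219 (BT.node 18199 (BT.node 18189 (BT.node 18184 (BT.node 18181 (BT.node 18180 (BT.node 18179 (BT.leaf cJ18179) (BT.leaf cJ18180)) (BT.leaf cJ18181)) (BT.node 18183 (BT.node 18182 (BT.leaf cJ18182) (BT.leaf cJ18183)) (BT.leaf cJ18184))) (BT.node 18187 (BT.node 18186 (BT.node 18185 (BT.leaf cJ18185) (BT.leaf cJ18186)) (BT.leaf cJ18187)) (BT.node 18188 (BT.leaf cJ18188) (BT.leaf cJ18189)))) (BT.node 18194 (BT.node 18192 (BT.node 18191 (BT.node 18190 (BT.leaf cJ18190) (BT.leaf cJ18191)) (BT.leaf cJ18192)) (BT.node 18193 (BT.leaf cJ18193) (BT.leaf cJ18194))) (BT.node 18197 (BT.node 18196 (BT.node 18195 (BT.leaf cJ18195) (BT.leaf cJ18196)) (BT.leaf cJ18197)) (BT.node 18198 (BT.leaf cJ18198) (BT.leaf cJ18199)))))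 (BT.node 18209 (BT.node 18204 (BT.node 18202 (BT.node 18201 (BT.node 18200 (BT.leaf cJ18200) (BT.leaf cJ18201)) (BT.leaf cJ18202)) (BT.node 18203 (BT.leaf cJ18203) (BT.leaf cJ18204))) (BT.node 18207 (BT.node 18206 (BT.node 18205 (BT.leaf cJ18205) (BT.leaf cJ18206)) (BT.leaf cJ18207)) (BT.node 18208 (BT.leaf cJ18208) (BT.leaf cJ18209)))) (BT.node 18214 (BT.node 18212 (BT.node 18211 (BT.node 18210 (BT.leaf cJ18210) (BT.leaf cJ18211)) (BT.leaf cJ18212)) (BT.node 18213 (BT.leaf cJ18213) (BT.leaf cJ18214))) (BT.node 18217 (BT.node 18216 (BT.node 18215 (BT.leaf cJ18215) (BT.leaf cJ18216)) (BT.leaf cJ18217)) (BT.node 18218 (BT.leaf cJ18218) (BT.leaf cJ18219)))))) (BT.node 18239 (BT.node 18229 (BT.node 18224 (BT.node 18222 (BT.node 18221 (BT.node 18220 (BT.leaf cJ18220) (BT.leaf cJ18221)) (BT.leaf cJ18222)) (BT.node 18223 (BT.leaf cJ18223) (BT.leaf cJ18224))) (BT.node 18227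 (BT.node 18226 (BT.node 18225 (BT.leaf cJ18225) (BT.leaf cJ18226)) (BT.leaf cJ18227)) (BT.node 18228 (BT.leaf cJ18228) (BT.leaf cJ18229)))) (BT.node 18234 (BT.node 18232 (BT.node 18231 (BT.node 18230 (BT.leaf cJ18230) (BT.leaf cJ18231)) (BT.leaf cJ18232)) (BT.node 18233 (BT.leaf cJ18233) (BT.leaf cJ18234))) (BT.node 18237 (BT.node 18236 (BT.node 18235 (BT.leaf cJ18235) (BT.leaf cJ18236)) (BT.leaf cJ18237)) (BT.node 18238 (BT.leaf cJ18238) (BT.leaf cJ18239))))) (BT.node 18249 (BT.node 18244 (BT.node 18242 (BT.node 18241 (BT.node 18240 (BT.leaf cJ18240) (BT.leaf cJ18241)) (BT.leaf cJ18242)) (BT.node 18243 (BT.leaf cJ18243) (BT.leaf cJ18244))) (BT.node 18247 (BT.node 18246 (BT.node 18245 (BT.leaf cJ18245) (BT.leaf cJ18246)) (BT.leaf cJ18247)) (BT.node 18248 (BT.leaf cJ18248) (BT.leaf cJ18249)))) (BT.node 18254 (BT.node 18252 (BT.node 18251 (BT.node 18250 (BT.leaf cJ18250)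 (BT.leaf cJ18251)) (BT.leaf cJ18252)) (BT.node 18253 (BT.leaf cJ18253) (BT.leaf cJ18254))) (BT.node 18257 (BT.node 18256 (BT.node 18255 (BT.leaf cJ18255) (BT.leaf cJ18256)) (BT.leaf cJ18257)) (BT.node 18258 (BT.leaf cJ18258) (BT.leaf cJ18259))))))))
noncomputable def colJT_113 : BT ℕ := (BT.node 18340 (BT.node 18300 (BT.node 18280 (BT.node 18270 (BT.node 18265 (BT.node 18262 (BT.node 18261 (BT.node 18260 (BT.leaf cJ18260) (BT.leaf cJ18261)) (BT.leaf cJ18262)) (BT.node 18264 (BT.node 18263 (BT.leaf cJ18263) (BT.leaf cJ18264)) (BT.leaf cJ18265))) (BT.node 18268 (BT.node 18267 (BT.node 18266 (BT.leaf cJ18266) (BT.leaf cJ18267)) (BT.leaf cJ18268)) (BT.node 18269 (BT.leaf cJ18269) (BT.leaf cJ18270)))) (BT.node 18275 (BT.node 18273 (BT.node 18272 (BT.node 18271 (BT.leaf cJ18271) (BT.leaf cJ18272)) (BT.leaf cJ18273)) (BT.node 18274 (BT.leaf cJ18274) (BT.leaf cJ18275))) (BT.node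 18278 (BT.node 18277 (BT.node 18276 (BT.leaf cJ18276) (BT.leaf cJ18277)) (BT.leaf cJ18278)) (BT.node 18279 (BT.leaf cJ18279) (BT.leaf cJ18280))))) (BT.node 18290 (BT.node 18285 (BT.node 18283 (BT.node 18282 (BT.node 18281 (BT.leaf cJ18281) (BT.leaf cJ18282)) (BT.leaf cJ18283)) (BT.node 18284 (BT.leaf cJ18284) (BT.leaf cJ18285))) (BT.node 18288 (BT.node 18287 (BT.node 18286 (BT.leaf cJ18286) (BT.leaf cJ18287)) (BT.leaf cJ18288)) (BT.node 18289 (BT.leaf cJ18289) (BT.leaf cJ18290)))) (BT.node 18295 (BT.node 18293 (BT.node 18292 (BT.node 18291 (BT.leaf cJ18291) (BT.leaf cJ18292)) (BT.leaf cJ18293)) (BT.node 18294 (BT.leaf cJ18294) (BT.leaf cJ18295))) (BT.node 18298 (BT.node 18297 (BT.node 18296 (BT.leaf cJ18296) (BT.leaf cJ18297)) (BT.leaf cJ18298)) (BT.node 18299 (BT.leaf cJ18299) (BT.leaf cJ18300)))))) (BT.node 18320 (BT.node 18310 (BT.node 18305 (BT.node 18303 (BT.node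 18302 (BT.node 18301 (BT.leaf cJ18301) (BT.leaf cJ18302)) (BT.leaf cJ18303)) (BT.node 18304 (BT.leaf cJ18304) (BT.leaf cJ18305))) (BT.node 18308 (BT.node 18307 (BT.node 18306 (BT.leaf cJ18306) (BT.leaf cJ18307)) (BT.leaf cJ18308)) (BT.node 18309 (BT.leaf cJ18309) (BT.leaf cJ18310)))) (BT.node 18315 (BT.node 18313 (BT.node 18312 (BT.node 18311 (BT.leaf cJ18311) (BT.leaf cJ18312)) (BT.leaf cJ18313)) (BT.node 18314 (BT.leaf cJ18314) (BT.leaf cJ18315))) (BT.node 18318 (BT.node 18317 (BT.node 18316 (BT.leaf cJ18316) (BT.leaf cJ18317)) (BT.leaf cJ18318)) (BT.node 18319 (BT.leaf cJ18319) (BT.leaf cJ18320))))) (BT.node 18330 (BT.node 18325 (BT.node 18323 (BT.node 18322 (BT.node 18321 (BT.leaf cJ18321) (BT.leaf cJ18322)) (BT.leaf cJ18323)) (BT.node 18324 (BT.leaf cJ18324) (BT.leaf cJ18325))) (BT.node 18328 (BT.node 18327 (BT.node 18326 (BT.leaf cJ18326) (BT.leaf cJ18327)) (BT.leaf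 cJ18328)) (BT.node 18329 (BT.leaf cJ18329) (BT.leaf cJ18330)))) (BT.node 18335 (BT.node 18333 (BT.node 18332 (BT.node 18331 (BT.leaf cJ18331) (BT.leaf cJ18332)) (BT.leaf cJ18333)) (BT.node 18334 (BT.leaf cJ18334) (BT.leaf cJ18335))) (BT.node 18338 (BT.node 18337 (BT.node 18336 (BT.leaf cJ18336) (BT.leaf cJ18337)) (BT.leaf cJ18338)) (BT.node 18339 (BT.leaf cJ18339) (BT.leaf cJ18340))))))) (BT.node 18381 (BT.node 18361 (BT.node 18351 (BT.node 18346 (BT.node 18343 (BT.node 18342 (BT.node 18341 (BT.leaf cJ18341) (BT.leaf cJ18342)) (BT.leaf cJ18343)) (BT.node 18345 (BT.node 18344 (BT.leaf cJ18344) (BT.leaf cJ18345)) (BT.leaf cJ18346))) (BT.node 18349 (BT.node 18348 (BT.node 18347 (BT.leaf cJ18347) (BT.leaf cJ18348)) (BT.leaf cJ18349)) (BT.node 18350 (BT.leaf cJ18350) (BT.leaf cJ18351)))) (BT.node 18356 (BT.node 18354 (BT.node 18353 (BT.node 18352 (BT.leaf cJ18352) (BT.leaf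 cJ18353)) (BT.leaf cJ18354)) (BT.node 18355 (BT.leaf cJ18355) (BT.leaf cJ18356))) (BT.node 18359 (BT.node 18358 (BT.node 18357 (BT.leaf cJ18357) (BT.leaf cJ18358)) (BT.leaf cJ18359)) (BT.node 18360 (BT.leaf cJ18360) (BT.leaf cJ18361))))) (BT.node 18371 (BT.node 18366 (BT.node 18364 (BT.node 18363 (BT.node 18362 (BT.leaf cJ18362) (BT.leaf cJ18363)) (BT.leaf cJ18364)) (BT.node 18365 (BT.leaf cJ18365) (BT.leaf cJ18366))) (BT.node 18369 (BT.node 18368 (BT.node 18367 (BT.leaf cJ18367) (BT.leaf cJ18368)) (BT.leaf cJ18369)) (BT.node 18370 (BT.leaf cJ18370) (BT.leaf cJ18371)))) (BT.node 18376 (BT.node 18374 (BT.node 18373 (BT.node 18372 (BT.leaf cJ18372) (BT.leaf cJ18373)) (BT.leaf cJ18374)) (BT.node 18375 (BT.leaf cJ18375) (BT.leaf cJ18376))) (BT.node 18379 (BT.node 18378 (BT.node 18377 (BT.leaf cJ18377) (BT.leaf cJ18378)) (BT.leaf cJ18379)) (BT.node 18380 (BT.leaf cJ18380)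 (BT.leaf cJ18381)))))) (BT.node 18401 (BT.node 18391 (BT.node 18386 (BT.node 18384 (BT.node 18383 (BT.node 18382 (BT.leaf cJ18382) (BT.leaf cJ18383)) (BT.leaf cJ18384)) (BT.node 18385 (BT.leaf cJ18385) (BT.leaf cJ18386))) (BT.node 18389 (BT.node 18388 (BT.node 18387 (BT.leaf cJ18387) (BT.leaf cJ18388)) (BT.leaf cJ18389)) (BT.node 18390 (BT.leaf cJ18390) (BT.leaf cJ18391)))) (BT.node 18396 (BT.node 18394 (BT.node 18393 (BT.node 18392 (BT.leaf cJ18392) (BT.leaf cJ18393)) (BT.leaf cJ18394)) (BT.node 18395 (BT.leaf cJ18395) (BT.leaf cJ18396))) (BT.node 18399 (BT.node 18398 (BT.node 18397 (BT.leaf cJ18397) (BT.leaf cJ18398)) (BT.leaf cJ18399)) (BT.node 18400 (BT.leaf cJ18400) (BT.leaf cJ18401))))) (BT.node 18411 (BT.node 18406 (BT.node 18404 (BT.node 18403 (BT.node 18402 (BT.leaf cJ18402) (BT.leaf cJ18403)) (BT.leaf cJ18404)) (BT.node 18405 (BT.leaf cJ18405) (BT.leaf cJ18406)))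 (BT.node 18409 (BT.node 18408 (BT.node 18407 (BT.leaf cJ18407) (BT.leaf cJ18408)) (BT.leaf cJ18409)) (BT.node 18410 (BT.leaf cJ18410) (BT.leaf cJ18411)))) (BT.node 18416 (BT.node 18414 (BT.node 18413 (BT.node 18412 (BT.leaf cJ18412) (BT.leaf cJ18413)) (BT.leaf cJ18414)) (BT.node 18415 (BT.leaf cJ18415) (BT.leaf cJ18416))) (BT.node 18419 (BT.node 18418 (BT.node 18417 (BT.leaf cJ18417) (BT.leaf cJ18418)) (BT.leaf cJ18419)) (BT.node 18420 (BT.leaf cJ18420) (BT.leaf cJ18421))))))))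
noncomputable def colJT_114 : BT ℕ := (BT.node 18502 (BT.node 18462 (BT.node 18442 (BT.node 18432 (BT.node 18427 (BT.node 18424 (BT.node 18423 (BT.node 18422 (BT.leaf cJ18422) (BT.leaf cJ18423)) (BT.leaf cJ18424)) (BT.node 18426 (BT.node 18425 (BT.leaf cJ18425) (BT.leaf cJ18426)) (BT.leaf cJ18427))) (BT.node 18430 (BT.node 18429 (BT.node 18428 (BT.leaf cJ18428) (BT.leaf cJ18429)) (BT.leaf cJ18430)) (BT.node 18431 (BT.leaf cJ18431) (BT.leaf cJ18432)))) (BT.node 18437 (BT.node 18435 (BT.node 18434 (BT.node 18433 (BT.leaf cJ18433) (BT.leaf cJ18434)) (BT.leaf cJ18435)) (BT.node 18436 (BT.leaf cJ18436) (BT.leaf cJ18437))) (BT.node 18440 (BT.node 18439 (BT.node 18438 (BT.leaf cJ18438) (BT.leaf cJ18439)) (BT.leaf cJ18440)) (BT.node 18441 (BT.leaf cJ18441) (BT.leaf cJ18442))))) (BT.node 18452 (BT.node 18447 (BT.node 18445 (BT.node 18444 (BT.node 18443 (BT.leaf cJ18443) (BT.leaf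 cJ18444)) (BT.leaf cJ18445)) (BT.node 18446 (BT.leaf cJ18446) (BT.leaf cJ18447))) (BT.node 18450 (BT.node 18449 (BT.node 18448 (BT.leaf cJ18448) (BT.leaf cJ18449)) (BT.leaf cJ18450)) (BT.node 18451 (BT.leaf cJ18451) (BT.leaf cJ18452)))) (BT.node 18457 (BT.node 18455 (BT.node 18454 (BT.node 18453 (BT.leaf cJ18453) (BT.leaf cJ18454)) (BT.leaf cJ18455)) (BT.node 18456 (BT.leaf cJ18456) (BT.leaf cJ18457))) (BT.node 18460 (BT.node 18459 (BT.node 18458 (BT.leaf cJ18458) (BT.leaf cJ18459)) (BT.leaf cJ18460)) (BT.node 18461 (BT.leaf cJ18461) (BT.leaf cJ18462)))))) (BT.node 18482 (BT.node 18472 (BT.node 18467 (BT.node 18465 (BT.node 18464 (BT.node 18463 (BT.leaf cJ18463) (BT.leaf cJ18464)) (BT.leaf cJ18465)) (BT.node 18466 (BT.leaf cJ18466) (BT.leaf cJ18467))) (BT.node 18470 (BT.node 18469 (BT.node 18468 (BT.leaf cJ18468) (BT.leaf cJ18469)) (BT.leaf cJ18470)) (BT.node 18471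 (BT.leaf cJ18471) (BT.leaf cJ18472)))) (BT.node 18477 (BT.node 18475 (BT.node 18474 (BT.node 18473 (BT.leaf cJ18473) (BT.leaf cJ18474)) (BT.leaf cJ18475)) (BT.node 18476 (BT.leaf cJ18476) (BT.leaf cJ18477))) (BT.node 18480 (BT.node 18479 (BT.node 18478 (BT.leaf cJ18478) (BT.leaf cJ18479)) (BT.leaf cJ18480)) (BT.node 18481 (BT.leaf cJ18481) (BT.leaf cJ18482))))) (BT.node 18492 (BT.node 18487 (BT.node 18485 (BT.node 18484 (BT.node 18483 (BT.leaf cJ18483) (BT.leaf cJ18484)) (BT.leaf cJ18485)) (BT.node 18486 (BT.leaf cJ18486) (BT.leaf cJ18487))) (BT.node 18490 (BT.node 18489 (BT.node 18488 (BT.leaf cJ18488) (BT.leaf cJ18489)) (BT.leaf cJ18490)) (BT.node 18491 (BT.leaf cJ18491) (BT.leaf cJ18492)))) (BT.node 18497 (BT.node 18495 (BT.node 18494 (BT.node 18493 (BT.leaf cJ18493) (BT.leaf cJ18494)) (BT.leaf cJ18495)) (BT.node 18496 (BT.leaf cJ18496) (BT.leaf cJ18497))) (BT.node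 18500 (BT.node 18499 (BT.node 18498 (BT.leaf cJ18498) (BT.leaf cJ18499)) (BT.leaf cJ18500)) (BT.node 18501 (BT.leaf cJ18501) (BT.leaf cJ18502))))))) (BT.node 18543 (BT.node 18523 (BT.node 18513 (BT.node 18508 (BT.node 18505 (BT.node 18504 (BT.node 18503 (BT.leaf cJ18503) (BT.leaf cJ18504)) (BT.leaf cJ18505)) (BT.node 18507 (BT.node 18506 (BT.leaf cJ18506) (BT.leaf cJ18507)) (BT.leaf cJ18508))) (BT.node 18511 (BT.node 18510 (BT.node 18509 (BT.leaf cJ18509) (BT.leaf cJ18510)) (BT.leaf cJ18511)) (BT.node 18512 (BT.leaf cJ18512) (BT.leaf cJ18513)))) (BT.node 18518 (BT.node 18516 (BT.node 18515 (BT.node 18514 (BT.leaf cJ18514) (BT.leaf cJ18515)) (BT.leaf cJ18516)) (BT.node 18517 (BT.leaf cJ18517) (BT.leaf cJ18518))) (BT.node 18521 (BT.node 18520 (BT.node 18519 (BT.leaf cJ18519) (BT.leaf cJ18520)) (BT.leaf cJ18521)) (BT.node 18522 (BT.leaf cJ18522) (BT.leaf cJ18523)))))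 (BT.node 18533 (BT.node 18528 (BT.node 18526 (BT.node 18525 (BT.node 18524 (BT.leaf cJ18524) (BT.leaf cJ18525)) (BT.leaf cJ18526)) (BT.node 18527 (BT.leaf cJ18527) (BT.leaf cJ18528))) (BT.node 18531 (BT.node 18530 (BT.node 18529 (BT.leaf cJ18529) (BT.leaf cJ18530)) (BT.leaf cJ18531)) (BT.node 18532 (BT.leaf cJ18532) (BT.leaf cJ18533)))) (BT.node 18538 (BT.node 18536 (BT.node 18535 (BT.node 18534 (BT.leaf cJ18534) (BT.leaf cJ18535)) (BT.leaf cJ18536)) (BT.node 18537 (BT.leaf cJ18537) (BT.leaf cJ18538))) (BT.node 18541 (BT.node 18540 (BT.node 18539 (BT.leaf cJ18539) (BT.leaf cJ18540)) (BT.leaf cJ18541)) (BT.node 18542 (BT.leaf cJ18542) (BT.leaf cJ18543)))))) (BT.node 18563 (BT.node 18553 (BT.node 18548 (BT.node 18546 (BT.node 18545 (BT.node 18544 (BT.leaf cJ18544) (BT.leaf cJ18545)) (BT.leaf cJ18546)) (BT.node 18547 (BT.leaf cJ18547) (BT.leaf cJ18548))) (BT.node 18551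 (BT.node 18550 (BT.node 18549 (BT.leaf cJ18549) (BT.leaf cJ18550)) (BT.leaf cJ18551)) (BT.node 18552 (BT.leaf cJ18552) (BT.leaf cJ18553)))) (BT.node 18558 (BT.node 18556 (BT.node 18555 (BT.node 18554 (BT.leaf cJ18554) (BT.leaf cJ18555)) (BT.leaf cJ18556)) (BT.node 18557 (BT.leaf cJ18557) (BT.leaf cJ18558))) (BT.node 18561 (BT.node 18560 (BT.node 18559 (BT.leaf cJ18559) (BT.leaf cJ18560)) (BT.leaf cJ18561)) (BT.node 18562 (BT.leaf cJ18562) (BT.leaf cJ18563))))) (BT.node 18573 (BT.node 18568 (BT.node 18566 (BT.node 18565 (BT.node 18564 (BT.leaf cJ18564) (BT.leaf cJ18565)) (BT.leaf cJ18566)) (BT.node 18567 (BT.leaf cJ18567) (BT.leaf cJ18568))) (BT.node 18571 (BT.node 18570 (BT.node 18569 (BT.leaf cJ18569) (BT.leaf cJ18570)) (BT.leaf cJ18571)) (BT.node 18572 (BT.leaf cJ18572) (BT.leaf cJ18573)))) (BT.node 18578 (BT.node 18576 (BT.node 18575 (BT.node 18574 (BT.leaf cJ18574)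 (BT.leaf cJ18575)) (BT.leaf cJ18576)) (BT.node 18577 (BT.leaf cJ18577) (BT.leaf cJ18578))) (BT.node 18581 (BT.node 18580 (BT.node 18579 (BT.leaf cJ18579) (BT.leaf cJ18580)) (BT.leaf cJ18581)) (BT.node 18582 (BT.leaf cJ18582) (BT.leaf cJ18583))))))))
noncomputable def colJT_115 : BT ℕ := (BT.node 18664 (BT.node 18624 (BT.node 18604 (BT.node 18594 (BT.node 18589 (BT.node 18586 (BT.node 18585 (BT.node 18584 (BT.leaf cJ18584) (BT.leaf cJ18585)) (BT.leaf cJ18586)) (BT.node 18588 (BT.node 18587 (BT.leaf cJ18587) (BT.leaf cJ18588)) (BT.leaf cJ18589))) (BT.node 18592 (BT.node 18591 (BT.node 18590 (BT.leaf cJ18590) (BT.leaf cJ18591)) (BT.leaf cJ18592)) (BT.node 18593 (BT.leaf cJ18593) (BT.leaf cJ18594)))) (BT.node 18599 (BT.node 18597 (BT.node 18596 (BT.node 18595 (BT.leaf cJ18595) (BT.leaf cJ18596)) (BT.leaf cJ18597)) (BT.node 18598 (BT.leaf cJ18598) (BT.leaf cJ18599))) (BT.node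 18602 (BT.node 18601 (BT.node 18600 (BT.leaf cJ18600) (BT.leaf cJ18601)) (BT.leaf cJ18602)) (BT.node 18603 (BT.leaf cJ18603) (BT.leaf cJ18604))))) (BT.node 18614 (BT.node 18609 (BT.node 18607 (BT.node 18606 (BT.node 18605 (BT.leaf cJ18605) (BT.leaf cJ18606)) (BT.leaf cJ18607)) (BT.node 18608 (BT.leaf cJ18608) (BT.leaf cJ18609))) (BT.node 18612 (BT.node 18611 (BT.node 18610 (BT.leaf cJ18610) (BT.leaf cJ18611)) (BT.leaf cJ18612)) (BT.node 18613 (BT.leaf cJ18613) (BT.leaf cJ18614)))) (BT.node 18619 (BT.node 18617 (BT.node 18616 (BT.node 18615 (BT.leaf cJ18615) (BT.leaf cJ18616)) (BT.leaf cJ18617)) (BT.node 18618 (BT.leaf cJ18618) (BT.leaf cJ18619))) (BT.node 18622 (BT.node 18621 (BT.node 18620 (BT.leaf cJ18620) (BT.leaf cJ18621)) (BT.leaf cJ18622)) (BT.node 18623 (BT.leaf cJ18623) (BT.leaf cJ18624)))))) (BT.node 18644 (BT.node 18634 (BT.node 18629 (BT.node 18627 (BT.node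 18626 (BT.node 18625 (BT.leaf cJ18625) (BT.leaf cJ18626)) (BT.leaf cJ18627)) (BT.node 18628 (BT.leaf cJ18628) (BT.leaf cJ18629))) (BT.node 18632 (BT.node 18631 (BT.node 18630 (BT.leaf cJ18630) (BT.leaf cJ18631)) (BT.leaf cJ18632)) (BT.node 18633 (BT.leaf cJ18633) (BT.leaf cJ18634)))) (BT.node 18639 (BT.node 18637 (BT.node 18636 (BT.node 18635 (BT.leaf cJ18635) (BT.leaf cJ18636)) (BT.leaf cJ18637)) (BT.node 18638 (BT.leaf cJ18638) (BT.leaf cJ18639))) (BT.node 18642 (BT.node 18641 (BT.node 18640 (BT.leaf cJ18640) (BT.leaf cJ18641)) (BT.leaf cJ18642)) (BT.node 18643 (BT.leaf cJ18643) (BT.leaf cJ18644))))) (BT.node 18654 (BT.node 18649 (BT.node 18647 (BT.node 18646 (BT.node 18645 (BT.leaf cJ18645) (BT.leaf cJ18646)) (BT.leaf cJ18647)) (BT.node 18648 (BT.leaf cJ18648) (BT.leaf cJ18649))) (BT.node 18652 (BT.node 18651 (BT.node 18650 (BT.leaf cJ18650) (BT.leaf cJ18651)) (BT.leaf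 cJ18652)) (BT.node 18653 (BT.leaf cJ18653) (BT.leaf cJ18654)))) (BT.node 18659 (BT.node 18657 (BT.node 18656 (BT.node 18655 (BT.leaf cJ18655) (BT.leaf cJ18656)) (BT.leaf cJ18657)) (BT.node 18658 (BT.leaf cJ18658) (BT.leaf cJ18659))) (BT.node 18662 (BT.node 18661 (BT.node 18660 (BT.leaf cJ18660) (BT.leaf cJ18661)) (BT.leaf cJ18662)) (BT.node 18663 (BT.leaf cJ18663) (BT.leaf cJ18664))))))) (BT.node 18704 (BT.node 18684 (BT.node 18674 (BT.node 18669 (BT.node 18667 (BT.node 18666 (BT.node 18665 (BT.leaf cJ18665) (BT.leaf cJ18666)) (BT.leaf cJ18667)) (BT.node 18668 (BT.leaf cJ18668) (BT.leaf cJ18669))) (BT.node 18672 (BT.node 18671 (BT.node 18670 (BT.leaf cJ18670) (BT.leaf cJ18671)) (BT.leaf cJ18672)) (BT.node 18673 (BT.leaf cJ18673) (BT.leaf cJ18674)))) (BT.node 18679 (BT.node 18677 (BT.node 18676 (BT.node 18675 (BT.leaf cJ18675) (BT.leaf cJ18676)) (BT.leaf cJ18677)) (BT.node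 18678 (BT.leaf cJ18678) (BT.leaf cJ18679))) (BT.node 18682 (BT.node 18681 (BT.node 18680 (BT.leaf cJ18680) (BT.leaf cJ18681)) (BT.leaf cJ18682)) (BT.node 18683 (BT.leaf cJ18683) (BT.leaf cJ18684))))) (BT.node 18694 (BT.node 18689 (BT.node 18687 (BT.node 18686 (BT.node 18685 (BT.leaf cJ18685) (BT.leaf cJ18686)) (BT.leaf cJ18687)) (BT.node 18688 (BT.leaf cJ18688) (BT.leaf cJ18689))) (BT.node 18692 (BT.node 18691 (BT.node 18690 (BT.leaf cJ18690) (BT.leaf cJ18691)) (BT.leaf cJ18692)) (BT.node 18693 (BT.leaf cJ18693) (BT.leaf cJ18694)))) (BT.node 18699 (BT.node 18697 (BT.node 18696 (BT.node 18695 (BT.leaf cJ18695) (BT.leaf cJ18696)) (BT.leaf cJ18697)) (BT.node 18698 (BT.leaf cJ18698) (BT.leaf cJ18699))) (BT.node 18702 (BT.node 18701 (BT.node 18700 (BT.leaf cJ18700) (BT.leaf cJ18701)) (BT.leaf cJ18702)) (BT.node 18703 (BT.leaf cJ18703) (BT.leaf cJ18704)))))) (BT.node 18724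 (BT.node 18714 (BT.node 18709 (BT.node 18707 (BT.node 18706 (BT.node 18705 (BT.leaf cJ18705) (BT.leaf cJ18706)) (BT.leaf cJ18707)) (BT.node 18708 (BT.leaf cJ18708) (BT.leaf cJ18709))) (BT.node 18712 (BT.node 18711 (BT.node 18710 (BT.leaf cJ18710) (BT.leaf cJ18711)) (BT.leaf cJ18712)) (BT.node 18713 (BT.leaf cJ18713) (BT.leaf cJ18714)))) (BT.node 18719 (BT.node 18717 (BT.node 18716 (BT.node 18715 (BT.leaf cJ18715) (BT.leaf cJ18716)) (BT.leaf cJ18717)) (BT.node 18718 (BT.leaf cJ18718) (BT.leaf cJ18719))) (BT.node 18722 (BT.node 18721 (BT.node 18720 (BT.leaf cJ18720) (BT.leaf cJ18721)) (BT.leaf cJ18722)) (BT.node 18723 (BT.leaf cJ18723) (BT.leaf cJ18724))))) (BT.node 18734 (BT.node 18729 (BT.node 18727 (BT.node 18726 (BT.node 18725 (BT.leaf cJ18725) (BT.leaf cJ18726)) (BT.leaf cJ18727)) (BT.node 18728 (BT.leaf cJ18728) (BT.leaf cJ18729))) (BT.node 18732 (BT.node 18731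 (BT.node 18730 (BT.leaf cJ18730) (BT.leaf cJ18731)) (BT.leaf cJ18732)) (BT.node 18733 (BT.leaf cJ18733) (BT.leaf cJ18734)))) (BT.node 18739 (BT.node 18737 (BT.node 18736 (BT.node 18735 (BT.leaf cJ18735) (BT.leaf cJ18736)) (BT.leaf cJ18737)) (BT.node 18738 (BT.leaf cJ18738) (BT.leaf cJ18739))) (BT.node 18742 (BT.node 18741 (BT.node 18740 (BT.leaf cJ18740) (BT.leaf cJ18741)) (BT.leaf cJ18742)) (BT.node 18743 (BT.leaf cJ18743) (BT.leaf cJ18744))))))))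
noncomputable def colJT_116 : BT ℕ := (BT.node 18825 (BT.node 18785 (BT.node 18765 (BT.node 18755 (BT.node 18750 (BT.node 18747 (BT.node 18746 (BT.node 18745 (BT.leaf cJ18745) (BT.leaf cJ18746)) (BT.leaf cJ18747)) (BT.node 18749 (BT.node 18748 (BT.leaf cJ18748) (BT.leaf cJ18749)) (BT.leaf cJ18750))) (BT.node 18753 (BT.node 18752 (BT.node 18751 (BT.leaf cJ18751) (BT.leaf cJ18752)) (BT.leaf cJ18753)) (BT.node 18754 (BT.leaf cJ18754) (BT.leaf cJ18755)))) (BT.node 18760 (BT.node 18758 (BT.node 18757 (BT.node 18756 (BT.leaf cJ18756) (BT.leaf cJ18757)) (BT.leaf cJ18758)) (BT.node 18759 (BT.leaf cJ18759) (BT.leaf cJ18760))) (BT.node 18763 (BT.node 18762 (BT.node 18761 (BT.leaf cJ18761) (BT.leaf cJ18762)) (BT.leaf cJ18763)) (BT.node 18764 (BT.leaf cJ18764) (BT.leaf cJ18765))))) (BT.node 18775 (BT.node 18770 (BT.node 18768 (BT.node 18767 (BT.node 18766 (BT.leaf cJ18766) (BT.leaf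 cJ18767)) (BT.leaf cJ18768)) (BT.node 18769 (BT.leaf cJ18769) (BT.leaf cJ18770))) (BT.node 18773 (BT.node 18772 (BT.node 18771 (BT.leaf cJ18771) (BT.leaf cJ18772)) (BT.leaf cJ18773)) (BT.node 18774 (BT.leaf cJ18774) (BT.leaf cJ18775)))) (BT.node 18780 (BT.node 18778 (BT.node 18777 (BT.node 18776 (BT.leaf cJ18776) (BT.leaf cJ18777)) (BT.leaf cJ18778)) (BT.node 18779 (BT.leaf cJ18779) (BT.leaf cJ18780))) (BT.node 18783 (BT.node 18782 (BT.node 18781 (BT.leaf cJ18781) (BT.leaf cJ18782)) (BT.leaf cJ18783)) (BT.node 18784 (BT.leaf cJ18784) (BT.leaf cJ18785)))))) (BT.node 18805 (BT.node 18795 (BT.node 18790 (BT.node 18788 (BT.node 18787 (BT.node 18786 (BT.leaf cJ18786) (BT.leaf cJ18787)) (BT.leaf cJ18788)) (BT.node 18789 (BT.leaf cJ18789) (BT.leaf cJ18790))) (BT.node 18793 (BT.node 18792 (BT.node 18791 (BT.leaf cJ18791) (BT.leaf cJ18792)) (BT.leaf cJ18793)) (BT.node 18794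 (BT.leaf cJ18794) (BT.leaf cJ18795)))) (BT.node 18800 (BT.node 18798 (BT.node 18797 (BT.node 18796 (BT.leaf cJ18796) (BT.leaf cJ18797)) (BT.leaf cJ18798)) (BT.node 18799 (BT.leaf cJ18799) (BT.leaf cJ18800))) (BT.node 18803 (BT.node 18802 (BT.node 18801 (BT.leaf cJ18801) (BT.leaf cJ18802)) (BT.leaf cJ18803)) (BT.node 18804 (BT.leaf cJ18804) (BT.leaf cJ18805))))) (BT.node 18815 (BT.node 18810 (BT.node 18808 (BT.node 18807 (BT.node 18806 (BT.leaf cJ18806) (BT.leaf cJ18807)) (BT.leaf cJ18808)) (BT.node 18809 (BT.leaf cJ18809) (BT.leaf cJ18810))) (BT.node 18813 (BT.node 18812 (BT.node 18811 (BT.leaf cJ18811) (BT.leaf cJ18812)) (BT.leaf cJ18813)) (BT.node 18814 (BT.leaf cJ18814) (BT.leaf cJ18815)))) (BT.node 18820 (BT.node 18818 (BT.node 18817 (BT.node 18816 (BT.leaf cJ18816) (BT.leaf cJ18817)) (BT.leaf cJ18818)) (BT.node 18819 (BT.leaf cJ18819) (BT.leaf cJ18820))) (BT.node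 18823 (BT.node 18822 (BT.node 18821 (BT.leaf cJ18821) (BT.leaf cJ18822)) (BT.leaf cJ18823)) (BT.node 18824 (BT.leaf cJ18824) (BT.leaf cJ18825))))))) (BT.node 18866 (BT.node 18846 (BT.node 18836 (BT.node 18831 (BT.node 18828 (BT.node 18827 (BT.node 18826 (BT.leaf cJ18826) (BT.leaf cJ18827)) (BT.leaf cJ18828)) (BT.node 18830 (BT.node 18829 (BT.leaf cJ18829) (BT.leaf cJ18830)) (BT.leaf cJ18831))) (BT.node 18834 (BT.node 18833 (BT.node 18832 (BT.leaf cJ18832) (BT.leaf cJ18833)) (BT.leaf cJ18834)) (BT.node 18835 (BT.leaf cJ18835) (BT.leaf cJ18836)))) (BT.node 18841 (BT.node 18839 (BT.node 18838 (BT.node 18837 (BT.leaf cJ18837) (BT.leaf cJ18838)) (BT.leaf cJ18839)) (BT.node 18840 (BT.leaf cJ18840) (BT.leaf cJ18841))) (BT.node 18844 (BT.node 18843 (BT.node 18842 (BT.leaf cJ18842) (BT.leaf cJ18843)) (BT.leaf cJ18844)) (BT.node 18845 (BT.leaf cJ18845) (BT.leaf cJ18846)))))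 (BT.node 18856 (BT.node 18851 (BT.node 18849 (BT.node 18848 (BT.node 18847 (BT.leaf cJ18847) (BT.leaf cJ18848)) (BT.leaf cJ18849)) (BT.node 18850 (BT.leaf cJ18850) (BT.leaf cJ18851))) (BT.node 18854 (BT.node 18853 (BT.node 18852 (BT.leaf cJ18852) (BT.leaf cJ18853)) (BT.leaf cJ18854)) (BT.node 18855 (BT.leaf cJ18855) (BT.leaf cJ18856)))) (BT.node 18861 (BT.node 18859 (BT.node 18858 (BT.node 18857 (BT.leaf cJ18857) (BT.leaf cJ18858)) (BT.leaf cJ18859)) (BT.node 18860 (BT.leaf cJ18860) (BT.leaf cJ18861))) (BT.node 18864 (BT.node 18863 (BT.node 18862 (BT.leaf cJ18862) (BT.leaf cJ18863)) (BT.leaf cJ18864)) (BT.node 18865 (BT.leaf cJ18865) (BT.leaf cJ18866)))))) (BT.node 18886 (BT.node 18876 (BT.node 18871 (BT.node 18869 (BT.node 18868 (BT.node 18867 (BT.leaf cJ18867) (BT.leaf cJ18868)) (BT.leaf cJ18869)) (BT.node 18870 (BT.leaf cJ18870) (BT.leaf cJ18871))) (BT.node 18874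 (BT.node 18873 (BT.node 18872 (BT.leaf cJ18872) (BT.leaf cJ18873)) (BT.leaf cJ18874)) (BT.node 18875 (BT.leaf cJ18875) (BT.leaf cJ18876)))) (BT.node 18881 (BT.node 18879 (BT.node 18878 (BT.node 18877 (BT.leaf cJ18877) (BT.leaf cJ18878)) (BT.leaf cJ18879)) (BT.node 18880 (BT.leaf cJ18880) (BT.leaf cJ18881))) (BT.node 18884 (BT.node 18883 (BT.node 18882 (BT.leaf cJ18882) (BT.leaf cJ18883)) (BT.leaf cJ18884)) (BT.node 18885 (BT.leaf cJ18885) (BT.leaf cJ18886))))) (BT.node 18896 (BT.node 18891 (BT.node 18889 (BT.node 18888 (BT.node 18887 (BT.leaf cJ18887) (BT.leaf cJ18888)) (BT.leaf cJ18889)) (BT.node 18890 (BT.leaf cJ18890) (BT.leaf cJ18891))) (BT.node 18894 (BT.node 18893 (BT.node 18892 (BT.leaf cJ18892) (BT.leaf cJ18893)) (BT.leaf cJ18894)) (BT.node 18895 (BT.leaf cJ18895) (BT.leaf cJ18896)))) (BT.node 18901 (BT.node 18899 (BT.node 18898 (BT.node 18897 (BT.leaf cJ18897)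 (BT.leaf cJ18898)) (BT.leaf cJ18899)) (BT.node 18900 (BT.leaf cJ18900) (BT.leaf cJ18901))) (BT.node 18904 (BT.node 18903 (BT.node 18902 (BT.leaf cJ18902) (BT.leaf cJ18903)) (BT.leaf cJ18904)) (BT.node 18905 (BT.leaf cJ18905) (BT.leaf cJ18906))))))))
noncomputable def colJT_117 : BT ℕ := (BT.node 18987 (BT.node 18947 (BT.node 18927 (BT.node 18917 (BT.node 18912 (BT.node 18909 (BT.node 18908 (BT.node 18907 (BT.leaf cJ18907) (BT.leaf cJ18908)) (BT.leaf cJ18909)) (BT.node 18911 (BT.node 18910 (BT.leaf cJ18910) (BT.leaf cJ18911)) (BT.leaf cJ18912))) (BT.node 18915 (BT.node 18914 (BT.node 18913 (BT.leaf cJ18913) (BT.leaf cJ18914)) (BT.leaf cJ18915)) (BT.node 18916 (BT.leaf cJ18916) (BT.leaf cJ18917)))) (BT.node 18922 (BT.node 18920 (BT.node 18919 (BT.node 18918 (BT.leaf cJ18918) (BT.leaf cJ18919)) (BT.leaf cJ18920)) (BT.node 18921 (BT.leaf cJ18921) (BT.leaf cJ18922))) (BT.node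 18925 (BT.node 18924 (BT.node 18923 (BT.leaf cJ18923) (BT.leaf cJ18924)) (BT.leaf cJ18925)) (BT.node 18926 (BT.leaf cJ18926) (BT.leaf cJ18927))))) (BT.node 18937 (BT.node 18932 (BT.node 18930 (BT.node 18929 (BT.node 18928 (BT.leaf cJ18928) (BT.leaf cJ18929)) (BT.leaf cJ18930)) (BT.node 18931 (BT.leaf cJ18931) (BT.leaf cJ18932))) (BT.node 18935 (BT.node 18934 (BT.node 18933 (BT.leaf cJ18933) (BT.leaf cJ18934)) (BT.leaf cJ18935)) (BT.node 18936 (BT.leaf cJ18936) (BT.leaf cJ18937)))) (BT.node 18942 (BT.node 18940 (BT.node 18939 (BT.node 18938 (BT.leaf cJ18938) (BT.leaf cJ18939)) (BT.leaf cJ18940)) (BT.node 18941 (BT.leaf cJ18941) (BT.leaf cJ18942))) (BT.node 18945 (BT.node 18944 (BT.node 18943 (BT.leaf cJ18943) (BT.leaf cJ18944)) (BT.leaf cJ18945)) (BT.node 18946 (BT.leaf cJ18946) (BT.leaf cJ18947)))))) (BT.node 18967 (BT.node 18957 (BT.node 18952 (BT.node 18950 (BT.node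 18949 (BT.node 18948 (BT.leaf cJ18948) (BT.leaf cJ18949)) (BT.leaf cJ18950)) (BT.node 18951 (BT.leaf cJ18951) (BT.leaf cJ18952))) (BT.node 18955 (BT.node 18954 (BT.node 18953 (BT.leaf cJ18953) (BT.leaf cJ18954)) (BT.leaf cJ18955)) (BT.node 18956 (BT.leaf cJ18956) (BT.leaf cJ18957)))) (BT.node 18962 (BT.node 18960 (BT.node 18959 (BT.node 18958 (BT.leaf cJ18958) (BT.leaf cJ18959)) (BT.leaf cJ18960)) (BT.node 18961 (BT.leaf cJ18961) (BT.leaf cJ18962))) (BT.node 18965 (BT.node 18964 (BT.node 18963 (BT.leaf cJ18963) (BT.leaf cJ18964)) (BT.leaf cJ18965)) (BT.node 18966 (BT.leaf cJ18966) (BT.leaf cJ18967))))) (BT.node 18977 (BT.node 18972 (BT.node 18970 (BT.node 18969 (BT.node 18968 (BT.leaf cJ18968) (BT.leaf cJ18969)) (BT.leaf cJ18970)) (BT.node 18971 (BT.leaf cJ18971) (BT.leaf cJ18972))) (BT.node 18975 (BT.node 18974 (BT.node 18973 (BT.leaf cJ18973) (BT.leaf cJ18974)) (BT.leaf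 cJ18975)) (BT.node 18976 (BT.leaf cJ18976) (BT.leaf cJ18977)))) (BT.node 18982 (BT.node 18980 (BT.node 18979 (BT.node 18978 (BT.leaf cJ18978) (BT.leaf cJ18979)) (BT.leaf cJ18980)) (BT.node 18981 (BT.leaf cJ18981) (BT.leaf cJ18982))) (BT.node 18985 (BT.node 18984 (BT.node 18983 (BT.leaf cJ18983) (BT.leaf cJ18984)) (BT.leaf cJ18985)) (BT.node 18986 (BT.leaf cJ18986) (BT.leaf cJ18987))))))) (BT.node 19027 (BT.node 19007 (BT.node 18997 (BT.node 18992 (BT.node 18990 (BT.node 18989 (BT.node 18988 (BT.leaf cJ18988) (BT.leaf cJ18989)) (BT.leaf cJ18990)) (BT.node 18991 (BT.leaf cJ18991) (BT.leaf cJ18992))) (BT.node 18995 (BT.node 18994 (BT.node 18993 (BT.leaf cJ18993) (BT.leaf cJ18994)) (BT.leaf cJ18995)) (BT.node 18996 (BT.leaf cJ18996) (BT.leaf cJ18997)))) (BT.node 19002 (BT.node 19000 (BT.node 18999 (BT.node 18998 (BT.leaf cJ18998) (BT.leaf cJ18999)) (BT.leaf cJ19000)) (BT.node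 19001 (BT.leaf cJ19001) (BT.leaf cJ19002))) (BT.node 19005 (BT.node 19004 (BT.node 19003 (BT.leaf cJ19003) (BT.leaf cJ19004)) (BT.leaf cJ19005)) (BT.node 19006 (BT.leaf cJ19006) (BT.leaf cJ19007))))) (BT.node 19017 (BT.node 19012 (BT.node 19010 (BT.node 19009 (BT.node 19008 (BT.leaf cJ19008) (BT.leaf cJ19009)) (BT.leaf cJ19010)) (BT.node 19011 (BT.leaf cJ19011) (BT.leaf cJ19012))) (BT.node 19015 (BT.node 19014 (BT.node 19013 (BT.leaf cJ19013) (BT.leaf cJ19014)) (BT.leaf cJ19015)) (BT.node 19016 (BT.leaf cJ19016) (BT.leaf cJ19017)))) (BT.node 19022 (BT.node 19020 (BT.node 19019 (BT.node 19018 (BT.leaf cJ19018) (BT.leaf cJ19019)) (BT.leaf cJ19020)) (BT.node 19021 (BT.leaf cJ19021) (BT.leaf cJ19022))) (BT.node 19025 (BT.node 19024 (BT.node 19023 (BT.leaf cJ19023) (BT.leaf cJ19024)) (BT.leaf cJ19025)) (BT.node 19026 (BT.leaf cJ19026) (BT.leaf cJ19027)))))) (BT.node 19047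 (BT.node 19037 (BT.node 19032 (BT.node 19030 (BT.node 19029 (BT.node 19028 (BT.leaf cJ19028) (BT.leaf cJ19029)) (BT.leaf cJ19030)) (BT.node 19031 (BT.leaf cJ19031) (BT.leaf cJ19032))) (BT.node 19035 (BT.node 19034 (BT.node 19033 (BT.leaf cJ19033) (BT.leaf cJ19034)) (BT.leaf cJ19035)) (BT.node 19036 (BT.leaf cJ19036) (BT.leaf cJ19037)))) (BT.node 19042 (BT.node 19040 (BT.node 19039 (BT.node 19038 (BT.leaf cJ19038) (BT.leaf cJ19039)) (BT.leaf cJ19040)) (BT.node 19041 (BT.leaf cJ19041) (BT.leaf cJ19042))) (BT.node 19045 (BT.node 19044 (BT.node 19043 (BT.leaf cJ19043) (BT.leaf cJ19044)) (BT.leaf cJ19045)) (BT.node 19046 (BT.leaf cJ19046) (BT.leaf cJ19047))))) (BT.node 19057 (BT.node 19052 (BT.node 19050 (BT.node 19049 (BT.node 19048 (BT.leaf cJ19048) (BT.leaf cJ19049)) (BT.leaf cJ19050)) (BT.node 19051 (BT.leaf cJ19051) (BT.leaf cJ19052))) (BT.node 19055 (BT.node 19054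 (BT.node 19053 (BT.leaf cJ19053) (BT.leaf cJ19054)) (BT.leaf cJ19055)) (BT.node 19056 (BT.leaf cJ19056) (BT.leaf cJ19057)))) (BT.node 19062 (BT.node 19060 (BT.node 19059 (BT.node 19058 (BT.leaf cJ19058) (BT.leaf cJ19059)) (BT.leaf cJ19060)) (BT.node 19061 (BT.leaf cJ19061) (BT.leaf cJ19062))) (BT.node 19065 (BT.node 19064 (BT.node 19063 (BT.leaf cJ19063) (BT.leaf cJ19064)) (BT.leaf cJ19065)) (BT.node 19066 (BT.leaf cJ19066) (BT.leaf cJ19067))))))))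
noncomputable def colJT_118 : BT ℕ := (BT.node 19148 (BT.node 19108 (BT.node 19088 (BT.node 19078 (BT.node 19073 (BT.node 19070 (BT.node 19069 (BT.node 19068 (BT.leaf cJ19068) (BT.leaf cJ19069)) (BT.leaf cJ19070)) (BT.node 19072 (BT.node 19071 (BT.leaf cJ19071) (BT.leaf cJ19072)) (BT.leaf cJ19073))) (BT.node 19076 (BT.node 19075 (BT.node 19074 (BT.leaf cJ19074) (BT.leaf cJ19075)) (BT.leaf cJ19076)) (BT.node 19077 (BT.leaf cJ19077) (BT.leaf cJ19078)))) (BT.node 19083 (BT.node 19081 (BT.node 19080 (BT.node 19079 (BT.leaf cJ19079) (BT.leaf cJ19080)) (BT.leaf cJ19081)) (BT.node 19082 (BT.leaf cJ19082) (BT.leaf cJ19083))) (BT.node 19086 (BT.node 19085 (BT.node 19084 (BT.leaf cJ19084) (BT.leaf cJ19085)) (BT.leaf cJ19086)) (BT.node 19087 (BT.leaf cJ19087) (BT.leaf cJ19088))))) (BT.node 19098 (BT.node 19093 (BT.node 19091 (BT.node 19090 (BT.node 19089 (BT.leaf cJ19089) (BT.leaf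 cJ19090)) (BT.leaf cJ19091)) (BT.node 19092 (BT.leaf cJ19092) (BT.leaf cJ19093))) (BT.node 19096 (BT.node 19095 (BT.node 19094 (BT.leaf cJ19094) (BT.leaf cJ19095)) (BT.leaf cJ19096)) (BT.node 19097 (BT.leaf cJ19097) (BT.leaf cJ19098)))) (BT.node 19103 (BT.node 19101 (BT.node 19100 (BT.node 19099 (BT.leaf cJ19099) (BT.leaf cJ19100)) (BT.leaf cJ19101)) (BT.node 19102 (BT.leaf cJ19102) (BT.leaf cJ19103))) (BT.node 19106 (BT.node 19105 (BT.node 19104 (BT.leaf cJ19104) (BT.leaf cJ19105)) (BT.leaf cJ19106)) (BT.node 19107 (BT.leaf cJ19107) (BT.leaf cJ19108)))))) (BT.node 19128 (BT.node 19118 (BT.node 19113 (BT.node 19111 (BT.node 19110 (BT.node 19109 (BT.leaf cJ19109) (BT.leaf cJ19110)) (BT.leaf cJ19111)) (BT.node 19112 (BT.leaf cJ19112) (BT.leaf cJ19113))) (BT.node 19116 (BT.node 19115 (BT.node 19114 (BT.leaf cJ19114) (BT.leaf cJ19115)) (BT.leaf cJ19116)) (BT.node 19117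 (BT.leaf cJ19117) (BT.leaf cJ19118)))) (BT.node 19123 (BT.node 19121 (BT.node 19120 (BT.node 19119 (BT.leaf cJ19119) (BT.leaf cJ19120)) (BT.leaf cJ19121)) (BT.node 19122 (BT.leaf cJ19122) (BT.leaf cJ19123))) (BT.node 19126 (BT.node 19125 (BT.node 19124 (BT.leaf cJ19124) (BT.leaf cJ19125)) (BT.leaf cJ19126)) (BT.node 19127 (BT.leaf cJ19127) (BT.leaf cJ19128))))) (BT.node 19138 (BT.node 19133 (BT.node 19131 (BT.node 19130 (BT.node 19129 (BT.leaf cJ19129) (BT.leaf cJ19130)) (BT.leaf cJ19131)) (BT.node 19132 (BT.leaf cJ19132) (BT.leaf cJ19133))) (BT.node 19136 (BT.node 19135 (BT.node 19134 (BT.leaf cJ19134) (BT.leaf cJ19135)) (BT.leaf cJ19136)) (BT.node 19137 (BT.leaf cJ19137) (BT.leaf cJ19138)))) (BT.node 19143 (BT.node 19141 (BT.node 19140 (BT.node 19139 (BT.leaf cJ19139) (BT.leaf cJ19140)) (BT.leaf cJ19141)) (BT.node 19142 (BT.leaf cJ19142) (BT.leaf cJ19143))) (BT.node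 19146 (BT.node 19145 (BT.node 19144 (BT.leaf cJ19144) (BT.leaf cJ19145)) (BT.leaf cJ19146)) (BT.node 19147 (BT.leaf cJ19147) (BT.leaf cJ19148))))))) (BT.node 19189 (BT.node 19169 (BT.node 19159 (BT.node 19154 (BT.node 19151 (BT.node 19150 (BT.node 19149 (BT.leaf cJ19149) (BT.leaf cJ19150)) (BT.leaf cJ19151)) (BT.node 19153 (BT.node 19152 (BT.leaf cJ19152) (BT.leaf cJ19153)) (BT.leaf cJ19154))) (BT.node 19157 (BT.node 19156 (BT.node 19155 (BT.leaf cJ19155) (BT.leaf cJ19156)) (BT.leaf cJ19157)) (BT.node 19158 (BT.leaf cJ19158) (BT.leaf cJ19159)))) (BT.node 19164 (BT.node 19162 (BT.node 19161 (BT.node 19160 (BT.leaf cJ19160) (BT.leaf cJ19161)) (BT.leaf cJ19162)) (BT.node 19163 (BT.leaf cJ19163) (BT.leaf cJ19164))) (BT.node 19167 (BT.node 19166 (BT.node 19165 (BT.leaf cJ19165) (BT.leaf cJ19166)) (BT.leaf cJ19167)) (BT.node 19168 (BT.leaf cJ19168) (BT.leaf cJ19169)))))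 (BT.node 19179 (BT.node 19174 (BT.node 19172 (BT.node 19171 (BT.node 19170 (BT.leaf cJ19170) (BT.leaf cJ19171)) (BT.leaf cJ19172)) (BT.node 19173 (BT.leaf cJ19173) (BT.leaf cJ19174))) (BT.node 19177 (BT.node 19176 (BT.node 19175 (BT.leaf cJ19175) (BT.leaf cJ19176)) (BT.leaf cJ19177)) (BT.node 19178 (BT.leaf cJ19178) (BT.leaf cJ19179)))) (BT.node 19184 (BT.node 19182 (BT.node 19181 (BT.node 19180 (BT.leaf cJ19180) (BT.leaf cJ19181)) (BT.leaf cJ19182)) (BT.node 19183 (BT.leaf cJ19183) (BT.leaf cJ19184))) (BT.node 19187 (BT.node 19186 (BT.node 19185 (BT.leaf cJ19185) (BT.leaf cJ19186)) (BT.leaf cJ19187)) (BT.node 19188 (BT.leaf cJ19188) (BT.leaf cJ19189)))))) (BT.node 19209 (BT.node 19199 (BT.node 19194 (BT.node 19192 (BT.node 19191 (BT.node 19190 (BT.leaf cJ19190) (BT.leaf cJ19191)) (BT.leaf cJ19192)) (BT.node 19193 (BT.leaf cJ19193) (BT.leaf cJ19194))) (BT.node 19197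 (BT.node 19196 (BT.node 19195 (BT.leaf cJ19195) (BT.leaf cJ19196)) (BT.leaf cJ19197)) (BT.node 19198 (BT.leaf cJ19198) (BT.leaf cJ19199)))) (BT.node 19204 (BT.node 19202 (BT.node 19201 (BT.node 19200 (BT.leaf cJ19200) (BT.leaf cJ19201)) (BT.leaf cJ19202)) (BT.node 19203 (BT.leaf cJ19203) (BT.leaf cJ19204))) (BT.node 19207 (BT.node 19206 (BT.node 19205 (BT.leaf cJ19205) (BT.leaf cJ19206)) (BT.leaf cJ19207)) (BT.node 19208 (BT.leaf cJ19208) (BT.leaf cJ19209))))) (BT.node 19219 (BT.node 19214 (BT.node 19212 (BT.node 19211 (BT.node 19210 (BT.leaf cJ19210) (BT.leaf cJ19211)) (BT.leaf cJ19212)) (BT.node 19213 (BT.leaf cJ19213) (BT.leaf cJ19214))) (BT.node 19217 (BT.node 19216 (BT.node 19215 (BT.leaf cJ19215) (BT.leaf cJ19216)) (BT.leaf cJ19217)) (BT.node 19218 (BT.leaf cJ19218) (BT.leaf cJ19219)))) (BT.node 19224 (BT.node 19222 (BT.node 19221 (BT.node 19220 (BT.leaf cJ19220)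 (BT.leaf cJ19221)) (BT.leaf cJ19222)) (BT.node 19223 (BT.leaf cJ19223) (BT.leaf cJ19224))) (BT.node 19227 (BT.node 19226 (BT.node 19225 (BT.leaf cJ19225) (BT.leaf cJ19226)) (BT.leaf cJ19227)) (BT.node 19228 (BT.leaf cJ19228) (BT.leaf cJ19229))))))))
noncomputable def colJT_119 : BT ℕ := (BT.node 19310 (BT.node 19270 (BT.node 19250 (BT.node 19240 (BT.node 19235 (BT.node 19232 (BT.node 19231 (BT.node 19230 (BT.leaf cJ19230) (BT.leaf cJ19231)) (BT.leaf cJ19232)) (BT.node 19234 (BT.node 19233 (BT.leaf cJ19233) (BT.leaf cJ19234)) (BT.leaf cJ19235))) (BT.node 19238 (BT.node 19237 (BT.node 19236 (BT.leaf cJ19236) (BT.leaf cJ19237)) (BT.leaf cJ19238)) (BT.node 19239 (BT.leaf cJ19239) (BT.leaf cJ19240)))) (BT.node 19245 (BT.node 19243 (BT.node 19242 (BT.node 19241 (BT.leaf cJ19241) (BT.leaf cJ19242)) (BT.leaf cJ19243)) (BT.node 19244 (BT.leaf cJ19244) (BT.leaf cJ19245))) (BT.node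 19248 (BT.node 19247 (BT.node 19246 (BT.leaf cJ19246) (BT.leaf cJ19247)) (BT.leaf cJ19248)) (BT.node 19249 (BT.leaf cJ19249) (BT.leaf cJ19250))))) (BT.node 19260 (BT.node 19255 (BT.node 19253 (BT.node 19252 (BT.node 19251 (BT.leaf cJ19251) (BT.leaf cJ19252)) (BT.leaf cJ19253)) (BT.node 19254 (BT.leaf cJ19254) (BT.leaf cJ19255))) (BT.node 19258 (BT.node 19257 (BT.node 19256 (BT.leaf cJ19256) (BT.leaf cJ19257)) (BT.leaf cJ19258)) (BT.node 19259 (BT.leaf cJ19259) (BT.leaf cJ19260)))) (BT.node 19265 (BT.node 19263 (BT.node 19262 (BT.node 19261 (BT.leaf cJ19261) (BT.leaf cJ19262)) (BT.leaf cJ19263)) (BT.node 19264 (BT.leaf cJ19264) (BT.leaf cJ19265))) (BT.node 19268 (BT.node 19267 (BT.node 19266 (BT.leaf cJ19266) (BT.leaf cJ19267)) (BT.leaf cJ19268)) (BT.node 19269 (BT.leaf cJ19269) (BT.leaf cJ19270)))))) (BT.node 19290 (BT.node 19280 (BT.node 19275 (BT.node 19273 (BT.node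 19272 (BT.node 19271 (BT.leaf cJ19271) (BT.leaf cJ19272)) (BT.leaf cJ19273)) (BT.node 19274 (BT.leaf cJ19274) (BT.leaf cJ19275))) (BT.node 19278 (BT.node 19277 (BT.node 19276 (BT.leaf cJ19276) (BT.leaf cJ19277)) (BT.leaf cJ19278)) (BT.node 19279 (BT.leaf cJ19279) (BT.leaf cJ19280)))) (BT.node 19285 (BT.node 19283 (BT.node 19282 (BT.node 19281 (BT.leaf cJ19281) (BT.leaf cJ19282)) (BT.leaf cJ19283)) (BT.node 19284 (BT.leaf cJ19284) (BT.leaf cJ19285))) (BT.node 19288 (BT.node 19287 (BT.node 19286 (BT.leaf cJ19286) (BT.leaf cJ19287)) (BT.leaf cJ19288)) (BT.node 19289 (BT.leaf cJ19289) (BT.leaf cJ19290))))) (BT.node 19300 (BT.node 19295 (BT.node 19293 (BT.node 19292 (BT.node 19291 (BT.leaf cJ19291) (BT.leaf cJ19292)) (BT.leaf cJ19293)) (BT.node 19294 (BT.leaf cJ19294) (BT.leaf cJ19295))) (BT.node 19298 (BT.node 19297 (BT.node 19296 (BT.leaf cJ19296) (BT.leaf cJ19297)) (BT.leaf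 cJ19298)) (BT.node 19299 (BT.leaf cJ19299) (BT.leaf cJ19300)))) (BT.node 19305 (BT.node 19303 (BT.node 19302 (BT.node 19301 (BT.leaf cJ19301) (BT.leaf cJ19302)) (BT.leaf cJ19303)) (BT.node 19304 (BT.leaf cJ19304) (BT.leaf cJ19305))) (BT.node 19308 (BT.node 19307 (BT.node 19306 (BT.leaf cJ19306) (BT.leaf cJ19307)) (BT.leaf cJ19308)) (BT.node 19309 (BT.leaf cJ19309) (BT.leaf cJ19310))))))) (BT.node 19350 (BT.node 19330 (BT.node 19320 (BT.node 19315 (BT.node 19313 (BT.node 19312 (BT.node 19311 (BT.leaf cJ19311) (BT.leaf cJ19312)) (BT.leaf cJ19313)) (BT.node 19314 (BT.leaf cJ19314) (BT.leaf cJ19315))) (BT.node 19318 (BT.node 19317 (BT.node 19316 (BT.leaf cJ19316) (BT.leaf cJ19317)) (BT.leaf cJ19318)) (BT.node 19319 (BT.leaf cJ19319) (BT.leaf cJ19320)))) (BT.node 19325 (BT.node 19323 (BT.node 19322 (BT.node 19321 (BT.leaf cJ19321) (BT.leaf cJ19322)) (BT.leaf cJ19323)) (BT.node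 19324 (BT.leaf cJ19324) (BT.leaf cJ19325))) (BT.node 19328 (BT.node 19327 (BT.node 19326 (BT.leaf cJ19326) (BT.leaf cJ19327)) (BT.leaf cJ19328)) (BT.node 19329 (BT.leaf cJ19329) (BT.leaf cJ19330))))) (BT.node 19340 (BT.node 19335 (BT.node 19333 (BT.node 19332 (BT.node 19331 (BT.leaf cJ19331) (BT.leaf cJ19332)) (BT.leaf cJ19333)) (BT.node 19334 (BT.leaf cJ19334) (BT.leaf cJ19335))) (BT.node 19338 (BT.node 19337 (BT.node 19336 (BT.leaf cJ19336) (BT.leaf cJ19337)) (BT.leaf cJ19338)) (BT.node 19339 (BT.leaf cJ19339) (BT.leaf cJ19340)))) (BT.node 19345 (BT.node 19343 (BT.node 19342 (BT.node 19341 (BT.leaf cJ19341) (BT.leaf cJ19342)) (BT.leaf cJ19343)) (BT.node 19344 (BT.leaf cJ19344) (BT.leaf cJ19345))) (BT.node 19348 (BT.node 19347 (BT.node 19346 (BT.leaf cJ19346) (BT.leaf cJ19347)) (BT.leaf cJ19348)) (BT.node 19349 (BT.leaf cJ19349) (BT.leaf cJ19350)))))) (BT.node 19370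 (BT.node 19360 (BT.node 19355 (BT.node 19353 (BT.node 19352 (BT.node 19351 (BT.leaf cJ19351) (BT.leaf cJ19352)) (BT.leaf cJ19353)) (BT.node 19354 (BT.leaf cJ19354) (BT.leaf cJ19355))) (BT.node 19358 (BT.node 19357 (BT.node 19356 (BT.leaf cJ19356) (BT.leaf cJ19357)) (BT.leaf cJ19358)) (BT.node 19359 (BT.leaf cJ19359) (BT.leaf cJ19360)))) (BT.node 19365 (BT.node 19363 (BT.node 19362 (BT.node 19361 (BT.leaf cJ19361) (BT.leaf cJ19362)) (BT.leaf cJ19363)) (BT.node 19364 (BT.leaf cJ19364) (BT.leaf cJ19365))) (BT.node 19368 (BT.node 19367 (BT.node 19366 (BT.leaf cJ19366) (BT.leaf cJ19367)) (BT.leaf cJ19368)) (BT.node 19369 (BT.leaf cJ19369) (BT.leaf cJ19370))))) (BT.node 19380 (BT.node 19375 (BT.node 19373 (BT.node 19372 (BT.node 19371 (BT.leaf cJ19371) (BT.leaf cJ19372)) (BT.leaf cJ19373)) (BT.node 19374 (BT.leaf cJ19374) (BT.leaf cJ19375))) (BT.node 19378 (BT.node 19377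 (BT.node 19376 (BT.leaf cJ19376) (BT.leaf cJ19377)) (BT.leaf cJ19378)) (BT.node 19379 (BT.leaf cJ19379) (BT.leaf cJ19380)))) (BT.node 19385 (BT.node 19383 (BT.node 19382 (BT.node 19381 (BT.leaf cJ19381) (BT.leaf cJ19382)) (BT.leaf cJ19383)) (BT.node 19384 (BT.leaf cJ19384) (BT.leaf cJ19385))) (BT.node 19388 (BT.node 19387 (BT.node 19386 (BT.leaf cJ19386) (BT.leaf cJ19387)) (BT.leaf cJ19388)) (BT.node 19389 (BT.leaf cJ19389) (BT.leaf cJ19390))))))))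
noncomputable def colJT_120 : BT ℕ := (BT.node 19471 (BT.node 19431 (BT.node 19411 (BT.node 19401 (BT.node 19396 (BT.node 19393 (BT.node 19392 (BT.node 19391 (BT.leaf cJ19391) (BT.leaf cJ19392)) (BT.leaf cJ19393)) (BT.node 19395 (BT.node 19394 (BT.leaf cJ19394) (BT.leaf cJ19395)) (BT.leaf cJ19396))) (BT.node 19399 (BT.node 19398 (BT.node 19397 (BT.leaf cJ19397) (BT.leaf cJ19398)) (BT.leaf cJ19399)) (BT.node 19400 (BT.leaf cJ19400) (BT.leaf cJ19401)))) (BT.node 19406 (BT.node 19404 (BT.node 19403 (BT.node 19402 (BT.leaf cJ19402) (BT.leaf cJ19403)) (BT.leaf cJ19404)) (BT.node 19405 (BT.leaf cJ19405) (BT.leaf cJ19406))) (BT.node 19409 (BT.node 19408 (BT.node 19407 (BT.leaf cJ19407) (BT.leaf cJ19408)) (BT.leaf cJ19409)) (BT.node 19410 (BT.leaf cJ19410) (BT.leaf cJ19411))))) (BT.node 19421 (BT.node 19416 (BT.node 19414 (BT.node 19413 (BT.node 19412 (BT.leaf cJ19412) (BT.leaf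 cJ19413)) (BT.leaf cJ19414)) (BT.node 19415 (BT.leaf cJ19415) (BT.leaf cJ19416))) (BT.node 19419 (BT.node 19418 (BT.node 19417 (BT.leaf cJ19417) (BT.leaf cJ19418)) (BT.leaf cJ19419)) (BT.node 19420 (BT.leaf cJ19420) (BT.leaf cJ19421)))) (BT.node 19426 (BT.node 19424 (BT.node 19423 (BT.node 19422 (BT.leaf cJ19422) (BT.leaf cJ19423)) (BT.leaf cJ19424)) (BT.node 19425 (BT.leaf cJ19425) (BT.leaf cJ19426))) (BT.node 19429 (BT.node 19428 (BT.node 19427 (BT.leaf cJ19427) (BT.leaf cJ19428)) (BT.leaf cJ19429)) (BT.node 19430 (BT.leaf cJ19430) (BT.leaf cJ19431)))))) (BT.node 19451 (BT.node 19441 (BT.node 19436 (BT.node 19434 (BT.node 19433 (BT.node 19432 (BT.leaf cJ19432) (BT.leaf cJ19433)) (BT.leaf cJ19434)) (BT.node 19435 (BT.leaf cJ19435) (BT.leaf cJ19436))) (BT.node 19439 (BT.node 19438 (BT.node 19437 (BT.leaf cJ19437) (BT.leaf cJ19438)) (BT.leaf cJ19439)) (BT.node 19440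 (BT.leaf cJ19440) (BT.leaf cJ19441)))) (BT.node 19446 (BT.node 19444 (BT.node 19443 (BT.node 19442 (BT.leaf cJ19442) (BT.leaf cJ19443)) (BT.leaf cJ19444)) (BT.node 19445 (BT.leaf cJ19445) (BT.leaf cJ19446))) (BT.node 19449 (BT.node 19448 (BT.node 19447 (BT.leaf cJ19447) (BT.leaf cJ19448)) (BT.leaf cJ19449)) (BT.node 19450 (BT.leaf cJ19450) (BT.leaf cJ19451))))) (BT.node 19461 (BT.node 19456 (BT.node 19454 (BT.node 19453 (BT.node 19452 (BT.leaf cJ19452) (BT.leaf cJ19453)) (BT.leaf cJ19454)) (BT.node 19455 (BT.leaf cJ19455) (BT.leaf cJ19456))) (BT.node 19459 (BT.node 19458 (BT.node 19457 (BT.leaf cJ19457) (BT.leaf cJ19458)) (BT.leaf cJ19459)) (BT.node 19460 (BT.leaf cJ19460) (BT.leaf cJ19461)))) (BT.node 19466 (BT.node 19464 (BT.node 19463 (BT.node 19462 (BT.leaf cJ19462) (BT.leaf cJ19463)) (BT.leaf cJ19464)) (BT.node 19465 (BT.leaf cJ19465) (BT.leaf cJ19466))) (BT.node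 19469 (BT.node 19468 (BT.node 19467 (BT.leaf cJ19467) (BT.leaf cJ19468)) (BT.leaf cJ19469)) (BT.node 19470 (BT.leaf cJ19470) (BT.leaf cJ19471))))))) (BT.node 19512 (BT.node 19492 (BT.node 19482 (BT.node 19477 (BT.node 19474 (BT.node 19473 (BT.node 19472 (BT.leaf cJ19472) (BT.leaf cJ19473)) (BT.leaf cJ19474)) (BT.node 19476 (BT.node 19475 (BT.leaf cJ19475) (BT.leaf cJ19476)) (BT.leaf cJ19477))) (BT.node 19480 (BT.node 19479 (BT.node 19478 (BT.leaf cJ19478) (BT.leaf cJ19479)) (BT.leaf cJ19480)) (BT.node 19481 (BT.leaf cJ19481) (BT.leaf cJ19482)))) (BT.node 19487 (BT.node 19485 (BT.node 19484 (BT.node 19483 (BT.leaf cJ19483) (BT.leaf cJ19484)) (BT.leaf cJ19485)) (BT.node 19486 (BT.leaf cJ19486) (BT.leaf cJ19487))) (BT.node 19490 (BT.node 19489 (BT.node 19488 (BT.leaf cJ19488) (BT.leaf cJ19489)) (BT.leaf cJ19490)) (BT.node 19491 (BT.leaf cJ19491) (BT.leaf cJ19492)))))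 (BT.node 19502 (BT.node 19497 (BT.node 19495 (BT.node 19494 (BT.node 19493 (BT.leaf cJ19493) (BT.leaf cJ19494)) (BT.leaf cJ19495)) (BT.node 19496 (BT.leaf cJ19496) (BT.leaf cJ19497))) (BT.node 19500 (BT.node 19499 (BT.node 19498 (BT.leaf cJ19498) (BT.leaf cJ19499)) (BT.leaf cJ19500)) (BT.node 19501 (BT.leaf cJ19501) (BT.leaf cJ19502)))) (BT.node 19507 (BT.node 19505 (BT.node 19504 (BT.node 19503 (BT.leaf cJ19503) (BT.leaf cJ19504)) (BT.leaf cJ19505)) (BT.node 19506 (BT.leaf cJ19506) (BT.leaf cJ19507))) (BT.node 19510 (BT.node 19509 (BT.node 19508 (BT.leaf cJ19508) (BT.leaf cJ19509)) (BT.leaf cJ19510)) (BT.node 19511 (BT.leaf cJ19511) (BT.leaf cJ19512)))))) (BT.node 19532 (BT.node 19522 (BT.node 19517 (BT.node 19515 (BT.node 19514 (BT.node 19513 (BT.leaf cJ19513) (BT.leaf cJ19514)) (BT.leaf cJ19515)) (BT.node 19516 (BT.leaf cJ19516) (BT.leaf cJ19517))) (BT.node 19520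 (BT.node 19519 (BT.node 19518 (BT.leaf cJ19518) (BT.leaf cJ19519)) (BT.leaf cJ19520)) (BT.node 19521 (BT.leaf cJ19521) (BT.leaf cJ19522)))) (BT.node 19527 (BT.node 19525 (BT.node 19524 (BT.node 19523 (BT.leaf cJ19523) (BT.leaf cJ19524)) (BT.leaf cJ19525)) (BT.node 19526 (BT.leaf cJ19526) (BT.leaf cJ19527))) (BT.node 19530 (BT.node 19529 (BT.node 19528 (BT.leaf cJ19528) (BT.leaf cJ19529)) (BT.leaf cJ19530)) (BT.node 19531 (BT.leaf cJ19531) (BT.leaf cJ19532))))) (BT.node 19542 (BT.node 19537 (BT.node 19535 (BT.node 19534 (BT.node 19533 (BT.leaf cJ19533) (BT.leaf cJ19534)) (BT.leaf cJ19535)) (BT.node 19536 (BT.leaf cJ19536) (BT.leaf cJ19537))) (BT.node 19540 (BT.node 19539 (BT.node 19538 (BT.leaf cJ19538) (BT.leaf cJ19539)) (BT.leaf cJ19540)) (BT.node 19541 (BT.leaf cJ19541) (BT.leaf cJ19542)))) (BT.node 19547 (BT.node 19545 (BT.node 19544 (BT.node 19543 (BT.leaf cJ19543)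 (BT.leaf cJ19544)) (BT.leaf cJ19545)) (BT.node 19546 (BT.leaf cJ19546) (BT.leaf cJ19547))) (BT.node 19550 (BT.node 19549 (BT.node 19548 (BT.leaf cJ19548) (BT.leaf cJ19549)) (BT.leaf cJ19550)) (BT.node 19551 (BT.leaf cJ19551) (BT.leaf cJ19552))))))))
noncomputable def colJT_121 : BT ℕ := (BT.node 19633 (BT.node 19593 (BT.node 19573 (BT.node 19563 (BT.node 19558 (BT.node 19555 (BT.node 19554 (BT.node 19553 (BT.leaf cJ19553) (BT.leaf cJ19554)) (BT.leaf cJ19555)) (BT.node 19557 (BT.node 19556 (BT.leaf cJ19556) (BT.leaf cJ19557)) (BT.leaf cJ19558))) (BT.node 19561 (BT.node 19560 (BT.node 19559 (BT.leaf cJ19559) (BT.leaf cJ19560)) (BT.leaf cJ19561)) (BT.node 19562 (BT.leaf cJ19562) (BT.leaf cJ19563)))) (BT.node 19568 (BT.node 19566 (BT.node 19565 (BT.node 19564 (BT.leaf cJ19564) (BT.leaf cJ19565)) (BT.leaf cJ19566)) (BT.node 19567 (BT.leaf cJ19567) (BT.leaf cJ19568))) (BT.node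 19571 (BT.node 19570 (BT.node 19569 (BT.leaf cJ19569) (BT.leaf cJ19570)) (BT.leaf cJ19571)) (BT.node 19572 (BT.leaf cJ19572) (BT.leaf cJ19573))))) (BT.node 19583 (BT.node 19578 (BT.node 19576 (BT.node 19575 (BT.node 19574 (BT.leaf cJ19574) (BT.leaf cJ19575)) (BT.leaf cJ19576)) (BT.node 19577 (BT.leaf cJ19577) (BT.leaf cJ19578))) (BT.node 19581 (BT.node 19580 (BT.node 19579 (BT.leaf cJ19579) (BT.leaf cJ19580)) (BT.leaf cJ19581)) (BT.node 19582 (BT.leaf cJ19582) (BT.leaf cJ19583)))) (BT.node 19588 (BT.node 19586 (BT.node 19585 (BT.node 19584 (BT.leaf cJ19584) (BT.leaf cJ19585)) (BT.leaf cJ19586)) (BT.node 19587 (BT.leaf cJ19587) (BT.leaf cJ19588))) (BT.node 19591 (BT.node 19590 (BT.node 19589 (BT.leaf cJ19589) (BT.leaf cJ19590)) (BT.leaf cJ19591)) (BT.node 19592 (BT.leaf cJ19592) (BT.leaf cJ19593)))))) (BT.node 19613 (BT.node 19603 (BT.node 19598 (BT.node 19596 (BT.node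 19595 (BT.node 19594 (BT.leaf cJ19594) (BT.leaf cJ19595)) (BT.leaf cJ19596)) (BT.node 19597 (BT.leaf cJ19597) (BT.leaf cJ19598))) (BT.node 19601 (BT.node 19600 (BT.node 19599 (BT.leaf cJ19599) (BT.leaf cJ19600)) (BT.leaf cJ19601)) (BT.node 19602 (BT.leaf cJ19602) (BT.leaf cJ19603)))) (BT.node 19608 (BT.node 19606 (BT.node 19605 (BT.node 19604 (BT.leaf cJ19604) (BT.leaf cJ19605)) (BT.leaf cJ19606)) (BT.node 19607 (BT.leaf cJ19607) (BT.leaf cJ19608))) (BT.node 19611 (BT.node 19610 (BT.node 19609 (BT.leaf cJ19609) (BT.leaf cJ19610)) (BT.leaf cJ19611)) (BT.node 19612 (BT.leaf cJ19612) (BT.leaf cJ19613))))) (BT.node 19623 (BT.node 19618 (BT.node 19616 (BT.node 19615 (BT.node 19614 (BT.leaf cJ19614) (BT.leaf cJ19615)) (BT.leaf cJ19616)) (BT.node 19617 (BT.leaf cJ19617) (BT.leaf cJ19618))) (BT.node 19621 (BT.node 19620 (BT.node 19619 (BT.leaf cJ19619) (BT.leaf cJ19620)) (BT.leaf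 cJ19621)) (BT.node 19622 (BT.leaf cJ19622) (BT.leaf cJ19623)))) (BT.node 19628 (BT.node 19626 (BT.node 19625 (BT.node 19624 (BT.leaf cJ19624) (BT.leaf cJ19625)) (BT.leaf cJ19626)) (BT.node 19627 (BT.leaf cJ19627) (BT.leaf cJ19628))) (BT.node 19631 (BT.node 19630 (BT.node 19629 (BT.leaf cJ19629) (BT.leaf cJ19630)) (BT.leaf cJ19631)) (BT.node 19632 (BT.leaf cJ19632) (BT.leaf cJ19633))))))) (BT.node 19673 (BT.node 19653 (BT.node 19643 (BT.node 19638 (BT.node 19636 (BT.node 19635 (BT.node 19634 (BT.leaf cJ19634) (BT.leaf cJ19635)) (BT.leaf cJ19636)) (BT.node 19637 (BT.leaf cJ19637) (BT.leaf cJ19638))) (BT.node 19641 (BT.node 19640 (BT.node 19639 (BT.leaf cJ19639) (BT.leaf cJ19640)) (BT.leaf cJ19641)) (BT.node 19642 (BT.leaf cJ19642) (BT.leaf cJ19643)))) (BT.node 19648 (BT.node 19646 (BT.node 19645 (BT.node 19644 (BT.leaf cJ19644) (BT.leaf cJ19645)) (BT.leaf cJ19646)) (BT.node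 19647 (BT.leaf cJ19647) (BT.leaf cJ19648))) (BT.node 19651 (BT.node 19650 (BT.node 19649 (BT.leaf cJ19649) (BT.leaf cJ19650)) (BT.leaf cJ19651)) (BT.node 19652 (BT.leaf cJ19652) (BT.leaf cJ19653))))) (BT.node 19663 (BT.node 19658 (BT.node 19656 (BT.node 19655 (BT.node 19654 (BT.leaf cJ19654) (BT.leaf cJ19655)) (BT.leaf cJ19656)) (BT.node 19657 (BT.leaf cJ19657) (BT.leaf cJ19658))) (BT.node 19661 (BT.node 19660 (BT.node 19659 (BT.leaf cJ19659) (BT.leaf cJ19660)) (BT.leaf cJ19661)) (BT.node 19662 (BT.leaf cJ19662) (BT.leaf cJ19663)))) (BT.node 19668 (BT.node 19666 (BT.node 19665 (BT.node 19664 (BT.leaf cJ19664) (BT.leaf cJ19665)) (BT.leaf cJ19666)) (BT.node 19667 (BT.leaf cJ19667) (BT.leaf cJ19668))) (BT.node 19671 (BT.node 19670 (BT.node 19669 (BT.leaf cJ19669) (BT.leaf cJ19670)) (BT.leaf cJ19671)) (BT.node 19672 (BT.leaf cJ19672) (BT.leaf cJ19673)))))) (BT.node 19693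 (BT.node 19683 (BT.node 19678 (BT.node 19676 (BT.node 19675 (BT.node 19674 (BT.leaf cJ19674) (BT.leaf cJ19675)) (BT.leaf cJ19676)) (BT.node 19677 (BT.leaf cJ19677) (BT.leaf cJ19678))) (BT.node 19681 (BT.node 19680 (BT.node 19679 (BT.leaf cJ19679) (BT.leaf cJ19680)) (BT.leaf cJ19681)) (BT.node 19682 (BT.leaf cJ19682) (BT.leaf cJ19683)))) (BT.node 19688 (BT.node 19686 (BT.node 19685 (BT.node 19684 (BT.leaf cJ19684) (BT.leaf cJ19685)) (BT.leaf cJ19686)) (BT.node 19687 (BT.leaf cJ19687) (BT.leaf cJ19688))) (BT.node 19691 (BT.node 19690 (BT.node 19689 (BT.leaf cJ19689) (BT.leaf cJ19690)) (BT.leaf cJ19691)) (BT.node 19692 (BT.leaf cJ19692) (BT.leaf cJ19693))))) (BT.node 19703 (BT.node 19698 (BT.node 19696 (BT.node 19695 (BT.node 19694 (BT.leaf cJ19694) (BT.leaf cJ19695)) (BT.leaf cJ19696)) (BT.node 19697 (BT.leaf cJ19697) (BT.leaf cJ19698))) (BT.node 19701 (BT.node 19700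 (BT.node 19699 (BT.leaf cJ19699) (BT.leaf cJ19700)) (BT.leaf cJ19701)) (BT.node 19702 (BT.leaf cJ19702) (BT.leaf cJ19703)))) (BT.node 19708 (BT.node 19706 (BT.node 19705 (BT.node 19704 (BT.leaf cJ19704) (BT.leaf cJ19705)) (BT.leaf cJ19706)) (BT.node 19707 (BT.leaf cJ19707) (BT.leaf cJ19708))) (BT.node 19711 (BT.node 19710 (BT.node 19709 (BT.leaf cJ19709) (BT.leaf cJ19710)) (BT.leaf cJ19711)) (BT.node 19712 (BT.leaf cJ19712) (BT.leaf cJ19713))))))))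
noncomputable def colJT_122 : BT ℕ := (BT.node 19794 (BT.node 19754 (BT.node 19734 (BT.node 19724 (BT.node 19719 (BT.node 19716 (BT.node 19715 (BT.node 19714 (BT.leaf cJ19714) (BT.leaf cJ19715)) (BT.leaf cJ19716)) (BT.node 19718 (BT.node 19717 (BT.leaf cJ19717) (BT.leaf cJ19718)) (BT.leaf cJ19719))) (BT.node 19722 (BT.node 19721 (BT.node 19720 (BT.leaf cJ19720) (BT.leaf cJ19721)) (BT.leaf cJ19722)) (BT.node 19723 (BT.leaf cJ19723) (BT.leaf cJ19724)))) (BT.node 19729 (BT.node 19727 (BT.node 19726 (BT.node 19725 (BT.leaf cJ19725) (BT.leaf cJ19726)) (BT.leaf cJ19727)) (BT.node 19728 (BT.leaf cJ19728) (BT.leaf cJ19729))) (BT.node 19732 (BT.node 19731 (BT.node 19730 (BT.leaf cJ19730) (BT.leaf cJ19731)) (BT.leaf cJ19732)) (BT.node 19733 (BT.leaf cJ19733) (BT.leaf cJ19734))))) (BT.node 19744 (BT.node 19739 (BT.node 19737 (BT.node 19736 (BT.node 19735 (BT.leaf cJ19735) (BT.leaf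 cJ19736)) (BT.leaf cJ19737)) (BT.node 19738 (BT.leaf cJ19738) (BT.leaf cJ19739))) (BT.node 19742 (BT.node 19741 (BT.node 19740 (BT.leaf cJ19740) (BT.leaf cJ19741)) (BT.leaf cJ19742)) (BT.node 19743 (BT.leaf cJ19743) (BT.leaf cJ19744)))) (BT.node 19749 (BT.node 19747 (BT.node 19746 (BT.node 19745 (BT.leaf cJ19745) (BT.leaf cJ19746)) (BT.leaf cJ19747)) (BT.node 19748 (BT.leaf cJ19748) (BT.leaf cJ19749))) (BT.node 19752 (BT.node 19751 (BT.node 19750 (BT.leaf cJ19750) (BT.leaf cJ19751)) (BT.leaf cJ19752)) (BT.node 19753 (BT.leaf cJ19753) (BT.leaf cJ19754)))))) (BT.node 19774 (BT.node 19764 (BT.node 19759 (BT.node 19757 (BT.node 19756 (BT.node 19755 (BT.leaf cJ19755) (BT.leaf cJ19756)) (BT.leaf cJ19757)) (BT.node 19758 (BT.leaf cJ19758) (BT.leaf cJ19759))) (BT.node 19762 (BT.node 19761 (BT.node 19760 (BT.leaf cJ19760) (BT.leaf cJ19761)) (BT.leaf cJ19762)) (BT.node 19763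 (BT.leaf cJ19763) (BT.leaf cJ19764)))) (BT.node 19769 (BT.node 19767 (BT.node 19766 (BT.node 19765 (BT.leaf cJ19765) (BT.leaf cJ19766)) (BT.leaf cJ19767)) (BT.node 19768 (BT.leaf cJ19768) (BT.leaf cJ19769))) (BT.node 19772 (BT.node 19771 (BT.node 19770 (BT.leaf cJ19770) (BT.leaf cJ19771)) (BT.leaf cJ19772)) (BT.node 19773 (BT.leaf cJ19773) (BT.leaf cJ19774))))) (BT.node 19784 (BT.node 19779 (BT.node 19777 (BT.node 19776 (BT.node 19775 (BT.leaf cJ19775) (BT.leaf cJ19776)) (BT.leaf cJ19777)) (BT.node 19778 (BT.leaf cJ19778) (BT.leaf cJ19779))) (BT.node 19782 (BT.node 19781 (BT.node 19780 (BT.leaf cJ19780) (BT.leaf cJ19781)) (BT.leaf cJ19782)) (BT.node 19783 (BT.leaf cJ19783) (BT.leaf cJ19784)))) (BT.node 19789 (BT.node 19787 (BT.node 19786 (BT.node 19785 (BT.leaf cJ19785) (BT.leaf cJ19786)) (BT.leaf cJ19787)) (BT.node 19788 (BT.leaf cJ19788) (BT.leaf cJ19789))) (BT.node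 19792 (BT.node 19791 (BT.node 19790 (BT.leaf cJ19790) (BT.leaf cJ19791)) (BT.leaf cJ19792)) (BT.node 19793 (BT.leaf cJ19793) (BT.leaf cJ19794))))))) (BT.node 19835 (BT.node 19815 (BT.node 19805 (BT.node 19800 (BT.node 19797 (BT.node 19796 (BT.node 19795 (BT.leaf cJ19795) (BT.leaf cJ19796)) (BT.leaf cJ19797)) (BT.node 19799 (BT.node 19798 (BT.leaf cJ19798) (BT.leaf cJ19799)) (BT.leaf cJ19800))) (BT.node 19803 (BT.node 19802 (BT.node 19801 (BT.leaf cJ19801) (BT.leaf cJ19802)) (BT.leaf cJ19803)) (BT.node 19804 (BT.leaf cJ19804) (BT.leaf cJ19805)))) (BT.node 19810 (BT.node 19808 (BT.node 19807 (BT.node 19806 (BT.leaf cJ19806) (BT.leaf cJ19807)) (BT.leaf cJ19808)) (BT.node 19809 (BT.leaf cJ19809) (BT.leaf cJ19810))) (BT.node 19813 (BT.node 19812 (BT.node 19811 (BT.leaf cJ19811) (BT.leaf cJ19812)) (BT.leaf cJ19813)) (BT.node 19814 (BT.leaf cJ19814) (BT.leaf cJ19815)))))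 (BT.node 19825 (BT.node 19820 (BT.node 19818 (BT.node 19817 (BT.node 19816 (BT.leaf cJ19816) (BT.leaf cJ19817)) (BT.leaf cJ19818)) (BT.node 19819 (BT.leaf cJ19819) (BT.leaf cJ19820))) (BT.node 19823 (BT.node 19822 (BT.node 19821 (BT.leaf cJ19821) (BT.leaf cJ19822)) (BT.leaf cJ19823)) (BT.node 19824 (BT.leaf cJ19824) (BT.leaf cJ19825)))) (BT.node 19830 (BT.node 19828 (BT.node 19827 (BT.node 19826 (BT.leaf cJ19826) (BT.leaf cJ19827)) (BT.leaf cJ19828)) (BT.node 19829 (BT.leaf cJ19829) (BT.leaf cJ19830))) (BT.node 19833 (BT.node 19832 (BT.node 19831 (BT.leaf cJ19831) (BT.leaf cJ19832)) (BT.leaf cJ19833)) (BT.node 19834 (BT.leaf cJ19834) (BT.leaf cJ19835)))))) (BT.node 19855 (BT.node 19845 (BT.node 19840 (BT.node 19838 (BT.node 19837 (BT.node 19836 (BT.leaf cJ19836) (BT.leaf cJ19837)) (BT.leaf cJ19838)) (BT.node 19839 (BT.leaf cJ19839) (BT.leaf cJ19840))) (BT.node 19843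 (BT.node 19842 (BT.node 19841 (BT.leaf cJ19841) (BT.leaf cJ19842)) (BT.leaf cJ19843)) (BT.node 19844 (BT.leaf cJ19844) (BT.leaf cJ19845)))) (BT.node 19850 (BT.node 19848 (BT.node 19847 (BT.node 19846 (BT.leaf cJ19846) (BT.leaf cJ19847)) (BT.leaf cJ19848)) (BT.node 19849 (BT.leaf cJ19849) (BT.leaf cJ19850))) (BT.node 19853 (BT.node 19852 (BT.node 19851 (BT.leaf cJ19851) (BT.leaf cJ19852)) (BT.leaf cJ19853)) (BT.node 19854 (BT.leaf cJ19854) (BT.leaf cJ19855))))) (BT.node 19865 (BT.node 19860 (BT.node 19858 (BT.node 19857 (BT.node 19856 (BT.leaf cJ19856) (BT.leaf cJ19857)) (BT.leaf cJ19858)) (BT.node 19859 (BT.leaf cJ19859) (BT.leaf cJ19860))) (BT.node 19863 (BT.node 19862 (BT.node 19861 (BT.leaf cJ19861) (BT.leaf cJ19862)) (BT.leaf cJ19863)) (BT.node 19864 (BT.leaf cJ19864) (BT.leaf cJ19865)))) (BT.node 19870 (BT.node 19868 (BT.node 19867 (BT.node 19866 (BT.leaf cJ19866)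 (BT.leaf cJ19867)) (BT.leaf cJ19868)) (BT.node 19869 (BT.leaf cJ19869) (BT.leaf cJ19870))) (BT.node 19873 (BT.node 19872 (BT.node 19871 (BT.leaf cJ19871) (BT.leaf cJ19872)) (BT.leaf cJ19873)) (BT.node 19874 (BT.leaf cJ19874) (BT.leaf cJ19875))))))))
noncomputable def colJT_123 : BT ℕ := (BT.node 19956 (BT.node 19916 (BT.node 19896 (BT.node 19886 (BT.node 19881 (BT.node 19878 (BT.node 19877 (BT.node 19876 (BT.leaf cJ19876) (BT.leaf cJ19877)) (BT.leaf cJ19878)) (BT.node 19880 (BT.node 19879 (BT.leaf cJ19879) (BT.leaf cJ19880)) (BT.leaf cJ19881))) (BT.node 19884 (BT.node 19883 (BT.node 19882 (BT.leaf cJ19882) (BT.leaf cJ19883)) (BT.leaf cJ19884)) (BT.node 19885 (BT.leaf cJ19885) (BT.leaf cJ19886)))) (BT.node 19891 (BT.node 19889 (BT.node 19888 (BT.node 19887 (BT.leaf cJ19887) (BT.leaf cJ19888)) (BT.leaf cJ19889)) (BT.node 19890 (BT.leaf cJ19890) (BT.leaf cJ19891))) (BT.node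 19894 (BT.node 19893 (BT.node 19892 (BT.leaf cJ19892) (BT.leaf cJ19893)) (BT.leaf cJ19894)) (BT.node 19895 (BT.leaf cJ19895) (BT.leaf cJ19896))))) (BT.node 19906 (BT.node 19901 (BT.node 19899 (BT.node 19898 (BT.node 19897 (BT.leaf cJ19897) (BT.leaf cJ19898)) (BT.leaf cJ19899)) (BT.node 19900 (BT.leaf cJ19900) (BT.leaf cJ19901))) (BT.node 19904 (BT.node 19903 (BT.node 19902 (BT.leaf cJ19902) (BT.leaf cJ19903)) (BT.leaf cJ19904)) (BT.node 19905 (BT.leaf cJ19905) (BT.leaf cJ19906)))) (BT.node 19911 (BT.node 19909 (BT.node 19908 (BT.node 19907 (BT.leaf cJ19907) (BT.leaf cJ19908)) (BT.leaf cJ19909)) (BT.node 19910 (BT.leaf cJ19910) (BT.leaf cJ19911))) (BT.node 19914 (BT.node 19913 (BT.node 19912 (BT.leaf cJ19912) (BT.leaf cJ19913)) (BT.leaf cJ19914)) (BT.node 19915 (BT.leaf cJ19915) (BT.leaf cJ19916)))))) (BT.node 19936 (BT.node 19926 (BT.node 19921 (BT.node 19919 (BT.node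 19918 (BT.node 19917 (BT.leaf cJ19917) (BT.leaf cJ19918)) (BT.leaf cJ19919)) (BT.node 19920 (BT.leaf cJ19920) (BT.leaf cJ19921))) (BT.node 19924 (BT.node 19923 (BT.node 19922 (BT.leaf cJ19922) (BT.leaf cJ19923)) (BT.leaf cJ19924)) (BT.node 19925 (BT.leaf cJ19925) (BT.leaf cJ19926)))) (BT.node 19931 (BT.node 19929 (BT.node 19928 (BT.node 19927 (BT.leaf cJ19927) (BT.leaf cJ19928)) (BT.leaf cJ19929)) (BT.node 19930 (BT.leaf cJ19930) (BT.leaf cJ19931))) (BT.node 19934 (BT.node 19933 (BT.node 19932 (BT.leaf cJ19932) (BT.leaf cJ19933)) (BT.leaf cJ19934)) (BT.node 19935 (BT.leaf cJ19935) (BT.leaf cJ19936))))) (BT.node 19946 (BT.node 19941 (BT.node 19939 (BT.node 19938 (BT.node 19937 (BT.leaf cJ19937) (BT.leaf cJ19938)) (BT.leaf cJ19939)) (BT.node 19940 (BT.leaf cJ19940) (BT.leaf cJ19941))) (BT.node 19944 (BT.node 19943 (BT.node 19942 (BT.leaf cJ19942) (BT.leaf cJ19943)) (BT.leaf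 cJ19944)) (BT.node 19945 (BT.leaf cJ19945) (BT.leaf cJ19946)))) (BT.node 19951 (BT.node 19949 (BT.node 19948 (BT.node 19947 (BT.leaf cJ19947) (BT.leaf cJ19948)) (BT.leaf cJ19949)) (BT.node 19950 (BT.leaf cJ19950) (BT.leaf cJ19951))) (BT.node 19954 (BT.node 19953 (BT.node 19952 (BT.leaf cJ19952) (BT.leaf cJ19953)) (BT.leaf cJ19954)) (BT.node 19955 (BT.leaf cJ19955) (BT.leaf cJ19956))))))) (BT.node 19996 (BT.node 19976 (BT.node 19966 (BT.node 19961 (BT.node 19959 (BT.node 19958 (BT.node 19957 (BT.leaf cJ19957) (BT.leaf cJ19958)) (BT.leaf cJ19959)) (BT.node 19960 (BT.leaf cJ19960) (BT.leaf cJ19961))) (BT.node 19964 (BT.node 19963 (BT.node 19962 (BT.leaf cJ19962) (BT.leaf cJ19963)) (BT.leaf cJ19964)) (BT.node 19965 (BT.leaf cJ19965) (BT.leaf cJ19966)))) (BT.node 19971 (BT.node 19969 (BT.node 19968 (BT.node 19967 (BT.leaf cJ19967) (BT.leaf cJ19968)) (BT.leaf cJ19969)) (BT.node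 19970 (BT.leaf cJ19970) (BT.leaf cJ19971))) (BT.node 19974 (BT.node 19973 (BT.node 19972 (BT.leaf cJ19972) (BT.leaf cJ19973)) (BT.leaf cJ19974)) (BT.node 19975 (BT.leaf cJ19975) (BT.leaf cJ19976))))) (BT.node 19986 (BT.node 19981 (BT.node 19979 (BT.node 19978 (BT.node 19977 (BT.leaf cJ19977) (BT.leaf cJ19978)) (BT.leaf cJ19979)) (BT.node 19980 (BT.leaf cJ19980) (BT.leaf cJ19981))) (BT.node 19984 (BT.node 19983 (BT.node 19982 (BT.leaf cJ19982) (BT.leaf cJ19983)) (BT.leaf cJ19984)) (BT.node 19985 (BT.leaf cJ19985) (BT.leaf cJ19986)))) (BT.node 19991 (BT.node 19989 (BT.node 19988 (BT.node 19987 (BT.leaf cJ19987) (BT.leaf cJ19988)) (BT.leaf cJ19989)) (BT.node 19990 (BT.leaf cJ19990) (BT.leaf cJ19991))) (BT.node 19994 (BT.node 19993 (BT.node 19992 (BT.leaf cJ19992) (BT.leaf cJ19993)) (BT.leaf cJ19994)) (BT.node 19995 (BT.leaf cJ19995) (BT.leaf cJ19996)))))) (BT.node 20016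 (BT.node 20006 (BT.node 20001 (BT.node 19999 (BT.node 19998 (BT.node 19997 (BT.leaf cJ19997) (BT.leaf cJ19998)) (BT.leaf cJ19999)) (BT.node 20000 (BT.leaf cJ20000) (BT.leaf cJ20001))) (BT.node 20004 (BT.node 20003 (BT.node 20002 (BT.leaf cJ20002) (BT.leaf cJ20003)) (BT.leaf cJ20004)) (BT.node 20005 (BT.leaf cJ20005) (BT.leaf cJ20006)))) (BT.node 20011 (BT.node 20009 (BT.node 20008 (BT.node 20007 (BT.leaf cJ20007) (BT.leaf cJ20008)) (BT.leaf cJ20009)) (BT.node 20010 (BT.leaf cJ20010) (BT.leaf cJ20011))) (BT.node 20014 (BT.node 20013 (BT.node 20012 (BT.leaf cJ20012) (BT.leaf cJ20013)) (BT.leaf cJ20014)) (BT.node 20015 (BT.leaf cJ20015) (BT.leaf cJ20016))))) (BT.node 20026 (BT.node 20021 (BT.node 20019 (BT.node 20018 (BT.node 20017 (BT.leaf cJ20017) (BT.leaf cJ20018)) (BT.leaf cJ20019)) (BT.node 20020 (BT.leaf cJ20020) (BT.leaf cJ20021))) (BT.node 20024 (BT.node 20023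 (BT.node 20022 (BT.leaf cJ20022) (BT.leaf cJ20023)) (BT.leaf cJ20024)) (BT.node 20025 (BT.leaf cJ20025) (BT.leaf cJ20026)))) (BT.node 20031 (BT.node 20029 (BT.node 20028 (BT.node 20027 (BT.leaf cJ20027) (BT.leaf cJ20028)) (BT.leaf cJ20029)) (BT.node 20030 (BT.leaf cJ20030) (BT.leaf cJ20031))) (BT.node 20034 (BT.node 20033 (BT.node 20032 (BT.leaf cJ20032) (BT.leaf cJ20033)) (BT.leaf cJ20034)) (BT.node 20035 (BT.leaf cJ20035) (BT.leaf cJ20036))))))))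
noncomputable def colJT_124 : BT ℕ := (BT.node 20117 (BT.node 20077 (BT.node 20057 (BT.node 20047 (BT.node 20042 (BT.node 20039 (BT.node 20038 (BT.node 20037 (BT.leaf cJ20037) (BT.leaf cJ20038)) (BT.leaf cJ20039)) (BT.node 20041 (BT.node 20040 (BT.leaf cJ20040) (BT.leaf cJ20041)) (BT.leaf cJ20042))) (BT.node 20045 (BT.node 20044 (BT.node 20043 (BT.leaf cJ20043) (BT.leaf cJ20044)) (BT.leaf cJ20045)) (BT.node 20046 (BT.leaf cJ20046) (BT.leaf cJ20047)))) (BT.node 20052 (BT.node 20050 (BT.node 20049 (BT.node 20048 (BT.leaf cJ20048) (BT.leaf cJ20049)) (BT.leaf cJ20050)) (BT.node 20051 (BT.leaf cJ20051) (BT.leaf cJ20052))) (BT.node 20055 (BT.node 20054 (BT.node 20053 (BT.leaf cJ20053) (BT.leaf cJ20054)) (BT.leaf cJ20055)) (BT.node 20056 (BT.leaf cJ20056) (BT.leaf cJ20057))))) (BT.node 20067 (BT.node 20062 (BT.node 20060 (BT.node 20059 (BT.node 20058 (BT.leaf cJ20058) (BT.leaf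 cJ20059)) (BT.leaf cJ20060)) (BT.node 20061 (BT.leaf cJ20061) (BT.leaf cJ20062))) (BT.node 20065 (BT.node 20064 (BT.node 20063 (BT.leaf cJ20063) (BT.leaf cJ20064)) (BT.leaf cJ20065)) (BT.node 20066 (BT.leaf cJ20066) (BT.leaf cJ20067)))) (BT.node 20072 (BT.node 20070 (BT.node 20069 (BT.node 20068 (BT.leaf cJ20068) (BT.leaf cJ20069)) (BT.leaf cJ20070)) (BT.node 20071 (BT.leaf cJ20071) (BT.leaf cJ20072))) (BT.node 20075 (BT.node 20074 (BT.node 20073 (BT.leaf cJ20073) (BT.leaf cJ20074)) (BT.leaf cJ20075)) (BT.node 20076 (BT.leaf cJ20076) (BT.leaf cJ20077)))))) (BT.node 20097 (BT.node 20087 (BT.node 20082 (BT.node 20080 (BT.node 20079 (BT.node 20078 (BT.leaf cJ20078) (BT.leaf cJ20079)) (BT.leaf cJ20080)) (BT.node 20081 (BT.leaf cJ20081) (BT.leaf cJ20082))) (BT.node 20085 (BT.node 20084 (BT.node 20083 (BT.leaf cJ20083) (BT.leaf cJ20084)) (BT.leaf cJ20085)) (BT.node 20086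 (BT.leaf cJ20086) (BT.leaf cJ20087)))) (BT.node 20092 (BT.node 20090 (BT.node 20089 (BT.node 20088 (BT.leaf cJ20088) (BT.leaf cJ20089)) (BT.leaf cJ20090)) (BT.node 20091 (BT.leaf cJ20091) (BT.leaf cJ20092))) (BT.node 20095 (BT.node 20094 (BT.node 20093 (BT.leaf cJ20093) (BT.leaf cJ20094)) (BT.leaf cJ20095)) (BT.node 20096 (BT.leaf cJ20096) (BT.leaf cJ20097))))) (BT.node 20107 (BT.node 20102 (BT.node 20100 (BT.node 20099 (BT.node 20098 (BT.leaf cJ20098) (BT.leaf cJ20099)) (BT.leaf cJ20100)) (BT.node 20101 (BT.leaf cJ20101) (BT.leaf cJ20102))) (BT.node 20105 (BT.node 20104 (BT.node 20103 (BT.leaf cJ20103) (BT.leaf cJ20104)) (BT.leaf cJ20105)) (BT.node 20106 (BT.leaf cJ20106) (BT.leaf cJ20107)))) (BT.node 20112 (BT.node 20110 (BT.node 20109 (BT.node 20108 (BT.leaf cJ20108) (BT.leaf cJ20109)) (BT.leaf cJ20110)) (BT.node 20111 (BT.leaf cJ20111) (BT.leaf cJ20112))) (BT.node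 20115 (BT.node 20114 (BT.node 20113 (BT.leaf cJ20113) (BT.leaf cJ20114)) (BT.leaf cJ20115)) (BT.node 20116 (BT.leaf cJ20116) (BT.leaf cJ20117))))))) (BT.node 20158 (BT.node 20138 (BT.node 20128 (BT.node 20123 (BT.node 20120 (BT.node 20119 (BT.node 20118 (BT.leaf cJ20118) (BT.leaf cJ20119)) (BT.leaf cJ20120)) (BT.node 20122 (BT.node 20121 (BT.leaf cJ20121) (BT.leaf cJ20122)) (BT.leaf cJ20123))) (BT.node 20126 (BT.node 20125 (BT.node 20124 (BT.leaf cJ20124) (BT.leaf cJ20125)) (BT.leaf cJ20126)) (BT.node 20127 (BT.leaf cJ20127) (BT.leaf cJ20128)))) (BT.node 20133 (BT.node 20131 (BT.node 20130 (BT.node 20129 (BT.leaf cJ20129) (BT.leaf cJ20130)) (BT.leaf cJ20131)) (BT.node 20132 (BT.leaf cJ20132) (BT.leaf cJ20133))) (BT.node 20136 (BT.node 20135 (BT.node 20134 (BT.leaf cJ20134) (BT.leaf cJ20135)) (BT.leaf cJ20136)) (BT.node 20137 (BT.leaf cJ20137) (BT.leaf cJ20138)))))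 (BT.node 20148 (BT.node 20143 (BT.node 20141 (BT.node 20140 (BT.node 20139 (BT.leaf cJ20139) (BT.leaf cJ20140)) (BT.leaf cJ20141)) (BT.node 20142 (BT.leaf cJ20142) (BT.leaf cJ20143))) (BT.node 20146 (BT.node 20145 (BT.node 20144 (BT.leaf cJ20144) (BT.leaf cJ20145)) (BT.leaf cJ20146)) (BT.node 20147 (BT.leaf cJ20147) (BT.leaf cJ20148)))) (BT.node 20153 (BT.node 20151 (BT.node 20150 (BT.node 20149 (BT.leaf cJ20149) (BT.leaf cJ20150)) (BT.leaf cJ20151)) (BT.node 20152 (BT.leaf cJ20152) (BT.leaf cJ20153))) (BT.node 20156 (BT.node 20155 (BT.node 20154 (BT.leaf cJ20154) (BT.leaf cJ20155)) (BT.leaf cJ20156)) (BT.node 20157 (BT.leaf cJ20157) (BT.leaf cJ20158)))))) (BT.node 20178 (BT.node 20168 (BT.node 20163 (BT.node 20161 (BT.node 20160 (BT.node 20159 (BT.leaf cJ20159) (BT.leaf cJ20160)) (BT.leaf cJ20161)) (BT.node 20162 (BT.leaf cJ20162) (BT.leaf cJ20163))) (BT.node 20166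 (BT.node 20165 (BT.node 20164 (BT.leaf cJ20164) (BT.leaf cJ20165)) (BT.leaf cJ20166)) (BT.node 20167 (BT.leaf cJ20167) (BT.leaf cJ20168)))) (BT.node 20173 (BT.node 20171 (BT.node 20170 (BT.node 20169 (BT.leaf cJ20169) (BT.leaf cJ20170)) (BT.leaf cJ20171)) (BT.node 20172 (BT.leaf cJ20172) (BT.leaf cJ20173))) (BT.node 20176 (BT.node 20175 (BT.node 20174 (BT.leaf cJ20174) (BT.leaf cJ20175)) (BT.leaf cJ20176)) (BT.node 20177 (BT.leaf cJ20177) (BT.leaf cJ20178))))) (BT.node 20188 (BT.node 20183 (BT.node 20181 (BT.node 20180 (BT.node 20179 (BT.leaf cJ20179) (BT.leaf cJ20180)) (BT.leaf cJ20181)) (BT.node 20182 (BT.leaf cJ20182) (BT.leaf cJ20183))) (BT.node 20186 (BT.node 20185 (BT.node 20184 (BT.leaf cJ20184) (BT.leaf cJ20185)) (BT.leaf cJ20186)) (BT.node 20187 (BT.leaf cJ20187) (BT.leaf cJ20188)))) (BT.node 20193 (BT.node 20191 (BT.node 20190 (BT.node 20189 (BT.leaf cJ20189)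 (BT.leaf cJ20190)) (BT.leaf cJ20191)) (BT.node 20192 (BT.leaf cJ20192) (BT.leaf cJ20193))) (BT.node 20196 (BT.node 20195 (BT.node 20194 (BT.leaf cJ20194) (BT.leaf cJ20195)) (BT.leaf cJ20196)) (BT.node 20197 (BT.leaf cJ20197) (BT.leaf cJ20198))))))))
noncomputable def colJT_125 : BT ℕ := (BT.node 20279 (BT.node 20239 (BT.node 20219 (BT.node 20209 (BT.node 20204 (BT.node 20201 (BT.node 20200 (BT.node 20199 (BT.leaf cJ20199) (BT.leaf cJ20200)) (BT.leaf cJ20201)) (BT.node 20203 (BT.node 20202 (BT.leaf cJ20202) (BT.leaf cJ20203)) (BT.leaf cJ20204))) (BT.node 20207 (BT.node 20206 (BT.node 20205 (BT.leaf cJ20205) (BT.leaf cJ20206)) (BT.leaf cJ20207)) (BT.node 20208 (BT.leaf cJ20208) (BT.leaf cJ20209)))) (BT.node 20214 (BT.node 20212 (BT.node 20211 (BT.node 20210 (BT.leaf cJ20210) (BT.leaf cJ20211)) (BT.leaf cJ20212)) (BT.node 20213 (BT.leaf cJ20213) (BT.leaf cJ20214))) (BT.node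 20217 (BT.node 20216 (BT.node 20215 (BT.leaf cJ20215) (BT.leaf cJ20216)) (BT.leaf cJ20217)) (BT.node 20218 (BT.leaf cJ20218) (BT.leaf cJ20219))))) (BT.node 20229 (BT.node 20224 (BT.node 20222 (BT.node 20221 (BT.node 20220 (BT.leaf cJ20220) (BT.leaf cJ20221)) (BT.leaf cJ20222)) (BT.node 20223 (BT.leaf cJ20223) (BT.leaf cJ20224))) (BT.node 20227 (BT.node 20226 (BT.node 20225 (BT.leaf cJ20225) (BT.leaf cJ20226)) (BT.leaf cJ20227)) (BT.node 20228 (BT.leaf cJ20228) (BT.leaf cJ20229)))) (BT.node 20234 (BT.node 20232 (BT.node 20231 (BT.node 20230 (BT.leaf cJ20230) (BT.leaf cJ20231)) (BT.leaf cJ20232)) (BT.node 20233 (BT.leaf cJ20233) (BT.leaf cJ20234))) (BT.node 20237 (BT.node 20236 (BT.node 20235 (BT.leaf cJ20235) (BT.leaf cJ20236)) (BT.leaf cJ20237)) (BT.node 20238 (BT.leaf cJ20238) (BT.leaf cJ20239)))))) (BT.node 20259 (BT.node 20249 (BT.node 20244 (BT.node 20242 (BT.node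 20241 (BT.node 20240 (BT.leaf cJ20240) (BT.leaf cJ20241)) (BT.leaf cJ20242)) (BT.node 20243 (BT.leaf cJ20243) (BT.leaf cJ20244))) (BT.node 20247 (BT.node 20246 (BT.node 20245 (BT.leaf cJ20245) (BT.leaf cJ20246)) (BT.leaf cJ20247)) (BT.node 20248 (BT.leaf cJ20248) (BT.leaf cJ20249)))) (BT.node 20254 (BT.node 20252 (BT.node 20251 (BT.node 20250 (BT.leaf cJ20250) (BT.leaf cJ20251)) (BT.leaf cJ20252)) (BT.node 20253 (BT.leaf cJ20253) (BT.leaf cJ20254))) (BT.node 20257 (BT.node 20256 (BT.node 20255 (BT.leaf cJ20255) (BT.leaf cJ20256)) (BT.leaf cJ20257)) (BT.node 20258 (BT.leaf cJ20258) (BT.leaf cJ20259))))) (BT.node 20269 (BT.node 20264 (BT.node 20262 (BT.node 20261 (BT.node 20260 (BT.leaf cJ20260) (BT.leaf cJ20261)) (BT.leaf cJ20262)) (BT.node 20263 (BT.leaf cJ20263) (BT.leaf cJ20264))) (BT.node 20267 (BT.node 20266 (BT.node 20265 (BT.leaf cJ20265) (BT.leaf cJ20266)) (BT.leaf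 cJ20267)) (BT.node 20268 (BT.leaf cJ20268) (BT.leaf cJ20269)))) (BT.node 20274 (BT.node 20272 (BT.node 20271 (BT.node 20270 (BT.leaf cJ20270) (BT.leaf cJ20271)) (BT.leaf cJ20272)) (BT.node 20273 (BT.leaf cJ20273) (BT.leaf cJ20274))) (BT.node 20277 (BT.node 20276 (BT.node 20275 (BT.leaf cJ20275) (BT.leaf cJ20276)) (BT.leaf cJ20277)) (BT.node 20278 (BT.leaf cJ20278) (BT.leaf cJ20279))))))) (BT.node 20319 (BT.node 20299 (BT.node 20289 (BT.node 20284 (BT.node 20282 (BT.node 20281 (BT.node 20280 (BT.leaf cJ20280) (BT.leaf cJ20281)) (BT.leaf cJ20282)) (BT.node 20283 (BT.leaf cJ20283) (BT.leaf cJ20284))) (BT.node 20287 (BT.node 20286 (BT.node 20285 (BT.leaf cJ20285) (BT.leaf cJ20286)) (BT.leaf cJ20287)) (BT.node 20288 (BT.leaf cJ20288) (BT.leaf cJ20289)))) (BT.node 20294 (BT.node 20292 (BT.node 20291 (BT.node 20290 (BT.leaf cJ20290) (BT.leaf cJ20291)) (BT.leaf cJ20292)) (BT.node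 20293 (BT.leaf cJ20293) (BT.leaf cJ20294))) (BT.node 20297 (BT.node 20296 (BT.node 20295 (BT.leaf cJ20295) (BT.leaf cJ20296)) (BT.leaf cJ20297)) (BT.node 20298 (BT.leaf cJ20298) (BT.leaf cJ20299))))) (BT.node 20309 (BT.node 20304 (BT.node 20302 (BT.node 20301 (BT.node 20300 (BT.leaf cJ20300) (BT.leaf cJ20301)) (BT.leaf cJ20302)) (BT.node 20303 (BT.leaf cJ20303) (BT.leaf cJ20304))) (BT.node 20307 (BT.node 20306 (BT.node 20305 (BT.leaf cJ20305) (BT.leaf cJ20306)) (BT.leaf cJ20307)) (BT.node 20308 (BT.leaf cJ20308) (BT.leaf cJ20309)))) (BT.node 20314 (BT.node 20312 (BT.node 20311 (BT.node 20310 (BT.leaf cJ20310) (BT.leaf cJ20311)) (BT.leaf cJ20312)) (BT.node 20313 (BT.leaf cJ20313) (BT.leaf cJ20314))) (BT.node 20317 (BT.node 20316 (BT.node 20315 (BT.leaf cJ20315) (BT.leaf cJ20316)) (BT.leaf cJ20317)) (BT.node 20318 (BT.leaf cJ20318) (BT.leaf cJ20319)))))) (BT.node 20339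 (BT.node 20329 (BT.node 20324 (BT.node 20322 (BT.node 20321 (BT.node 20320 (BT.leaf cJ20320) (BT.leaf cJ20321)) (BT.leaf cJ20322)) (BT.node 20323 (BT.leaf cJ20323) (BT.leaf cJ20324))) (BT.node 20327 (BT.node 20326 (BT.node 20325 (BT.leaf cJ20325) (BT.leaf cJ20326)) (BT.leaf cJ20327)) (BT.node 20328 (BT.leaf cJ20328) (BT.leaf cJ20329)))) (BT.node 20334 (BT.node 20332 (BT.node 20331 (BT.node 20330 (BT.leaf cJ20330) (BT.leaf cJ20331)) (BT.leaf cJ20332)) (BT.node 20333 (BT.leaf cJ20333) (BT.leaf cJ20334))) (BT.node 20337 (BT.node 20336 (BT.node 20335 (BT.leaf cJ20335) (BT.leaf cJ20336)) (BT.leaf cJ20337)) (BT.node 20338 (BT.leaf cJ20338) (BT.leaf cJ20339))))) (BT.node 20349 (BT.node 20344 (BT.node 20342 (BT.node 20341 (BT.node 20340 (BT.leaf cJ20340) (BT.leaf cJ20341)) (BT.leaf cJ20342)) (BT.node 20343 (BT.leaf cJ20343) (BT.leaf cJ20344))) (BT.node 20347 (BT.node 20346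 (BT.node 20345 (BT.leaf cJ20345) (BT.leaf cJ20346)) (BT.leaf cJ20347)) (BT.node 20348 (BT.leaf cJ20348) (BT.leaf cJ20349)))) (BT.node 20354 (BT.node 20352 (BT.node 20351 (BT.node 20350 (BT.leaf cJ20350) (BT.leaf cJ20351)) (BT.leaf cJ20352)) (BT.node 20353 (BT.leaf cJ20353) (BT.leaf cJ20354))) (BT.node 20357 (BT.node 20356 (BT.node 20355 (BT.leaf cJ20355) (BT.leaf cJ20356)) (BT.leaf cJ20357)) (BT.node 20358 (BT.leaf cJ20358) (BT.leaf cJ20359))))))))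
noncomputable def colJT_126 : BT ℕ := (BT.node 20440 (BT.node 20400 (BT.node 20380 (BT.node 20370 (BT.node 20365 (BT.node 20362 (BT.node 20361 (BT.node 20360 (BT.leaf cJ20360) (BT.leaf cJ20361)) (BT.leaf cJ20362)) (BT.node 20364 (BT.node 20363 (BT.leaf cJ20363) (BT.leaf cJ20364)) (BT.leaf cJ20365))) (BT.node 20368 (BT.node 20367 (BT.node 20366 (BT.leaf cJ20366) (BT.leaf cJ20367)) (BT.leaf cJ20368)) (BT.node 20369 (BT.leaf cJ20369) (BT.leaf cJ20370)))) (BT.node 20375 (BT.node 20373 (BT.node 20372 (BT.node 20371 (BT.leaf cJ20371) (BT.leaf cJ20372)) (BT.leaf cJ20373)) (BT.node 20374 (BT.leaf cJ20374) (BT.leaf cJ20375))) (BT.node 20378 (BT.node 20377 (BT.node 20376 (BT.leaf cJ20376) (BT.leaf cJ20377)) (BT.leaf cJ20378)) (BT.node 20379 (BT.leaf cJ20379) (BT.leaf cJ20380))))) (BT.node 20390 (BT.node 20385 (BT.node 20383 (BT.node 20382 (BT.node 20381 (BT.leaf cJ20381) (BT.leaf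 cJ20382)) (BT.leaf cJ20383)) (BT.node 20384 (BT.leaf cJ20384) (BT.leaf cJ20385))) (BT.node 20388 (BT.node 20387 (BT.node 20386 (BT.leaf cJ20386) (BT.leaf cJ20387)) (BT.leaf cJ20388)) (BT.node 20389 (BT.leaf cJ20389) (BT.leaf cJ20390)))) (BT.node 20395 (BT.node 20393 (BT.node 20392 (BT.node 20391 (BT.leaf cJ20391) (BT.leaf cJ20392)) (BT.leaf cJ20393)) (BT.node 20394 (BT.leaf cJ20394) (BT.leaf cJ20395))) (BT.node 20398 (BT.node 20397 (BT.node 20396 (BT.leaf cJ20396) (BT.leaf cJ20397)) (BT.leaf cJ20398)) (BT.node 20399 (BT.leaf cJ20399) (BT.leaf cJ20400)))))) (BT.node 20420 (BT.node 20410 (BT.node 20405 (BT.node 20403 (BT.node 20402 (BT.node 20401 (BT.leaf cJ20401) (BT.leaf cJ20402)) (BT.leaf cJ20403)) (BT.node 20404 (BT.leaf cJ20404) (BT.leaf cJ20405))) (BT.node 20408 (BT.node 20407 (BT.node 20406 (BT.leaf cJ20406) (BT.leaf cJ20407)) (BT.leaf cJ20408)) (BT.node 20409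 (BT.leaf cJ20409) (BT.leaf cJ20410)))) (BT.node 20415 (BT.node 20413 (BT.node 20412 (BT.node 20411 (BT.leaf cJ20411) (BT.leaf cJ20412)) (BT.leaf cJ20413)) (BT.node 20414 (BT.leaf cJ20414) (BT.leaf cJ20415))) (BT.node 20418 (BT.node 20417 (BT.node 20416 (BT.leaf cJ20416) (BT.leaf cJ20417)) (BT.leaf cJ20418)) (BT.node 20419 (BT.leaf cJ20419) (BT.leaf cJ20420))))) (BT.node 20430 (BT.node 20425 (BT.node 20423 (BT.node 20422 (BT.node 20421 (BT.leaf cJ20421) (BT.leaf cJ20422)) (BT.leaf cJ20423)) (BT.node 20424 (BT.leaf cJ20424) (BT.leaf cJ20425))) (BT.node 20428 (BT.node 20427 (BT.node 20426 (BT.leaf cJ20426) (BT.leaf cJ20427)) (BT.leaf cJ20428)) (BT.node 20429 (BT.leaf cJ20429) (BT.leaf cJ20430)))) (BT.node 20435 (BT.node 20433 (BT.node 20432 (BT.node 20431 (BT.leaf cJ20431) (BT.leaf cJ20432)) (BT.leaf cJ20433)) (BT.node 20434 (BT.leaf cJ20434) (BT.leaf cJ20435))) (BT.node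 20438 (BT.node 20437 (BT.node 20436 (BT.leaf cJ20436) (BT.leaf cJ20437)) (BT.leaf cJ20438)) (BT.node 20439 (BT.leaf cJ20439) (BT.leaf cJ20440))))))) (BT.node 20481 (BT.node 20461 (BT.node 20451 (BT.node 20446 (BT.node 20443 (BT.node 20442 (BT.node 20441 (BT.leaf cJ20441) (BT.leaf cJ20442)) (BT.leaf cJ20443)) (BT.node 20445 (BT.node 20444 (BT.leaf cJ20444) (BT.leaf cJ20445)) (BT.leaf cJ20446))) (BT.node 20449 (BT.node 20448 (BT.node 20447 (BT.leaf cJ20447) (BT.leaf cJ20448)) (BT.leaf cJ20449)) (BT.node 20450 (BT.leaf cJ20450) (BT.leaf cJ20451)))) (BT.node 20456 (BT.node 20454 (BT.node 20453 (BT.node 20452 (BT.leaf cJ20452) (BT.leaf cJ20453)) (BT.leaf cJ20454)) (BT.node 20455 (BT.leaf cJ20455) (BT.leaf cJ20456))) (BT.node 20459 (BT.node 20458 (BT.node 20457 (BT.leaf cJ20457) (BT.leaf cJ20458)) (BT.leaf cJ20459)) (BT.node 20460 (BT.leaf cJ20460) (BT.leaf cJ20461)))))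 (BT.node 20471 (BT.node 20466 (BT.node 20464 (BT.node 20463 (BT.node 20462 (BT.leaf cJ20462) (BT.leaf cJ20463)) (BT.leaf cJ20464)) (BT.node 20465 (BT.leaf cJ20465) (BT.leaf cJ20466))) (BT.node 20469 (BT.node 20468 (BT.node 20467 (BT.leaf cJ20467) (BT.leaf cJ20468)) (BT.leaf cJ20469)) (BT.node 20470 (BT.leaf cJ20470) (BT.leaf cJ20471)))) (BT.node 20476 (BT.node 20474 (BT.node 20473 (BT.node 20472 (BT.leaf cJ20472) (BT.leaf cJ20473)) (BT.leaf cJ20474)) (BT.node 20475 (BT.leaf cJ20475) (BT.leaf cJ20476))) (BT.node 20479 (BT.node 20478 (BT.node 20477 (BT.leaf cJ20477) (BT.leaf cJ20478)) (BT.leaf cJ20479)) (BT.node 20480 (BT.leaf cJ20480) (BT.leaf cJ20481)))))) (BT.node 20501 (BT.node 20491 (BT.node 20486 (BT.node 20484 (BT.node 20483 (BT.node 20482 (BT.leaf cJ20482) (BT.leaf cJ20483)) (BT.leaf cJ20484)) (BT.node 20485 (BT.leaf cJ20485) (BT.leaf cJ20486))) (BT.node 20489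 (BT.node 20488 (BT.node 20487 (BT.leaf cJ20487) (BT.leaf cJ20488)) (BT.leaf cJ20489)) (BT.node 20490 (BT.leaf cJ20490) (BT.leaf cJ20491)))) (BT.node 20496 (BT.node 20494 (BT.node 20493 (BT.node 20492 (BT.leaf cJ20492) (BT.leaf cJ20493)) (BT.leaf cJ20494)) (BT.node 20495 (BT.leaf cJ20495) (BT.leaf cJ20496))) (BT.node 20499 (BT.node 20498 (BT.node 20497 (BT.leaf cJ20497) (BT.leaf cJ20498)) (BT.leaf cJ20499)) (BT.node 20500 (BT.leaf cJ20500) (BT.leaf cJ20501))))) (BT.node 20511 (BT.node 20506 (BT.node 20504 (BT.node 20503 (BT.node 20502 (BT.leaf cJ20502) (BT.leaf cJ20503)) (BT.leaf cJ20504)) (BT.node 20505 (BT.leaf cJ20505) (BT.leaf cJ20506))) (BT.node 20509 (BT.node 20508 (BT.node 20507 (BT.leaf cJ20507) (BT.leaf cJ20508)) (BT.leaf cJ20509)) (BT.node 20510 (BT.leaf cJ20510) (BT.leaf cJ20511)))) (BT.node 20516 (BT.node 20514 (BT.node 20513 (BT.node 20512 (BT.leaf cJ20512)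 (BT.leaf cJ20513)) (BT.leaf cJ20514)) (BT.node 20515 (BT.leaf cJ20515) (BT.leaf cJ20516))) (BT.node 20519 (BT.node 20518 (BT.node 20517 (BT.leaf cJ20517) (BT.leaf cJ20518)) (BT.leaf cJ20519)) (BT.node 20520 (BT.leaf cJ20520) (BT.leaf cJ20521))))))))
noncomputable def colJT_127 : BT ℕ := (BT.node 20602 (BT.node 20562 (BT.node 20542 (BT.node 20532 (BT.node 20527 (BT.node 20524 (BT.node 20523 (BT.node 20522 (BT.leaf cJ20522) (BT.leaf cJ20523)) (BT.leaf cJ20524)) (BT.node 20526 (BT.node 20525 (BT.leaf cJ20525) (BT.leaf cJ20526)) (BT.leaf cJ20527))) (BT.node 20530 (BT.node 20529 (BT.node 20528 (BT.leaf cJ20528) (BT.leaf cJ20529)) (BT.leaf cJ20530)) (BT.node 20531 (BT.leaf cJ20531) (BT.leaf cJ20532)))) (BT.node 20537 (BT.node 20535 (BT.node 20534 (BT.node 20533 (BT.leaf cJ20533) (BT.leaf cJ20534)) (BT.leaf cJ20535)) (BT.node 20536 (BT.leaf cJ20536) (BT.leaf cJ20537))) (BT.node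 20540 (BT.node 20539 (BT.node 20538 (BT.leaf cJ20538) (BT.leaf cJ20539)) (BT.leaf cJ20540)) (BT.node 20541 (BT.leaf cJ20541) (BT.leaf cJ20542))))) (BT.node 20552 (BT.node 20547 (BT.node 20545 (BT.node 20544 (BT.node 20543 (BT.leaf cJ20543) (BT.leaf cJ20544)) (BT.leaf cJ20545)) (BT.node 20546 (BT.leaf cJ20546) (BT.leaf cJ20547))) (BT.node 20550 (BT.node 20549 (BT.node 20548 (BT.leaf cJ20548) (BT.leaf cJ20549)) (BT.leaf cJ20550)) (BT.node 20551 (BT.leaf cJ20551) (BT.leaf cJ20552)))) (BT.node 20557 (BT.node 20555 (BT.node 20554 (BT.node 20553 (BT.leaf cJ20553) (BT.leaf cJ20554)) (BT.leaf cJ20555)) (BT.node 20556 (BT.leaf cJ20556) (BT.leaf cJ20557))) (BT.node 20560 (BT.node 20559 (BT.node 20558 (BT.leaf cJ20558) (BT.leaf cJ20559)) (BT.leaf cJ20560)) (BT.node 20561 (BT.leaf cJ20561) (BT.leaf cJ20562)))))) (BT.node 20582 (BT.node 20572 (BT.node 20567 (BT.node 20565 (BT.node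 20564 (BT.node 20563 (BT.leaf cJ20563) (BT.leaf cJ20564)) (BT.leaf cJ20565)) (BT.node 20566 (BT.leaf cJ20566) (BT.leaf cJ20567))) (BT.node 20570 (BT.node 20569 (BT.node 20568 (BT.leaf cJ20568) (BT.leaf cJ20569)) (BT.leaf cJ20570)) (BT.node 20571 (BT.leaf cJ20571) (BT.leaf cJ20572)))) (BT.node 20577 (BT.node 20575 (BT.node 20574 (BT.node 20573 (BT.leaf cJ20573) (BT.leaf cJ20574)) (BT.leaf cJ20575)) (BT.node 20576 (BT.leaf cJ20576) (BT.leaf cJ20577))) (BT.node 20580 (BT.node 20579 (BT.node 20578 (BT.leaf cJ20578) (BT.leaf cJ20579)) (BT.leaf cJ20580)) (BT.node 20581 (BT.leaf cJ20581) (BT.leaf cJ20582))))) (BT.node 20592 (BT.node 20587 (BT.node 20585 (BT.node 20584 (BT.node 20583 (BT.leaf cJ20583) (BT.leaf cJ20584)) (BT.leaf cJ20585)) (BT.node 20586 (BT.leaf cJ20586) (BT.leaf cJ20587))) (BT.node 20590 (BT.node 20589 (BT.node 20588 (BT.leaf cJ20588) (BT.leaf cJ20589)) (BT.leaf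 cJ20590)) (BT.node 20591 (BT.leaf cJ20591) (BT.leaf cJ20592)))) (BT.node 20597 (BT.node 20595 (BT.node 20594 (BT.node 20593 (BT.leaf cJ20593) (BT.leaf cJ20594)) (BT.leaf cJ20595)) (BT.node 20596 (BT.leaf cJ20596) (BT.leaf cJ20597))) (BT.node 20600 (BT.node 20599 (BT.node 20598 (BT.leaf cJ20598) (BT.leaf cJ20599)) (BT.leaf cJ20600)) (BT.node 20601 (BT.leaf cJ20601) (BT.leaf cJ20602))))))) (BT.node 20642 (BT.node 20622 (BT.node 20612 (BT.node 20607 (BT.node 20605 (BT.node 20604 (BT.node 20603 (BT.leaf cJ20603) (BT.leaf cJ20604)) (BT.leaf cJ20605)) (BT.node 20606 (BT.leaf cJ20606) (BT.leaf cJ20607))) (BT.node 20610 (BT.node 20609 (BT.node 20608 (BT.leaf cJ20608) (BT.leaf cJ20609)) (BT.leaf cJ20610)) (BT.node 20611 (BT.leaf cJ20611) (BT.leaf cJ20612)))) (BT.node 20617 (BT.node 20615 (BT.node 20614 (BT.node 20613 (BT.leaf cJ20613) (BT.leaf cJ20614)) (BT.leaf cJ20615)) (BT.node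 20616 (BT.leaf cJ20616) (BT.leaf cJ20617))) (BT.node 20620 (BT.node 20619 (BT.node 20618 (BT.leaf cJ20618) (BT.leaf cJ20619)) (BT.leaf cJ20620)) (BT.node 20621 (BT.leaf cJ20621) (BT.leaf cJ20622))))) (BT.node 20632 (BT.node 20627 (BT.node 20625 (BT.node 20624 (BT.node 20623 (BT.leaf cJ20623) (BT.leaf cJ20624)) (BT.leaf cJ20625)) (BT.node 20626 (BT.leaf cJ20626) (BT.leaf cJ20627))) (BT.node 20630 (BT.node 20629 (BT.node 20628 (BT.leaf cJ20628) (BT.leaf cJ20629)) (BT.leaf cJ20630)) (BT.node 20631 (BT.leaf cJ20631) (BT.leaf cJ20632)))) (BT.node 20637 (BT.node 20635 (BT.node 20634 (BT.node 20633 (BT.leaf cJ20633) (BT.leaf cJ20634)) (BT.leaf cJ20635)) (BT.node 20636 (BT.leaf cJ20636) (BT.leaf cJ20637))) (BT.node 20640 (BT.node 20639 (BT.node 20638 (BT.leaf cJ20638) (BT.leaf cJ20639)) (BT.leaf cJ20640)) (BT.node 20641 (BT.leaf cJ20641) (BT.leaf cJ20642)))))) (BT.node 20662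 (BT.node 20652 (BT.node 20647 (BT.node 20645 (BT.node 20644 (BT.node 20643 (BT.leaf cJ20643) (BT.leaf cJ20644)) (BT.leaf cJ20645)) (BT.node 20646 (BT.leaf cJ20646) (BT.leaf cJ20647))) (BT.node 20650 (BT.node 20649 (BT.node 20648 (BT.leaf cJ20648) (BT.leaf cJ20649)) (BT.leaf cJ20650)) (BT.node 20651 (BT.leaf cJ20651) (BT.leaf cJ20652)))) (BT.node 20657 (BT.node 20655 (BT.node 20654 (BT.node 20653 (BT.leaf cJ20653) (BT.leaf cJ20654)) (BT.leaf cJ20655)) (BT.node 20656 (BT.leaf cJ20656) (BT.leaf cJ20657))) (BT.node 20660 (BT.node 20659 (BT.node 20658 (BT.leaf cJ20658) (BT.leaf cJ20659)) (BT.leaf cJ20660)) (BT.node 20661 (BT.leaf cJ20661) (BT.leaf cJ20662))))) (BT.node 20672 (BT.node 20667 (BT.node 20665 (BT.node 20664 (BT.node 20663 (BT.leaf cJ20663) (BT.leaf cJ20664)) (BT.leaf cJ20665)) (BT.node 20666 (BT.leaf cJ20666) (BT.leaf cJ20667))) (BT.node 20670 (BT.node 20669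 (BT.node 20668 (BT.leaf cJ20668) (BT.leaf cJ20669)) (BT.leaf cJ20670)) (BT.node 20671 (BT.leaf cJ20671) (BT.leaf cJ20672)))) (BT.node 20677 (BT.node 20675 (BT.node 20674 (BT.node 20673 (BT.leaf cJ20673) (BT.leaf cJ20674)) (BT.leaf cJ20675)) (BT.node 20676 (BT.leaf cJ20676) (BT.leaf cJ20677))) (BT.node 20680 (BT.node 20679 (BT.node 20678 (BT.leaf cJ20678) (BT.leaf cJ20679)) (BT.leaf cJ20680)) (BT.node 20681 (BT.leaf cJ20681) (BT.leaf cJ20682))))))))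
noncomputable def colJT : BT ℕ := (BT.node 10341 (BT.node 5170 (BT.node 2585 (BT.node 1292 (BT.node 646 (BT.node 323 (BT.node 161 colJT_0 colJT_1) (BT.node 485 colJT_2 colJT_3)) (BT.node 969 (BT.node 808 colJT_4 colJT_5) (BT.node 1131 colJT_6 colJT_7))) (BT.node 1939 (BT.node 1616 (BT.node 1454 colJT_8 colJT_9) (BT.node 1778 colJT_10 colJT_11)) (BT.node 2262 (BT.node 2101 colJT_12 colJT_13) (BT.node 2424 colJT_14 colJT_15)))) (BT.node 3878 (BT.node 3232 (BT.node 2909 (BT.node 2747 colJT_16 colJT_17) (BT.node 3071 colJT_18 colJT_19)) (BT.node 3555 (BT.node 3394 colJT_20 colJT_21) (BT.node 3717 colJT_22 colJT_23))) (BT.node 4524 (BT.node 4201 (BT.node 4040 colJT_24 colJT_25) (BT.node 4363 colJT_26 colJT_27)) (BT.node 4847 (BT.node 4686 colJT_28 colJT_29) (BT.node 5009 colJT_30 colJT_31))))) (BT.node 7756 (BT.node 6463 (BT.node 5817 (BT.node 5494 (BT.node 5332 colJT_32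 colJT_33) (BT.node 5656 colJT_34 colJT_35)) (BT.node 6140 (BT.node 5979 colJT_36 colJT_37) (BT.node 6302 colJT_38 colJT_39))) (BT.node 7110 (BT.node 6787 (BT.node 6625 colJT_40 colJT_41) (BT.node 6949 colJT_42 colJT_43)) (BT.node 7433 (BT.node 7272 colJT_44 colJT_45) (BT.node 7595 colJT_46 colJT_47)))) (BT.node 9049 (BT.node 8403 (BT.node 8080 (BT.node 7918 colJT_48 colJT_49) (BT.node 8242 colJT_50 colJT_51)) (BT.node 8726 (BT.node 8565 colJT_52 colJT_53) (BT.node 8888 colJT_54 colJT_55))) (BT.node 9695 (BT.node 9372 (BT.node 9211 colJT_56 colJT_57) (BT.node 9534 colJT_58 colJT_59)) (BT.node 10018 (BT.node 9857 colJT_60 colJT_61) (BT.node 10180 colJT_62 colJT_63)))))) (BT.node 15512 (BT.node 12927 (BT.node 11634 (BT.node 10988 (BT.node 10665 (BT.node 10503 colJT_64 colJT_65) (BT.node 10827 colJT_66 colJT_67)) (BT.node 11311 (BT.node 11150 colJT_68 colJT_69) (BT.node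 11473 colJT_70 colJT_71))) (BT.node 12281 (BT.node 11958 (BT.node 11796 colJT_72 colJT_73) (BT.node 12120 colJT_74 colJT_75)) (BT.node 12604 (BT.node 12443 colJT_76 colJT_77) (BT.node 12766 colJT_78 colJT_79)))) (BT.node 14220 (BT.node 13574 (BT.node 13251 (BT.node 13089 colJT_80 colJT_81) (BT.node 13413 colJT_82 colJT_83)) (BT.node 13897 (BT.node 13736 colJT_84 colJT_85) (BT.node 14059 colJT_86 colJT_87))) (BT.node 14866 (BT.node 14543 (BT.node 14382 colJT_88 colJT_89) (BT.node 14705 colJT_90 colJT_91)) (BT.node 15189 (BT.node 15028 colJT_92 colJT_93) (BT.node 15351 colJT_94 colJT_95))))) (BT.node 18097 (BT.node 16805 (BT.node 16159 (BT.node 15836 (BT.node 15674 colJT_96 colJT_97) (BT.node 15998 colJT_98 colJT_99)) (BT.node 16482 (BT.node 16321 colJT_100 colJT_101) (BT.node 16644 colJT_102 colJT_103))) (BT.node 17451 (BT.node 17128 (BT.node 16967 colJT_104 colJT_105)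 (BT.node 17290 colJT_106 colJT_107)) (BT.node 17774 (BT.node 17613 colJT_108 colJT_109) (BT.node 17936 colJT_110 colJT_111)))) (BT.node 19390 (BT.node 18744 (BT.node 18421 (BT.node 18259 colJT_112 colJT_113) (BT.node 18583 colJT_114 colJT_115)) (BT.node 19067 (BT.node 18906 colJT_116 colJT_117) (BT.node 19229 colJT_118 colJT_119))) (BT.node 20036 (BT.node 19713 (BT.node 19552 colJT_120 colJT_121) (BT.node 19875 colJT_122 colJT_123)) (BT.node 20359 (BT.node 20198 colJT_124 colJT_125) (BT.node 20521 colJT_126 colJT_127)))))))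
/-- parent chunks -/
noncomputable def parCT_0 : BT ℕ := (BT.node 99 (BT.node 49 (BT.node 24 (BT.node 12 (BT.node 6 (BT.node 3 (BT.node 1 (BT.node 0 (BT.leaf cP0) (BT.leaf cP1)) (BT.node 2 (BT.leaf cP2) (BT.leaf cP3))) (BT.node 5 (BT.node 4 (BT.leaf cP4) (BT.leaf cP5)) (BT.leaf cP6))) (BT.node 9 (BT.node 8 (BT.node 7 (BT.leaf cP7) (BT.leaf cP8)) (BT.leaf cP9)) (BT.node 11 (BT.node 10 (BT.leaf cP10) (BT.leaf cP11)) (BT.leaf cP12)))) (BT.node 18 (BT.node 15 (BT.node 14 (BT.node 13 (BT.leaf cP13) (BT.leaf cP14)) (BT.leaf cP15)) (BT.node 17 (BT.node 16 (BT.leaf cP16) (BT.leaf cP17)) (BT.leaf cP18))) (BT.node 21 (BT.node 20 (BT.node 19 (BT.leaf cP19) (BT.leaf cP20)) (BT.leaf cP21)) (BT.node 23 (BT.node 22 (BT.leaf cP22) (BT.leaf cP23)) (BT.leaf cP24))))) (BT.node 37 (BT.node 31 (BT.node 28 (BT.node 26 (BT.node 25 (BT.leaf cP25) (BT.leaf cP26)) (BT.node 27 (BT.leaf cP27)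 (BT.leaf cP28))) (BT.node 30 (BT.node 29 (BT.leaf cP29) (BT.leaf cP30)) (BT.leaf cP31))) (BT.node 34 (BT.node 33 (BT.node 32 (BT.leaf cP32) (BT.leaf cP33)) (BT.leaf cP34)) (BT.node 36 (BT.node 35 (BT.leaf cP35) (BT.leaf cP36)) (BT.leaf cP37)))) (BT.node 43 (BT.node 40 (BT.node 39 (BT.node 38 (BT.leaf cP38) (BT.leaf cP39)) (BT.leaf cP40)) (BT.node 42 (BT.node 41 (BT.leaf cP41) (BT.leaf cP42)) (BT.leaf cP43))) (BT.node 46 (BT.node 45 (BT.node 44 (BT.leaf cP44) (BT.leaf cP45)) (BT.leaf cP46)) (BT.node 48 (BT.node 47 (BT.leaf cP47) (BT.leaf cP48)) (BT.leaf cP49)))))) (BT.node 74 (BT.node 62 (BT.node 56 (BT.node 53 (BT.node 51 (BT.node 50 (BT.leaf cP50) (BT.leaf cP51)) (BT.node 52 (BT.leaf cP52) (BT.leaf cP53))) (BT.node 55 (BT.node 54 (BT.leaf cP54) (BT.leaf cP55)) (BT.leaf cP56))) (BT.node 59 (BT.node 58 (BT.node 57 (BT.leaf cP57) (BT.leaf cP58)) (BT.leaf cP59)) (BT.node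 61 (BT.node 60 (BT.leaf cP60) (BT.leaf cP61)) (BT.leaf cP62)))) (BT.node 68 (BT.node 65 (BT.node 64 (BT.node 63 (BT.leaf cP63) (BT.leaf cP64)) (BT.leaf cP65)) (BT.node 67 (BT.node 66 (BT.leaf cP66) (BT.leaf cP67)) (BT.leaf cP68))) (BT.node 71 (BT.node 70 (BT.node 69 (BT.leaf cP69) (BT.leaf cP70)) (BT.leaf cP71)) (BT.node 73 (BT.node 72 (BT.leaf cP72) (BT.leaf cP73)) (BT.leaf cP74))))) (BT.node 87 (BT.node 81 (BT.node 78 (BT.node 76 (BT.node 75 (BT.leaf cP75) (BT.leaf cP76)) (BT.node 77 (BT.leaf cP77) (BT.leaf cP78))) (BT.node 80 (BT.node 79 (BT.leaf cP79) (BT.leaf cP80)) (BT.leaf cP81))) (BT.node 84 (BT.node 83 (BT.node 82 (BT.leaf cP82) (BT.leaf cP83)) (BT.leaf cP84)) (BT.node 86 (BT.node 85 (BT.leaf cP85) (BT.leaf cP86)) (BT.leaf cP87)))) (BT.node 93 (BT.node 90 (BT.node 89 (BT.node 88 (BT.leaf cP88) (BT.leaf cP89)) (BT.leaf cP90)) (BT.node 92 (BT.node 91 (BT.leaf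 cP91) (BT.leaf cP92)) (BT.leaf cP93))) (BT.node 96 (BT.node 95 (BT.node 94 (BT.leaf cP94) (BT.leaf cP95)) (BT.leaf cP96)) (BT.node 98 (BT.node 97 (BT.leaf cP97) (BT.leaf cP98)) (BT.leaf cP99))))))) (BT.node 149 (BT.node 124 (BT.node 112 (BT.node 106 (BT.node 103 (BT.node 101 (BT.node 100 (BT.leaf cP100) (BT.leaf cP101)) (BT.node 102 (BT.leaf cP102) (BT.leaf cP103))) (BT.node 105 (BT.node 104 (BT.leaf cP104) (BT.leaf cP105)) (BT.leaf cP106))) (BT.node 109 (BT.node 108 (BT.node 107 (BT.leaf cP107) (BT.leaf cP108)) (BT.leaf cP109)) (BT.node 111 (BT.node 110 (BT.leaf cP110) (BT.leaf cP111)) (BT.leaf cP112)))) (BT.node 118 (BT.node 115 (BT.node 114 (BT.node 113 (BT.leaf cP113) (BT.leaf cP114)) (BT.leaf cP115)) (BT.node 117 (BT.node 116 (BT.leaf cP116) (BT.leaf cP117)) (BT.leaf cP118))) (BT.node 121 (BT.node 120 (BT.node 119 (BT.leaf cP119) (BT.leaf cP120)) (BT.leaf cP121))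 (BT.node 123 (BT.node 122 (BT.leaf cP122) (BT.leaf cP123)) (BT.leaf cP124))))) (BT.node 137 (BT.node 131 (BT.node 128 (BT.node 126 (BT.node 125 (BT.leaf cP125) (BT.leaf cP126)) (BT.node 127 (BT.leaf cP127) (BT.leaf cP128))) (BT.node 130 (BT.node 129 (BT.leaf cP129) (BT.leaf cP130)) (BT.leaf cP131))) (BT.node 134 (BT.node 133 (BT.node 132 (BT.leaf cP132) (BT.leaf cP133)) (BT.leaf cP134)) (BT.node 136 (BT.node 135 (BT.leaf cP135) (BT.leaf cP136)) (BT.leaf cP137)))) (BT.node 143 (BT.node 140 (BT.node 139 (BT.node 138 (BT.leaf cP138) (BT.leaf cP139)) (BT.leaf cP140)) (BT.node 142 (BT.node 141 (BT.leaf cP141) (BT.leaf cP142)) (BT.leaf cP143))) (BT.node 146 (BT.node 145 (BT.node 144 (BT.leaf cP144) (BT.leaf cP145)) (BT.leaf cP146)) (BT.node 148 (BT.node 147 (BT.leaf cP147) (BT.leaf cP148)) (BT.leaf cP149)))))) (BT.node 174 (BT.node 162 (BT.node 156 (BT.node 153 (BT.node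 151 (BT.node 150 (BT.leaf cP150) (BT.leaf cP151)) (BT.node 152 (BT.leaf cP152) (BT.leaf cP153))) (BT.node 155 (BT.node 154 (BT.leaf cP154) (BT.leaf cP155)) (BT.leaf cP156))) (BT.node 159 (BT.node 158 (BT.node 157 (BT.leaf cP157) (BT.leaf cP158)) (BT.leaf cP159)) (BT.node 161 (BT.node 160 (BT.leaf cP160) (BT.leaf cP161)) (BT.leaf cP162)))) (BT.node 168 (BT.node 165 (BT.node 164 (BT.node 163 (BT.leaf cP163) (BT.leaf cP164)) (BT.leaf cP165)) (BT.node 167 (BT.node 166 (BT.leaf cP166) (BT.leaf cP167)) (BT.leaf cP168))) (BT.node 171 (BT.node 170 (BT.node 169 (BT.leaf cP169) (BT.leaf cP170)) (BT.leaf cP171)) (BT.node 173 (BT.node 172 (BT.leaf cP172) (BT.leaf cP173)) (BT.leaf cP174))))) (BT.node 186 (BT.node 180 (BT.node 177 (BT.node 176 (BT.node 175 (BT.leaf cP175) (BT.leaf cP176)) (BT.leaf cP177)) (BT.node 179 (BT.node 178 (BT.leaf cP178) (BT.leaf cP179)) (BT.leaf cP180)))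 (BT.node 183 (BT.node 182 (BT.node 181 (BT.leaf cP181) (BT.leaf cP182)) (BT.leaf cP183)) (BT.node 185 (BT.node 184 (BT.leaf cP184) (BT.leaf cP185)) (BT.leaf cP186)))) (BT.node 192 (BT.node 189 (BT.node 188 (BT.node 187 (BT.leaf cP187) (BT.leaf cP188)) (BT.leaf cP189)) (BT.node 191 (BT.node 190 (BT.leaf cP190) (BT.leaf cP191)) (BT.leaf cP192))) (BT.node 195 (BT.node 194 (BT.node 193 (BT.leaf cP193) (BT.leaf cP194)) (BT.leaf cP195)) (BT.node 197 (BT.node 196 (BT.leaf cP196) (BT.leaf cP197)) (BT.leaf cP198))))))))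
noncomputable def parCT_1 : BT ℕ := (BT.node 298 (BT.node 248 (BT.node 223 (BT.node 211 (BT.node 205 (BT.node 202 (BT.node 200 (BT.node 199 (BT.leaf cP199) (BT.leaf cP200)) (BT.node 201 (BT.leaf cP201) (BT.leaf cP202))) (BT.node 204 (BT.node 203 (BT.leaf cP203) (BT.leaf cP204)) (BT.leaf cP205))) (BT.node 208 (BT.node 207 (BT.node 206 (BT.leaf cP206) (BT.leaf cP207)) (BT.leaf cP208)) (BT.node 210 (BT.node 209 (BT.leaf cP209) (BT.leaf cP210)) (BT.leaf cP211)))) (BT.node 217 (BT.node 214 (BT.node 213 (BT.node 212 (BT.leaf cP212) (BT.leaf cP213)) (BT.leaf cP214)) (BT.node 216 (BT.node 215 (BT.leaf cP215) (BT.leaf cP216)) (BT.leaf cP217))) (BT.node 220 (BT.node 219 (BT.node 218 (BT.leaf cP218) (BT.leaf cP219)) (BT.leaf cP220)) (BT.node 222 (BT.node 221 (BT.leaf cP221) (BT.leaf cP222)) (BT.leaf cP223))))) (BT.node 236 (BT.node 230 (BT.node 227 (BT.node 225 (BT.node 224 (BT.leaf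 cP224) (BT.leaf cP225)) (BT.node 226 (BT.leaf cP226) (BT.leaf cP227))) (BT.node 229 (BT.node 228 (BT.leaf cP228) (BT.leaf cP229)) (BT.leaf cP230))) (BT.node 233 (BT.node 232 (BT.node 231 (BT.leaf cP231) (BT.leaf cP232)) (BT.leaf cP233)) (BT.node 235 (BT.node 234 (BT.leaf cP234) (BT.leaf cP235)) (BT.leaf cP236)))) (BT.node 242 (BT.node 239 (BT.node 238 (BT.node 237 (BT.leaf cP237) (BT.leaf cP238)) (BT.leaf cP239)) (BT.node 241 (BT.node 240 (BT.leaf cP240) (BT.leaf cP241)) (BT.leaf cP242))) (BT.node 245 (BT.node 244 (BT.node 243 (BT.leaf cP243) (BT.leaf cP244)) (BT.leaf cP245)) (BT.node 247 (BT.node 246 (BT.leaf cP246) (BT.leaf cP247)) (BT.leaf cP248)))))) (BT.node 273 (BT.node 261 (BT.node 255 (BT.node 252 (BT.node 250 (BT.node 249 (BT.leaf cP249) (BT.leaf cP250)) (BT.node 251 (BT.leaf cP251) (BT.leaf cP252))) (BT.node 254 (BT.node 253 (BT.leaf cP253) (BT.leaf cP254))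 (BT.leaf cP255))) (BT.node 258 (BT.node 257 (BT.node 256 (BT.leaf cP256) (BT.leaf cP257)) (BT.leaf cP258)) (BT.node 260 (BT.node 259 (BT.leaf cP259) (BT.leaf cP260)) (BT.leaf cP261)))) (BT.node 267 (BT.node 264 (BT.node 263 (BT.node 262 (BT.leaf cP262) (BT.leaf cP263)) (BT.leaf cP264)) (BT.node 266 (BT.node 265 (BT.leaf cP265) (BT.leaf cP266)) (BT.leaf cP267))) (BT.node 270 (BT.node 269 (BT.node 268 (BT.leaf cP268) (BT.leaf cP269)) (BT.leaf cP270)) (BT.node 272 (BT.node 271 (BT.leaf cP271) (BT.leaf cP272)) (BT.leaf cP273))))) (BT.node 286 (BT.node 280 (BT.node 277 (BT.node 275 (BT.node 274 (BT.leaf cP274) (BT.leaf cP275)) (BT.node 276 (BT.leaf cP276) (BT.leaf cP277))) (BT.node 279 (BT.node 278 (BT.leaf cP278) (BT.leaf cP279)) (BT.leaf cP280))) (BT.node 283 (BT.node 282 (BT.node 281 (BT.leaf cP281) (BT.leaf cP282)) (BT.leaf cP283)) (BT.node 285 (BT.node 284 (BT.leaf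 cP284) (BT.leaf cP285)) (BT.leaf cP286)))) (BT.node 292 (BT.node 289 (BT.node 288 (BT.node 287 (BT.leaf cP287) (BT.leaf cP288)) (BT.leaf cP289)) (BT.node 291 (BT.node 290 (BT.leaf cP290) (BT.leaf cP291)) (BT.leaf cP292))) (BT.node 295 (BT.node 294 (BT.node 293 (BT.leaf cP293) (BT.leaf cP294)) (BT.leaf cP295)) (BT.node 297 (BT.node 296 (BT.leaf cP296) (BT.leaf cP297)) (BT.leaf cP298))))))) (BT.node 348 (BT.node 323 (BT.node 311 (BT.node 305 (BT.node 302 (BT.node 300 (BT.node 299 (BT.leaf cP299) (BT.leaf cP300)) (BT.node 301 (BT.leaf cP301) (BT.leaf cP302))) (BT.node 304 (BT.node 303 (BT.leaf cP303) (BT.leaf cP304)) (BT.leaf cP305))) (BT.node 308 (BT.node 307 (BT.node 306 (BT.leaf cP306) (BT.leaf cP307)) (BT.leaf cP308)) (BT.node 310 (BT.node 309 (BT.leaf cP309) (BT.leaf cP310)) (BT.leaf cP311)))) (BT.node 317 (BT.node 314 (BT.node 313 (BT.node 312 (BT.leaf cP312) (BT.leaf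 cP313)) (BT.leaf cP314)) (BT.node 316 (BT.node 315 (BT.leaf cP315) (BT.leaf cP316)) (BT.leaf cP317))) (BT.node 320 (BT.node 319 (BT.node 318 (BT.leaf cP318) (BT.leaf cP319)) (BT.leaf cP320)) (BT.node 322 (BT.node 321 (BT.leaf cP321) (BT.leaf cP322)) (BT.leaf cP323))))) (BT.node 336 (BT.node 330 (BT.node 327 (BT.node 325 (BT.node 324 (BT.leaf cP324) (BT.leaf cP325)) (BT.node 326 (BT.leaf cP326) (BT.leaf cP327))) (BT.node 329 (BT.node 328 (BT.leaf cP328) (BT.leaf cP329)) (BT.leaf cP330))) (BT.node 333 (BT.node 332 (BT.node 331 (BT.leaf cP331) (BT.leaf cP332)) (BT.leaf cP333)) (BT.node 335 (BT.node 334 (BT.leaf cP334) (BT.leaf cP335)) (BT.leaf cP336)))) (BT.node 342 (BT.node 339 (BT.node 338 (BT.node 337 (BT.leaf cP337) (BT.leaf cP338)) (BT.leaf cP339)) (BT.node 341 (BT.node 340 (BT.leaf cP340) (BT.leaf cP341)) (BT.leaf cP342))) (BT.node 345 (BT.node 344 (BT.node 343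 (BT.leaf cP343) (BT.leaf cP344)) (BT.leaf cP345)) (BT.node 347 (BT.node 346 (BT.leaf cP346) (BT.leaf cP347)) (BT.leaf cP348)))))) (BT.node 373 (BT.node 361 (BT.node 355 (BT.node 352 (BT.node 350 (BT.node 349 (BT.leaf cP349) (BT.leaf cP350)) (BT.node 351 (BT.leaf cP351) (BT.leaf cP352))) (BT.node 354 (BT.node 353 (BT.leaf cP353) (BT.leaf cP354)) (BT.leaf cP355))) (BT.node 358 (BT.node 357 (BT.node 356 (BT.leaf cP356) (BT.leaf cP357)) (BT.leaf cP358)) (BT.node 360 (BT.node 359 (BT.leaf cP359) (BT.leaf cP360)) (BT.leaf cP361)))) (BT.node 367 (BT.node 364 (BT.node 363 (BT.node 362 (BT.leaf cP362) (BT.leaf cP363)) (BT.leaf cP364)) (BT.node 366 (BT.node 365 (BT.leaf cP365) (BT.leaf cP366)) (BT.leaf cP367))) (BT.node 370 (BT.node 369 (BT.node 368 (BT.leaf cP368) (BT.leaf cP369)) (BT.leaf cP370)) (BT.node 372 (BT.node 371 (BT.leaf cP371) (BT.leaf cP372)) (BT.leaf cP373)))))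 (BT.node 385 (BT.node 379 (BT.node 376 (BT.node 375 (BT.node 374 (BT.leaf cP374) (BT.leaf cP375)) (BT.leaf cP376)) (BT.node 378 (BT.node 377 (BT.leaf cP377) (BT.leaf cP378)) (BT.leaf cP379))) (BT.node 382 (BT.node 381 (BT.node 380 (BT.leaf cP380) (BT.leaf cP381)) (BT.leaf cP382)) (BT.node 384 (BT.node 383 (BT.leaf cP383) (BT.leaf cP384)) (BT.leaf cP385)))) (BT.node 391 (BT.node 388 (BT.node 387 (BT.node 386 (BT.leaf cP386) (BT.leaf cP387)) (BT.leaf cP388)) (BT.node 390 (BT.node 389 (BT.leaf cP389) (BT.leaf cP390)) (BT.leaf cP391))) (BT.node 394 (BT.node 393 (BT.node 392 (BT.leaf cP392) (BT.leaf cP393)) (BT.leaf cP394)) (BT.node 396 (BT.node 395 (BT.leaf cP395) (BT.leaf cP396)) (BT.leaf cP397))))))))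
noncomputable def parCT_2 : BT ℕ := (BT.node 497 (BT.node 447 (BT.node 422 (BT.node 410 (BT.node 404 (BT.node 401 (BT.node 399 (BT.node 398 (BT.leaf cP398) (BT.leaf cP399)) (BT.node 400 (BT.leaf cP400) (BT.leaf cP401))) (BT.node 403 (BT.node 402 (BT.leaf cP402) (BT.leaf cP403)) (BT.leaf cP404))) (BT.node 407 (BT.node 406 (BT.node 405 (BT.leaf cP405) (BT.leaf cP406)) (BT.leaf cP407)) (BT.node 409 (BT.node 408 (BT.leaf cP408) (BT.leaf cP409)) (BT.leaf cP410)))) (BT.node 416 (BT.node 413 (BT.node 412 (BT.node 411 (BT.leaf cP411) (BT.leaf cP412)) (BT.leaf cP413)) (BT.node 415 (BT.node 414 (BT.leaf cP414) (BT.leaf cP415)) (BT.leaf cP416))) (BT.node 419 (BT.node 418 (BT.node 417 (BT.leaf cP417) (BT.leaf cP418)) (BT.leaf cP419)) (BT.node 421 (BT.node 420 (BT.leaf cP420) (BT.leaf cP421)) (BT.leaf cP422))))) (BT.node 435 (BT.node 429 (BT.node 426 (BT.node 424 (BT.node 423 (BT.leaf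 cP423) (BT.leaf cP424)) (BT.node 425 (BT.leaf cP425) (BT.leaf cP426))) (BT.node 428 (BT.node 427 (BT.leaf cP427) (BT.leaf cP428)) (BT.leaf cP429))) (BT.node 432 (BT.node 431 (BT.node 430 (BT.leaf cP430) (BT.leaf cP431)) (BT.leaf cP432)) (BT.node 434 (BT.node 433 (BT.leaf cP433) (BT.leaf cP434)) (BT.leaf cP435)))) (BT.node 441 (BT.node 438 (BT.node 437 (BT.node 436 (BT.leaf cP436) (BT.leaf cP437)) (BT.leaf cP438)) (BT.node 440 (BT.node 439 (BT.leaf cP439) (BT.leaf cP440)) (BT.leaf cP441))) (BT.node 444 (BT.node 443 (BT.node 442 (BT.leaf cP442) (BT.leaf cP443)) (BT.leaf cP444)) (BT.node 446 (BT.node 445 (BT.leaf cP445) (BT.leaf cP446)) (BT.leaf cP447)))))) (BT.node 472 (BT.node 460 (BT.node 454 (BT.node 451 (BT.node 449 (BT.node 448 (BT.leaf cP448) (BT.leaf cP449)) (BT.node 450 (BT.leaf cP450) (BT.leaf cP451))) (BT.node 453 (BT.node 452 (BT.leaf cP452) (BT.leaf cP453))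 (BT.leaf cP454))) (BT.node 457 (BT.node 456 (BT.node 455 (BT.leaf cP455) (BT.leaf cP456)) (BT.leaf cP457)) (BT.node 459 (BT.node 458 (BT.leaf cP458) (BT.leaf cP459)) (BT.leaf cP460)))) (BT.node 466 (BT.node 463 (BT.node 462 (BT.node 461 (BT.leaf cP461) (BT.leaf cP462)) (BT.leaf cP463)) (BT.node 465 (BT.node 464 (BT.leaf cP464) (BT.leaf cP465)) (BT.leaf cP466))) (BT.node 469 (BT.node 468 (BT.node 467 (BT.leaf cP467) (BT.leaf cP468)) (BT.leaf cP469)) (BT.node 471 (BT.node 470 (BT.leaf cP470) (BT.leaf cP471)) (BT.leaf cP472))))) (BT.node 485 (BT.node 479 (BT.node 476 (BT.node 474 (BT.node 473 (BT.leaf cP473) (BT.leaf cP474)) (BT.node 475 (BT.leaf cP475) (BT.leaf cP476))) (BT.node 478 (BT.node 477 (BT.leaf cP477) (BT.leaf cP478)) (BT.leaf cP479))) (BT.node 482 (BT.node 481 (BT.node 480 (BT.leaf cP480) (BT.leaf cP481)) (BT.leaf cP482)) (BT.node 484 (BT.node 483 (BT.leaf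 cP483) (BT.leaf cP484)) (BT.leaf cP485)))) (BT.node 491 (BT.node 488 (BT.node 487 (BT.node 486 (BT.leaf cP486) (BT.leaf cP487)) (BT.leaf cP488)) (BT.node 490 (BT.node 489 (BT.leaf cP489) (BT.leaf cP490)) (BT.leaf cP491))) (BT.node 494 (BT.node 493 (BT.node 492 (BT.leaf cP492) (BT.leaf cP493)) (BT.leaf cP494)) (BT.node 496 (BT.node 495 (BT.leaf cP495) (BT.leaf cP496)) (BT.leaf cP497))))))) (BT.node 547 (BT.node 522 (BT.node 510 (BT.node 504 (BT.node 501 (BT.node 499 (BT.node 498 (BT.leaf cP498) (BT.leaf cP499)) (BT.node 500 (BT.leaf cP500) (BT.leaf cP501))) (BT.node 503 (BT.node 502 (BT.leaf cP502) (BT.leaf cP503)) (BT.leaf cP504))) (BT.node 507 (BT.node 506 (BT.node 505 (BT.leaf cP505) (BT.leaf cP506)) (BT.leaf cP507)) (BT.node 509 (BT.node 508 (BT.leaf cP508) (BT.leaf cP509)) (BT.leaf cP510)))) (BT.node 516 (BT.node 513 (BT.node 512 (BT.node 511 (BT.leaf cP511) (BT.leaf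 cP512)) (BT.leaf cP513)) (BT.node 515 (BT.node 514 (BT.leaf cP514) (BT.leaf cP515)) (BT.leaf cP516))) (BT.node 519 (BT.node 518 (BT.node 517 (BT.leaf cP517) (BT.leaf cP518)) (BT.leaf cP519)) (BT.node 521 (BT.node 520 (BT.leaf cP520) (BT.leaf cP521)) (BT.leaf cP522))))) (BT.node 535 (BT.node 529 (BT.node 526 (BT.node 524 (BT.node 523 (BT.leaf cP523) (BT.leaf cP524)) (BT.node 525 (BT.leaf cP525) (BT.leaf cP526))) (BT.node 528 (BT.node 527 (BT.leaf cP527) (BT.leaf cP528)) (BT.leaf cP529))) (BT.node 532 (BT.node 531 (BT.node 530 (BT.leaf cP530) (BT.leaf cP531)) (BT.leaf cP532)) (BT.node 534 (BT.node 533 (BT.leaf cP533) (BT.leaf cP534)) (BT.leaf cP535)))) (BT.node 541 (BT.node 538 (BT.node 537 (BT.node 536 (BT.leaf cP536) (BT.leaf cP537)) (BT.leaf cP538)) (BT.node 540 (BT.node 539 (BT.leaf cP539) (BT.leaf cP540)) (BT.leaf cP541))) (BT.node 544 (BT.node 543 (BT.node 542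 (BT.leaf cP542) (BT.leaf cP543)) (BT.leaf cP544)) (BT.node 546 (BT.node 545 (BT.leaf cP545) (BT.leaf cP546)) (BT.leaf cP547)))))) (BT.node 572 (BT.node 560 (BT.node 554 (BT.node 551 (BT.node 549 (BT.node 548 (BT.leaf cP548) (BT.leaf cP549)) (BT.node 550 (BT.leaf cP550) (BT.leaf cP551))) (BT.node 553 (BT.node 552 (BT.leaf cP552) (BT.leaf cP553)) (BT.leaf cP554))) (BT.node 557 (BT.node 556 (BT.node 555 (BT.leaf cP555) (BT.leaf cP556)) (BT.leaf cP557)) (BT.node 559 (BT.node 558 (BT.leaf cP558) (BT.leaf cP559)) (BT.leaf cP560)))) (BT.node 566 (BT.node 563 (BT.node 562 (BT.node 561 (BT.leaf cP561) (BT.leaf cP562)) (BT.leaf cP563)) (BT.node 565 (BT.node 564 (BT.leaf cP564) (BT.leaf cP565)) (BT.leaf cP566))) (BT.node 569 (BT.node 568 (BT.node 567 (BT.leaf cP567) (BT.leaf cP568)) (BT.leaf cP569)) (BT.node 571 (BT.node 570 (BT.leaf cP570) (BT.leaf cP571)) (BT.leaf cP572)))))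 (BT.node 584 (BT.node 578 (BT.node 575 (BT.node 574 (BT.node 573 (BT.leaf cP573) (BT.leaf cP574)) (BT.leaf cP575)) (BT.node 577 (BT.node 576 (BT.leaf cP576) (BT.leaf cP577)) (BT.leaf cP578))) (BT.node 581 (BT.node 580 (BT.node 579 (BT.leaf cP579) (BT.leaf cP580)) (BT.leaf cP581)) (BT.node 583 (BT.node 582 (BT.leaf cP582) (BT.leaf cP583)) (BT.leaf cP584)))) (BT.node 590 (BT.node 587 (BT.node 586 (BT.node 585 (BT.leaf cP585) (BT.leaf cP586)) (BT.leaf cP587)) (BT.node 589 (BT.node 588 (BT.leaf cP588) (BT.leaf cP589)) (BT.leaf cP590))) (BT.node 593 (BT.node 592 (BT.node 591 (BT.leaf cP591) (BT.leaf cP592)) (BT.leaf cP593)) (BT.node 595 (BT.node 594 (BT.leaf cP594) (BT.leaf cP595)) (BT.leaf cP596))))))))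
noncomputable def parCT_3 : BT ℕ := (BT.node 696 (BT.node 646 (BT.node 621 (BT.node 609 (BT.node 603 (BT.node 600 (BT.node 598 (BT.node 597 (BT.leaf cP597) (BT.leaf cP598)) (BT.node 599 (BT.leaf cP599) (BT.leaf cP600))) (BT.node 602 (BT.node 601 (BT.leaf cP601) (BT.leaf cP602)) (BT.leaf cP603))) (BT.node 606 (BT.node 605 (BT.node 604 (BT.leaf cP604) (BT.leaf cP605)) (BT.leaf cP606)) (BT.node 608 (BT.node 607 (BT.leaf cP607) (BT.leaf cP608)) (BT.leaf cP609)))) (BT.node 615 (BT.node 612 (BT.node 611 (BT.node 610 (BT.leaf cP610) (BT.leaf cP611)) (BT.leaf cP612)) (BT.node 614 (BT.node 613 (BT.leaf cP613) (BT.leaf cP614)) (BT.leaf cP615))) (BT.node 618 (BT.node 617 (BT.node 616 (BT.leaf cP616) (BT.leaf cP617)) (BT.leaf cP618)) (BT.node 620 (BT.node 619 (BT.leaf cP619) (BT.leaf cP620)) (BT.leaf cP621))))) (BT.node 634 (BT.node 628 (BT.node 625 (BT.node 623 (BT.node 622 (BT.leaf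 cP622) (BT.leaf cP623)) (BT.node 624 (BT.leaf cP624) (BT.leaf cP625))) (BT.node 627 (BT.node 626 (BT.leaf cP626) (BT.leaf cP627)) (BT.leaf cP628))) (BT.node 631 (BT.node 630 (BT.node 629 (BT.leaf cP629) (BT.leaf cP630)) (BT.leaf cP631)) (BT.node 633 (BT.node 632 (BT.leaf cP632) (BT.leaf cP633)) (BT.leaf cP634)))) (BT.node 640 (BT.node 637 (BT.node 636 (BT.node 635 (BT.leaf cP635) (BT.leaf cP636)) (BT.leaf cP637)) (BT.node 639 (BT.node 638 (BT.leaf cP638) (BT.leaf cP639)) (BT.leaf cP640))) (BT.node 643 (BT.node 642 (BT.node 641 (BT.leaf cP641) (BT.leaf cP642)) (BT.leaf cP643)) (BT.node 645 (BT.node 644 (BT.leaf cP644) (BT.leaf cP645)) (BT.leaf cP646)))))) (BT.node 671 (BT.node 659 (BT.node 653 (BT.node 650 (BT.node 648 (BT.node 647 (BT.leaf cP647) (BT.leaf cP648)) (BT.node 649 (BT.leaf cP649) (BT.leaf cP650))) (BT.node 652 (BT.node 651 (BT.leaf cP651) (BT.leaf cP652))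 (BT.leaf cP653))) (BT.node 656 (BT.node 655 (BT.node 654 (BT.leaf cP654) (BT.leaf cP655)) (BT.leaf cP656)) (BT.node 658 (BT.node 657 (BT.leaf cP657) (BT.leaf cP658)) (BT.leaf cP659)))) (BT.node 665 (BT.node 662 (BT.node 661 (BT.node 660 (BT.leaf cP660) (BT.leaf cP661)) (BT.leaf cP662)) (BT.node 664 (BT.node 663 (BT.leaf cP663) (BT.leaf cP664)) (BT.leaf cP665))) (BT.node 668 (BT.node 667 (BT.node 666 (BT.leaf cP666) (BT.leaf cP667)) (BT.leaf cP668)) (BT.node 670 (BT.node 669 (BT.leaf cP669) (BT.leaf cP670)) (BT.leaf cP671))))) (BT.node 684 (BT.node 678 (BT.node 675 (BT.node 673 (BT.node 672 (BT.leaf cP672) (BT.leaf cP673)) (BT.node 674 (BT.leaf cP674) (BT.leaf cP675))) (BT.node 677 (BT.node 676 (BT.leaf cP676) (BT.leaf cP677)) (BT.leaf cP678))) (BT.node 681 (BT.node 680 (BT.node 679 (BT.leaf cP679) (BT.leaf cP680)) (BT.leaf cP681)) (BT.node 683 (BT.node 682 (BT.leaf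 cP682) (BT.leaf cP683)) (BT.leaf cP684)))) (BT.node 690 (BT.node 687 (BT.node 686 (BT.node 685 (BT.leaf cP685) (BT.leaf cP686)) (BT.leaf cP687)) (BT.node 689 (BT.node 688 (BT.leaf cP688) (BT.leaf cP689)) (BT.leaf cP690))) (BT.node 693 (BT.node 692 (BT.node 691 (BT.leaf cP691) (BT.leaf cP692)) (BT.leaf cP693)) (BT.node 695 (BT.node 694 (BT.leaf cP694) (BT.leaf cP695)) (BT.leaf cP696))))))) (BT.node 746 (BT.node 721 (BT.node 709 (BT.node 703 (BT.node 700 (BT.node 698 (BT.node 697 (BT.leaf cP697) (BT.leaf cP698)) (BT.node 699 (BT.leaf cP699) (BT.leaf cP700))) (BT.node 702 (BT.node 701 (BT.leaf cP701) (BT.leaf cP702)) (BT.leaf cP703))) (BT.node 706 (BT.node 705 (BT.node 704 (BT.leaf cP704) (BT.leaf cP705)) (BT.leaf cP706)) (BT.node 708 (BT.node 707 (BT.leaf cP707) (BT.leaf cP708)) (BT.leaf cP709)))) (BT.node 715 (BT.node 712 (BT.node 711 (BT.node 710 (BT.leaf cP710) (BT.leaf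 cP711)) (BT.leaf cP712)) (BT.node 714 (BT.node 713 (BT.leaf cP713) (BT.leaf cP714)) (BT.leaf cP715))) (BT.node 718 (BT.node 717 (BT.node 716 (BT.leaf cP716) (BT.leaf cP717)) (BT.leaf cP718)) (BT.node 720 (BT.node 719 (BT.leaf cP719) (BT.leaf cP720)) (BT.leaf cP721))))) (BT.node 734 (BT.node 728 (BT.node 725 (BT.node 723 (BT.node 722 (BT.leaf cP722) (BT.leaf cP723)) (BT.node 724 (BT.leaf cP724) (BT.leaf cP725))) (BT.node 727 (BT.node 726 (BT.leaf cP726) (BT.leaf cP727)) (BT.leaf cP728))) (BT.node 731 (BT.node 730 (BT.node 729 (BT.leaf cP729) (BT.leaf cP730)) (BT.leaf cP731)) (BT.node 733 (BT.node 732 (BT.leaf cP732) (BT.leaf cP733)) (BT.leaf cP734)))) (BT.node 740 (BT.node 737 (BT.node 736 (BT.node 735 (BT.leaf cP735) (BT.leaf cP736)) (BT.leaf cP737)) (BT.node 739 (BT.node 738 (BT.leaf cP738) (BT.leaf cP739)) (BT.leaf cP740))) (BT.node 743 (BT.node 742 (BT.node 741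 (BT.leaf cP741) (BT.leaf cP742)) (BT.leaf cP743)) (BT.node 745 (BT.node 744 (BT.leaf cP744) (BT.leaf cP745)) (BT.leaf cP746)))))) (BT.node 771 (BT.node 759 (BT.node 753 (BT.node 750 (BT.node 748 (BT.node 747 (BT.leaf cP747) (BT.leaf cP748)) (BT.node 749 (BT.leaf cP749) (BT.leaf cP750))) (BT.node 752 (BT.node 751 (BT.leaf cP751) (BT.leaf cP752)) (BT.leaf cP753))) (BT.node 756 (BT.node 755 (BT.node 754 (BT.leaf cP754) (BT.leaf cP755)) (BT.leaf cP756)) (BT.node 758 (BT.node 757 (BT.leaf cP757) (BT.leaf cP758)) (BT.leaf cP759)))) (BT.node 765 (BT.node 762 (BT.node 761 (BT.node 760 (BT.leaf cP760) (BT.leaf cP761)) (BT.leaf cP762)) (BT.node 764 (BT.node 763 (BT.leaf cP763) (BT.leaf cP764)) (BT.leaf cP765))) (BT.node 768 (BT.node 767 (BT.node 766 (BT.leaf cP766) (BT.leaf cP767)) (BT.leaf cP768)) (BT.node 770 (BT.node 769 (BT.leaf cP769) (BT.leaf cP770)) (BT.leaf cP771)))))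 (BT.node 783 (BT.node 777 (BT.node 774 (BT.node 773 (BT.node 772 (BT.leaf cP772) (BT.leaf cP773)) (BT.leaf cP774)) (BT.node 776 (BT.node 775 (BT.leaf cP775) (BT.leaf cP776)) (BT.leaf cP777))) (BT.node 780 (BT.node 779 (BT.node 778 (BT.leaf cP778) (BT.leaf cP779)) (BT.leaf cP780)) (BT.node 782 (BT.node 781 (BT.leaf cP781) (BT.leaf cP782)) (BT.leaf cP783)))) (BT.node 789 (BT.node 786 (BT.node 785 (BT.node 784 (BT.leaf cP784) (BT.leaf cP785)) (BT.leaf cP786)) (BT.node 788 (BT.node 787 (BT.leaf cP787) (BT.leaf cP788)) (BT.leaf cP789))) (BT.node 792 (BT.node 791 (BT.node 790 (BT.leaf cP790) (BT.leaf cP791)) (BT.leaf cP792)) (BT.node 794 (BT.node 793 (BT.leaf cP793) (BT.leaf cP794)) (BT.leaf cP795))))))))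
noncomputable def parCT_4 : BT ℕ := (BT.node 895 (BT.node 845 (BT.node 820 (BT.node 808 (BT.node 802 (BT.node 799 (BT.node 797 (BT.node 796 (BT.leaf cP796) (BT.leaf cP797)) (BT.node 798 (BT.leaf cP798) (BT.leaf cP799))) (BT.node 801 (BT.node 800 (BT.leaf cP800) (BT.leaf cP801)) (BT.leaf cP802))) (BT.node 805 (BT.node 804 (BT.node 803 (BT.leaf cP803) (BT.leaf cP804)) (BT.leaf cP805)) (BT.node 807 (BT.node 806 (BT.leaf cP806) (BT.leaf cP807)) (BT.leaf cP808)))) (BT.node 814 (BT.node 811 (BT.node 810 (BT.node 809 (BT.leaf cP809) (BT.leaf cP810)) (BT.leaf cP811)) (BT.node 813 (BT.node 812 (BT.leaf cP812) (BT.leaf cP813)) (BT.leaf cP814))) (BT.node 817 (BT.node 816 (BT.node 815 (BT.leaf cP815) (BT.leaf cP816)) (BT.leaf cP817)) (BT.node 819 (BT.node 818 (BT.leaf cP818) (BT.leaf cP819)) (BT.leaf cP820))))) (BT.node 833 (BT.node 827 (BT.node 824 (BT.node 822 (BT.node 821 (BT.leaf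 cP821) (BT.leaf cP822)) (BT.node 823 (BT.leaf cP823) (BT.leaf cP824))) (BT.node 826 (BT.node 825 (BT.leaf cP825) (BT.leaf cP826)) (BT.leaf cP827))) (BT.node 830 (BT.node 829 (BT.node 828 (BT.leaf cP828) (BT.leaf cP829)) (BT.leaf cP830)) (BT.node 832 (BT.node 831 (BT.leaf cP831) (BT.leaf cP832)) (BT.leaf cP833)))) (BT.node 839 (BT.node 836 (BT.node 835 (BT.node 834 (BT.leaf cP834) (BT.leaf cP835)) (BT.leaf cP836)) (BT.node 838 (BT.node 837 (BT.leaf cP837) (BT.leaf cP838)) (BT.leaf cP839))) (BT.node 842 (BT.node 841 (BT.node 840 (BT.leaf cP840) (BT.leaf cP841)) (BT.leaf cP842)) (BT.node 844 (BT.node 843 (BT.leaf cP843) (BT.leaf cP844)) (BT.leaf cP845)))))) (BT.node 870 (BT.node 858 (BT.node 852 (BT.node 849 (BT.node 847 (BT.node 846 (BT.leaf cP846) (BT.leaf cP847)) (BT.node 848 (BT.leaf cP848) (BT.leaf cP849))) (BT.node 851 (BT.node 850 (BT.leaf cP850) (BT.leaf cP851))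 (BT.leaf cP852))) (BT.node 855 (BT.node 854 (BT.node 853 (BT.leaf cP853) (BT.leaf cP854)) (BT.leaf cP855)) (BT.node 857 (BT.node 856 (BT.leaf cP856) (BT.leaf cP857)) (BT.leaf cP858)))) (BT.node 864 (BT.node 861 (BT.node 860 (BT.node 859 (BT.leaf cP859) (BT.leaf cP860)) (BT.leaf cP861)) (BT.node 863 (BT.node 862 (BT.leaf cP862) (BT.leaf cP863)) (BT.leaf cP864))) (BT.node 867 (BT.node 866 (BT.node 865 (BT.leaf cP865) (BT.leaf cP866)) (BT.leaf cP867)) (BT.node 869 (BT.node 868 (BT.leaf cP868) (BT.leaf cP869)) (BT.leaf cP870))))) (BT.node 883 (BT.node 877 (BT.node 874 (BT.node 872 (BT.node 871 (BT.leaf cP871) (BT.leaf cP872)) (BT.node 873 (BT.leaf cP873) (BT.leaf cP874))) (BT.node 876 (BT.node 875 (BT.leaf cP875) (BT.leaf cP876)) (BT.leaf cP877))) (BT.node 880 (BT.node 879 (BT.node 878 (BT.leaf cP878) (BT.leaf cP879)) (BT.leaf cP880)) (BT.node 882 (BT.node 881 (BT.leaf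 cP881) (BT.leaf cP882)) (BT.leaf cP883)))) (BT.node 889 (BT.node 886 (BT.node 885 (BT.node 884 (BT.leaf cP884) (BT.leaf cP885)) (BT.leaf cP886)) (BT.node 888 (BT.node 887 (BT.leaf cP887) (BT.leaf cP888)) (BT.leaf cP889))) (BT.node 892 (BT.node 891 (BT.node 890 (BT.leaf cP890) (BT.leaf cP891)) (BT.leaf cP892)) (BT.node 894 (BT.node 893 (BT.leaf cP893) (BT.leaf cP894)) (BT.leaf cP895))))))) (BT.node 945 (BT.node 920 (BT.node 908 (BT.node 902 (BT.node 899 (BT.node 897 (BT.node 896 (BT.leaf cP896) (BT.leaf cP897)) (BT.node 898 (BT.leaf cP898) (BT.leaf cP899))) (BT.node 901 (BT.node 900 (BT.leaf cP900) (BT.leaf cP901)) (BT.leaf cP902))) (BT.node 905 (BT.node 904 (BT.node 903 (BT.leaf cP903) (BT.leaf cP904)) (BT.leaf cP905)) (BT.node 907 (BT.node 906 (BT.leaf cP906) (BT.leaf cP907)) (BT.leaf cP908)))) (BT.node 914 (BT.node 911 (BT.node 910 (BT.node 909 (BT.leaf cP909) (BT.leaf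 cP910)) (BT.leaf cP911)) (BT.node 913 (BT.node 912 (BT.leaf cP912) (BT.leaf cP913)) (BT.leaf cP914))) (BT.node 917 (BT.node 916 (BT.node 915 (BT.leaf cP915) (BT.leaf cP916)) (BT.leaf cP917)) (BT.node 919 (BT.node 918 (BT.leaf cP918) (BT.leaf cP919)) (BT.leaf cP920))))) (BT.node 933 (BT.node 927 (BT.node 924 (BT.node 922 (BT.node 921 (BT.leaf cP921) (BT.leaf cP922)) (BT.node 923 (BT.leaf cP923) (BT.leaf cP924))) (BT.node 926 (BT.node 925 (BT.leaf cP925) (BT.leaf cP926)) (BT.leaf cP927))) (BT.node 930 (BT.node 929 (BT.node 928 (BT.leaf cP928) (BT.leaf cP929)) (BT.leaf cP930)) (BT.node 932 (BT.node 931 (BT.leaf cP931) (BT.leaf cP932)) (BT.leaf cP933)))) (BT.node 939 (BT.node 936 (BT.node 935 (BT.node 934 (BT.leaf cP934) (BT.leaf cP935)) (BT.leaf cP936)) (BT.node 938 (BT.node 937 (BT.leaf cP937) (BT.leaf cP938)) (BT.leaf cP939))) (BT.node 942 (BT.node 941 (BT.node 940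 (BT.leaf cP940) (BT.leaf cP941)) (BT.leaf cP942)) (BT.node 944 (BT.node 943 (BT.leaf cP943) (BT.leaf cP944)) (BT.leaf cP945)))))) (BT.node 970 (BT.node 958 (BT.node 952 (BT.node 949 (BT.node 947 (BT.node 946 (BT.leaf cP946) (BT.leaf cP947)) (BT.node 948 (BT.leaf cP948) (BT.leaf cP949))) (BT.node 951 (BT.node 950 (BT.leaf cP950) (BT.leaf cP951)) (BT.leaf cP952))) (BT.node 955 (BT.node 954 (BT.node 953 (BT.leaf cP953) (BT.leaf cP954)) (BT.leaf cP955)) (BT.node 957 (BT.node 956 (BT.leaf cP956) (BT.leaf cP957)) (BT.leaf cP958)))) (BT.node 964 (BT.node 961 (BT.node 960 (BT.node 959 (BT.leaf cP959) (BT.leaf cP960)) (BT.leaf cP961)) (BT.node 963 (BT.node 962 (BT.leaf cP962) (BT.leaf cP963)) (BT.leaf cP964))) (BT.node 967 (BT.node 966 (BT.node 965 (BT.leaf cP965) (BT.leaf cP966)) (BT.leaf cP967)) (BT.node 969 (BT.node 968 (BT.leaf cP968) (BT.leaf cP969)) (BT.leaf cP970)))))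 (BT.node 982 (BT.node 976 (BT.node 973 (BT.node 972 (BT.node 971 (BT.leaf cP971) (BT.leaf cP972)) (BT.leaf cP973)) (BT.node 975 (BT.node 974 (BT.leaf cP974) (BT.leaf cP975)) (BT.leaf cP976))) (BT.node 979 (BT.node 978 (BT.node 977 (BT.leaf cP977) (BT.leaf cP978)) (BT.leaf cP979)) (BT.node 981 (BT.node 980 (BT.leaf cP980) (BT.leaf cP981)) (BT.leaf cP982)))) (BT.node 988 (BT.node 985 (BT.node 984 (BT.node 983 (BT.leaf cP983) (BT.leaf cP984)) (BT.leaf cP985)) (BT.node 987 (BT.node 986 (BT.leaf cP986) (BT.leaf cP987)) (BT.leaf cP988))) (BT.node 991 (BT.node 990 (BT.node 989 (BT.leaf cP989) (BT.leaf cP990)) (BT.leaf cP991)) (BT.node 993 (BT.node 992 (BT.leaf cP992) (BT.leaf cP993)) (BT.leaf cP994))))))))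
noncomputable def parCT_5 : BT ℕ := (BT.node 1094 (BT.node 1044 (BT.node 1019 (BT.node 1007 (BT.node 1001 (BT.node 998 (BT.node 996 (BT.node 995 (BT.leaf cP995) (BT.leaf cP996)) (BT.node 997 (BT.leaf cP997) (BT.leaf cP998))) (BT.node 1000 (BT.node 999 (BT.leaf cP999) (BT.leaf cP1000)) (BT.leaf cP1001))) (BT.node 1004 (BT.node 1003 (BT.node 1002 (BT.leaf cP1002) (BT.leaf cP1003)) (BT.leaf cP1004)) (BT.node 1006 (BT.node 1005 (BT.leaf cP1005) (BT.leaf cP1006)) (BT.leaf cP1007)))) (BT.node 1013 (BT.node 1010 (BT.node 1009 (BT.node 1008 (BT.leaf cP1008) (BT.leaf cP1009)) (BT.leaf cP1010)) (BT.node 1012 (BT.node 1011 (BT.leaf cP1011) (BT.leaf cP1012)) (BT.leaf cP1013))) (BT.node 1016 (BT.node 1015 (BT.node 1014 (BT.leaf cP1014) (BT.leaf cP1015)) (BT.leaf cP1016)) (BT.node 1018 (BT.node 1017 (BT.leaf cP1017) (BT.leaf cP1018)) (BT.leaf cP1019))))) (BT.node 1032 (BT.node 1026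 (BT.node 1023 (BT.node 1021 (BT.node 1020 (BT.leaf cP1020) (BT.leaf cP1021)) (BT.node 1022 (BT.leaf cP1022) (BT.leaf cP1023))) (BT.node 1025 (BT.node 1024 (BT.leaf cP1024) (BT.leaf cP1025)) (BT.leaf cP1026))) (BT.node 1029 (BT.node 1028 (BT.node 1027 (BT.leaf cP1027) (BT.leaf cP1028)) (BT.leaf cP1029)) (BT.node 1031 (BT.node 1030 (BT.leaf cP1030) (BT.leaf cP1031)) (BT.leaf cP1032)))) (BT.node 1038 (BT.node 1035 (BT.node 1034 (BT.node 1033 (BT.leaf cP1033) (BT.leaf cP1034)) (BT.leaf cP1035)) (BT.node 1037 (BT.node 1036 (BT.leaf cP1036) (BT.leaf cP1037)) (BT.leaf cP1038))) (BT.node 1041 (BT.node 1040 (BT.node 1039 (BT.leaf cP1039) (BT.leaf cP1040)) (BT.leaf cP1041)) (BT.node 1043 (BT.node 1042 (BT.leaf cP1042) (BT.leaf cP1043)) (BT.leaf cP1044)))))) (BT.node 1069 (BT.node 1057 (BT.node 1051 (BT.node 1048 (BT.node 1046 (BT.node 1045 (BT.leaf cP1045) (BT.leaf cP1046))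 (BT.node 1047 (BT.leaf cP1047) (BT.leaf cP1048))) (BT.node 1050 (BT.node 1049 (BT.leaf cP1049) (BT.leaf cP1050)) (BT.leaf cP1051))) (BT.node 1054 (BT.node 1053 (BT.node 1052 (BT.leaf cP1052) (BT.leaf cP1053)) (BT.leaf cP1054)) (BT.node 1056 (BT.node 1055 (BT.leaf cP1055) (BT.leaf cP1056)) (BT.leaf cP1057)))) (BT.node 1063 (BT.node 1060 (BT.node 1059 (BT.node 1058 (BT.leaf cP1058) (BT.leaf cP1059)) (BT.leaf cP1060)) (BT.node 1062 (BT.node 1061 (BT.leaf cP1061) (BT.leaf cP1062)) (BT.leaf cP1063))) (BT.node 1066 (BT.node 1065 (BT.node 1064 (BT.leaf cP1064) (BT.leaf cP1065)) (BT.leaf cP1066)) (BT.node 1068 (BT.node 1067 (BT.leaf cP1067) (BT.leaf cP1068)) (BT.leaf cP1069))))) (BT.node 1082 (BT.node 1076 (BT.node 1073 (BT.node 1071 (BT.node 1070 (BT.leaf cP1070) (BT.leaf cP1071)) (BT.node 1072 (BT.leaf cP1072) (BT.leaf cP1073))) (BT.node 1075 (BT.node 1074 (BT.leaf cP1074)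 (BT.leaf cP1075)) (BT.leaf cP1076))) (BT.node 1079 (BT.node 1078 (BT.node 1077 (BT.leaf cP1077) (BT.leaf cP1078)) (BT.leaf cP1079)) (BT.node 1081 (BT.node 1080 (BT.leaf cP1080) (BT.leaf cP1081)) (BT.leaf cP1082)))) (BT.node 1088 (BT.node 1085 (BT.node 1084 (BT.node 1083 (BT.leaf cP1083) (BT.leaf cP1084)) (BT.leaf cP1085)) (BT.node 1087 (BT.node 1086 (BT.leaf cP1086) (BT.leaf cP1087)) (BT.leaf cP1088))) (BT.node 1091 (BT.node 1090 (BT.node 1089 (BT.leaf cP1089) (BT.leaf cP1090)) (BT.leaf cP1091)) (BT.node 1093 (BT.node 1092 (BT.leaf cP1092) (BT.leaf cP1093)) (BT.leaf cP1094))))))) (BT.node 1144 (BT.node 1119 (BT.node 1107 (BT.node 1101 (BT.node 1098 (BT.node 1096 (BT.node 1095 (BT.leaf cP1095) (BT.leaf cP1096)) (BT.node 1097 (BT.leaf cP1097) (BT.leaf cP1098))) (BT.node 1100 (BT.node 1099 (BT.leaf cP1099) (BT.leaf cP1100)) (BT.leaf cP1101))) (BT.node 1104 (BT.node 1103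 (BT.node 1102 (BT.leaf cP1102) (BT.leaf cP1103)) (BT.leaf cP1104)) (BT.node 1106 (BT.node 1105 (BT.leaf cP1105) (BT.leaf cP1106)) (BT.leaf cP1107)))) (BT.node 1113 (BT.node 1110 (BT.node 1109 (BT.node 1108 (BT.leaf cP1108) (BT.leaf cP1109)) (BT.leaf cP1110)) (BT.node 1112 (BT.node 1111 (BT.leaf cP1111) (BT.leaf cP1112)) (BT.leaf cP1113))) (BT.node 1116 (BT.node 1115 (BT.node 1114 (BT.leaf cP1114) (BT.leaf cP1115)) (BT.leaf cP1116)) (BT.node 1118 (BT.node 1117 (BT.leaf cP1117) (BT.leaf cP1118)) (BT.leaf cP1119))))) (BT.node 1132 (BT.node 1126 (BT.node 1123 (BT.node 1121 (BT.node 1120 (BT.leaf cP1120) (BT.leaf cP1121)) (BT.node 1122 (BT.leaf cP1122) (BT.leaf cP1123))) (BT.node 1125 (BT.node 1124 (BT.leaf cP1124) (BT.leaf cP1125)) (BT.leaf cP1126))) (BT.node 1129 (BT.node 1128 (BT.node 1127 (BT.leaf cP1127) (BT.leaf cP1128)) (BT.leaf cP1129)) (BT.node 1131 (BT.node 1130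 (BT.leaf cP1130) (BT.leaf cP1131)) (BT.leaf cP1132)))) (BT.node 1138 (BT.node 1135 (BT.node 1134 (BT.node 1133 (BT.leaf cP1133) (BT.leaf cP1134)) (BT.leaf cP1135)) (BT.node 1137 (BT.node 1136 (BT.leaf cP1136) (BT.leaf cP1137)) (BT.leaf cP1138))) (BT.node 1141 (BT.node 1140 (BT.node 1139 (BT.leaf cP1139) (BT.leaf cP1140)) (BT.leaf cP1141)) (BT.node 1143 (BT.node 1142 (BT.leaf cP1142) (BT.leaf cP1143)) (BT.leaf cP1144)))))) (BT.node 1169 (BT.node 1157 (BT.node 1151 (BT.node 1148 (BT.node 1146 (BT.node 1145 (BT.leaf cP1145) (BT.leaf cP1146)) (BT.node 1147 (BT.leaf cP1147) (BT.leaf cP1148))) (BT.node 1150 (BT.node 1149 (BT.leaf cP1149) (BT.leaf cP1150)) (BT.leaf cP1151))) (BT.node 1154 (BT.node 1153 (BT.node 1152 (BT.leaf cP1152) (BT.leaf cP1153)) (BT.leaf cP1154)) (BT.node 1156 (BT.node 1155 (BT.leaf cP1155) (BT.leaf cP1156)) (BT.leaf cP1157)))) (BT.node 1163 (BT.node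 1160 (BT.node 1159 (BT.node 1158 (BT.leaf cP1158) (BT.leaf cP1159)) (BT.leaf cP1160)) (BT.node 1162 (BT.node 1161 (BT.leaf cP1161) (BT.leaf cP1162)) (BT.leaf cP1163))) (BT.node 1166 (BT.node 1165 (BT.node 1164 (BT.leaf cP1164) (BT.leaf cP1165)) (BT.leaf cP1166)) (BT.node 1168 (BT.node 1167 (BT.leaf cP1167) (BT.leaf cP1168)) (BT.leaf cP1169))))) (BT.node 1181 (BT.node 1175 (BT.node 1172 (BT.node 1171 (BT.node 1170 (BT.leaf cP1170) (BT.leaf cP1171)) (BT.leaf cP1172)) (BT.node 1174 (BT.node 1173 (BT.leaf cP1173) (BT.leaf cP1174)) (BT.leaf cP1175))) (BT.node 1178 (BT.node 1177 (BT.node 1176 (BT.leaf cP1176) (BT.leaf cP1177)) (BT.leaf cP1178)) (BT.node 1180 (BT.node 1179 (BT.leaf cP1179) (BT.leaf cP1180)) (BT.leaf cP1181)))) (BT.node 1187 (BT.node 1184 (BT.node 1183 (BT.node 1182 (BT.leaf cP1182) (BT.leaf cP1183)) (BT.leaf cP1184)) (BT.node 1186 (BT.node 1185 (BT.leaf cP1185)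 (BT.leaf cP1186)) (BT.leaf cP1187))) (BT.node 1190 (BT.node 1189 (BT.node 1188 (BT.leaf cP1188) (BT.leaf cP1189)) (BT.leaf cP1190)) (BT.node 1192 (BT.node 1191 (BT.leaf cP1191) (BT.leaf cP1192)) (BT.leaf cP1193))))))))
noncomputable def parCT_6 : BT ℕ := (BT.node 1293 (BT.node 1243 (BT.node 1218 (BT.node 1206 (BT.node 1200 (BT.node 1197 (BT.node 1195 (BT.node 1194 (BT.leaf cP1194) (BT.leaf cP1195)) (BT.node 1196 (BT.leaf cP1196) (BT.leaf cP1197))) (BT.node 1199 (BT.node 1198 (BT.leaf cP1198) (BT.leaf cP1199)) (BT.leaf cP1200))) (BT.node 1203 (BT.node 1202 (BT.node 1201 (BT.leaf cP1201) (BT.leaf cP1202)) (BT.leaf cP1203)) (BT.node 1205 (BT.node 1204 (BT.leaf cP1204) (BT.leaf cP1205)) (BT.leaf cP1206)))) (BT.node 1212 (BT.node 1209 (BT.node 1208 (BT.node 1207 (BT.leaf cP1207) (BT.leaf cP1208)) (BT.leaf cP1209)) (BT.node 1211 (BT.node 1210 (BT.leaf cP1210) (BT.leaf cP1211))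 (BT.leaf cP1212))) (BT.node 1215 (BT.node 1214 (BT.node 1213 (BT.leaf cP1213) (BT.leaf cP1214)) (BT.leaf cP1215)) (BT.node 1217 (BT.node 1216 (BT.leaf cP1216) (BT.leaf cP1217)) (BT.leaf cP1218))))) (BT.node 1231 (BT.node 1225 (BT.node 1222 (BT.node 1220 (BT.node 1219 (BT.leaf cP1219) (BT.leaf cP1220)) (BT.node 1221 (BT.leaf cP1221) (BT.leaf cP1222))) (BT.node 1224 (BT.node 1223 (BT.leaf cP1223) (BT.leaf cP1224)) (BT.leaf cP1225))) (BT.node 1228 (BT.node 1227 (BT.node 1226 (BT.leaf cP1226) (BT.leaf cP1227)) (BT.leaf cP1228)) (BT.node 1230 (BT.node 1229 (BT.leaf cP1229) (BT.leaf cP1230)) (BT.leaf cP1231)))) (BT.node 1237 (BT.node 1234 (BT.node 1233 (BT.node 1232 (BT.leaf cP1232) (BT.leaf cP1233)) (BT.leaf cP1234)) (BT.node 1236 (BT.node 1235 (BT.leaf cP1235) (BT.leaf cP1236)) (BT.leaf cP1237))) (BT.node 1240 (BT.node 1239 (BT.node 1238 (BT.leaf cP1238) (BT.leaf cP1239))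 (BT.leaf cP1240)) (BT.node 1242 (BT.node 1241 (BT.leaf cP1241) (BT.leaf cP1242)) (BT.leaf cP1243)))))) (BT.node 1268 (BT.node 1256 (BT.node 1250 (BT.node 1247 (BT.node 1245 (BT.node 1244 (BT.leaf cP1244) (BT.leaf cP1245)) (BT.node 1246 (BT.leaf cP1246) (BT.leaf cP1247))) (BT.node 1249 (BT.node 1248 (BT.leaf cP1248) (BT.leaf cP1249)) (BT.leaf cP1250))) (BT.node 1253 (BT.node 1252 (BT.node 1251 (BT.leaf cP1251) (BT.leaf cP1252)) (BT.leaf cP1253)) (BT.node 1255 (BT.node 1254 (BT.leaf cP1254) (BT.leaf cP1255)) (BT.leaf cP1256)))) (BT.node 1262 (BT.node 1259 (BT.node 1258 (BT.node 1257 (BT.leaf cP1257) (BT.leaf cP1258)) (BT.leaf cP1259)) (BT.node 1261 (BT.node 1260 (BT.leaf cP1260) (BT.leaf cP1261)) (BT.leaf cP1262))) (BT.node 1265 (BT.node 1264 (BT.node 1263 (BT.leaf cP1263) (BT.leaf cP1264)) (BT.leaf cP1265)) (BT.node 1267 (BT.node 1266 (BT.leaf cP1266) (BT.leaf cP1267))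 (BT.leaf cP1268))))) (BT.node 1281 (BT.node 1275 (BT.node 1272 (BT.node 1270 (BT.node 1269 (BT.leaf cP1269) (BT.leaf cP1270)) (BT.node 1271 (BT.leaf cP1271) (BT.leaf cP1272))) (BT.node 1274 (BT.node 1273 (BT.leaf cP1273) (BT.leaf cP1274)) (BT.leaf cP1275))) (BT.node 1278 (BT.node 1277 (BT.node 1276 (BT.leaf cP1276) (BT.leaf cP1277)) (BT.leaf cP1278)) (BT.node 1280 (BT.node 1279 (BT.leaf cP1279) (BT.leaf cP1280)) (BT.leaf cP1281)))) (BT.node 1287 (BT.node 1284 (BT.node 1283 (BT.node 1282 (BT.leaf cP1282) (BT.leaf cP1283)) (BT.leaf cP1284)) (BT.node 1286 (BT.node 1285 (BT.leaf cP1285) (BT.leaf cP1286)) (BT.leaf cP1287))) (BT.node 1290 (BT.node 1289 (BT.node 1288 (BT.leaf cP1288) (BT.leaf cP1289)) (BT.leaf cP1290)) (BT.node 1292 (BT.node 1291 (BT.leaf cP1291) (BT.leaf cP1292)) (BT.leaf cP1293))))))) (BT.node 1343 (BT.node 1318 (BT.node 1306 (BT.node 1300 (BT.node 1297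 (BT.node 1295 (BT.node 1294 (BT.leaf cP1294) (BT.leaf cP1295)) (BT.node 1296 (BT.leaf cP1296) (BT.leaf cP1297))) (BT.node 1299 (BT.node 1298 (BT.leaf cP1298) (BT.leaf cP1299)) (BT.leaf cP1300))) (BT.node 1303 (BT.node 1302 (BT.node 1301 (BT.leaf cP1301) (BT.leaf cP1302)) (BT.leaf cP1303)) (BT.node 1305 (BT.node 1304 (BT.leaf cP1304) (BT.leaf cP1305)) (BT.leaf cP1306)))) (BT.node 1312 (BT.node 1309 (BT.node 1308 (BT.node 1307 (BT.leaf cP1307) (BT.leaf cP1308)) (BT.leaf cP1309)) (BT.node 1311 (BT.node 1310 (BT.leaf cP1310) (BT.leaf cP1311)) (BT.leaf cP1312))) (BT.node 1315 (BT.node 1314 (BT.node 1313 (BT.leaf cP1313) (BT.leaf cP1314)) (BT.leaf cP1315)) (BT.node 1317 (BT.node 1316 (BT.leaf cP1316) (BT.leaf cP1317)) (BT.leaf cP1318))))) (BT.node 1331 (BT.node 1325 (BT.node 1322 (BT.node 1320 (BT.node 1319 (BT.leaf cP1319) (BT.leaf cP1320)) (BT.node 1321 (BT.leaf cP1321)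 (BT.leaf cP1322))) (BT.node 1324 (BT.node 1323 (BT.leaf cP1323) (BT.leaf cP1324)) (BT.leaf cP1325))) (BT.node 1328 (BT.node 1327 (BT.node 1326 (BT.leaf cP1326) (BT.leaf cP1327)) (BT.leaf cP1328)) (BT.node 1330 (BT.node 1329 (BT.leaf cP1329) (BT.leaf cP1330)) (BT.leaf cP1331)))) (BT.node 1337 (BT.node 1334 (BT.node 1333 (BT.node 1332 (BT.leaf cP1332) (BT.leaf cP1333)) (BT.leaf cP1334)) (BT.node 1336 (BT.node 1335 (BT.leaf cP1335) (BT.leaf cP1336)) (BT.leaf cP1337))) (BT.node 1340 (BT.node 1339 (BT.node 1338 (BT.leaf cP1338) (BT.leaf cP1339)) (BT.leaf cP1340)) (BT.node 1342 (BT.node 1341 (BT.leaf cP1341) (BT.leaf cP1342)) (BT.leaf cP1343)))))) (BT.node 1368 (BT.node 1356 (BT.node 1350 (BT.node 1347 (BT.node 1345 (BT.node 1344 (BT.leaf cP1344) (BT.leaf cP1345)) (BT.node 1346 (BT.leaf cP1346) (BT.leaf cP1347))) (BT.node 1349 (BT.node 1348 (BT.leaf cP1348) (BT.leaf cP1349))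 (BT.leaf cP1350))) (BT.node 1353 (BT.node 1352 (BT.node 1351 (BT.leaf cP1351) (BT.leaf cP1352)) (BT.leaf cP1353)) (BT.node 1355 (BT.node 1354 (BT.leaf cP1354) (BT.leaf cP1355)) (BT.leaf cP1356)))) (BT.node 1362 (BT.node 1359 (BT.node 1358 (BT.node 1357 (BT.leaf cP1357) (BT.leaf cP1358)) (BT.leaf cP1359)) (BT.node 1361 (BT.node 1360 (BT.leaf cP1360) (BT.leaf cP1361)) (BT.leaf cP1362))) (BT.node 1365 (BT.node 1364 (BT.node 1363 (BT.leaf cP1363) (BT.leaf cP1364)) (BT.leaf cP1365)) (BT.node 1367 (BT.node 1366 (BT.leaf cP1366) (BT.leaf cP1367)) (BT.leaf cP1368))))) (BT.node 1380 (BT.node 1374 (BT.node 1371 (BT.node 1370 (BT.node 1369 (BT.leaf cP1369) (BT.leaf cP1370)) (BT.leaf cP1371)) (BT.node 1373 (BT.node 1372 (BT.leaf cP1372) (BT.leaf cP1373)) (BT.leaf cP1374))) (BT.node 1377 (BT.node 1376 (BT.node 1375 (BT.leaf cP1375) (BT.leaf cP1376)) (BT.leaf cP1377)) (BT.node 1379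 (BT.node 1378 (BT.leaf cP1378) (BT.leaf cP1379)) (BT.leaf cP1380)))) (BT.node 1386 (BT.node 1383 (BT.node 1382 (BT.node 1381 (BT.leaf cP1381) (BT.leaf cP1382)) (BT.leaf cP1383)) (BT.node 1385 (BT.node 1384 (BT.leaf cP1384) (BT.leaf cP1385)) (BT.leaf cP1386))) (BT.node 1389 (BT.node 1388 (BT.node 1387 (BT.leaf cP1387) (BT.leaf cP1388)) (BT.leaf cP1389)) (BT.node 1391 (BT.node 1390 (BT.leaf cP1390) (BT.leaf cP1391)) (BT.leaf cP1392))))))))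
noncomputable def parCT_7 : BT ℕ := (BT.node 1491 (BT.node 1442 (BT.node 1417 (BT.node 1405 (BT.node 1399 (BT.node 1396 (BT.node 1394 (BT.node 1393 (BT.leaf cP1393) (BT.leaf cP1394)) (BT.node 1395 (BT.leaf cP1395) (BT.leaf cP1396))) (BT.node 1398 (BT.node 1397 (BT.leaf cP1397) (BT.leaf cP1398)) (BT.leaf cP1399))) (BT.node 1402 (BT.node 1401 (BT.node 1400 (BT.leaf cP1400) (BT.leaf cP1401)) (BT.leaf cP1402)) (BT.node 1404 (BT.node 1403 (BT.leaf cP1403) (BT.leaf cP1404)) (BT.leaf cP1405)))) (BT.node 1411 (BT.node 1408 (BT.node 1407 (BT.node 1406 (BT.leaf cP1406) (BT.leaf cP1407)) (BT.leaf cP1408)) (BT.node 1410 (BT.node 1409 (BT.leaf cP1409) (BT.leaf cP1410)) (BT.leaf cP1411))) (BT.node 1414 (BT.node 1413 (BT.node 1412 (BT.leaf cP1412) (BT.leaf cP1413)) (BT.leaf cP1414)) (BT.node 1416 (BT.node 1415 (BT.leaf cP1415) (BT.leaf cP1416)) (BT.leaf cP1417))))) (BT.node 1430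 (BT.node 1424 (BT.node 1421 (BT.node 1419 (BT.node 1418 (BT.leaf cP1418) (BT.leaf cP1419)) (BT.node 1420 (BT.leaf cP1420) (BT.leaf cP1421))) (BT.node 1423 (BT.node 1422 (BT.leaf cP1422) (BT.leaf cP1423)) (BT.leaf cP1424))) (BT.node 1427 (BT.node 1426 (BT.node 1425 (BT.leaf cP1425) (BT.leaf cP1426)) (BT.leaf cP1427)) (BT.node 1429 (BT.node 1428 (BT.leaf cP1428) (BT.leaf cP1429)) (BT.leaf cP1430)))) (BT.node 1436 (BT.node 1433 (BT.node 1432 (BT.node 1431 (BT.leaf cP1431) (BT.leaf cP1432)) (BT.leaf cP1433)) (BT.node 1435 (BT.node 1434 (BT.leaf cP1434) (BT.leaf cP1435)) (BT.leaf cP1436))) (BT.node 1439 (BT.node 1438 (BT.node 1437 (BT.leaf cP1437) (BT.leaf cP1438)) (BT.leaf cP1439)) (BT.node 1441 (BT.node 1440 (BT.leaf cP1440) (BT.leaf cP1441)) (BT.leaf cP1442)))))) (BT.node 1467 (BT.node 1455 (BT.node 1449 (BT.node 1446 (BT.node 1444 (BT.node 1443 (BT.leaf cP1443) (BT.leaf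 cP1444)) (BT.node 1445 (BT.leaf cP1445) (BT.leaf cP1446))) (BT.node 1448 (BT.node 1447 (BT.leaf cP1447) (BT.leaf cP1448)) (BT.leaf cP1449))) (BT.node 1452 (BT.node 1451 (BT.node 1450 (BT.leaf cP1450) (BT.leaf cP1451)) (BT.leaf cP1452)) (BT.node 1454 (BT.node 1453 (BT.leaf cP1453) (BT.leaf cP1454)) (BT.leaf cP1455)))) (BT.node 1461 (BT.node 1458 (BT.node 1457 (BT.node 1456 (BT.leaf cP1456) (BT.leaf cP1457)) (BT.leaf cP1458)) (BT.node 1460 (BT.node 1459 (BT.leaf cP1459) (BT.leaf cP1460)) (BT.leaf cP1461))) (BT.node 1464 (BT.node 1463 (BT.node 1462 (BT.leaf cP1462) (BT.leaf cP1463)) (BT.leaf cP1464)) (BT.node 1466 (BT.node 1465 (BT.leaf cP1465) (BT.leaf cP1466)) (BT.leaf cP1467))))) (BT.node 1479 (BT.node 1473 (BT.node 1470 (BT.node 1469 (BT.node 1468 (BT.leaf cP1468) (BT.leaf cP1469)) (BT.leaf cP1470)) (BT.node 1472 (BT.node 1471 (BT.leaf cP1471) (BT.leaf cP1472)) (BT.leaf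 cP1473))) (BT.node 1476 (BT.node 1475 (BT.node 1474 (BT.leaf cP1474) (BT.leaf cP1475)) (BT.leaf cP1476)) (BT.node 1478 (BT.node 1477 (BT.leaf cP1477) (BT.leaf cP1478)) (BT.leaf cP1479)))) (BT.node 1485 (BT.node 1482 (BT.node 1481 (BT.node 1480 (BT.leaf cP1480) (BT.leaf cP1481)) (BT.leaf cP1482)) (BT.node 1484 (BT.node 1483 (BT.leaf cP1483) (BT.leaf cP1484)) (BT.leaf cP1485))) (BT.node 1488 (BT.node 1487 (BT.node 1486 (BT.leaf cP1486) (BT.leaf cP1487)) (BT.leaf cP1488)) (BT.node 1490 (BT.node 1489 (BT.leaf cP1489) (BT.leaf cP1490)) (BT.leaf cP1491))))))) (BT.node 1541 (BT.node 1516 (BT.node 1504 (BT.node 1498 (BT.node 1495 (BT.node 1493 (BT.node 1492 (BT.leaf cP1492) (BT.leaf cP1493)) (BT.node 1494 (BT.leaf cP1494) (BT.leaf cP1495))) (BT.node 1497 (BT.node 1496 (BT.leaf cP1496) (BT.leaf cP1497)) (BT.leaf cP1498))) (BT.node 1501 (BT.node 1500 (BT.node 1499 (BT.leaf cP1499)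 (BT.leaf cP1500)) (BT.leaf cP1501)) (BT.node 1503 (BT.node 1502 (BT.leaf cP1502) (BT.leaf cP1503)) (BT.leaf cP1504)))) (BT.node 1510 (BT.node 1507 (BT.node 1506 (BT.node 1505 (BT.leaf cP1505) (BT.leaf cP1506)) (BT.leaf cP1507)) (BT.node 1509 (BT.node 1508 (BT.leaf cP1508) (BT.leaf cP1509)) (BT.leaf cP1510))) (BT.node 1513 (BT.node 1512 (BT.node 1511 (BT.leaf cP1511) (BT.leaf cP1512)) (BT.leaf cP1513)) (BT.node 1515 (BT.node 1514 (BT.leaf cP1514) (BT.leaf cP1515)) (BT.leaf cP1516))))) (BT.node 1529 (BT.node 1523 (BT.node 1520 (BT.node 1518 (BT.node 1517 (BT.leaf cP1517) (BT.leaf cP1518)) (BT.node 1519 (BT.leaf cP1519) (BT.leaf cP1520))) (BT.node 1522 (BT.node 1521 (BT.leaf cP1521) (BT.leaf cP1522)) (BT.leaf cP1523))) (BT.node 1526 (BT.node 1525 (BT.node 1524 (BT.leaf cP1524) (BT.leaf cP1525)) (BT.leaf cP1526)) (BT.node 1528 (BT.node 1527 (BT.leaf cP1527) (BT.leaf cP1528))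 (BT.leaf cP1529)))) (BT.node 1535 (BT.node 1532 (BT.node 1531 (BT.node 1530 (BT.leaf cP1530) (BT.leaf cP1531)) (BT.leaf cP1532)) (BT.node 1534 (BT.node 1533 (BT.leaf cP1533) (BT.leaf cP1534)) (BT.leaf cP1535))) (BT.node 1538 (BT.node 1537 (BT.node 1536 (BT.leaf cP1536) (BT.leaf cP1537)) (BT.leaf cP1538)) (BT.node 1540 (BT.node 1539 (BT.leaf cP1539) (BT.leaf cP1540)) (BT.leaf cP1541)))))) (BT.node 1566 (BT.node 1554 (BT.node 1548 (BT.node 1545 (BT.node 1543 (BT.node 1542 (BT.leaf cP1542) (BT.leaf cP1543)) (BT.node 1544 (BT.leaf cP1544) (BT.leaf cP1545))) (BT.node 1547 (BT.node 1546 (BT.leaf cP1546) (BT.leaf cP1547)) (BT.leaf cP1548))) (BT.node 1551 (BT.node 1550 (BT.node 1549 (BT.leaf cP1549) (BT.leaf cP1550)) (BT.leaf cP1551)) (BT.node 1553 (BT.node 1552 (BT.leaf cP1552) (BT.leaf cP1553)) (BT.leaf cP1554)))) (BT.node 1560 (BT.node 1557 (BT.node 1556 (BT.node 1555 (BT.leaf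 cP1555) (BT.leaf cP1556)) (BT.leaf cP1557)) (BT.node 1559 (BT.node 1558 (BT.leaf cP1558) (BT.leaf cP1559)) (BT.leaf cP1560))) (BT.node 1563 (BT.node 1562 (BT.node 1561 (BT.leaf cP1561) (BT.leaf cP1562)) (BT.leaf cP1563)) (BT.node 1565 (BT.node 1564 (BT.leaf cP1564) (BT.leaf cP1565)) (BT.leaf cP1566))))) (BT.node 1578 (BT.node 1572 (BT.node 1569 (BT.node 1568 (BT.node 1567 (BT.leaf cP1567) (BT.leaf cP1568)) (BT.leaf cP1569)) (BT.node 1571 (BT.node 1570 (BT.leaf cP1570) (BT.leaf cP1571)) (BT.leaf cP1572))) (BT.node 1575 (BT.node 1574 (BT.node 1573 (BT.leaf cP1573) (BT.leaf cP1574)) (BT.leaf cP1575)) (BT.node 1577 (BT.node 1576 (BT.leaf cP1576) (BT.leaf cP1577)) (BT.leaf cP1578)))) (BT.node 1584 (BT.node 1581 (BT.node 1580 (BT.node 1579 (BT.leaf cP1579) (BT.leaf cP1580)) (BT.leaf cP1581)) (BT.node 1583 (BT.node 1582 (BT.leaf cP1582) (BT.leaf cP1583)) (BT.leaf cP1584)))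 (BT.node 1587 (BT.node 1586 (BT.node 1585 (BT.leaf cP1585) (BT.leaf cP1586)) (BT.leaf cP1587)) (BT.node 1589 (BT.node 1588 (BT.leaf cP1588) (BT.leaf cP1589)) (BT.leaf cP1590))))))))
noncomputable def parCT : BT ℕ := (BT.node 795 (BT.node 397 (BT.node 198 parCT_0 parCT_1) (BT.node 596 parCT_2 parCT_3)) (BT.node 1193 (BT.node 994 parCT_4 parCT_5) (BT.node 1392 parCT_6 parCT_7)))
/-- the certificate -/
noncomputable def data : Data where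
  k := 12
  N := 814211
  W := 41
  MW := 2199023255552
  B := 1048576
  CH := 512
  NCH := 1591
  colE := colET
  JW := 64
  MJ := 18446744073709551616
  A := 1048576
  colJ := colJT
  PW := 30
  MP := 1073741824
  parC := parCT
  inv := (BT.node 6 (BT.node 3 (BT.node 1 (BT.node 0 (BT.leaf 1) (BT.leaf 0)) (BT.node 2 (BT.leaf 3) (BT.leaf 2))) (BT.node 5 (BT.node 4 (BT.leaf 5) (BT.leaf 4)) (BT.leaf 7))) (BT.node 9 (BT.node 8 (BT.node 7 (BT.leaf 6) (BT.leaf 9)) (BT.leaf 8)) (BT.node 11 (BT.node 10 (BT.leaf 11) (BT.leaf 10)) (BT.leaf 12))))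
  rel := relT
  sub := subT
  fuel := 64

end Cfsg.Agent.Lib.Helper16.RuM.E3Data
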