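import Cfsg.Agent.Lib.Helper28.TC2Orbit
set_option autoImplicit false
set_option maxRecDepth 100000

namespace Cfsg.Agent.Lib.Helper16.RuM.E3Table
open Cfsg.Agent.Lib.Helper28.TC2Upper Cfsg.Agent.Lib.Helper28.TC2Lower Cfsg.Agent.Lib.Helper28.TC2Orbit

def cT0 : ℕ := 0x0
def cT1 : ℕ := 0x0
def cT2 : ℕ := 0x0
def cT3 : ℕ := 0x0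
def cT4 : ℕ := 0x0
def cT5 : ℕ := 0x0
def cT6 : ℕ := 0x0
def cT7 : ℕ := 0x0
def cT8 : ℕ := 0x0
def cT9 : ℕ := 0x0
def cT10 : ℕ := 0x0
def cT11 : ℕ := 0x0
def cR0 : ℕ := 0x0
/-- table chunks -/
def colTT : BT ℕ := (BT.node 5 (BT.node 2 (BT.node 1 (BT.node 0 (BT.leaf cT0) (BT.leaf cT1)) (BT.leaf cT2)) (BT.node 4 (BT.node 3 (BT.leaf cT3) (BT.leaf cT4)) (BT.leaf cT5))) (BT.node 8 (BT.node 7 (BT.node 6 (BT.leaf cT6) (BT.leaf cT7)) (BT.leaf cT8)) (BT.node 10 (BT.node 9 (BT.leaf cT9) (BT.leaf cT10)) (BT.leaf cT11))))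
/-- spanning tree chunks -/
def treeT : BT ℕ := (BT.leaf cR0)
/-- relator paths -/
def relPaths : List (List ℕ) := [[1, 3, 3, 0, 2, 2], [3, 3, 3, 2, 2, 2], [5, 3, 3, 4, 2, 2], [7, 3, 3, 6, 2, 2], [9, 3, 3, 8, 2, 2], [11, 3, 3, 10, 2, 2], [1, 3, 11, 3, 11, 3, 11, 3, 11, 0, 10, 2, 10, 2, 10, 2, 10, 2], [3, 3, 11, 3, 11, 3, 11, 3, 11, 2, 10, 2, 10, 2, 10, 2, 10, 2], [5, 3, 11, 3, 11, 3, 11, 3, 11, 4, 10, 2, 10, 2, 10, 2, 10, 2], [7, 3, 11, 3, 11, 3, 11, 3, 11, 6, 10, 2, 10, 2, 10, 2, 10, 2], [9, 3, 11, 3, 11, 3, 11, 3, 11, 8, 10, 2, 10, 2, 10, 2, 10, 2], [11, 3, 11, 3, 11, 3, 11, 3, 11, 10, 10, 2, 10, 2, 10, 2, 10, 2], [1,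 3, 11, 11, 3, 11, 11, 3, 11, 11, 3, 11, 11, 0, 10, 10, 2, 10, 10, 2, 10, 10, 2, 10, 10, 2], [3, 3, 11, 11, 3, 11, 11, 3, 11, 11, 3, 11, 11, 2, 10, 10, 2, 10, 10, 2, 10, 10, 2, 10, 10, 2], [5, 3, 11, 11, 3, 11, 11, 3, 11, 11, 3, 11, 11, 4, 10, 10, 2, 10, 10, 2, 10, 10, 2, 10, 10, 2], [7, 3, 11, 11, 3, 11, 11, 3, 11, 11, 3, 11, 11, 6, 10, 10, 2, 10, 10, 2, 10, 10, 2, 10, 10, 2], [9, 3, 11, 11, 3, 11, 11, 3, 11, 11, 3, 11, 11, 8, 10, 10, 2, 10, 10, 2, 10, 10, 2, 10, 10, 2], [11, 3, 11, 11, 3, 11, 11, 3, 11, 11, 3, 11, 11, 10, 10, 10, 2, 10, 10, 2, 10, 10, 2, 10, 10, 2], [1, 11, 11, 11, 11, 11, 11, 11, 11, 11, 11, 11, 11,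 11, 0, 10, 10, 10, 10, 10, 10, 10, 10, 10, 10, 10, 10, 10], [3, 11, 11, 11, 11, 11, 11, 11, 11, 11, 11, 11, 11, 11, 2, 10, 10, 10, 10, 10, 10, 10, 10, 10, 10, 10, 10, 10], [5, 11, 11, 11, 11, 11, 11, 11, 11, 11, 11, 11, 11, 11, 4, 10, 10, 10, 10, 10, 10, 10, 10, 10, 10, 10, 10, 10], [7, 11, 11, 11, 11, 11, 11, 11, 11, 11, 11, 11, 11, 11, 6, 10, 10, 10, 10, 10, 10, 10, 10, 10, 10, 10, 10, 10], [9, 11, 11, 11, 11, 11, 11, 11, 11, 11, 11, 11, 11, 11, 8, 10, 10, 10, 10, 10, 10, 10, 10, 10, 10, 10, 10, 10], [11, 11, 11, 11, 11, 11, 11, 11, 11, 11, 11, 11, 11, 11, 10, 10, 10, 10, 10, 10, 10, 10, 10, 10, 10, 10, 10, 10], [1,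 3, 11, 11, 11, 11, 3, 11, 11, 11, 11, 3, 11, 11, 11, 11, 0, 10, 10, 10, 10, 2, 10, 10, 10, 10, 2, 10, 10, 10, 10, 2], [3, 3, 11, 11, 11, 11, 3, 11, 11, 11, 11, 3, 11, 11, 11, 11, 2, 10, 10, 10, 10, 2, 10, 10, 10, 10, 2, 10, 10, 10, 10, 2], [5, 3, 11, 11, 11, 11, 3, 11, 11, 11, 11, 3, 11, 11, 11, 11, 4, 10, 10, 10, 10, 2, 10, 10, 10, 10, 2, 10, 10, 10, 10, 2], [7, 3, 11, 11, 11, 11, 3, 11, 11, 11, 11, 3, 11, 11, 11, 11, 6, 10, 10, 10, 10, 2, 10, 10, 10, 10, 2, 10, 10, 10, 10, 2], [9, 3, 11, 11, 11, 11, 3, 11, 11, 11, 11, 3, 11, 11, 11, 11, 8, 10, 10, 10, 10, 2, 10, 10, 10, 10, 2, 10, 10, 10, 10, 2], [11, 3, 11, 11, 11,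 11, 3, 11, 11, 11, 11, 3, 11, 11, 11, 11, 10, 10, 10, 10, 10, 2, 10, 10, 10, 10, 2, 10, 10, 10, 10, 2], [1, 10, 1, 5, 1, 3, 5, 0, 4, 2, 0, 4, 0, 11], [3, 10, 1, 5, 1, 3, 5, 2, 4, 2, 0, 4, 0, 11], [5, 10, 1, 5, 1, 3, 5, 4, 4, 2, 0, 4, 0, 11], [7, 10, 1, 5, 1, 3, 5, 6, 4, 2, 0, 4, 0, 11], [9, 10, 1, 5, 1, 3, 5, 8, 4, 2, 0, 4, 0, 11], [11, 10, 1, 5, 1, 3, 5, 10, 4, 2, 0, 4, 0, 11], [1, 1, 1, 0, 0, 0], [3, 1, 1, 2, 0, 0], [5, 1, 1, 4, 0, 0], [7, 1, 1, 6, 0, 0], [9, 1, 1, 8, 0, 0], [11, 1, 1, 10, 0, 0], [1, 5, 5, 0, 4, 4], [3, 5, 5, 2, 4, 4], [5, 5, 5, 4, 4, 4], [7, 5, 5, 6, 4, 4], [9, 5, 5, 8, 4, 4], [11, 5, 5, 10, 4, 4],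 [1, 7, 7, 0, 6, 6], [3, 7, 7, 2, 6, 6], [5, 7, 7, 4, 6, 6], [7, 7, 7, 6, 6, 6], [9, 7, 7, 8, 6, 6], [11, 7, 7, 10, 6, 6], [1, 1, 3, 1, 3, 0, 2, 0, 2, 0], [3, 1, 3, 1, 3, 2, 2, 0, 2, 0], [5, 1, 3, 1, 3, 4, 2, 0, 2, 0], [7, 1, 3, 1, 3, 6, 2, 0, 2, 0], [9, 1, 3, 1, 3, 8, 2, 0, 2, 0], [11, 1, 3, 1, 3, 10, 2, 0, 2, 0], [1, 1, 5, 1, 5, 1, 5, 1, 5, 1, 5, 1, 5, 1, 5, 1, 5, 1, 5, 1, 5, 1, 5, 1, 5, 0, 4, 0, 4, 0, 4, 0, 4, 0, 4, 0, 4, 0, 4, 0, 4, 0, 4, 0, 4, 0, 4, 0, 4, 0], [3, 1, 5, 1, 5, 1, 5, 1, 5, 1, 5, 1, 5, 1, 5, 1, 5, 1, 5, 1, 5, 1, 5, 1, 5, 2, 4, 0, 4, 0, 4, 0, 4, 0, 4, 0, 4, 0, 4, 0, 4, 0, 4, 0, 4, 0, 4, 0, 4, 0], [5, 1,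 5, 1, 5, 1, 5, 1, 5, 1, 5, 1, 5, 1, 5, 1, 5, 1, 5, 1, 5, 1, 5, 1, 5, 4, 4, 0, 4, 0, 4, 0, 4, 0, 4, 0, 4, 0, 4, 0, 4, 0, 4, 0, 4, 0, 4, 0, 4, 0], [7, 1, 5, 1, 5, 1, 5, 1, 5, 1, 5, 1, 5, 1, 5, 1, 5, 1, 5, 1, 5, 1, 5, 1, 5, 6, 4, 0, 4, 0, 4, 0, 4, 0, 4, 0, 4, 0, 4, 0, 4, 0, 4, 0, 4, 0, 4, 0, 4, 0], [9, 1, 5, 1, 5, 1, 5, 1, 5, 1, 5, 1, 5, 1, 5, 1, 5, 1, 5, 1, 5, 1, 5, 1, 5, 8, 4, 0, 4, 0, 4, 0, 4, 0, 4, 0, 4, 0, 4, 0, 4, 0, 4, 0, 4, 0, 4, 0, 4, 0], [11, 1, 5, 1, 5, 1, 5, 1, 5, 1, 5, 1, 5, 1, 5, 1, 5, 1, 5, 1, 5, 1, 5, 1, 5, 10, 4, 0, 4, 0, 4, 0, 4, 0, 4, 0, 4, 0, 4, 0, 4, 0, 4, 0, 4, 0, 4, 0, 4, 0], [1, 1, 7, 1, 7, 0, 6, 0,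 6, 0], [3, 1, 7, 1, 7, 2, 6, 0, 6, 0], [5, 1, 7, 1, 7, 4, 6, 0, 6, 0], [7, 1, 7, 1, 7, 6, 6, 0, 6, 0], [9, 1, 7, 1, 7, 8, 6, 0, 6, 0], [11, 1, 7, 1, 7, 10, 6, 0, 6, 0], [1, 3, 5, 3, 5, 3, 5, 3, 5, 0, 4, 2, 4, 2, 4, 2, 4, 2], [3, 3, 5, 3, 5, 3, 5, 3, 5, 2, 4, 2, 4, 2, 4, 2, 4, 2], [5, 3, 5, 3, 5, 3, 5, 3, 5, 4, 4, 2, 4, 2, 4, 2, 4, 2], [7, 3, 5, 3, 5, 3, 5, 3, 5, 6, 4, 2, 4, 2, 4, 2, 4, 2], [9, 3, 5, 3, 5, 3, 5, 3, 5, 8, 4, 2, 4, 2, 4, 2, 4, 2], [11, 3, 5, 3, 5, 3, 5, 3, 5, 10, 4, 2, 4, 2, 4, 2, 4, 2], [1, 3, 7, 3, 7, 0, 6, 2, 6, 2], [3, 3, 7, 3, 7, 2, 6, 2, 6, 2], [5, 3, 7, 3, 7, 4, 6, 2, 6, 2], [7, 3, 7, 3, 7, 6, 6, 2,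 6, 2], [9, 3, 7, 3, 7, 8, 6, 2, 6, 2], [11, 3, 7, 3, 7, 10, 6, 2, 6, 2], [1, 5, 7, 5, 7, 5, 7, 5, 7, 0, 6, 4, 6, 4, 6, 4, 6, 4], [3, 5, 7, 5, 7, 5, 7, 5, 7, 2, 6, 4, 6, 4, 6, 4, 6, 4], [5, 5, 7, 5, 7, 5, 7, 5, 7, 4, 6, 4, 6, 4, 6, 4, 6, 4], [7, 5, 7, 5, 7, 5, 7, 5, 7, 6, 6, 4, 6, 4, 6, 4, 6, 4], [9, 5, 7, 5, 7, 5, 7, 5, 7, 8, 6, 4, 6, 4, 6, 4, 6, 4], [11, 5, 7, 5, 7, 5, 7, 5, 7, 10, 6, 4, 6, 4, 6, 4, 6, 4], [1, 1, 5, 1, 5, 1, 5, 1, 5, 3, 5, 1, 5, 1, 5, 1, 5, 1, 5, 3, 5, 1, 5, 1, 5, 1, 5, 1, 5, 3, 5, 0, 4, 2, 4, 0, 4, 0, 4, 0, 4, 0, 4, 2, 4, 0, 4, 0, 4, 0, 4, 0, 4, 2, 4, 0, 4, 0, 4, 0, 4, 0], [3, 1, 5, 1, 5, 1, 5, 1, 5,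 3, 5, 1, 5, 1, 5, 1, 5, 1, 5, 3, 5, 1, 5, 1, 5, 1, 5, 1, 5, 3, 5, 2, 4, 2, 4, 0, 4, 0, 4, 0, 4, 0, 4, 2, 4, 0, 4, 0, 4, 0, 4, 0, 4, 2, 4, 0, 4, 0, 4, 0, 4, 0], [5, 1, 5, 1, 5, 1, 5, 1, 5, 3, 5, 1, 5, 1, 5, 1, 5, 1, 5, 3, 5, 1, 5, 1, 5, 1, 5, 1, 5, 3, 5, 4, 4, 2, 4, 0, 4, 0, 4, 0, 4, 0, 4, 2, 4, 0, 4, 0, 4, 0, 4, 0, 4, 2, 4, 0, 4, 0, 4, 0, 4, 0], [7, 1, 5, 1, 5, 1, 5, 1, 5, 3, 5, 1, 5, 1, 5, 1, 5, 1, 5, 3, 5, 1, 5, 1, 5, 1, 5, 1, 5, 3, 5, 6, 4, 2, 4, 0, 4, 0, 4, 0, 4, 0, 4, 2, 4, 0, 4, 0, 4, 0, 4, 0, 4, 2, 4, 0, 4, 0, 4, 0, 4, 0], [9, 1, 5, 1, 5, 1, 5, 1, 5, 3, 5, 1, 5, 1, 5, 1, 5, 1, 5, 3, 5, 1, 5, 1, 5, 1, 5, 1, 5, 3,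 5, 8, 4, 2, 4, 0, 4, 0, 4, 0, 4, 0, 4, 2, 4, 0, 4, 0, 4, 0, 4, 0, 4, 2, 4, 0, 4, 0, 4, 0, 4, 0], [11, 1, 5, 1, 5, 1, 5, 1, 5, 3, 5, 1, 5, 1, 5, 1, 5, 1, 5, 3, 5, 1, 5, 1, 5, 1, 5, 1, 5, 3, 5, 10, 4, 2, 4, 0, 4, 0, 4, 0, 4, 0, 4, 2, 4, 0, 4, 0, 4, 0, 4, 0, 4, 2, 4, 0, 4, 0, 4, 0, 4, 0], [1, 3, 5, 1, 5, 3, 5, 1, 5, 1, 3, 5, 3, 5, 1, 5, 1, 5, 3, 5, 3, 1, 5, 1, 5, 3, 5, 1, 5, 3, 5, 0, 4, 2, 4, 0, 4, 2, 4, 0, 4, 0, 2, 4, 2, 4, 0, 4, 0, 4, 2, 4, 2, 0, 4, 0, 4, 2, 4, 0, 4, 2], [3, 3, 5, 1, 5, 3, 5, 1, 5, 1, 3, 5, 3, 5, 1, 5, 1, 5, 3, 5, 3, 1, 5, 1, 5, 3, 5, 1, 5, 3, 5, 2, 4, 2, 4, 0, 4, 2, 4, 0, 4, 0, 2, 4, 2, 4, 0, 4, 0, 4,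 2, 4, 2, 0, 4, 0, 4, 2, 4, 0, 4, 2], [5, 3, 5, 1, 5, 3, 5, 1, 5, 1, 3, 5, 3, 5, 1, 5, 1, 5, 3, 5, 3, 1, 5, 1, 5, 3, 5, 1, 5, 3, 5, 4, 4, 2, 4, 0, 4, 2, 4, 0, 4, 0, 2, 4, 2, 4, 0, 4, 0, 4, 2, 4, 2, 0, 4, 0, 4, 2, 4, 0, 4, 2], [7, 3, 5, 1, 5, 3, 5, 1, 5, 1, 3, 5, 3, 5, 1, 5, 1, 5, 3, 5, 3, 1, 5, 1, 5, 3, 5, 1, 5, 3, 5, 6, 4, 2, 4, 0, 4, 2, 4, 0, 4, 0, 2, 4, 2, 4, 0, 4, 0, 4, 2, 4, 2, 0, 4, 0, 4, 2, 4, 0, 4, 2], [9, 3, 5, 1, 5, 3, 5, 1, 5, 1, 3, 5, 3, 5, 1, 5, 1, 5, 3, 5, 3, 1, 5, 1, 5, 3, 5, 1, 5, 3, 5, 8, 4, 2, 4, 0, 4, 2, 4, 0, 4, 0, 2, 4, 2, 4, 0, 4, 0, 4, 2, 4, 2, 0, 4, 0, 4, 2, 4, 0, 4, 2], [11, 3, 5, 1, 5, 3, 5, 1,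 5, 1, 3, 5, 3, 5, 1, 5, 1, 5, 3, 5, 3, 1, 5, 1, 5, 3, 5, 1, 5, 3, 5, 10, 4, 2, 4, 0, 4, 2, 4, 0, 4, 0, 2, 4, 2, 4, 0, 4, 0, 4, 2, 4, 2, 0, 4, 0, 4, 2, 4, 0, 4, 2], [1, 3, 5, 1, 5, 1, 5, 1, 5, 1, 5, 1, 5, 3, 5, 1, 3, 5, 1, 5, 1, 5, 1, 5, 1, 5, 3, 1, 5, 1, 0, 0, 4, 0, 2, 4, 0, 4, 0, 4, 0, 4, 0, 4, 2, 0, 4, 2, 4, 0, 4, 0, 4, 0, 4, 0, 4, 0, 4, 2], [3, 3, 5, 1, 5, 1, 5, 1, 5, 1, 5, 1, 5, 3, 5, 1, 3, 5, 1, 5, 1, 5, 1, 5, 1, 5, 3, 1, 5, 1, 2, 0, 4, 0, 2, 4, 0, 4, 0, 4, 0, 4, 0, 4, 2, 0, 4, 2, 4, 0, 4, 0, 4, 0, 4, 0, 4, 0, 4, 2], [5, 3, 5, 1, 5, 1, 5, 1, 5, 1, 5, 1, 5, 3, 5, 1, 3, 5, 1, 5, 1, 5, 1, 5, 1, 5, 3, 1, 5, 1, 4, 0, 4,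 0, 2, 4, 0, 4, 0, 4, 0, 4, 0, 4, 2, 0, 4, 2, 4, 0, 4, 0, 4, 0, 4, 0, 4, 0, 4, 2], [7, 3, 5, 1, 5, 1, 5, 1, 5, 1, 5, 1, 5, 3, 5, 1, 3, 5, 1, 5, 1, 5, 1, 5, 1, 5, 3, 1, 5, 1, 6, 0, 4, 0, 2, 4, 0, 4, 0, 4, 0, 4, 0, 4, 2, 0, 4, 2, 4, 0, 4, 0, 4, 0, 4, 0, 4, 0, 4, 2], [9, 3, 5, 1, 5, 1, 5, 1, 5, 1, 5, 1, 5, 3, 5, 1, 3, 5, 1, 5, 1, 5, 1, 5, 1, 5, 3, 1, 5, 1, 8, 0, 4, 0, 2, 4, 0, 4, 0, 4, 0, 4, 0, 4, 2, 0, 4, 2, 4, 0, 4, 0, 4, 0, 4, 0, 4, 0, 4, 2], [11, 3, 5, 1, 5, 1, 5, 1, 5, 1, 5, 1, 5, 3, 5, 1, 3, 5, 1, 5, 1, 5, 1, 5, 1, 5, 3, 1, 5, 1, 10, 0, 4, 0, 2, 4, 0, 4, 0, 4, 0, 4, 0, 4, 2, 0, 4, 2, 4, 0, 4, 0, 4, 0, 4, 0, 4, 0, 4,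 2], [1, 3, 5, 3, 5, 1, 5, 1, 5, 1, 5, 1, 3, 5, 3, 5, 7, 5, 1, 5, 1, 5, 1, 5, 1, 7, 5, 1, 5, 1, 5, 1, 5, 7, 0, 6, 4, 0, 4, 0, 4, 0, 4, 6, 0, 4, 0, 4, 0, 4, 0, 4, 6, 4, 2, 4, 2, 0, 4, 0, 4, 0, 4, 0, 4, 2, 4, 2], [3, 3, 5, 3, 5, 1, 5, 1, 5, 1, 5, 1, 3, 5, 3, 5, 7, 5, 1, 5, 1, 5, 1, 5, 1, 7, 5, 1, 5, 1, 5, 1, 5, 7, 2, 6, 4, 0, 4, 0, 4, 0, 4, 6, 0, 4, 0, 4, 0, 4, 0, 4, 6, 4, 2, 4, 2, 0, 4, 0, 4, 0, 4, 0, 4, 2, 4, 2], [5, 3, 5, 3, 5, 1, 5, 1, 5, 1, 5, 1, 3, 5, 3, 5, 7, 5, 1, 5, 1, 5, 1, 5, 1, 7, 5, 1, 5, 1, 5, 1, 5, 7, 4, 6, 4, 0, 4, 0, 4, 0, 4, 6, 0, 4, 0, 4, 0, 4, 0, 4, 6, 4, 2, 4, 2, 0, 4, 0, 4, 0, 4, 0, 4, 2, 4, 2], [7,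 3, 5, 3, 5, 1, 5, 1, 5, 1, 5, 1, 3, 5, 3, 5, 7, 5, 1, 5, 1, 5, 1, 5, 1, 7, 5, 1, 5, 1, 5, 1, 5, 7, 6, 6, 4, 0, 4, 0, 4, 0, 4, 6, 0, 4, 0, 4, 0, 4, 0, 4, 6, 4, 2, 4, 2, 0, 4, 0, 4, 0, 4, 0, 4, 2, 4, 2], [9, 3, 5, 3, 5, 1, 5, 1, 5, 1, 5, 1, 3, 5, 3, 5, 7, 5, 1, 5, 1, 5, 1, 5, 1, 7, 5, 1, 5, 1, 5, 1, 5, 7, 8, 6, 4, 0, 4, 0, 4, 0, 4, 6, 0, 4, 0, 4, 0, 4, 0, 4, 6, 4, 2, 4, 2, 0, 4, 0, 4, 0, 4, 0, 4, 2, 4, 2], [11, 3, 5, 3, 5, 1, 5, 1, 5, 1, 5, 1, 3, 5, 3, 5, 7, 5, 1, 5, 1, 5, 1, 5, 1, 7, 5, 1, 5, 1, 5, 1, 5, 7, 10, 6, 4, 0, 4, 0, 4, 0, 4, 6, 0, 4, 0, 4, 0, 4, 0, 4, 6, 4, 2, 4, 2, 0, 4, 0, 4, 0, 4, 0, 4, 2, 4, 2], [1, 5, 1,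 5, 7, 5, 1, 3, 7, 5, 3, 5, 1, 5, 3, 7, 5, 3, 5, 7, 5, 3, 5, 7, 3, 5, 1, 5, 7, 3, 5, 1, 5, 7, 0, 6, 4, 0, 4, 2, 6, 4, 0, 4, 2, 6, 4, 2, 4, 6, 4, 2, 4, 6, 2, 4, 0, 4, 2, 4, 6, 2, 0, 4, 6, 4, 0, 4], [3, 5, 1, 5, 7, 5, 1, 3, 7, 5, 3, 5, 1, 5, 3, 7, 5, 3, 5, 7, 5, 3, 5, 7, 3, 5, 1, 5, 7, 3, 5, 1, 5, 7, 2, 6, 4, 0, 4, 2, 6, 4, 0, 4, 2, 6, 4, 2, 4, 6, 4, 2, 4, 6, 2, 4, 0, 4, 2, 4, 6, 2, 0, 4, 6, 4, 0, 4], [5, 5, 1, 5, 7, 5, 1, 3, 7, 5, 3, 5, 1, 5, 3, 7, 5, 3, 5, 7, 5, 3, 5, 7, 3, 5, 1, 5, 7, 3, 5, 1, 5, 7, 4, 6, 4, 0, 4, 2, 6, 4, 0, 4, 2, 6, 4, 2, 4, 6, 4, 2, 4, 6, 2, 4, 0, 4, 2, 4, 6, 2, 0, 4, 6, 4, 0, 4], [7, 5, 1, 5, 7, 5,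 1, 3, 7, 5, 3, 5, 1, 5, 3, 7, 5, 3, 5, 7, 5, 3, 5, 7, 3, 5, 1, 5, 7, 3, 5, 1, 5, 7, 6, 6, 4, 0, 4, 2, 6, 4, 0, 4, 2, 6, 4, 2, 4, 6, 4, 2, 4, 6, 2, 4, 0, 4, 2, 4, 6, 2, 0, 4, 6, 4, 0, 4], [9, 5, 1, 5, 7, 5, 1, 3, 7, 5, 3, 5, 1, 5, 3, 7, 5, 3, 5, 7, 5, 3, 5, 7, 3, 5, 1, 5, 7, 3, 5, 1, 5, 7, 8, 6, 4, 0, 4, 2, 6, 4, 0, 4, 2, 6, 4, 2, 4, 6, 4, 2, 4, 6, 2, 4, 0, 4, 2, 4, 6, 2, 0, 4, 6, 4, 0, 4], [11, 5, 1, 5, 7, 5, 1, 3, 7, 5, 3, 5, 1, 5, 3, 7, 5, 3, 5, 7, 5, 3, 5, 7, 3, 5, 1, 5, 7, 3, 5, 1, 5, 7, 10, 6, 4, 0, 4, 2, 6, 4, 0, 4, 2, 6, 4, 2, 4, 6, 4, 2, 4, 6, 2, 4, 0, 4, 2, 4, 6, 2, 0, 4, 6, 4, 0, 4], [1, 5, 1, 3, 5, 1, 5, 1,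 3, 5, 7, 5, 1, 5, 3, 7, 5, 1, 5, 3, 5, 7, 5, 3, 5, 1, 5, 7, 3, 5, 1, 5, 7, 0, 6, 4, 0, 4, 2, 6, 4, 0, 4, 2, 4, 6, 4, 2, 4, 0, 4, 6, 2, 4, 0, 4, 6, 4, 2, 0, 4, 0, 4, 2, 0, 4], [3, 5, 1, 3, 5, 1, 5, 1, 3, 5, 7, 5, 1, 5, 3, 7, 5, 1, 5, 3, 5, 7, 5, 3, 5, 1, 5, 7, 3, 5, 1, 5, 7, 2, 6, 4, 0, 4, 2, 6, 4, 0, 4, 2, 4, 6, 4, 2, 4, 0, 4, 6, 2, 4, 0, 4, 6, 4, 2, 0, 4, 0, 4, 2, 0, 4], [5, 5, 1, 3, 5, 1, 5, 1, 3, 5, 7, 5, 1, 5, 3, 7, 5, 1, 5, 3, 5, 7, 5, 3, 5, 1, 5, 7, 3, 5, 1, 5, 7, 4, 6, 4, 0, 4, 2, 6, 4, 0, 4, 2, 4, 6, 4, 2, 4, 0, 4, 6, 2, 4, 0, 4, 6, 4, 2, 0, 4, 0, 4, 2, 0, 4], [7, 5, 1, 3, 5, 1, 5, 1, 3, 5, 7, 5, 1, 5, 3, 7, 5,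 1, 5, 3, 5, 7, 5, 3, 5, 1, 5, 7, 3, 5, 1, 5, 7, 6, 6, 4, 0, 4, 2, 6, 4, 0, 4, 2, 4, 6, 4, 2, 4, 0, 4, 6, 2, 4, 0, 4, 6, 4, 2, 0, 4, 0, 4, 2, 0, 4], [9, 5, 1, 3, 5, 1, 5, 1, 3, 5, 7, 5, 1, 5, 3, 7, 5, 1, 5, 3, 5, 7, 5, 3, 5, 1, 5, 7, 3, 5, 1, 5, 7, 8, 6, 4, 0, 4, 2, 6, 4, 0, 4, 2, 4, 6, 4, 2, 4, 0, 4, 6, 2, 4, 0, 4, 6, 4, 2, 0, 4, 0, 4, 2, 0, 4], [11, 5, 1, 3, 5, 1, 5, 1, 3, 5, 7, 5, 1, 5, 3, 7, 5, 1, 5, 3, 5, 7, 5, 3, 5, 1, 5, 7, 3, 5, 1, 5, 7, 10, 6, 4, 0, 4, 2, 6, 4, 0, 4, 2, 4, 6, 4, 2, 4, 0, 4, 6, 2, 4, 0, 4, 6, 4, 2, 0, 4, 0, 4, 2, 0, 4], [1, 5, 1, 3, 5, 1, 5, 1, 3, 5, 7, 5, 1, 5, 3, 7, 5, 1, 7, 5, 7, 3, 7, 5, 7,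 1, 5, 7, 3, 5, 1, 5, 7, 0, 6, 4, 0, 4, 2, 6, 4, 0, 6, 4, 6, 2, 6, 4, 6, 0, 4, 6, 2, 4, 0, 4, 6, 4, 2, 0, 4, 0, 4, 2, 0, 4], [3, 5, 1, 3, 5, 1, 5, 1, 3, 5, 7, 5, 1, 5, 3, 7, 5, 1, 7, 5, 7, 3, 7, 5, 7, 1, 5, 7, 3, 5, 1, 5, 7, 2, 6, 4, 0, 4, 2, 6, 4, 0, 6, 4, 6, 2, 6, 4, 6, 0, 4, 6, 2, 4, 0, 4, 6, 4, 2, 0, 4, 0, 4, 2, 0, 4], [5, 5, 1, 3, 5, 1, 5, 1, 3, 5, 7, 5, 1, 5, 3, 7, 5, 1, 7, 5, 7, 3, 7, 5, 7, 1, 5, 7, 3, 5, 1, 5, 7, 4, 6, 4, 0, 4, 2, 6, 4, 0, 6, 4, 6, 2, 6, 4, 6, 0, 4, 6, 2, 4, 0, 4, 6, 4, 2, 0, 4, 0, 4, 2, 0, 4], [7, 5, 1, 3, 5, 1, 5, 1, 3, 5, 7, 5, 1, 5, 3, 7, 5, 1, 7, 5, 7, 3, 7, 5, 7, 1, 5, 7, 3, 5, 1, 5, 7, 6,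 6, 4, 0, 4, 2, 6, 4, 0, 6, 4, 6, 2, 6, 4, 6, 0, 4, 6, 2, 4, 0, 4, 6, 4, 2, 0, 4, 0, 4, 2, 0, 4], [9, 5, 1, 3, 5, 1, 5, 1, 3, 5, 7, 5, 1, 5, 3, 7, 5, 1, 7, 5, 7, 3, 7, 5, 7, 1, 5, 7, 3, 5, 1, 5, 7, 8, 6, 4, 0, 4, 2, 6, 4, 0, 6, 4, 6, 2, 6, 4, 6, 0, 4, 6, 2, 4, 0, 4, 6, 4, 2, 0, 4, 0, 4, 2, 0, 4], [11, 5, 1, 3, 5, 1, 5, 1, 3, 5, 7, 5, 1, 5, 3, 7, 5, 1, 7, 5, 7, 3, 7, 5, 7, 1, 5, 7, 3, 5, 1, 5, 7, 10, 6, 4, 0, 4, 2, 6, 4, 0, 6, 4, 6, 2, 6, 4, 6, 0, 4, 6, 2, 4, 0, 4, 6, 4, 2, 0, 4, 0, 4, 2, 0, 4], [1, 5, 3, 5, 1, 5, 3, 5, 1, 5, 3, 5, 7, 5, 3, 5, 1, 5, 7, 5, 3, 5, 1, 5, 3, 5, 7, 5, 1, 5, 3, 5, 7, 0, 6, 4, 2, 4, 0, 4, 6, 4,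 2, 4, 0, 4, 2, 4, 6, 4, 0, 4, 2, 4, 6, 4, 2, 4, 0, 4, 2, 4, 0, 4, 2, 4], [3, 5, 3, 5, 1, 5, 3, 5, 1, 5, 3, 5, 7, 5, 3, 5, 1, 5, 7, 5, 3, 5, 1, 5, 3, 5, 7, 5, 1, 5, 3, 5, 7, 2, 6, 4, 2, 4, 0, 4, 6, 4, 2, 4, 0, 4, 2, 4, 6, 4, 0, 4, 2, 4, 6, 4, 2, 4, 0, 4, 2, 4, 0, 4, 2, 4], [5, 5, 3, 5, 1, 5, 3, 5, 1, 5, 3, 5, 7, 5, 3, 5, 1, 5, 7, 5, 3, 5, 1, 5, 3, 5, 7, 5, 1, 5, 3, 5, 7, 4, 6, 4, 2, 4, 0, 4, 6, 4, 2, 4, 0, 4, 2, 4, 6, 4, 0, 4, 2, 4, 6, 4, 2, 4, 0, 4, 2, 4, 0, 4, 2, 4], [7, 5, 3, 5, 1, 5, 3, 5, 1, 5, 3, 5, 7, 5, 3, 5, 1, 5, 7, 5, 3, 5, 1, 5, 3, 5, 7, 5, 1, 5, 3, 5, 7, 6, 6, 4, 2, 4, 0, 4, 6, 4, 2, 4, 0, 4, 2, 4, 6, 4, 0,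 4, 2, 4, 6, 4, 2, 4, 0, 4, 2, 4, 0, 4, 2, 4], [9, 5, 3, 5, 1, 5, 3, 5, 1, 5, 3, 5, 7, 5, 3, 5, 1, 5, 7, 5, 3, 5, 1, 5, 3, 5, 7, 5, 1, 5, 3, 5, 7, 8, 6, 4, 2, 4, 0, 4, 6, 4, 2, 4, 0, 4, 2, 4, 6, 4, 0, 4, 2, 4, 6, 4, 2, 4, 0, 4, 2, 4, 0, 4, 2, 4], [11, 5, 3, 5, 1, 5, 3, 5, 1, 5, 3, 5, 7, 5, 3, 5, 1, 5, 7, 5, 3, 5, 1, 5, 3, 5, 7, 5, 1, 5, 3, 5, 7, 10, 6, 4, 2, 4, 0, 4, 6, 4, 2, 4, 0, 4, 2, 4, 6, 4, 0, 4, 2, 4, 6, 4, 2, 4, 0, 4, 2, 4, 0, 4, 2, 4], [1, 5, 1, 5, 3, 5, 1, 5, 3, 5, 7, 5, 3, 5, 1, 5, 3, 5, 1, 5, 1, 7, 1, 5, 7, 3, 5, 1, 5, 7, 3, 5, 7, 0, 6, 4, 2, 6, 4, 0, 4, 2, 6, 4, 0, 6, 0, 4, 0, 4, 2, 4, 0, 4, 2, 4, 6, 4, 2,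 4, 0, 4, 2, 4, 0, 4], [3, 5, 1, 5, 3, 5, 1, 5, 3, 5, 7, 5, 3, 5, 1, 5, 3, 5, 1, 5, 1, 7, 1, 5, 7, 3, 5, 1, 5, 7, 3, 5, 7, 2, 6, 4, 2, 6, 4, 0, 4, 2, 6, 4, 0, 6, 0, 4, 0, 4, 2, 4, 0, 4, 2, 4, 6, 4, 2, 4, 0, 4, 2, 4, 0, 4], [5, 5, 1, 5, 3, 5, 1, 5, 3, 5, 7, 5, 3, 5, 1, 5, 3, 5, 1, 5, 1, 7, 1, 5, 7, 3, 5, 1, 5, 7, 3, 5, 7, 4, 6, 4, 2, 6, 4, 0, 4, 2, 6, 4, 0, 6, 0, 4, 0, 4, 2, 4, 0, 4, 2, 4, 6, 4, 2, 4, 0, 4, 2, 4, 0, 4], [7, 5, 1, 5, 3, 5, 1, 5, 3, 5, 7, 5, 3, 5, 1, 5, 3, 5, 1, 5, 1, 7, 1, 5, 7, 3, 5, 1, 5, 7, 3, 5, 7, 6, 6, 4, 2, 6, 4, 0, 4, 2, 6, 4, 0, 6, 0, 4, 0, 4, 2, 4, 0, 4, 2, 4, 6, 4, 2, 4, 0, 4, 2, 4, 0, 4], [9,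 5, 1, 5, 3, 5, 1, 5, 3, 5, 7, 5, 3, 5, 1, 5, 3, 5, 1, 5, 1, 7, 1, 5, 7, 3, 5, 1, 5, 7, 3, 5, 7, 8, 6, 4, 2, 6, 4, 0, 4, 2, 6, 4, 0, 6, 0, 4, 0, 4, 2, 4, 0, 4, 2, 4, 6, 4, 2, 4, 0, 4, 2, 4, 0, 4], [11, 5, 1, 5, 3, 5, 1, 5, 3, 5, 7, 5, 3, 5, 1, 5, 3, 5, 1, 5, 1, 7, 1, 5, 7, 3, 5, 1, 5, 7, 3, 5, 7, 10, 6, 4, 2, 6, 4, 0, 4, 2, 6, 4, 0, 6, 0, 4, 0, 4, 2, 4, 0, 4, 2, 4, 6, 4, 2, 4, 0, 4, 2, 4, 0, 4], [1, 9, 9, 0, 8, 8], [3, 9, 9, 2, 8, 8], [5, 9, 9, 4, 8, 8], [7, 9, 9, 6, 8, 8], [9, 9, 9, 8, 8, 8], [11, 9, 9, 10, 8, 8], [1, 1, 9, 1, 9, 0, 8, 0, 8, 0], [3, 1, 9, 1, 9, 2, 8, 0, 8, 0], [5, 1, 9, 1, 9, 4, 8, 0, 8, 0], [7, 1, 9,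 1, 9, 6, 8, 0, 8, 0], [9, 1, 9, 1, 9, 8, 8, 0, 8, 0], [11, 1, 9, 1, 9, 10, 8, 0, 8, 0], [1, 3, 9, 3, 9, 0, 8, 2, 8, 2], [3, 3, 9, 3, 9, 2, 8, 2, 8, 2], [5, 3, 9, 3, 9, 4, 8, 2, 8, 2], [7, 3, 9, 3, 9, 6, 8, 2, 8, 2], [9, 3, 9, 3, 9, 8, 8, 2, 8, 2], [11, 3, 9, 3, 9, 10, 8, 2, 8, 2], [1, 5, 9, 5, 9, 5, 9, 5, 9, 0, 8, 4, 8, 4, 8, 4, 8, 4], [3, 5, 9, 5, 9, 5, 9, 5, 9, 2, 8, 4, 8, 4, 8, 4, 8, 4], [5, 5, 9, 5, 9, 5, 9, 5, 9, 4, 8, 4, 8, 4, 8, 4, 8, 4], [7, 5, 9, 5, 9, 5, 9, 5, 9, 6, 8, 4, 8, 4, 8, 4, 8, 4], [9, 5, 9, 5, 9, 5, 9, 5, 9, 8, 8, 4, 8, 4, 8, 4, 8, 4], [11, 5, 9, 5, 9, 5, 9, 5, 9, 10, 8, 4, 8, 4, 8, 4, 8, 4], [1, 7,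 9, 7, 9, 7, 9, 7, 9, 0, 8, 6, 8, 6, 8, 6, 8, 6], [3, 7, 9, 7, 9, 7, 9, 7, 9, 2, 8, 6, 8, 6, 8, 6, 8, 6], [5, 7, 9, 7, 9, 7, 9, 7, 9, 4, 8, 6, 8, 6, 8, 6, 8, 6], [7, 7, 9, 7, 9, 7, 9, 7, 9, 6, 8, 6, 8, 6, 8, 6, 8, 6], [9, 7, 9, 7, 9, 7, 9, 7, 9, 8, 8, 6, 8, 6, 8, 6, 8, 6], [11, 7, 9, 7, 9, 7, 9, 7, 9, 10, 8, 6, 8, 6, 8, 6, 8, 6], [1, 3, 5, 1, 5, 1, 5, 1, 5, 1, 5, 1, 5, 3, 9, 5, 1, 5, 1, 5, 9, 1, 9, 5, 1, 5, 1, 5, 9, 0, 8, 4, 0, 4, 0, 4, 8, 0, 8, 4, 0, 4, 0, 4, 8, 2, 4, 0, 4, 0, 4, 0, 4, 0, 4, 0, 4, 2], [3, 3, 5, 1, 5, 1, 5, 1, 5, 1, 5, 1, 5, 3, 9, 5, 1, 5, 1, 5, 9, 1, 9, 5, 1, 5, 1, 5, 9, 2, 8, 4, 0, 4, 0, 4, 8, 0, 8, 4,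 0, 4, 0, 4, 8, 2, 4, 0, 4, 0, 4, 0, 4, 0, 4, 0, 4, 2], [5, 3, 5, 1, 5, 1, 5, 1, 5, 1, 5, 1, 5, 3, 9, 5, 1, 5, 1, 5, 9, 1, 9, 5, 1, 5, 1, 5, 9, 4, 8, 4, 0, 4, 0, 4, 8, 0, 8, 4, 0, 4, 0, 4, 8, 2, 4, 0, 4, 0, 4, 0, 4, 0, 4, 0, 4, 2], [7, 3, 5, 1, 5, 1, 5, 1, 5, 1, 5, 1, 5, 3, 9, 5, 1, 5, 1, 5, 9, 1, 9, 5, 1, 5, 1, 5, 9, 6, 8, 4, 0, 4, 0, 4, 8, 0, 8, 4, 0, 4, 0, 4, 8, 2, 4, 0, 4, 0, 4, 0, 4, 0, 4, 0, 4, 2], [9, 3, 5, 1, 5, 1, 5, 1, 5, 1, 5, 1, 5, 3, 9, 5, 1, 5, 1, 5, 9, 1, 9, 5, 1, 5, 1, 5, 9, 8, 8, 4, 0, 4, 0, 4, 8, 0, 8, 4, 0, 4, 0, 4, 8, 2, 4, 0, 4, 0, 4, 0, 4, 0, 4, 0, 4, 2], [11, 3, 5, 1, 5, 1, 5, 1, 5, 1, 5, 1, 5, 3,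 9, 5, 1, 5, 1, 5, 9, 1, 9, 5, 1, 5, 1, 5, 9, 10, 8, 4, 0, 4, 0, 4, 8, 0, 8, 4, 0, 4, 0, 4, 8, 2, 4, 0, 4, 0, 4, 0, 4, 0, 4, 0, 4, 2], [1, 3, 5, 1, 5, 1, 3, 5, 1, 5, 3, 9, 5, 1, 5, 1, 7, 9, 5, 3, 9, 5, 9, 7, 1, 5, 1, 5, 9, 0, 8, 4, 0, 4, 0, 6, 8, 4, 8, 2, 4, 8, 6, 0, 4, 0, 4, 8, 2, 4, 0, 4, 2, 0, 4, 0, 4, 2], [3, 3, 5, 1, 5, 1, 3, 5, 1, 5, 3, 9, 5, 1, 5, 1, 7, 9, 5, 3, 9, 5, 9, 7, 1, 5, 1, 5, 9, 2, 8, 4, 0, 4, 0, 6, 8, 4, 8, 2, 4, 8, 6, 0, 4, 0, 4, 8, 2, 4, 0, 4, 2, 0, 4, 0, 4, 2], [5, 3, 5, 1, 5, 1, 3, 5, 1, 5, 3, 9, 5, 1, 5, 1, 7, 9, 5, 3, 9, 5, 9, 7, 1, 5, 1, 5, 9, 4, 8, 4, 0, 4, 0, 6, 8, 4, 8, 2, 4, 8, 6, 0, 4, 0, 4,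 8, 2, 4, 0, 4, 2, 0, 4, 0, 4, 2], [7, 3, 5, 1, 5, 1, 3, 5, 1, 5, 3, 9, 5, 1, 5, 1, 7, 9, 5, 3, 9, 5, 9, 7, 1, 5, 1, 5, 9, 6, 8, 4, 0, 4, 0, 6, 8, 4, 8, 2, 4, 8, 6, 0, 4, 0, 4, 8, 2, 4, 0, 4, 2, 0, 4, 0, 4, 2], [9, 3, 5, 1, 5, 1, 3, 5, 1, 5, 3, 9, 5, 1, 5, 1, 7, 9, 5, 3, 9, 5, 9, 7, 1, 5, 1, 5, 9, 8, 8, 4, 0, 4, 0, 6, 8, 4, 8, 2, 4, 8, 6, 0, 4, 0, 4, 8, 2, 4, 0, 4, 2, 0, 4, 0, 4, 2], [11, 3, 5, 1, 5, 1, 3, 5, 1, 5, 3, 9, 5, 1, 5, 1, 7, 9, 5, 3, 9, 5, 9, 7, 1, 5, 1, 5, 9, 10, 8, 4, 0, 4, 0, 6, 8, 4, 8, 2, 4, 8, 6, 0, 4, 0, 4, 8, 2, 4, 0, 4, 2, 0, 4, 0, 4, 2], [1, 5, 3, 5, 9, 5, 1, 7, 9, 7, 5, 7, 9, 5, 7, 5, 7, 5, 7, 9, 3,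 5, 7, 9, 7, 5, 1, 5, 9, 0, 8, 4, 0, 4, 6, 8, 6, 4, 2, 8, 6, 4, 6, 4, 6, 4, 8, 6, 4, 6, 8, 6, 0, 4, 8, 4, 2, 4], [3, 5, 3, 5, 9, 5, 1, 7, 9, 7, 5, 7, 9, 5, 7, 5, 7, 5, 7, 9, 3, 5, 7, 9, 7, 5, 1, 5, 9, 2, 8, 4, 0, 4, 6, 8, 6, 4, 2, 8, 6, 4, 6, 4, 6, 4, 8, 6, 4, 6, 8, 6, 0, 4, 8, 4, 2, 4], [5, 5, 3, 5, 9, 5, 1, 7, 9, 7, 5, 7, 9, 5, 7, 5, 7, 5, 7, 9, 3, 5, 7, 9, 7, 5, 1, 5, 9, 4, 8, 4, 0, 4, 6, 8, 6, 4, 2, 8, 6, 4, 6, 4, 6, 4, 8, 6, 4, 6, 8, 6, 0, 4, 8, 4, 2, 4], [7, 5, 3, 5, 9, 5, 1, 7, 9, 7, 5, 7, 9, 5, 7, 5, 7, 5, 7, 9, 3, 5, 7, 9, 7, 5, 1, 5, 9, 6, 8, 4, 0, 4, 6, 8, 6, 4, 2, 8, 6, 4, 6, 4, 6, 4, 8, 6, 4, 6, 8, 6, 0, 4,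 8, 4, 2, 4], [9, 5, 3, 5, 9, 5, 1, 7, 9, 7, 5, 7, 9, 5, 7, 5, 7, 5, 7, 9, 3, 5, 7, 9, 7, 5, 1, 5, 9, 8, 8, 4, 0, 4, 6, 8, 6, 4, 2, 8, 6, 4, 6, 4, 6, 4, 8, 6, 4, 6, 8, 6, 0, 4, 8, 4, 2, 4], [11, 5, 3, 5, 9, 5, 1, 7, 9, 7, 5, 7, 9, 5, 7, 5, 7, 5, 7, 9, 3, 5, 7, 9, 7, 5, 1, 5, 9, 10, 8, 4, 0, 4, 6, 8, 6, 4, 2, 8, 6, 4, 6, 4, 6, 4, 8, 6, 4, 6, 8, 6, 0, 4, 8, 4, 2, 4], [1, 3, 5, 7, 5, 3, 9, 5, 1, 5, 9, 5, 3, 9, 7, 5, 1, 3, 1, 5, 7, 9, 3, 5, 9, 5, 1, 5, 9, 0, 8, 4, 0, 4, 8, 4, 2, 8, 6, 4, 0, 2, 0, 4, 6, 8, 2, 4, 8, 4, 0, 4, 8, 2, 4, 6, 4, 2], [3, 3, 5, 7, 5, 3, 9, 5, 1, 5, 9, 5, 3, 9, 7, 5, 1, 3, 1, 5, 7, 9, 3, 5, 9, 5, 1, 5,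 9, 2, 8, 4, 0, 4, 8, 4, 2, 8, 6, 4, 0, 2, 0, 4, 6, 8, 2, 4, 8, 4, 0, 4, 8, 2, 4, 6, 4, 2], [5, 3, 5, 7, 5, 3, 9, 5, 1, 5, 9, 5, 3, 9, 7, 5, 1, 3, 1, 5, 7, 9, 3, 5, 9, 5, 1, 5, 9, 4, 8, 4, 0, 4, 8, 4, 2, 8, 6, 4, 0, 2, 0, 4, 6, 8, 2, 4, 8, 4, 0, 4, 8, 2, 4, 6, 4, 2], [7, 3, 5, 7, 5, 3, 9, 5, 1, 5, 9, 5, 3, 9, 7, 5, 1, 3, 1, 5, 7, 9, 3, 5, 9, 5, 1, 5, 9, 6, 8, 4, 0, 4, 8, 4, 2, 8, 6, 4, 0, 2, 0, 4, 6, 8, 2, 4, 8, 4, 0, 4, 8, 2, 4, 6, 4, 2], [9, 3, 5, 7, 5, 3, 9, 5, 1, 5, 9, 5, 3, 9, 7, 5, 1, 3, 1, 5, 7, 9, 3, 5, 9, 5, 1, 5, 9, 8, 8, 4, 0, 4, 8, 4, 2, 8, 6, 4, 0, 2, 0, 4, 6, 8, 2, 4, 8, 4, 0, 4, 8, 2, 4, 6, 4, 2], [11, 3,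 5, 7, 5, 3, 9, 5, 1, 5, 9, 5, 3, 9, 7, 5, 1, 3, 1, 5, 7, 9, 3, 5, 9, 5, 1, 5, 9, 10, 8, 4, 0, 4, 8, 4, 2, 8, 6, 4, 0, 2, 0, 4, 6, 8, 2, 4, 8, 4, 0, 4, 8, 2, 4, 6, 4, 2], [1, 1, 3, 5, 1, 5, 1, 5, 1, 7, 5, 1, 5, 1, 5, 1, 3, 9, 5, 1, 7, 5, 1, 7, 5, 7, 1, 5, 9, 0, 8, 4, 0, 6, 4, 6, 0, 4, 6, 0, 4, 8, 2, 0, 4, 0, 4, 0, 4, 6, 0, 4, 0, 4, 0, 4, 2, 0], [3, 1, 3, 5, 1, 5, 1, 5, 1, 7, 5, 1, 5, 1, 5, 1, 3, 9, 5, 1, 7, 5, 1, 7, 5, 7, 1, 5, 9, 2, 8, 4, 0, 6, 4, 6, 0, 4, 6, 0, 4, 8, 2, 0, 4, 0, 4, 0, 4, 6, 0, 4, 0, 4, 0, 4, 2, 0], [5, 1, 3, 5, 1, 5, 1, 5, 1, 7, 5, 1, 5, 1, 5, 1, 3, 9, 5, 1, 7, 5, 1, 7, 5, 7, 1, 5, 9, 4, 8, 4, 0, 6, 4,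 6, 0, 4, 6, 0, 4, 8, 2, 0, 4, 0, 4, 0, 4, 6, 0, 4, 0, 4, 0, 4, 2, 0], [7, 1, 3, 5, 1, 5, 1, 5, 1, 7, 5, 1, 5, 1, 5, 1, 3, 9, 5, 1, 7, 5, 1, 7, 5, 7, 1, 5, 9, 6, 8, 4, 0, 6, 4, 6, 0, 4, 6, 0, 4, 8, 2, 0, 4, 0, 4, 0, 4, 6, 0, 4, 0, 4, 0, 4, 2, 0], [9, 1, 3, 5, 1, 5, 1, 5, 1, 7, 5, 1, 5, 1, 5, 1, 3, 9, 5, 1, 7, 5, 1, 7, 5, 7, 1, 5, 9, 8, 8, 4, 0, 6, 4, 6, 0, 4, 6, 0, 4, 8, 2, 0, 4, 0, 4, 0, 4, 6, 0, 4, 0, 4, 0, 4, 2, 0], [11, 1, 3, 5, 1, 5, 1, 5, 1, 7, 5, 1, 5, 1, 5, 1, 3, 9, 5, 1, 7, 5, 1, 7, 5, 7, 1, 5, 9, 10, 8, 4, 0, 6, 4, 6, 0, 4, 6, 0, 4, 8, 2, 0, 4, 0, 4, 0, 4, 6, 0, 4, 0, 4, 0, 4, 2, 0], [1, 5, 3, 5, 7, 5, 3, 9, 5,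 9, 7, 5, 9, 5, 3, 5, 9, 5, 7, 5, 9, 3, 5, 7, 9, 5, 3, 5, 9, 0, 8, 4, 2, 4, 8, 6, 4, 2, 8, 4, 6, 4, 8, 4, 2, 4, 8, 4, 6, 8, 4, 8, 2, 4, 6, 4, 2, 4], [3, 5, 3, 5, 7, 5, 3, 9, 5, 9, 7, 5, 9, 5, 3, 5, 9, 5, 7, 5, 9, 3, 5, 7, 9, 5, 3, 5, 9, 2, 8, 4, 2, 4, 8, 6, 4, 2, 8, 4, 6, 4, 8, 4, 2, 4, 8, 4, 6, 8, 4, 8, 2, 4, 6, 4, 2, 4], [5, 5, 3, 5, 7, 5, 3, 9, 5, 9, 7, 5, 9, 5, 3, 5, 9, 5, 7, 5, 9, 3, 5, 7, 9, 5, 3, 5, 9, 4, 8, 4, 2, 4, 8, 6, 4, 2, 8, 4, 6, 4, 8, 4, 2, 4, 8, 4, 6, 8, 4, 8, 2, 4, 6, 4, 2, 4], [7, 5, 3, 5, 7, 5, 3, 9, 5, 9, 7, 5, 9, 5, 3, 5, 9, 5, 7, 5, 9, 3, 5, 7, 9, 5, 3, 5, 9, 6, 8, 4, 2, 4, 8, 6, 4, 2, 8, 4, 6, 4,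 8, 4, 2, 4, 8, 4, 6, 8, 4, 8, 2, 4, 6, 4, 2, 4], [9, 5, 3, 5, 7, 5, 3, 9, 5, 9, 7, 5, 9, 5, 3, 5, 9, 5, 7, 5, 9, 3, 5, 7, 9, 5, 3, 5, 9, 8, 8, 4, 2, 4, 8, 6, 4, 2, 8, 4, 6, 4, 8, 4, 2, 4, 8, 4, 6, 8, 4, 8, 2, 4, 6, 4, 2, 4], [11, 5, 3, 5, 7, 5, 3, 9, 5, 9, 7, 5, 9, 5, 3, 5, 9, 5, 7, 5, 9, 3, 5, 7, 9, 5, 3, 5, 9, 10, 8, 4, 2, 4, 8, 6, 4, 2, 8, 4, 6, 4, 8, 4, 2, 4, 8, 4, 6, 8, 4, 8, 2, 4, 6, 4, 2, 4], [1, 3, 5, 1, 7, 5, 3, 9, 5, 1, 7, 5, 9, 5, 3, 7, 5, 1, 3, 1, 5, 7, 5, 9, 5, 7, 3, 5, 9, 0, 8, 4, 2, 6, 4, 8, 4, 6, 4, 0, 2, 0, 4, 6, 2, 4, 8, 4, 6, 0, 4, 8, 2, 4, 6, 0, 4, 2], [3, 3, 5, 1, 7, 5, 3, 9, 5, 1, 7, 5, 9, 5, 3, 7,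 5, 1, 3, 1, 5, 7, 5, 9, 5, 7, 3, 5, 9, 2, 8, 4, 2, 6, 4, 8, 4, 6, 4, 0, 2, 0, 4, 6, 2, 4, 8, 4, 6, 0, 4, 8, 2, 4, 6, 0, 4, 2], [5, 3, 5, 1, 7, 5, 3, 9, 5, 1, 7, 5, 9, 5, 3, 7, 5, 1, 3, 1, 5, 7, 5, 9, 5, 7, 3, 5, 9, 4, 8, 4, 2, 6, 4, 8, 4, 6, 4, 0, 2, 0, 4, 6, 2, 4, 8, 4, 6, 0, 4, 8, 2, 4, 6, 0, 4, 2], [7, 3, 5, 1, 7, 5, 3, 9, 5, 1, 7, 5, 9, 5, 3, 7, 5, 1, 3, 1, 5, 7, 5, 9, 5, 7, 3, 5, 9, 6, 8, 4, 2, 6, 4, 8, 4, 6, 4, 0, 2, 0, 4, 6, 2, 4, 8, 4, 6, 0, 4, 8, 2, 4, 6, 0, 4, 2], [9, 3, 5, 1, 7, 5, 3, 9, 5, 1, 7, 5, 9, 5, 3, 7, 5, 1, 3, 1, 5, 7, 5, 9, 5, 7, 3, 5, 9, 8, 8, 4, 2, 6, 4, 8, 4, 6, 4, 0, 2, 0, 4, 6, 2, 4, 8, 4, 6,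 0, 4, 8, 2, 4, 6, 0, 4, 2], [11, 3, 5, 1, 7, 5, 3, 9, 5, 1, 7, 5, 9, 5, 3, 7, 5, 1, 3, 1, 5, 7, 5, 9, 5, 7, 3, 5, 9, 10, 8, 4, 2, 6, 4, 8, 4, 6, 4, 0, 2, 0, 4, 6, 2, 4, 8, 4, 6, 0, 4, 8, 2, 4, 6, 0, 4, 2], [1, 5, 1, 5, 3, 5, 1, 5, 3, 5, 1, 5, 9, 5, 3, 7, 5, 9, 5, 3, 1, 9, 5, 9, 5, 7, 3, 5, 9, 0, 8, 4, 2, 6, 4, 8, 4, 8, 0, 2, 4, 8, 4, 6, 2, 4, 8, 4, 0, 4, 2, 4, 0, 4, 2, 4, 0, 4], [3, 5, 1, 5, 3, 5, 1, 5, 3, 5, 1, 5, 9, 5, 3, 7, 5, 9, 5, 3, 1, 9, 5, 9, 5, 7, 3, 5, 9, 2, 8, 4, 2, 6, 4, 8, 4, 8, 0, 2, 4, 8, 4, 6, 2, 4, 8, 4, 0, 4, 2, 4, 0, 4, 2, 4, 0, 4], [5, 5, 1, 5, 3, 5, 1, 5, 3, 5, 1, 5, 9, 5, 3, 7, 5, 9, 5, 3, 1, 9, 5,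 9, 5, 7, 3, 5, 9, 4, 8, 4, 2, 6, 4, 8, 4, 8, 0, 2, 4, 8, 4, 6, 2, 4, 8, 4, 0, 4, 2, 4, 0, 4, 2, 4, 0, 4], [7, 5, 1, 5, 3, 5, 1, 5, 3, 5, 1, 5, 9, 5, 3, 7, 5, 9, 5, 3, 1, 9, 5, 9, 5, 7, 3, 5, 9, 6, 8, 4, 2, 6, 4, 8, 4, 8, 0, 2, 4, 8, 4, 6, 2, 4, 8, 4, 0, 4, 2, 4, 0, 4, 2, 4, 0, 4], [9, 5, 1, 5, 3, 5, 1, 5, 3, 5, 1, 5, 9, 5, 3, 7, 5, 9, 5, 3, 1, 9, 5, 9, 5, 7, 3, 5, 9, 8, 8, 4, 2, 6, 4, 8, 4, 8, 0, 2, 4, 8, 4, 6, 2, 4, 8, 4, 0, 4, 2, 4, 0, 4, 2, 4, 0, 4], [11, 5, 1, 5, 3, 5, 1, 5, 3, 5, 1, 5, 9, 5, 3, 7, 5, 9, 5, 3, 1, 9, 5, 9, 5, 7, 3, 5, 9, 10, 8, 4, 2, 6, 4, 8, 4, 8, 0, 2, 4, 8, 4, 6, 2, 4, 8, 4, 0, 4, 2, 4, 0, 4, 2,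 4, 0, 4], [1, 3, 5, 1, 3, 5, 3, 9, 5, 9, 7, 5, 3, 9, 5, 1, 5, 9, 5, 9, 5, 3, 5, 9, 7, 9, 3, 5, 9, 0, 8, 4, 2, 8, 6, 8, 4, 2, 4, 8, 4, 8, 4, 0, 4, 8, 2, 4, 6, 8, 4, 8, 2, 4, 2, 0, 4, 2], [3, 3, 5, 1, 3, 5, 3, 9, 5, 9, 7, 5, 3, 9, 5, 1, 5, 9, 5, 9, 5, 3, 5, 9, 7, 9, 3, 5, 9, 2, 8, 4, 2, 8, 6, 8, 4, 2, 4, 8, 4, 8, 4, 0, 4, 8, 2, 4, 6, 8, 4, 8, 2, 4, 2, 0, 4, 2], [5, 3, 5, 1, 3, 5, 3, 9, 5, 9, 7, 5, 3, 9, 5, 1, 5, 9, 5, 9, 5, 3, 5, 9, 7, 9, 3, 5, 9, 4, 8, 4, 2, 8, 6, 8, 4, 2, 4, 8, 4, 8, 4, 0, 4, 8, 2, 4, 6, 8, 4, 8, 2, 4, 2, 0, 4, 2], [7, 3, 5, 1, 3, 5, 3, 9, 5, 9, 7, 5, 3, 9, 5, 1, 5, 9, 5, 9, 5, 3, 5, 9, 7, 9, 3, 5, 9,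 6, 8, 4, 2, 8, 6, 8, 4, 2, 4, 8, 4, 8, 4, 0, 4, 8, 2, 4, 6, 8, 4, 8, 2, 4, 2, 0, 4, 2], [9, 3, 5, 1, 3, 5, 3, 9, 5, 9, 7, 5, 3, 9, 5, 1, 5, 9, 5, 9, 5, 3, 5, 9, 7, 9, 3, 5, 9, 8, 8, 4, 2, 8, 6, 8, 4, 2, 4, 8, 4, 8, 4, 0, 4, 8, 2, 4, 6, 8, 4, 8, 2, 4, 2, 0, 4, 2], [11, 3, 5, 1, 3, 5, 3, 9, 5, 9, 7, 5, 3, 9, 5, 1, 5, 9, 5, 9, 5, 3, 5, 9, 7, 9, 3, 5, 9, 10, 8, 4, 2, 8, 6, 8, 4, 2, 4, 8, 4, 8, 4, 0, 4, 8, 2, 4, 6, 8, 4, 8, 2, 4, 2, 0, 4, 2], [1, 3, 5, 7, 5, 3, 5, 9, 5, 3, 5, 7, 9, 5, 3, 9, 5, 7, 3, 5, 3, 5, 9, 5, 3, 5, 7, 5, 9, 0, 8, 4, 6, 4, 2, 4, 8, 4, 2, 4, 2, 6, 4, 8, 2, 4, 8, 6, 4, 2, 4, 8, 4, 2, 4, 6, 4, 2], [3, 3, 5,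 7, 5, 3, 5, 9, 5, 3, 5, 7, 9, 5, 3, 9, 5, 7, 3, 5, 3, 5, 9, 5, 3, 5, 7, 5, 9, 2, 8, 4, 6, 4, 2, 4, 8, 4, 2, 4, 2, 6, 4, 8, 2, 4, 8, 6, 4, 2, 4, 8, 4, 2, 4, 6, 4, 2], [5, 3, 5, 7, 5, 3, 5, 9, 5, 3, 5, 7, 9, 5, 3, 9, 5, 7, 3, 5, 3, 5, 9, 5, 3, 5, 7, 5, 9, 4, 8, 4, 6, 4, 2, 4, 8, 4, 2, 4, 2, 6, 4, 8, 2, 4, 8, 6, 4, 2, 4, 8, 4, 2, 4, 6, 4, 2], [7, 3, 5, 7, 5, 3, 5, 9, 5, 3, 5, 7, 9, 5, 3, 9, 5, 7, 3, 5, 3, 5, 9, 5, 3, 5, 7, 5, 9, 6, 8, 4, 6, 4, 2, 4, 8, 4, 2, 4, 2, 6, 4, 8, 2, 4, 8, 6, 4, 2, 4, 8, 4, 2, 4, 6, 4, 2], [9, 3, 5, 7, 5, 3, 5, 9, 5, 3, 5, 7, 9, 5, 3, 9, 5, 7, 3, 5, 3, 5, 9, 5, 3, 5, 7, 5, 9, 8, 8, 4, 6, 4, 2, 4,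 8, 4, 2, 4, 2, 6, 4, 8, 2, 4, 8, 6, 4, 2, 4, 8, 4, 2, 4, 6, 4, 2], [11, 3, 5, 7, 5, 3, 5, 9, 5, 3, 5, 7, 9, 5, 3, 9, 5, 7, 3, 5, 3, 5, 9, 5, 3, 5, 7, 5, 9, 10, 8, 4, 6, 4, 2, 4, 8, 4, 2, 4, 2, 6, 4, 8, 2, 4, 8, 6, 4, 2, 4, 8, 4, 2, 4, 6, 4, 2], [1, 5, 1, 5, 3, 5, 1, 5, 3, 5, 1, 5, 9, 5, 7, 5, 9, 5, 3, 7, 9, 7, 1, 5, 9, 5, 7, 5, 9, 0, 8, 4, 6, 4, 8, 4, 0, 6, 8, 6, 2, 4, 8, 4, 6, 4, 8, 4, 0, 4, 2, 4, 0, 4, 2, 4, 0, 4], [3, 5, 1, 5, 3, 5, 1, 5, 3, 5, 1, 5, 9, 5, 7, 5, 9, 5, 3, 7, 9, 7, 1, 5, 9, 5, 7, 5, 9, 2, 8, 4, 6, 4, 8, 4, 0, 6, 8, 6, 2, 4, 8, 4, 6, 4, 8, 4, 0, 4, 2, 4, 0, 4, 2, 4, 0, 4], [5, 5, 1, 5, 3, 5, 1, 5, 3, 5,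 1, 5, 9, 5, 7, 5, 9, 5, 3, 7, 9, 7, 1, 5, 9, 5, 7, 5, 9, 4, 8, 4, 6, 4, 8, 4, 0, 6, 8, 6, 2, 4, 8, 4, 6, 4, 8, 4, 0, 4, 2, 4, 0, 4, 2, 4, 0, 4], [7, 5, 1, 5, 3, 5, 1, 5, 3, 5, 1, 5, 9, 5, 7, 5, 9, 5, 3, 7, 9, 7, 1, 5, 9, 5, 7, 5, 9, 6, 8, 4, 6, 4, 8, 4, 0, 6, 8, 6, 2, 4, 8, 4, 6, 4, 8, 4, 0, 4, 2, 4, 0, 4, 2, 4, 0, 4], [9, 5, 1, 5, 3, 5, 1, 5, 3, 5, 1, 5, 9, 5, 7, 5, 9, 5, 3, 7, 9, 7, 1, 5, 9, 5, 7, 5, 9, 8, 8, 4, 6, 4, 8, 4, 0, 6, 8, 6, 2, 4, 8, 4, 6, 4, 8, 4, 0, 4, 2, 4, 0, 4, 2, 4, 0, 4], [11, 5, 1, 5, 3, 5, 1, 5, 3, 5, 1, 5, 9, 5, 7, 5, 9, 5, 3, 7, 9, 7, 1, 5, 9, 5, 7, 5, 9, 10, 8, 4, 6, 4, 8, 4, 0, 6, 8, 6, 2, 4,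 8, 4, 6, 4, 8, 4, 0, 4, 2, 4, 0, 4, 2, 4, 0, 4], [1, 5, 3, 5, 1, 7, 5, 3, 5, 9, 7, 9, 5, 7, 9, 5, 3, 5, 1, 5, 3, 5, 9, 7, 3, 5, 9, 7, 9, 0, 8, 6, 8, 4, 2, 6, 8, 4, 2, 4, 0, 4, 2, 4, 8, 6, 4, 8, 6, 8, 4, 2, 4, 6, 0, 4, 2, 4], [3, 5, 3, 5, 1, 7, 5, 3, 5, 9, 7, 9, 5, 7, 9, 5, 3, 5, 1, 5, 3, 5, 9, 7, 3, 5, 9, 7, 9, 2, 8, 6, 8, 4, 2, 6, 8, 4, 2, 4, 0, 4, 2, 4, 8, 6, 4, 8, 6, 8, 4, 2, 4, 6, 0, 4, 2, 4], [5, 5, 3, 5, 1, 7, 5, 3, 5, 9, 7, 9, 5, 7, 9, 5, 3, 5, 1, 5, 3, 5, 9, 7, 3, 5, 9, 7, 9, 4, 8, 6, 8, 4, 2, 6, 8, 4, 2, 4, 0, 4, 2, 4, 8, 6, 4, 8, 6, 8, 4, 2, 4, 6, 0, 4, 2, 4], [7, 5, 3, 5, 1, 7, 5, 3, 5, 9, 7, 9, 5, 7, 9, 5,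 3, 5, 1, 5, 3, 5, 9, 7, 3, 5, 9, 7, 9, 6, 8, 6, 8, 4, 2, 6, 8, 4, 2, 4, 0, 4, 2, 4, 8, 6, 4, 8, 6, 8, 4, 2, 4, 6, 0, 4, 2, 4], [9, 5, 3, 5, 1, 7, 5, 3, 5, 9, 7, 9, 5, 7, 9, 5, 3, 5, 1, 5, 3, 5, 9, 7, 3, 5, 9, 7, 9, 8, 8, 6, 8, 4, 2, 6, 8, 4, 2, 4, 0, 4, 2, 4, 8, 6, 4, 8, 6, 8, 4, 2, 4, 6, 0, 4, 2, 4], [11, 5, 3, 5, 1, 7, 5, 3, 5, 9, 7, 9, 5, 7, 9, 5, 3, 5, 1, 5, 3, 5, 9, 7, 3, 5, 9, 7, 9, 10, 8, 6, 8, 4, 2, 6, 8, 4, 2, 4, 0, 4, 2, 4, 8, 6, 4, 8, 6, 8, 4, 2, 4, 6, 0, 4, 2, 4], [1, 1, 7, 5, 3, 5, 9, 5, 3, 5, 1, 9, 5, 7, 9, 3, 9, 7, 5, 9, 5, 3, 5, 7, 9, 0, 8, 6, 4, 2, 4, 8, 4, 6, 8, 2, 8, 6, 4, 8, 0, 4, 2, 4, 8, 4, 2, 4,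 6, 0], [3, 1, 7, 5, 3, 5, 9, 5, 3, 5, 1, 9, 5, 7, 9, 3, 9, 7, 5, 9, 5, 3, 5, 7, 9, 2, 8, 6, 4, 2, 4, 8, 4, 6, 8, 2, 8, 6, 4, 8, 0, 4, 2, 4, 8, 4, 2, 4, 6, 0], [5, 1, 7, 5, 3, 5, 9, 5, 3, 5, 1, 9, 5, 7, 9, 3, 9, 7, 5, 9, 5, 3, 5, 7, 9, 4, 8, 6, 4, 2, 4, 8, 4, 6, 8, 2, 8, 6, 4, 8, 0, 4, 2, 4, 8, 4, 2, 4, 6, 0], [7, 1, 7, 5, 3, 5, 9, 5, 3, 5, 1, 9, 5, 7, 9, 3, 9, 7, 5, 9, 5, 3, 5, 7, 9, 6, 8, 6, 4, 2, 4, 8, 4, 6, 8, 2, 8, 6, 4, 8, 0, 4, 2, 4, 8, 4, 2, 4, 6, 0], [9, 1, 7, 5, 3, 5, 9, 5, 3, 5, 1, 9, 5, 7, 9, 3, 9, 7, 5, 9, 5, 3, 5, 7, 9, 8, 8, 6, 4, 2, 4, 8, 4, 6, 8, 2, 8, 6, 4, 8, 0, 4, 2, 4, 8, 4, 2, 4, 6, 0], [11, 1, 7,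 5, 3, 5, 9, 5, 3, 5, 1, 9, 5, 7, 9, 3, 9, 7, 5, 9, 5, 3, 5, 7, 9, 10, 8, 6, 4, 2, 4, 8, 4, 6, 8, 2, 8, 6, 4, 8, 0, 4, 2, 4, 8, 4, 2, 4, 6, 0], [1, 7, 5, 7, 9, 7, 9, 5, 3, 7, 9, 5, 7, 5, 7, 5, 9, 7, 5, 9, 5, 3, 5, 7, 9, 0, 8, 6, 4, 2, 4, 8, 4, 6, 8, 4, 6, 4, 6, 4, 8, 6, 2, 4, 8, 6, 8, 6, 4, 6], [3, 7, 5, 7, 9, 7, 9, 5, 3, 7, 9, 5, 7, 5, 7, 5, 9, 7, 5, 9, 5, 3, 5, 7, 9, 2, 8, 6, 4, 2, 4, 8, 4, 6, 8, 4, 6, 4, 6, 4, 8, 6, 2, 4, 8, 6, 8, 6, 4, 6], [5, 7, 5, 7, 9, 7, 9, 5, 3, 7, 9, 5, 7, 5, 7, 5, 9, 7, 5, 9, 5, 3, 5, 7, 9, 4, 8, 6, 4, 2, 4, 8, 4, 6, 8, 4, 6, 4, 6, 4, 8, 6, 2, 4, 8, 6, 8, 6, 4, 6], [7, 7, 5, 7, 9, 7, 9, 5, 3,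 7, 9, 5, 7, 5, 7, 5, 9, 7, 5, 9, 5, 3, 5, 7, 9, 6, 8, 6, 4, 2, 4, 8, 4, 6, 8, 4, 6, 4, 6, 4, 8, 6, 2, 4, 8, 6, 8, 6, 4, 6], [9, 7, 5, 7, 9, 7, 9, 5, 3, 7, 9, 5, 7, 5, 7, 5, 9, 7, 5, 9, 5, 3, 5, 7, 9, 8, 8, 6, 4, 2, 4, 8, 4, 6, 8, 4, 6, 4, 6, 4, 8, 6, 2, 4, 8, 6, 8, 6, 4, 6], [11, 7, 5, 7, 9, 7, 9, 5, 3, 7, 9, 5, 7, 5, 7, 5, 9, 7, 5, 9, 5, 3, 5, 7, 9, 10, 8, 6, 4, 2, 4, 8, 4, 6, 8, 4, 6, 4, 6, 4, 8, 6, 2, 4, 8, 6, 8, 6, 4, 6], [1, 7, 5, 9, 5, 3, 9, 7, 5, 9, 5, 7, 9, 7, 5, 9, 5, 7, 9, 5, 9, 5, 7, 9, 0, 8, 6, 4, 8, 4, 8, 6, 4, 8, 4, 6, 8, 6, 4, 8, 4, 6, 8, 2, 4, 8, 4, 6], [3, 7, 5, 9, 5, 3, 9, 7, 5, 9, 5, 7, 9, 7, 5, 9, 5,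 7, 9, 5, 9, 5, 7, 9, 2, 8, 6, 4, 8, 4, 8, 6, 4, 8, 4, 6, 8, 6, 4, 8, 4, 6, 8, 2, 4, 8, 4, 6], [5, 7, 5, 9, 5, 3, 9, 7, 5, 9, 5, 7, 9, 7, 5, 9, 5, 7, 9, 5, 9, 5, 7, 9, 4, 8, 6, 4, 8, 4, 8, 6, 4, 8, 4, 6, 8, 6, 4, 8, 4, 6, 8, 2, 4, 8, 4, 6], [7, 7, 5, 9, 5, 3, 9, 7, 5, 9, 5, 7, 9, 7, 5, 9, 5, 7, 9, 5, 9, 5, 7, 9, 6, 8, 6, 4, 8, 4, 8, 6, 4, 8, 4, 6, 8, 6, 4, 8, 4, 6, 8, 2, 4, 8, 4, 6], [9, 7, 5, 9, 5, 3, 9, 7, 5, 9, 5, 7, 9, 7, 5, 9, 5, 7, 9, 5, 9, 5, 7, 9, 8, 8, 6, 4, 8, 4, 8, 6, 4, 8, 4, 6, 8, 6, 4, 8, 4, 6, 8, 2, 4, 8, 4, 6], [11, 7, 5, 9, 5, 3, 9, 7, 5, 9, 5, 7, 9, 7, 5, 9, 5, 7, 9, 5, 9, 5, 7, 9, 10, 8, 6, 4, 8, 4, 8,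 6, 4, 8, 4, 6, 8, 6, 4, 8, 4, 6, 8, 2, 4, 8, 4, 6], [7, 7, 7, 7, 7, 7, 7, 7, 5, 5, 5, 5, 5, 5, 5, 5, 5, 5, 5, 5, 3, 3, 3, 3, 3, 11, 3, 11, 3, 11, 3, 11, 3, 11, 11, 3, 11, 11, 3, 11, 11, 3, 11, 11, 10, 10, 10, 10, 2, 10, 10, 10, 10, 2, 10, 10, 10, 10, 2, 2, 2, 2, 2, 1, 1, 1, 1, 1, 1, 6, 4, 0, 4, 2, 6, 4, 0, 6, 4, 6, 2, 6, 4, 6, 0, 4, 6, 2, 4, 0, 4, 6, 4, 2, 0, 4, 0, 4, 2, 0, 4], [3, 3, 3, 3, 3, 11, 11, 11, 11, 3, 11, 11, 11, 11, 3, 11, 11, 11, 11, 10, 10, 2, 10, 10, 2, 10, 10, 2, 10, 10, 2, 10, 2, 10, 2, 10, 2, 10, 2], [5, 5, 5, 5, 5, 5, 5, 5, 5, 5, 5, 5, 3, 3, 3, 3, 1, 1, 1, 1, 1, 1, 1, 1, 1, 1, 1, 1, 0, 4, 0, 2, 4, 0,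 4, 0, 4, 0, 4, 0, 4, 2, 0, 4, 2, 4, 0, 4, 0, 4, 0, 4, 0, 4, 0, 4, 2], [7, 7, 4, 4, 5, 3, 5, 1, 5, 3, 5, 1, 5, 3, 5, 7, 5, 3, 5, 1, 5, 7, 5, 3, 5, 1, 5, 3, 5, 7, 5, 1, 5, 3, 5, 7, 6, 4, 0, 4, 2, 6, 4, 0, 4, 2, 6, 4, 2, 4, 6, 4, 2, 4, 6, 2, 4, 0, 4, 2, 4, 6, 2, 0, 4, 6, 4, 0, 4], [7, 7, 4, 4, 4, 4, 2, 2, 2, 2, 8, 6, 4, 8, 4, 8, 6, 4, 8, 4, 6, 8, 6, 4, 8, 4, 6, 8, 2, 4, 8, 4, 6, 5, 3, 5, 7, 5, 3, 9, 5, 9, 7, 5, 9, 5, 3, 5, 9, 5, 7, 5, 9, 3, 5, 7, 9, 5, 3, 5, 9], [10, 10, 10, 10, 10, 10, 10, 10, 10, 10, 10, 10, 10, 2, 2, 2, 2, 2, 2, 2, 2, 3, 11, 11, 3, 11, 11, 3, 11, 11, 3, 11, 11, 3, 11, 3, 11, 3, 11, 3, 11]]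
/-- subgroup generator paths -/
def subPaths : List (List ℕ) := [[0], [2], [4], [6], [10]]
/-- the relator paths that are checked directly -/
def chkPaths : List (List ℕ) := [[1, 3, 3, 0, 2, 2], [3, 3, 3, 2, 2, 2], [5, 3, 3, 4, 2, 2], [7, 3, 3, 6, 2, 2], [9, 3, 3, 8, 2, 2], [11, 3, 3, 10, 2, 2], [1, 3, 11, 3, 11, 3, 11, 3, 11, 0, 10, 2, 10, 2, 10, 2, 10, 2], [3, 3, 11, 3, 11, 3, 11, 3, 11, 2, 10, 2, 10, 2, 10, 2, 10, 2], [5, 3, 11, 3, 11, 3, 11, 3, 11, 4, 10, 2, 10, 2, 10, 2, 10, 2], [7, 3, 11, 3, 11, 3, 11, 3, 11, 6, 10, 2, 10, 2, 10, 2, 10, 2], [9, 3, 11, 3, 11, 3, 11, 3, 11, 8, 10, 2, 10, 2, 10, 2, 10, 2], [11, 3, 11,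 3, 11, 3, 11, 3, 11, 10, 10, 2, 10, 2, 10, 2, 10, 2], [1, 3, 11, 11, 3, 11, 11, 3, 11, 11, 3, 11, 11, 0, 10, 10, 2, 10, 10, 2, 10, 10, 2, 10, 10, 2], [3, 3, 11, 11, 3, 11, 11, 3, 11, 11, 3, 11, 11, 2, 10, 10, 2, 10, 10, 2, 10, 10, 2, 10, 10, 2], [5, 3, 11, 11, 3, 11, 11, 3, 11, 11, 3, 11, 11, 4, 10, 10, 2, 10, 10, 2, 10, 10, 2, 10, 10, 2], [7, 3, 11, 11, 3, 11, 11, 3, 11, 11, 3, 11, 11, 6, 10, 10, 2, 10, 10, 2, 10, 10, 2, 10, 10, 2], [9, 3, 11, 11, 3, 11, 11, 3, 11, 11, 3, 11, 11, 8, 10, 10, 2, 10, 10, 2, 10, 10, 2, 10, 10, 2], [11, 3, 11, 11, 3, 11, 11, 3, 11, 11, 3, 11, 11, 10, 10, 10, 2, 10, 10, 2, 10, 10, 2, 10, 10,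 2], [1, 11, 11, 11, 11, 11, 11, 11, 11, 11, 11, 11, 11, 11, 0, 10, 10, 10, 10, 10, 10, 10, 10, 10, 10, 10, 10, 10], [3, 11, 11, 11, 11, 11, 11, 11, 11, 11, 11, 11, 11, 11, 2, 10, 10, 10, 10, 10, 10, 10, 10, 10, 10, 10, 10, 10], [5, 11, 11, 11, 11, 11, 11, 11, 11, 11, 11, 11, 11, 11, 4, 10, 10, 10, 10, 10, 10, 10, 10, 10, 10, 10, 10, 10], [7, 11, 11, 11, 11, 11, 11, 11, 11, 11, 11, 11, 11, 11, 6, 10, 10, 10, 10, 10, 10, 10, 10, 10, 10, 10, 10, 10], [9, 11, 11, 11, 11, 11, 11, 11, 11, 11, 11, 11, 11, 11, 8, 10, 10, 10, 10, 10, 10, 10, 10, 10, 10, 10, 10, 10], [11, 11, 11, 11, 11, 11, 11, 11, 11, 11, 11, 11, 11, 11, 10, 10,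 10, 10, 10, 10, 10, 10, 10, 10, 10, 10, 10, 10], [1, 3, 11, 11, 11, 11, 3, 11, 11, 11, 11, 3, 11, 11, 11, 11, 0, 10, 10, 10, 10, 2, 10, 10, 10, 10, 2, 10, 10, 10, 10, 2], [3, 3, 11, 11, 11, 11, 3, 11, 11, 11, 11, 3, 11, 11, 11, 11, 2, 10, 10, 10, 10, 2, 10, 10, 10, 10, 2, 10, 10, 10, 10, 2], [5, 3, 11, 11, 11, 11, 3, 11, 11, 11, 11, 3, 11, 11, 11, 11, 4, 10, 10, 10, 10, 2, 10, 10, 10, 10, 2, 10, 10, 10, 10, 2], [7, 3, 11, 11, 11, 11, 3, 11, 11, 11, 11, 3, 11, 11, 11, 11, 6, 10, 10, 10, 10, 2, 10, 10, 10, 10, 2, 10, 10, 10, 10, 2], [9, 3, 11, 11, 11, 11, 3, 11, 11, 11, 11, 3, 11, 11, 11, 11, 8, 10, 10, 10, 10, 2, 10, 10,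 10, 10, 2, 10, 10, 10, 10, 2], [11, 3, 11, 11, 11, 11, 3, 11, 11, 11, 11, 3, 11, 11, 11, 11, 10, 10, 10, 10, 10, 2, 10, 10, 10, 10, 2, 10, 10, 10, 10, 2], [1, 10, 1, 5, 1, 3, 5, 0, 4, 2, 0, 4, 0, 11], [3, 10, 1, 5, 1, 3, 5, 2, 4, 2, 0, 4, 0, 11], [5, 10, 1, 5, 1, 3, 5, 4, 4, 2, 0, 4, 0, 11], [7, 10, 1, 5, 1, 3, 5, 6, 4, 2, 0, 4, 0, 11], [9, 10, 1, 5, 1, 3, 5, 8, 4, 2, 0, 4, 0, 11], [11, 10, 1, 5, 1, 3, 5, 10, 4, 2, 0, 4, 0, 11], [1, 1, 1, 0, 0, 0], [3, 1, 1, 2, 0, 0], [5, 1, 1, 4, 0, 0], [7, 1, 1, 6, 0, 0], [9, 1, 1, 8, 0, 0], [11, 1, 1, 10, 0, 0], [1, 5, 5, 0, 4, 4], [3, 5, 5, 2, 4, 4], [5, 5, 5, 4, 4, 4], [7, 5, 5, 6,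 4, 4], [9, 5, 5, 8, 4, 4], [11, 5, 5, 10, 4, 4], [1, 7, 7, 0, 6, 6], [3, 7, 7, 2, 6, 6], [5, 7, 7, 4, 6, 6], [7, 7, 7, 6, 6, 6], [9, 7, 7, 8, 6, 6], [11, 7, 7, 10, 6, 6], [1, 1, 3, 1, 3, 0, 2, 0, 2, 0], [3, 1, 3, 1, 3, 2, 2, 0, 2, 0], [5, 1, 3, 1, 3, 4, 2, 0, 2, 0], [7, 1, 3, 1, 3, 6, 2, 0, 2, 0], [9, 1, 3, 1, 3, 8, 2, 0, 2, 0], [11, 1, 3, 1, 3, 10, 2, 0, 2, 0], [1, 1, 5, 1, 5, 1, 5, 1, 5, 1, 5, 1, 5, 1, 5, 1, 5, 1, 5, 1, 5, 1, 5, 1, 5, 0, 4, 0, 4, 0, 4, 0, 4, 0, 4, 0, 4, 0, 4, 0, 4, 0, 4, 0, 4, 0, 4, 0, 4, 0], [3, 1, 5, 1, 5, 1, 5, 1, 5, 1, 5, 1, 5, 1, 5, 1, 5, 1, 5, 1, 5, 1, 5, 1, 5, 2, 4, 0, 4, 0, 4, 0, 4, 0, 4, 0,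 4, 0, 4, 0, 4, 0, 4, 0, 4, 0, 4, 0, 4, 0], [5, 1, 5, 1, 5, 1, 5, 1, 5, 1, 5, 1, 5, 1, 5, 1, 5, 1, 5, 1, 5, 1, 5, 1, 5, 4, 4, 0, 4, 0, 4, 0, 4, 0, 4, 0, 4, 0, 4, 0, 4, 0, 4, 0, 4, 0, 4, 0, 4, 0], [7, 1, 5, 1, 5, 1, 5, 1, 5, 1, 5, 1, 5, 1, 5, 1, 5, 1, 5, 1, 5, 1, 5, 1, 5, 6, 4, 0, 4, 0, 4, 0, 4, 0, 4, 0, 4, 0, 4, 0, 4, 0, 4, 0, 4, 0, 4, 0, 4, 0], [9, 1, 5, 1, 5, 1, 5, 1, 5, 1, 5, 1, 5, 1, 5, 1, 5, 1, 5, 1, 5, 1, 5, 1, 5, 8, 4, 0, 4, 0, 4, 0, 4, 0, 4, 0, 4, 0, 4, 0, 4, 0, 4, 0, 4, 0, 4, 0, 4, 0], [11, 1, 5, 1, 5, 1, 5, 1, 5, 1, 5, 1, 5, 1, 5, 1, 5, 1, 5, 1, 5, 1, 5, 1, 5, 10, 4, 0, 4, 0, 4, 0, 4, 0, 4, 0, 4, 0, 4, 0, 4, 0,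 4, 0, 4, 0, 4, 0, 4, 0], [1, 1, 7, 1, 7, 0, 6, 0, 6, 0], [3, 1, 7, 1, 7, 2, 6, 0, 6, 0], [5, 1, 7, 1, 7, 4, 6, 0, 6, 0], [7, 1, 7, 1, 7, 6, 6, 0, 6, 0], [9, 1, 7, 1, 7, 8, 6, 0, 6, 0], [11, 1, 7, 1, 7, 10, 6, 0, 6, 0], [1, 3, 5, 3, 5, 3, 5, 3, 5, 0, 4, 2, 4, 2, 4, 2, 4, 2], [3, 3, 5, 3, 5, 3, 5, 3, 5, 2, 4, 2, 4, 2, 4, 2, 4, 2], [5, 3, 5, 3, 5, 3, 5, 3, 5, 4, 4, 2, 4, 2, 4, 2, 4, 2], [7, 3, 5, 3, 5, 3, 5, 3, 5, 6, 4, 2, 4, 2, 4, 2, 4, 2], [9, 3, 5, 3, 5, 3, 5, 3, 5, 8, 4, 2, 4, 2, 4, 2, 4, 2], [11, 3, 5, 3, 5, 3, 5, 3, 5, 10, 4, 2, 4, 2, 4, 2, 4, 2], [1, 3, 7, 3, 7, 0, 6, 2, 6, 2], [3, 3, 7, 3, 7, 2, 6, 2, 6, 2], [5, 3,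 7, 3, 7, 4, 6, 2, 6, 2], [7, 3, 7, 3, 7, 6, 6, 2, 6, 2], [9, 3, 7, 3, 7, 8, 6, 2, 6, 2], [11, 3, 7, 3, 7, 10, 6, 2, 6, 2], [1, 5, 7, 5, 7, 5, 7, 5, 7, 0, 6, 4, 6, 4, 6, 4, 6, 4], [3, 5, 7, 5, 7, 5, 7, 5, 7, 2, 6, 4, 6, 4, 6, 4, 6, 4], [5, 5, 7, 5, 7, 5, 7, 5, 7, 4, 6, 4, 6, 4, 6, 4, 6, 4], [7, 5, 7, 5, 7, 5, 7, 5, 7, 6, 6, 4, 6, 4, 6, 4, 6, 4], [9, 5, 7, 5, 7, 5, 7, 5, 7, 8, 6, 4, 6, 4, 6, 4, 6, 4], [11, 5, 7, 5, 7, 5, 7, 5, 7, 10, 6, 4, 6, 4, 6, 4, 6, 4], [1, 1, 5, 1, 5, 1, 5, 1, 5, 3, 5, 1, 5, 1, 5, 1, 5, 1, 5, 3, 5, 1, 5, 1, 5, 1, 5, 1, 5, 3, 5, 0, 4, 2, 4, 0, 4, 0, 4, 0, 4, 0, 4, 2, 4, 0, 4, 0, 4, 0, 4, 0, 4, 2, 4,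 0, 4, 0, 4, 0, 4, 0], [3, 1, 5, 1, 5, 1, 5, 1, 5, 3, 5, 1, 5, 1, 5, 1, 5, 1, 5, 3, 5, 1, 5, 1, 5, 1, 5, 1, 5, 3, 5, 2, 4, 2, 4, 0, 4, 0, 4, 0, 4, 0, 4, 2, 4, 0, 4, 0, 4, 0, 4, 0, 4, 2, 4, 0, 4, 0, 4, 0, 4, 0], [5, 1, 5, 1, 5, 1, 5, 1, 5, 3, 5, 1, 5, 1, 5, 1, 5, 1, 5, 3, 5, 1, 5, 1, 5, 1, 5, 1, 5, 3, 5, 4, 4, 2, 4, 0, 4, 0, 4, 0, 4, 0, 4, 2, 4, 0, 4, 0, 4, 0, 4, 0, 4, 2, 4, 0, 4, 0, 4, 0, 4, 0], [7, 1, 5, 1, 5, 1, 5, 1, 5, 3, 5, 1, 5, 1, 5, 1, 5, 1, 5, 3, 5, 1, 5, 1, 5, 1, 5, 1, 5, 3, 5, 6, 4, 2, 4, 0, 4, 0, 4, 0, 4, 0, 4, 2, 4, 0, 4, 0, 4, 0, 4, 0, 4, 2, 4, 0, 4, 0, 4, 0, 4, 0], [9, 1, 5, 1, 5, 1, 5, 1, 5, 3, 5, 1, 5,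 1, 5, 1, 5, 1, 5, 3, 5, 1, 5, 1, 5, 1, 5, 1, 5, 3, 5, 8, 4, 2, 4, 0, 4, 0, 4, 0, 4, 0, 4, 2, 4, 0, 4, 0, 4, 0, 4, 0, 4, 2, 4, 0, 4, 0, 4, 0, 4, 0], [11, 1, 5, 1, 5, 1, 5, 1, 5, 3, 5, 1, 5, 1, 5, 1, 5, 1, 5, 3, 5, 1, 5, 1, 5, 1, 5, 1, 5, 3, 5, 10, 4, 2, 4, 0, 4, 0, 4, 0, 4, 0, 4, 2, 4, 0, 4, 0, 4, 0, 4, 0, 4, 2, 4, 0, 4, 0, 4, 0, 4, 0], [1, 3, 5, 1, 5, 3, 5, 1, 5, 1, 3, 5, 3, 5, 1, 5, 1, 5, 3, 5, 3, 1, 5, 1, 5, 3, 5, 1, 5, 3, 5, 0, 4, 2, 4, 0, 4, 2, 4, 0, 4, 0, 2, 4, 2, 4, 0, 4, 0, 4, 2, 4, 2, 0, 4, 0, 4, 2, 4, 0, 4, 2], [3, 3, 5, 1, 5, 3, 5, 1, 5, 1, 3, 5, 3, 5, 1, 5, 1, 5, 3, 5, 3, 1, 5, 1, 5, 3, 5, 1, 5, 3, 5, 2, 4,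 2, 4, 0, 4, 2, 4, 0, 4, 0, 2, 4, 2, 4, 0, 4, 0, 4, 2, 4, 2, 0, 4, 0, 4, 2, 4, 0, 4, 2], [5, 3, 5, 1, 5, 3, 5, 1, 5, 1, 3, 5, 3, 5, 1, 5, 1, 5, 3, 5, 3, 1, 5, 1, 5, 3, 5, 1, 5, 3, 5, 4, 4, 2, 4, 0, 4, 2, 4, 0, 4, 0, 2, 4, 2, 4, 0, 4, 0, 4, 2, 4, 2, 0, 4, 0, 4, 2, 4, 0, 4, 2], [7, 3, 5, 1, 5, 3, 5, 1, 5, 1, 3, 5, 3, 5, 1, 5, 1, 5, 3, 5, 3, 1, 5, 1, 5, 3, 5, 1, 5, 3, 5, 6, 4, 2, 4, 0, 4, 2, 4, 0, 4, 0, 2, 4, 2, 4, 0, 4, 0, 4, 2, 4, 2, 0, 4, 0, 4, 2, 4, 0, 4, 2], [9, 3, 5, 1, 5, 3, 5, 1, 5, 1, 3, 5, 3, 5, 1, 5, 1, 5, 3, 5, 3, 1, 5, 1, 5, 3, 5, 1, 5, 3, 5, 8, 4, 2, 4, 0, 4, 2, 4, 0, 4, 0, 2, 4, 2, 4, 0, 4, 0, 4, 2, 4, 2, 0,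 4, 0, 4, 2, 4, 0, 4, 2], [11, 3, 5, 1, 5, 3, 5, 1, 5, 1, 3, 5, 3, 5, 1, 5, 1, 5, 3, 5, 3, 1, 5, 1, 5, 3, 5, 1, 5, 3, 5, 10, 4, 2, 4, 0, 4, 2, 4, 0, 4, 0, 2, 4, 2, 4, 0, 4, 0, 4, 2, 4, 2, 0, 4, 0, 4, 2, 4, 0, 4, 2], [1, 3, 5, 1, 5, 1, 5, 1, 5, 1, 5, 1, 5, 3, 5, 1, 3, 5, 1, 5, 1, 5, 1, 5, 1, 5, 3, 1, 5, 1, 0, 0, 4, 0, 2, 4, 0, 4, 0, 4, 0, 4, 0, 4, 2, 0, 4, 2, 4, 0, 4, 0, 4, 0, 4, 0, 4, 0, 4, 2], [3, 3, 5, 1, 5, 1, 5, 1, 5, 1, 5, 1, 5, 3, 5, 1, 3, 5, 1, 5, 1, 5, 1, 5, 1, 5, 3, 1, 5, 1, 2, 0, 4, 0, 2, 4, 0, 4, 0, 4, 0, 4, 0, 4, 2, 0, 4, 2, 4, 0, 4, 0, 4, 0, 4, 0, 4, 0, 4, 2], [5, 3, 5, 1, 5, 1, 5, 1, 5, 1, 5, 1, 5, 3, 5, 1,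 3, 5, 1, 5, 1, 5, 1, 5, 1, 5, 3, 1, 5, 1, 4, 0, 4, 0, 2, 4, 0, 4, 0, 4, 0, 4, 0, 4, 2, 0, 4, 2, 4, 0, 4, 0, 4, 0, 4, 0, 4, 0, 4, 2], [7, 3, 5, 1, 5, 1, 5, 1, 5, 1, 5, 1, 5, 3, 5, 1, 3, 5, 1, 5, 1, 5, 1, 5, 1, 5, 3, 1, 5, 1, 6, 0, 4, 0, 2, 4, 0, 4, 0, 4, 0, 4, 0, 4, 2, 0, 4, 2, 4, 0, 4, 0, 4, 0, 4, 0, 4, 0, 4, 2], [9, 3, 5, 1, 5, 1, 5, 1, 5, 1, 5, 1, 5, 3, 5, 1, 3, 5, 1, 5, 1, 5, 1, 5, 1, 5, 3, 1, 5, 1, 8, 0, 4, 0, 2, 4, 0, 4, 0, 4, 0, 4, 0, 4, 2, 0, 4, 2, 4, 0, 4, 0, 4, 0, 4, 0, 4, 0, 4, 2], [11, 3, 5, 1, 5, 1, 5, 1, 5, 1, 5, 1, 5, 3, 5, 1, 3, 5, 1, 5, 1, 5, 1, 5, 1, 5, 3, 1, 5, 1, 10, 0, 4, 0, 2, 4, 0, 4, 0, 4, 0, 4,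 0, 4, 2, 0, 4, 2, 4, 0, 4, 0, 4, 0, 4, 0, 4, 0, 4, 2], [1, 3, 5, 3, 5, 1, 5, 1, 5, 1, 5, 1, 3, 5, 3, 5, 7, 5, 1, 5, 1, 5, 1, 5, 1, 7, 5, 1, 5, 1, 5, 1, 5, 7, 0, 6, 4, 0, 4, 0, 4, 0, 4, 6, 0, 4, 0, 4, 0, 4, 0, 4, 6, 4, 2, 4, 2, 0, 4, 0, 4, 0, 4, 0, 4, 2, 4, 2], [3, 3, 5, 3, 5, 1, 5, 1, 5, 1, 5, 1, 3, 5, 3, 5, 7, 5, 1, 5, 1, 5, 1, 5, 1, 7, 5, 1, 5, 1, 5, 1, 5, 7, 2, 6, 4, 0, 4, 0, 4, 0, 4, 6, 0, 4, 0, 4, 0, 4, 0, 4, 6, 4, 2, 4, 2, 0, 4, 0, 4, 0, 4, 0, 4, 2, 4, 2], [5, 3, 5, 3, 5, 1, 5, 1, 5, 1, 5, 1, 3, 5, 3, 5, 7, 5, 1, 5, 1, 5, 1, 5, 1, 7, 5, 1, 5, 1, 5, 1, 5, 7, 4, 6, 4, 0, 4, 0, 4, 0, 4, 6, 0, 4, 0, 4, 0, 4, 0, 4, 6,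 4, 2, 4, 2, 0, 4, 0, 4, 0, 4, 0, 4, 2, 4, 2], [7, 3, 5, 3, 5, 1, 5, 1, 5, 1, 5, 1, 3, 5, 3, 5, 7, 5, 1, 5, 1, 5, 1, 5, 1, 7, 5, 1, 5, 1, 5, 1, 5, 7, 6, 6, 4, 0, 4, 0, 4, 0, 4, 6, 0, 4, 0, 4, 0, 4, 0, 4, 6, 4, 2, 4, 2, 0, 4, 0, 4, 0, 4, 0, 4, 2, 4, 2], [9, 3, 5, 3, 5, 1, 5, 1, 5, 1, 5, 1, 3, 5, 3, 5, 7, 5, 1, 5, 1, 5, 1, 5, 1, 7, 5, 1, 5, 1, 5, 1, 5, 7, 8, 6, 4, 0, 4, 0, 4, 0, 4, 6, 0, 4, 0, 4, 0, 4, 0, 4, 6, 4, 2, 4, 2, 0, 4, 0, 4, 0, 4, 0, 4, 2, 4, 2], [11, 3, 5, 3, 5, 1, 5, 1, 5, 1, 5, 1, 3, 5, 3, 5, 7, 5, 1, 5, 1, 5, 1, 5, 1, 7, 5, 1, 5, 1, 5, 1, 5, 7, 10, 6, 4, 0, 4, 0, 4, 0, 4, 6, 0, 4, 0, 4, 0, 4, 0, 4, 6, 4, 2,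 4, 2, 0, 4, 0, 4, 0, 4, 0, 4, 2, 4, 2], [1, 5, 1, 5, 7, 5, 1, 3, 7, 5, 3, 5, 1, 5, 3, 7, 5, 3, 5, 7, 5, 3, 5, 7, 3, 5, 1, 5, 7, 3, 5, 1, 5, 7, 0, 6, 4, 0, 4, 2, 6, 4, 0, 4, 2, 6, 4, 2, 4, 6, 4, 2, 4, 6, 2, 4, 0, 4, 2, 4, 6, 2, 0, 4, 6, 4, 0, 4], [3, 5, 1, 5, 7, 5, 1, 3, 7, 5, 3, 5, 1, 5, 3, 7, 5, 3, 5, 7, 5, 3, 5, 7, 3, 5, 1, 5, 7, 3, 5, 1, 5, 7, 2, 6, 4, 0, 4, 2, 6, 4, 0, 4, 2, 6, 4, 2, 4, 6, 4, 2, 4, 6, 2, 4, 0, 4, 2, 4, 6, 2, 0, 4, 6, 4, 0, 4], [5, 5, 1, 5, 7, 5, 1, 3, 7, 5, 3, 5, 1, 5, 3, 7, 5, 3, 5, 7, 5, 3, 5, 7, 3, 5, 1, 5, 7, 3, 5, 1, 5, 7, 4, 6, 4, 0, 4, 2, 6, 4, 0, 4, 2, 6, 4, 2, 4, 6, 4, 2, 4, 6, 2, 4, 0, 4,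 2, 4, 6, 2, 0, 4, 6, 4, 0, 4], [7, 5, 1, 5, 7, 5, 1, 3, 7, 5, 3, 5, 1, 5, 3, 7, 5, 3, 5, 7, 5, 3, 5, 7, 3, 5, 1, 5, 7, 3, 5, 1, 5, 7, 6, 6, 4, 0, 4, 2, 6, 4, 0, 4, 2, 6, 4, 2, 4, 6, 4, 2, 4, 6, 2, 4, 0, 4, 2, 4, 6, 2, 0, 4, 6, 4, 0, 4], [9, 5, 1, 5, 7, 5, 1, 3, 7, 5, 3, 5, 1, 5, 3, 7, 5, 3, 5, 7, 5, 3, 5, 7, 3, 5, 1, 5, 7, 3, 5, 1, 5, 7, 8, 6, 4, 0, 4, 2, 6, 4, 0, 4, 2, 6, 4, 2, 4, 6, 4, 2, 4, 6, 2, 4, 0, 4, 2, 4, 6, 2, 0, 4, 6, 4, 0, 4], [11, 5, 1, 5, 7, 5, 1, 3, 7, 5, 3, 5, 1, 5, 3, 7, 5, 3, 5, 7, 5, 3, 5, 7, 3, 5, 1, 5, 7, 3, 5, 1, 5, 7, 10, 6, 4, 0, 4, 2, 6, 4, 0, 4, 2, 6, 4, 2, 4, 6, 4, 2, 4, 6, 2, 4, 0, 4, 2, 4,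 6, 2, 0, 4, 6, 4, 0, 4], [1, 5, 1, 3, 5, 1, 5, 1, 3, 5, 7, 5, 1, 5, 3, 7, 5, 1, 5, 3, 5, 7, 5, 3, 5, 1, 5, 7, 3, 5, 1, 5, 7, 0, 6, 4, 0, 4, 2, 6, 4, 0, 4, 2, 4, 6, 4, 2, 4, 0, 4, 6, 2, 4, 0, 4, 6, 4, 2, 0, 4, 0, 4, 2, 0, 4], [3, 5, 1, 3, 5, 1, 5, 1, 3, 5, 7, 5, 1, 5, 3, 7, 5, 1, 5, 3, 5, 7, 5, 3, 5, 1, 5, 7, 3, 5, 1, 5, 7, 2, 6, 4, 0, 4, 2, 6, 4, 0, 4, 2, 4, 6, 4, 2, 4, 0, 4, 6, 2, 4, 0, 4, 6, 4, 2, 0, 4, 0, 4, 2, 0, 4], [5, 5, 1, 3, 5, 1, 5, 1, 3, 5, 7, 5, 1, 5, 3, 7, 5, 1, 5, 3, 5, 7, 5, 3, 5, 1, 5, 7, 3, 5, 1, 5, 7, 4, 6, 4, 0, 4, 2, 6, 4, 0, 4, 2, 4, 6, 4, 2, 4, 0, 4, 6, 2, 4, 0, 4, 6, 4, 2, 0, 4, 0, 4, 2, 0, 4], [7,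 5, 1, 3, 5, 1, 5, 1, 3, 5, 7, 5, 1, 5, 3, 7, 5, 1, 5, 3, 5, 7, 5, 3, 5, 1, 5, 7, 3, 5, 1, 5, 7, 6, 6, 4, 0, 4, 2, 6, 4, 0, 4, 2, 4, 6, 4, 2, 4, 0, 4, 6, 2, 4, 0, 4, 6, 4, 2, 0, 4, 0, 4, 2, 0, 4], [9, 5, 1, 3, 5, 1, 5, 1, 3, 5, 7, 5, 1, 5, 3, 7, 5, 1, 5, 3, 5, 7, 5, 3, 5, 1, 5, 7, 3, 5, 1, 5, 7, 8, 6, 4, 0, 4, 2, 6, 4, 0, 4, 2, 4, 6, 4, 2, 4, 0, 4, 6, 2, 4, 0, 4, 6, 4, 2, 0, 4, 0, 4, 2, 0, 4], [11, 5, 1, 3, 5, 1, 5, 1, 3, 5, 7, 5, 1, 5, 3, 7, 5, 1, 5, 3, 5, 7, 5, 3, 5, 1, 5, 7, 3, 5, 1, 5, 7, 10, 6, 4, 0, 4, 2, 6, 4, 0, 4, 2, 4, 6, 4, 2, 4, 0, 4, 6, 2, 4, 0, 4, 6, 4, 2, 0, 4, 0, 4, 2, 0, 4], [1, 5, 1, 3, 5, 1, 5, 1, 3,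 5, 7, 5, 1, 5, 3, 7, 5, 1, 7, 5, 7, 3, 7, 5, 7, 1, 5, 7, 3, 5, 1, 5, 7, 0, 6, 4, 0, 4, 2, 6, 4, 0, 6, 4, 6, 2, 6, 4, 6, 0, 4, 6, 2, 4, 0, 4, 6, 4, 2, 0, 4, 0, 4, 2, 0, 4], [3, 5, 1, 3, 5, 1, 5, 1, 3, 5, 7, 5, 1, 5, 3, 7, 5, 1, 7, 5, 7, 3, 7, 5, 7, 1, 5, 7, 3, 5, 1, 5, 7, 2, 6, 4, 0, 4, 2, 6, 4, 0, 6, 4, 6, 2, 6, 4, 6, 0, 4, 6, 2, 4, 0, 4, 6, 4, 2, 0, 4, 0, 4, 2, 0, 4], [5, 5, 1, 3, 5, 1, 5, 1, 3, 5, 7, 5, 1, 5, 3, 7, 5, 1, 7, 5, 7, 3, 7, 5, 7, 1, 5, 7, 3, 5, 1, 5, 7, 4, 6, 4, 0, 4, 2, 6, 4, 0, 6, 4, 6, 2, 6, 4, 6, 0, 4, 6, 2, 4, 0, 4, 6, 4, 2, 0, 4, 0, 4, 2, 0, 4], [7, 5, 1, 3, 5, 1, 5, 1, 3, 5, 7, 5, 1, 5, 3, 7, 5, 1,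 7, 5, 7, 3, 7, 5, 7, 1, 5, 7, 3, 5, 1, 5, 7, 6, 6, 4, 0, 4, 2, 6, 4, 0, 6, 4, 6, 2, 6, 4, 6, 0, 4, 6, 2, 4, 0, 4, 6, 4, 2, 0, 4, 0, 4, 2, 0, 4], [9, 5, 1, 3, 5, 1, 5, 1, 3, 5, 7, 5, 1, 5, 3, 7, 5, 1, 7, 5, 7, 3, 7, 5, 7, 1, 5, 7, 3, 5, 1, 5, 7, 8, 6, 4, 0, 4, 2, 6, 4, 0, 6, 4, 6, 2, 6, 4, 6, 0, 4, 6, 2, 4, 0, 4, 6, 4, 2, 0, 4, 0, 4, 2, 0, 4], [11, 5, 1, 3, 5, 1, 5, 1, 3, 5, 7, 5, 1, 5, 3, 7, 5, 1, 7, 5, 7, 3, 7, 5, 7, 1, 5, 7, 3, 5, 1, 5, 7, 10, 6, 4, 0, 4, 2, 6, 4, 0, 6, 4, 6, 2, 6, 4, 6, 0, 4, 6, 2, 4, 0, 4, 6, 4, 2, 0, 4, 0, 4, 2, 0, 4], [1, 5, 3, 5, 1, 5, 3, 5, 1, 5, 3, 5, 7, 5, 3, 5, 1, 5, 7, 5, 3, 5, 1, 5, 3, 5,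 7, 5, 1, 5, 3, 5, 7, 0, 6, 4, 2, 4, 0, 4, 6, 4, 2, 4, 0, 4, 2, 4, 6, 4, 0, 4, 2, 4, 6, 4, 2, 4, 0, 4, 2, 4, 0, 4, 2, 4], [3, 5, 3, 5, 1, 5, 3, 5, 1, 5, 3, 5, 7, 5, 3, 5, 1, 5, 7, 5, 3, 5, 1, 5, 3, 5, 7, 5, 1, 5, 3, 5, 7, 2, 6, 4, 2, 4, 0, 4, 6, 4, 2, 4, 0, 4, 2, 4, 6, 4, 0, 4, 2, 4, 6, 4, 2, 4, 0, 4, 2, 4, 0, 4, 2, 4], [5, 5, 3, 5, 1, 5, 3, 5, 1, 5, 3, 5, 7, 5, 3, 5, 1, 5, 7, 5, 3, 5, 1, 5, 3, 5, 7, 5, 1, 5, 3, 5, 7, 4, 6, 4, 2, 4, 0, 4, 6, 4, 2, 4, 0, 4, 2, 4, 6, 4, 0, 4, 2, 4, 6, 4, 2, 4, 0, 4, 2, 4, 0, 4, 2, 4], [7, 5, 3, 5, 1, 5, 3, 5, 1, 5, 3, 5, 7, 5, 3, 5, 1, 5, 7, 5, 3, 5, 1, 5, 3, 5, 7, 5, 1, 5, 3, 5, 7, 6, 6,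 4, 2, 4, 0, 4, 6, 4, 2, 4, 0, 4, 2, 4, 6, 4, 0, 4, 2, 4, 6, 4, 2, 4, 0, 4, 2, 4, 0, 4, 2, 4], [9, 5, 3, 5, 1, 5, 3, 5, 1, 5, 3, 5, 7, 5, 3, 5, 1, 5, 7, 5, 3, 5, 1, 5, 3, 5, 7, 5, 1, 5, 3, 5, 7, 8, 6, 4, 2, 4, 0, 4, 6, 4, 2, 4, 0, 4, 2, 4, 6, 4, 0, 4, 2, 4, 6, 4, 2, 4, 0, 4, 2, 4, 0, 4, 2, 4], [11, 5, 3, 5, 1, 5, 3, 5, 1, 5, 3, 5, 7, 5, 3, 5, 1, 5, 7, 5, 3, 5, 1, 5, 3, 5, 7, 5, 1, 5, 3, 5, 7, 10, 6, 4, 2, 4, 0, 4, 6, 4, 2, 4, 0, 4, 2, 4, 6, 4, 0, 4, 2, 4, 6, 4, 2, 4, 0, 4, 2, 4, 0, 4, 2, 4], [1, 5, 1, 5, 3, 5, 1, 5, 3, 5, 7, 5, 3, 5, 1, 5, 3, 5, 1, 5, 1, 7, 1, 5, 7, 3, 5, 1, 5, 7, 3, 5, 7, 0, 6, 4, 2, 6, 4, 0, 4, 2, 6,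 4, 0, 6, 0, 4, 0, 4, 2, 4, 0, 4, 2, 4, 6, 4, 2, 4, 0, 4, 2, 4, 0, 4], [3, 5, 1, 5, 3, 5, 1, 5, 3, 5, 7, 5, 3, 5, 1, 5, 3, 5, 1, 5, 1, 7, 1, 5, 7, 3, 5, 1, 5, 7, 3, 5, 7, 2, 6, 4, 2, 6, 4, 0, 4, 2, 6, 4, 0, 6, 0, 4, 0, 4, 2, 4, 0, 4, 2, 4, 6, 4, 2, 4, 0, 4, 2, 4, 0, 4], [5, 5, 1, 5, 3, 5, 1, 5, 3, 5, 7, 5, 3, 5, 1, 5, 3, 5, 1, 5, 1, 7, 1, 5, 7, 3, 5, 1, 5, 7, 3, 5, 7, 4, 6, 4, 2, 6, 4, 0, 4, 2, 6, 4, 0, 6, 0, 4, 0, 4, 2, 4, 0, 4, 2, 4, 6, 4, 2, 4, 0, 4, 2, 4, 0, 4], [7, 5, 1, 5, 3, 5, 1, 5, 3, 5, 7, 5, 3, 5, 1, 5, 3, 5, 1, 5, 1, 7, 1, 5, 7, 3, 5, 1, 5, 7, 3, 5, 7, 6, 6, 4, 2, 6, 4, 0, 4, 2, 6, 4, 0, 6, 0, 4, 0, 4, 2, 4,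 0, 4, 2, 4, 6, 4, 2, 4, 0, 4, 2, 4, 0, 4], [9, 5, 1, 5, 3, 5, 1, 5, 3, 5, 7, 5, 3, 5, 1, 5, 3, 5, 1, 5, 1, 7, 1, 5, 7, 3, 5, 1, 5, 7, 3, 5, 7, 8, 6, 4, 2, 6, 4, 0, 4, 2, 6, 4, 0, 6, 0, 4, 0, 4, 2, 4, 0, 4, 2, 4, 6, 4, 2, 4, 0, 4, 2, 4, 0, 4], [11, 5, 1, 5, 3, 5, 1, 5, 3, 5, 7, 5, 3, 5, 1, 5, 3, 5, 1, 5, 1, 7, 1, 5, 7, 3, 5, 1, 5, 7, 3, 5, 7, 10, 6, 4, 2, 6, 4, 0, 4, 2, 6, 4, 0, 6, 0, 4, 0, 4, 2, 4, 0, 4, 2, 4, 6, 4, 2, 4, 0, 4, 2, 4, 0, 4], [1, 9, 9, 0, 8, 8], [3, 9, 9, 2, 8, 8], [5, 9, 9, 4, 8, 8], [7, 9, 9, 6, 8, 8], [9, 9, 9, 8, 8, 8], [11, 9, 9, 10, 8, 8], [1, 1, 9, 1, 9, 0, 8, 0, 8, 0], [3, 1, 9, 1, 9, 2, 8, 0, 8,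 0], [5, 1, 9, 1, 9, 4, 8, 0, 8, 0], [7, 1, 9, 1, 9, 6, 8, 0, 8, 0], [9, 1, 9, 1, 9, 8, 8, 0, 8, 0], [11, 1, 9, 1, 9, 10, 8, 0, 8, 0], [1, 3, 9, 3, 9, 0, 8, 2, 8, 2], [3, 3, 9, 3, 9, 2, 8, 2, 8, 2], [5, 3, 9, 3, 9, 4, 8, 2, 8, 2], [7, 3, 9, 3, 9, 6, 8, 2, 8, 2], [9, 3, 9, 3, 9, 8, 8, 2, 8, 2], [11, 3, 9, 3, 9, 10, 8, 2, 8, 2], [1, 5, 9, 5, 9, 5, 9, 5, 9, 0, 8, 4, 8, 4, 8, 4, 8, 4], [3, 5, 9, 5, 9, 5, 9, 5, 9, 2, 8, 4, 8, 4, 8, 4, 8, 4], [5, 5, 9, 5, 9, 5, 9, 5, 9, 4, 8, 4, 8, 4, 8, 4, 8, 4], [7, 5, 9, 5, 9, 5, 9, 5, 9, 6, 8, 4, 8, 4, 8, 4, 8, 4], [9, 5, 9, 5, 9, 5, 9, 5, 9, 8, 8, 4, 8, 4, 8, 4, 8, 4], [11, 5, 9, 5, 9, 5,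 9, 5, 9, 10, 8, 4, 8, 4, 8, 4, 8, 4], [1, 7, 9, 7, 9, 7, 9, 7, 9, 0, 8, 6, 8, 6, 8, 6, 8, 6], [3, 7, 9, 7, 9, 7, 9, 7, 9, 2, 8, 6, 8, 6, 8, 6, 8, 6], [5, 7, 9, 7, 9, 7, 9, 7, 9, 4, 8, 6, 8, 6, 8, 6, 8, 6], [7, 7, 9, 7, 9, 7, 9, 7, 9, 6, 8, 6, 8, 6, 8, 6, 8, 6], [9, 7, 9, 7, 9, 7, 9, 7, 9, 8, 8, 6, 8, 6, 8, 6, 8, 6], [11, 7, 9, 7, 9, 7, 9, 7, 9, 10, 8, 6, 8, 6, 8, 6, 8, 6], [1, 3, 5, 1, 5, 1, 5, 1, 5, 1, 5, 1, 5, 3, 9, 5, 1, 5, 1, 5, 9, 1, 9, 5, 1, 5, 1, 5, 9, 0, 8, 4, 0, 4, 0, 4, 8, 0, 8, 4, 0, 4, 0, 4, 8, 2, 4, 0, 4, 0, 4, 0, 4, 0, 4, 0, 4, 2], [3, 3, 5, 1, 5, 1, 5, 1, 5, 1, 5, 1, 5, 3, 9, 5, 1, 5, 1, 5, 9, 1, 9, 5, 1,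 5, 1, 5, 9, 2, 8, 4, 0, 4, 0, 4, 8, 0, 8, 4, 0, 4, 0, 4, 8, 2, 4, 0, 4, 0, 4, 0, 4, 0, 4, 0, 4, 2], [5, 3, 5, 1, 5, 1, 5, 1, 5, 1, 5, 1, 5, 3, 9, 5, 1, 5, 1, 5, 9, 1, 9, 5, 1, 5, 1, 5, 9, 4, 8, 4, 0, 4, 0, 4, 8, 0, 8, 4, 0, 4, 0, 4, 8, 2, 4, 0, 4, 0, 4, 0, 4, 0, 4, 0, 4, 2], [7, 3, 5, 1, 5, 1, 5, 1, 5, 1, 5, 1, 5, 3, 9, 5, 1, 5, 1, 5, 9, 1, 9, 5, 1, 5, 1, 5, 9, 6, 8, 4, 0, 4, 0, 4, 8, 0, 8, 4, 0, 4, 0, 4, 8, 2, 4, 0, 4, 0, 4, 0, 4, 0, 4, 0, 4, 2], [9, 3, 5, 1, 5, 1, 5, 1, 5, 1, 5, 1, 5, 3, 9, 5, 1, 5, 1, 5, 9, 1, 9, 5, 1, 5, 1, 5, 9, 8, 8, 4, 0, 4, 0, 4, 8, 0, 8, 4, 0, 4, 0, 4, 8, 2, 4, 0, 4, 0, 4, 0, 4, 0, 4, 0, 4, 2],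 [11, 3, 5, 1, 5, 1, 5, 1, 5, 1, 5, 1, 5, 3, 9, 5, 1, 5, 1, 5, 9, 1, 9, 5, 1, 5, 1, 5, 9, 10, 8, 4, 0, 4, 0, 4, 8, 0, 8, 4, 0, 4, 0, 4, 8, 2, 4, 0, 4, 0, 4, 0, 4, 0, 4, 0, 4, 2], [1, 3, 5, 1, 5, 1, 3, 5, 1, 5, 3, 9, 5, 1, 5, 1, 7, 9, 5, 3, 9, 5, 9, 7, 1, 5, 1, 5, 9, 0, 8, 4, 0, 4, 0, 6, 8, 4, 8, 2, 4, 8, 6, 0, 4, 0, 4, 8, 2, 4, 0, 4, 2, 0, 4, 0, 4, 2], [3, 3, 5, 1, 5, 1, 3, 5, 1, 5, 3, 9, 5, 1, 5, 1, 7, 9, 5, 3, 9, 5, 9, 7, 1, 5, 1, 5, 9, 2, 8, 4, 0, 4, 0, 6, 8, 4, 8, 2, 4, 8, 6, 0, 4, 0, 4, 8, 2, 4, 0, 4, 2, 0, 4, 0, 4, 2], [5, 3, 5, 1, 5, 1, 3, 5, 1, 5, 3, 9, 5, 1, 5, 1, 7, 9, 5, 3, 9, 5, 9, 7, 1, 5, 1, 5, 9, 4, 8, 4,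 0, 4, 0, 6, 8, 4, 8, 2, 4, 8, 6, 0, 4, 0, 4, 8, 2, 4, 0, 4, 2, 0, 4, 0, 4, 2], [7, 3, 5, 1, 5, 1, 3, 5, 1, 5, 3, 9, 5, 1, 5, 1, 7, 9, 5, 3, 9, 5, 9, 7, 1, 5, 1, 5, 9, 6, 8, 4, 0, 4, 0, 6, 8, 4, 8, 2, 4, 8, 6, 0, 4, 0, 4, 8, 2, 4, 0, 4, 2, 0, 4, 0, 4, 2], [9, 3, 5, 1, 5, 1, 3, 5, 1, 5, 3, 9, 5, 1, 5, 1, 7, 9, 5, 3, 9, 5, 9, 7, 1, 5, 1, 5, 9, 8, 8, 4, 0, 4, 0, 6, 8, 4, 8, 2, 4, 8, 6, 0, 4, 0, 4, 8, 2, 4, 0, 4, 2, 0, 4, 0, 4, 2], [11, 3, 5, 1, 5, 1, 3, 5, 1, 5, 3, 9, 5, 1, 5, 1, 7, 9, 5, 3, 9, 5, 9, 7, 1, 5, 1, 5, 9, 10, 8, 4, 0, 4, 0, 6, 8, 4, 8, 2, 4, 8, 6, 0, 4, 0, 4, 8, 2, 4, 0, 4, 2, 0, 4, 0, 4, 2], [1, 5, 3, 5, 9, 5,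 1, 7, 9, 7, 5, 7, 9, 5, 7, 5, 7, 5, 7, 9, 3, 5, 7, 9, 7, 5, 1, 5, 9, 0, 8, 4, 0, 4, 6, 8, 6, 4, 2, 8, 6, 4, 6, 4, 6, 4, 8, 6, 4, 6, 8, 6, 0, 4, 8, 4, 2, 4], [3, 5, 3, 5, 9, 5, 1, 7, 9, 7, 5, 7, 9, 5, 7, 5, 7, 5, 7, 9, 3, 5, 7, 9, 7, 5, 1, 5, 9, 2, 8, 4, 0, 4, 6, 8, 6, 4, 2, 8, 6, 4, 6, 4, 6, 4, 8, 6, 4, 6, 8, 6, 0, 4, 8, 4, 2, 4], [5, 5, 3, 5, 9, 5, 1, 7, 9, 7, 5, 7, 9, 5, 7, 5, 7, 5, 7, 9, 3, 5, 7, 9, 7, 5, 1, 5, 9, 4, 8, 4, 0, 4, 6, 8, 6, 4, 2, 8, 6, 4, 6, 4, 6, 4, 8, 6, 4, 6, 8, 6, 0, 4, 8, 4, 2, 4], [7, 5, 3, 5, 9, 5, 1, 7, 9, 7, 5, 7, 9, 5, 7, 5, 7, 5, 7, 9, 3, 5, 7, 9, 7, 5, 1, 5, 9, 6, 8, 4, 0, 4, 6, 8, 6, 4, 2,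 8, 6, 4, 6, 4, 6, 4, 8, 6, 4, 6, 8, 6, 0, 4, 8, 4, 2, 4], [9, 5, 3, 5, 9, 5, 1, 7, 9, 7, 5, 7, 9, 5, 7, 5, 7, 5, 7, 9, 3, 5, 7, 9, 7, 5, 1, 5, 9, 8, 8, 4, 0, 4, 6, 8, 6, 4, 2, 8, 6, 4, 6, 4, 6, 4, 8, 6, 4, 6, 8, 6, 0, 4, 8, 4, 2, 4], [11, 5, 3, 5, 9, 5, 1, 7, 9, 7, 5, 7, 9, 5, 7, 5, 7, 5, 7, 9, 3, 5, 7, 9, 7, 5, 1, 5, 9, 10, 8, 4, 0, 4, 6, 8, 6, 4, 2, 8, 6, 4, 6, 4, 6, 4, 8, 6, 4, 6, 8, 6, 0, 4, 8, 4, 2, 4], [1, 3, 5, 7, 5, 3, 9, 5, 1, 5, 9, 5, 3, 9, 7, 5, 1, 3, 1, 5, 7, 9, 3, 5, 9, 5, 1, 5, 9, 0, 8, 4, 0, 4, 8, 4, 2, 8, 6, 4, 0, 2, 0, 4, 6, 8, 2, 4, 8, 4, 0, 4, 8, 2, 4, 6, 4, 2], [3, 3, 5, 7, 5, 3, 9, 5, 1, 5, 9, 5, 3,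 9, 7, 5, 1, 3, 1, 5, 7, 9, 3, 5, 9, 5, 1, 5, 9, 2, 8, 4, 0, 4, 8, 4, 2, 8, 6, 4, 0, 2, 0, 4, 6, 8, 2, 4, 8, 4, 0, 4, 8, 2, 4, 6, 4, 2], [5, 3, 5, 7, 5, 3, 9, 5, 1, 5, 9, 5, 3, 9, 7, 5, 1, 3, 1, 5, 7, 9, 3, 5, 9, 5, 1, 5, 9, 4, 8, 4, 0, 4, 8, 4, 2, 8, 6, 4, 0, 2, 0, 4, 6, 8, 2, 4, 8, 4, 0, 4, 8, 2, 4, 6, 4, 2], [7, 3, 5, 7, 5, 3, 9, 5, 1, 5, 9, 5, 3, 9, 7, 5, 1, 3, 1, 5, 7, 9, 3, 5, 9, 5, 1, 5, 9, 6, 8, 4, 0, 4, 8, 4, 2, 8, 6, 4, 0, 2, 0, 4, 6, 8, 2, 4, 8, 4, 0, 4, 8, 2, 4, 6, 4, 2], [9, 3, 5, 7, 5, 3, 9, 5, 1, 5, 9, 5, 3, 9, 7, 5, 1, 3, 1, 5, 7, 9, 3, 5, 9, 5, 1, 5, 9, 8, 8, 4, 0, 4, 8, 4, 2, 8, 6, 4, 0, 2, 0, 4, 6, 8,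 2, 4, 8, 4, 0, 4, 8, 2, 4, 6, 4, 2], [11, 3, 5, 7, 5, 3, 9, 5, 1, 5, 9, 5, 3, 9, 7, 5, 1, 3, 1, 5, 7, 9, 3, 5, 9, 5, 1, 5, 9, 10, 8, 4, 0, 4, 8, 4, 2, 8, 6, 4, 0, 2, 0, 4, 6, 8, 2, 4, 8, 4, 0, 4, 8, 2, 4, 6, 4, 2], [1, 1, 3, 5, 1, 5, 1, 5, 1, 7, 5, 1, 5, 1, 5, 1, 3, 9, 5, 1, 7, 5, 1, 7, 5, 7, 1, 5, 9, 0, 8, 4, 0, 6, 4, 6, 0, 4, 6, 0, 4, 8, 2, 0, 4, 0, 4, 0, 4, 6, 0, 4, 0, 4, 0, 4, 2, 0], [3, 1, 3, 5, 1, 5, 1, 5, 1, 7, 5, 1, 5, 1, 5, 1, 3, 9, 5, 1, 7, 5, 1, 7, 5, 7, 1, 5, 9, 2, 8, 4, 0, 6, 4, 6, 0, 4, 6, 0, 4, 8, 2, 0, 4, 0, 4, 0, 4, 6, 0, 4, 0, 4, 0, 4, 2, 0], [5, 1, 3, 5, 1, 5, 1, 5, 1, 7, 5, 1, 5, 1, 5, 1, 3, 9, 5, 1,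 7, 5, 1, 7, 5, 7, 1, 5, 9, 4, 8, 4, 0, 6, 4, 6, 0, 4, 6, 0, 4, 8, 2, 0, 4, 0, 4, 0, 4, 6, 0, 4, 0, 4, 0, 4, 2, 0], [7, 1, 3, 5, 1, 5, 1, 5, 1, 7, 5, 1, 5, 1, 5, 1, 3, 9, 5, 1, 7, 5, 1, 7, 5, 7, 1, 5, 9, 6, 8, 4, 0, 6, 4, 6, 0, 4, 6, 0, 4, 8, 2, 0, 4, 0, 4, 0, 4, 6, 0, 4, 0, 4, 0, 4, 2, 0], [9, 1, 3, 5, 1, 5, 1, 5, 1, 7, 5, 1, 5, 1, 5, 1, 3, 9, 5, 1, 7, 5, 1, 7, 5, 7, 1, 5, 9, 8, 8, 4, 0, 6, 4, 6, 0, 4, 6, 0, 4, 8, 2, 0, 4, 0, 4, 0, 4, 6, 0, 4, 0, 4, 0, 4, 2, 0], [11, 1, 3, 5, 1, 5, 1, 5, 1, 7, 5, 1, 5, 1, 5, 1, 3, 9, 5, 1, 7, 5, 1, 7, 5, 7, 1, 5, 9, 10, 8, 4, 0, 6, 4, 6, 0, 4, 6, 0, 4, 8, 2, 0, 4, 0, 4, 0, 4, 6, 0, 4,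 0, 4, 0, 4, 2, 0], [1, 5, 3, 5, 7, 5, 3, 9, 5, 9, 7, 5, 9, 5, 3, 5, 9, 5, 7, 5, 9, 3, 5, 7, 9, 5, 3, 5, 9, 0, 8, 4, 2, 4, 8, 6, 4, 2, 8, 4, 6, 4, 8, 4, 2, 4, 8, 4, 6, 8, 4, 8, 2, 4, 6, 4, 2, 4], [3, 5, 3, 5, 7, 5, 3, 9, 5, 9, 7, 5, 9, 5, 3, 5, 9, 5, 7, 5, 9, 3, 5, 7, 9, 5, 3, 5, 9, 2, 8, 4, 2, 4, 8, 6, 4, 2, 8, 4, 6, 4, 8, 4, 2, 4, 8, 4, 6, 8, 4, 8, 2, 4, 6, 4, 2, 4], [5, 5, 3, 5, 7, 5, 3, 9, 5, 9, 7, 5, 9, 5, 3, 5, 9, 5, 7, 5, 9, 3, 5, 7, 9, 5, 3, 5, 9, 4, 8, 4, 2, 4, 8, 6, 4, 2, 8, 4, 6, 4, 8, 4, 2, 4, 8, 4, 6, 8, 4, 8, 2, 4, 6, 4, 2, 4], [7, 5, 3, 5, 7, 5, 3, 9, 5, 9, 7, 5, 9, 5, 3, 5, 9, 5, 7, 5, 9, 3, 5, 7, 9, 5,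 3, 5, 9, 6, 8, 4, 2, 4, 8, 6, 4, 2, 8, 4, 6, 4, 8, 4, 2, 4, 8, 4, 6, 8, 4, 8, 2, 4, 6, 4, 2, 4], [9, 5, 3, 5, 7, 5, 3, 9, 5, 9, 7, 5, 9, 5, 3, 5, 9, 5, 7, 5, 9, 3, 5, 7, 9, 5, 3, 5, 9, 8, 8, 4, 2, 4, 8, 6, 4, 2, 8, 4, 6, 4, 8, 4, 2, 4, 8, 4, 6, 8, 4, 8, 2, 4, 6, 4, 2, 4], [11, 5, 3, 5, 7, 5, 3, 9, 5, 9, 7, 5, 9, 5, 3, 5, 9, 5, 7, 5, 9, 3, 5, 7, 9, 5, 3, 5, 9, 10, 8, 4, 2, 4, 8, 6, 4, 2, 8, 4, 6, 4, 8, 4, 2, 4, 8, 4, 6, 8, 4, 8, 2, 4, 6, 4, 2, 4], [1, 3, 5, 1, 7, 5, 3, 9, 5, 1, 7, 5, 9, 5, 3, 7, 5, 1, 3, 1, 5, 7, 5, 9, 5, 7, 3, 5, 9, 0, 8, 4, 2, 6, 4, 8, 4, 6, 4, 0, 2, 0, 4, 6, 2, 4, 8, 4, 6, 0, 4, 8, 2, 4, 6, 0, 4, 2],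 [3, 3, 5, 1, 7, 5, 3, 9, 5, 1, 7, 5, 9, 5, 3, 7, 5, 1, 3, 1, 5, 7, 5, 9, 5, 7, 3, 5, 9, 2, 8, 4, 2, 6, 4, 8, 4, 6, 4, 0, 2, 0, 4, 6, 2, 4, 8, 4, 6, 0, 4, 8, 2, 4, 6, 0, 4, 2], [5, 3, 5, 1, 7, 5, 3, 9, 5, 1, 7, 5, 9, 5, 3, 7, 5, 1, 3, 1, 5, 7, 5, 9, 5, 7, 3, 5, 9, 4, 8, 4, 2, 6, 4, 8, 4, 6, 4, 0, 2, 0, 4, 6, 2, 4, 8, 4, 6, 0, 4, 8, 2, 4, 6, 0, 4, 2], [7, 3, 5, 1, 7, 5, 3, 9, 5, 1, 7, 5, 9, 5, 3, 7, 5, 1, 3, 1, 5, 7, 5, 9, 5, 7, 3, 5, 9, 6, 8, 4, 2, 6, 4, 8, 4, 6, 4, 0, 2, 0, 4, 6, 2, 4, 8, 4, 6, 0, 4, 8, 2, 4, 6, 0, 4, 2], [9, 3, 5, 1, 7, 5, 3, 9, 5, 1, 7, 5, 9, 5, 3, 7, 5, 1, 3, 1, 5, 7, 5, 9, 5, 7, 3, 5, 9, 8, 8, 4, 2,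 6, 4, 8, 4, 6, 4, 0, 2, 0, 4, 6, 2, 4, 8, 4, 6, 0, 4, 8, 2, 4, 6, 0, 4, 2], [11, 3, 5, 1, 7, 5, 3, 9, 5, 1, 7, 5, 9, 5, 3, 7, 5, 1, 3, 1, 5, 7, 5, 9, 5, 7, 3, 5, 9, 10, 8, 4, 2, 6, 4, 8, 4, 6, 4, 0, 2, 0, 4, 6, 2, 4, 8, 4, 6, 0, 4, 8, 2, 4, 6, 0, 4, 2], [1, 5, 1, 5, 3, 5, 1, 5, 3, 5, 1, 5, 9, 5, 3, 7, 5, 9, 5, 3, 1, 9, 5, 9, 5, 7, 3, 5, 9, 0, 8, 4, 2, 6, 4, 8, 4, 8, 0, 2, 4, 8, 4, 6, 2, 4, 8, 4, 0, 4, 2, 4, 0, 4, 2, 4, 0, 4], [3, 5, 1, 5, 3, 5, 1, 5, 3, 5, 1, 5, 9, 5, 3, 7, 5, 9, 5, 3, 1, 9, 5, 9, 5, 7, 3, 5, 9, 2, 8, 4, 2, 6, 4, 8, 4, 8, 0, 2, 4, 8, 4, 6, 2, 4, 8, 4, 0, 4, 2, 4, 0, 4, 2, 4, 0, 4], [5, 5, 1, 5, 3, 5, 1,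 5, 3, 5, 1, 5, 9, 5, 3, 7, 5, 9, 5, 3, 1, 9, 5, 9, 5, 7, 3, 5, 9, 4, 8, 4, 2, 6, 4, 8, 4, 8, 0, 2, 4, 8, 4, 6, 2, 4, 8, 4, 0, 4, 2, 4, 0, 4, 2, 4, 0, 4], [7, 5, 1, 5, 3, 5, 1, 5, 3, 5, 1, 5, 9, 5, 3, 7, 5, 9, 5, 3, 1, 9, 5, 9, 5, 7, 3, 5, 9, 6, 8, 4, 2, 6, 4, 8, 4, 8, 0, 2, 4, 8, 4, 6, 2, 4, 8, 4, 0, 4, 2, 4, 0, 4, 2, 4, 0, 4], [9, 5, 1, 5, 3, 5, 1, 5, 3, 5, 1, 5, 9, 5, 3, 7, 5, 9, 5, 3, 1, 9, 5, 9, 5, 7, 3, 5, 9, 8, 8, 4, 2, 6, 4, 8, 4, 8, 0, 2, 4, 8, 4, 6, 2, 4, 8, 4, 0, 4, 2, 4, 0, 4, 2, 4, 0, 4], [11, 5, 1, 5, 3, 5, 1, 5, 3, 5, 1, 5, 9, 5, 3, 7, 5, 9, 5, 3, 1, 9, 5, 9, 5, 7, 3, 5, 9, 10, 8, 4, 2, 6, 4, 8, 4, 8, 0,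 2, 4, 8, 4, 6, 2, 4, 8, 4, 0, 4, 2, 4, 0, 4, 2, 4, 0, 4], [1, 3, 5, 1, 3, 5, 3, 9, 5, 9, 7, 5, 3, 9, 5, 1, 5, 9, 5, 9, 5, 3, 5, 9, 7, 9, 3, 5, 9, 0, 8, 4, 2, 8, 6, 8, 4, 2, 4, 8, 4, 8, 4, 0, 4, 8, 2, 4, 6, 8, 4, 8, 2, 4, 2, 0, 4, 2], [3, 3, 5, 1, 3, 5, 3, 9, 5, 9, 7, 5, 3, 9, 5, 1, 5, 9, 5, 9, 5, 3, 5, 9, 7, 9, 3, 5, 9, 2, 8, 4, 2, 8, 6, 8, 4, 2, 4, 8, 4, 8, 4, 0, 4, 8, 2, 4, 6, 8, 4, 8, 2, 4, 2, 0, 4, 2], [5, 3, 5, 1, 3, 5, 3, 9, 5, 9, 7, 5, 3, 9, 5, 1, 5, 9, 5, 9, 5, 3, 5, 9, 7, 9, 3, 5, 9, 4, 8, 4, 2, 8, 6, 8, 4, 2, 4, 8, 4, 8, 4, 0, 4, 8, 2, 4, 6, 8, 4, 8, 2, 4, 2, 0, 4, 2], [7, 3, 5, 1, 3, 5, 3, 9, 5, 9, 7, 5, 3,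 9, 5, 1, 5, 9, 5, 9, 5, 3, 5, 9, 7, 9, 3, 5, 9, 6, 8, 4, 2, 8, 6, 8, 4, 2, 4, 8, 4, 8, 4, 0, 4, 8, 2, 4, 6, 8, 4, 8, 2, 4, 2, 0, 4, 2], [9, 3, 5, 1, 3, 5, 3, 9, 5, 9, 7, 5, 3, 9, 5, 1, 5, 9, 5, 9, 5, 3, 5, 9, 7, 9, 3, 5, 9, 8, 8, 4, 2, 8, 6, 8, 4, 2, 4, 8, 4, 8, 4, 0, 4, 8, 2, 4, 6, 8, 4, 8, 2, 4, 2, 0, 4, 2], [11, 3, 5, 1, 3, 5, 3, 9, 5, 9, 7, 5, 3, 9, 5, 1, 5, 9, 5, 9, 5, 3, 5, 9, 7, 9, 3, 5, 9, 10, 8, 4, 2, 8, 6, 8, 4, 2, 4, 8, 4, 8, 4, 0, 4, 8, 2, 4, 6, 8, 4, 8, 2, 4, 2, 0, 4, 2], [1, 3, 5, 7, 5, 3, 5, 9, 5, 3, 5, 7, 9, 5, 3, 9, 5, 7, 3, 5, 3, 5, 9, 5, 3, 5, 7, 5, 9, 0, 8, 4, 6, 4, 2, 4, 8, 4, 2, 4, 2, 6, 4, 8, 2,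 4, 8, 6, 4, 2, 4, 8, 4, 2, 4, 6, 4, 2], [3, 3, 5, 7, 5, 3, 5, 9, 5, 3, 5, 7, 9, 5, 3, 9, 5, 7, 3, 5, 3, 5, 9, 5, 3, 5, 7, 5, 9, 2, 8, 4, 6, 4, 2, 4, 8, 4, 2, 4, 2, 6, 4, 8, 2, 4, 8, 6, 4, 2, 4, 8, 4, 2, 4, 6, 4, 2], [5, 3, 5, 7, 5, 3, 5, 9, 5, 3, 5, 7, 9, 5, 3, 9, 5, 7, 3, 5, 3, 5, 9, 5, 3, 5, 7, 5, 9, 4, 8, 4, 6, 4, 2, 4, 8, 4, 2, 4, 2, 6, 4, 8, 2, 4, 8, 6, 4, 2, 4, 8, 4, 2, 4, 6, 4, 2], [7, 3, 5, 7, 5, 3, 5, 9, 5, 3, 5, 7, 9, 5, 3, 9, 5, 7, 3, 5, 3, 5, 9, 5, 3, 5, 7, 5, 9, 6, 8, 4, 6, 4, 2, 4, 8, 4, 2, 4, 2, 6, 4, 8, 2, 4, 8, 6, 4, 2, 4, 8, 4, 2, 4, 6, 4, 2], [9, 3, 5, 7, 5, 3, 5, 9, 5, 3, 5, 7, 9, 5, 3, 9, 5, 7, 3,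 5, 3, 5, 9, 5, 3, 5, 7, 5, 9, 8, 8, 4, 6, 4, 2, 4, 8, 4, 2, 4, 2, 6, 4, 8, 2, 4, 8, 6, 4, 2, 4, 8, 4, 2, 4, 6, 4, 2], [11, 3, 5, 7, 5, 3, 5, 9, 5, 3, 5, 7, 9, 5, 3, 9, 5, 7, 3, 5, 3, 5, 9, 5, 3, 5, 7, 5, 9, 10, 8, 4, 6, 4, 2, 4, 8, 4, 2, 4, 2, 6, 4, 8, 2, 4, 8, 6, 4, 2, 4, 8, 4, 2, 4, 6, 4, 2], [1, 5, 1, 5, 3, 5, 1, 5, 3, 5, 1, 5, 9, 5, 7, 5, 9, 5, 3, 7, 9, 7, 1, 5, 9, 5, 7, 5, 9, 0, 8, 4, 6, 4, 8, 4, 0, 6, 8, 6, 2, 4, 8, 4, 6, 4, 8, 4, 0, 4, 2, 4, 0, 4, 2, 4, 0, 4], [3, 5, 1, 5, 3, 5, 1, 5, 3, 5, 1, 5, 9, 5, 7, 5, 9, 5, 3, 7, 9, 7, 1, 5, 9, 5, 7, 5, 9, 2, 8, 4, 6, 4, 8, 4, 0, 6, 8, 6, 2, 4, 8, 4, 6, 4, 8, 4, 0, 4, 2,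 4, 0, 4, 2, 4, 0, 4], [5, 5, 1, 5, 3, 5, 1, 5, 3, 5, 1, 5, 9, 5, 7, 5, 9, 5, 3, 7, 9, 7, 1, 5, 9, 5, 7, 5, 9, 4, 8, 4, 6, 4, 8, 4, 0, 6, 8, 6, 2, 4, 8, 4, 6, 4, 8, 4, 0, 4, 2, 4, 0, 4, 2, 4, 0, 4], [7, 5, 1, 5, 3, 5, 1, 5, 3, 5, 1, 5, 9, 5, 7, 5, 9, 5, 3, 7, 9, 7, 1, 5, 9, 5, 7, 5, 9, 6, 8, 4, 6, 4, 8, 4, 0, 6, 8, 6, 2, 4, 8, 4, 6, 4, 8, 4, 0, 4, 2, 4, 0, 4, 2, 4, 0, 4], [9, 5, 1, 5, 3, 5, 1, 5, 3, 5, 1, 5, 9, 5, 7, 5, 9, 5, 3, 7, 9, 7, 1, 5, 9, 5, 7, 5, 9, 8, 8, 4, 6, 4, 8, 4, 0, 6, 8, 6, 2, 4, 8, 4, 6, 4, 8, 4, 0, 4, 2, 4, 0, 4, 2, 4, 0, 4], [11, 5, 1, 5, 3, 5, 1, 5, 3, 5, 1, 5, 9, 5, 7, 5, 9, 5, 3, 7, 9, 7, 1, 5, 9,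 5, 7, 5, 9, 10, 8, 4, 6, 4, 8, 4, 0, 6, 8, 6, 2, 4, 8, 4, 6, 4, 8, 4, 0, 4, 2, 4, 0, 4, 2, 4, 0, 4], [1, 5, 3, 5, 1, 7, 5, 3, 5, 9, 7, 9, 5, 7, 9, 5, 3, 5, 1, 5, 3, 5, 9, 7, 3, 5, 9, 7, 9, 0, 8, 6, 8, 4, 2, 6, 8, 4, 2, 4, 0, 4, 2, 4, 8, 6, 4, 8, 6, 8, 4, 2, 4, 6, 0, 4, 2, 4], [3, 5, 3, 5, 1, 7, 5, 3, 5, 9, 7, 9, 5, 7, 9, 5, 3, 5, 1, 5, 3, 5, 9, 7, 3, 5, 9, 7, 9, 2, 8, 6, 8, 4, 2, 6, 8, 4, 2, 4, 0, 4, 2, 4, 8, 6, 4, 8, 6, 8, 4, 2, 4, 6, 0, 4, 2, 4], [5, 5, 3, 5, 1, 7, 5, 3, 5, 9, 7, 9, 5, 7, 9, 5, 3, 5, 1, 5, 3, 5, 9, 7, 3, 5, 9, 7, 9, 4, 8, 6, 8, 4, 2, 6, 8, 4, 2, 4, 0, 4, 2, 4, 8, 6, 4, 8, 6, 8, 4, 2, 4, 6, 0, 4, 2, 4],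 [7, 5, 3, 5, 1, 7, 5, 3, 5, 9, 7, 9, 5, 7, 9, 5, 3, 5, 1, 5, 3, 5, 9, 7, 3, 5, 9, 7, 9, 6, 8, 6, 8, 4, 2, 6, 8, 4, 2, 4, 0, 4, 2, 4, 8, 6, 4, 8, 6, 8, 4, 2, 4, 6, 0, 4, 2, 4], [9, 5, 3, 5, 1, 7, 5, 3, 5, 9, 7, 9, 5, 7, 9, 5, 3, 5, 1, 5, 3, 5, 9, 7, 3, 5, 9, 7, 9, 8, 8, 6, 8, 4, 2, 6, 8, 4, 2, 4, 0, 4, 2, 4, 8, 6, 4, 8, 6, 8, 4, 2, 4, 6, 0, 4, 2, 4], [11, 5, 3, 5, 1, 7, 5, 3, 5, 9, 7, 9, 5, 7, 9, 5, 3, 5, 1, 5, 3, 5, 9, 7, 3, 5, 9, 7, 9, 10, 8, 6, 8, 4, 2, 6, 8, 4, 2, 4, 0, 4, 2, 4, 8, 6, 4, 8, 6, 8, 4, 2, 4, 6, 0, 4, 2, 4], [1, 1, 7, 5, 3, 5, 9, 5, 3, 5, 1, 9, 5, 7, 9, 3, 9, 7, 5, 9, 5, 3, 5, 7, 9, 0, 8, 6, 4, 2, 4, 8,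 4, 6, 8, 2, 8, 6, 4, 8, 0, 4, 2, 4, 8, 4, 2, 4, 6, 0], [3, 1, 7, 5, 3, 5, 9, 5, 3, 5, 1, 9, 5, 7, 9, 3, 9, 7, 5, 9, 5, 3, 5, 7, 9, 2, 8, 6, 4, 2, 4, 8, 4, 6, 8, 2, 8, 6, 4, 8, 0, 4, 2, 4, 8, 4, 2, 4, 6, 0], [5, 1, 7, 5, 3, 5, 9, 5, 3, 5, 1, 9, 5, 7, 9, 3, 9, 7, 5, 9, 5, 3, 5, 7, 9, 4, 8, 6, 4, 2, 4, 8, 4, 6, 8, 2, 8, 6, 4, 8, 0, 4, 2, 4, 8, 4, 2, 4, 6, 0], [7, 1, 7, 5, 3, 5, 9, 5, 3, 5, 1, 9, 5, 7, 9, 3, 9, 7, 5, 9, 5, 3, 5, 7, 9, 6, 8, 6, 4, 2, 4, 8, 4, 6, 8, 2, 8, 6, 4, 8, 0, 4, 2, 4, 8, 4, 2, 4, 6, 0], [9, 1, 7, 5, 3, 5, 9, 5, 3, 5, 1, 9, 5, 7, 9, 3, 9, 7, 5, 9, 5, 3, 5, 7, 9, 8, 8, 6, 4, 2, 4, 8, 4, 6, 8, 2, 8, 6,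 4, 8, 0, 4, 2, 4, 8, 4, 2, 4, 6, 0], [11, 1, 7, 5, 3, 5, 9, 5, 3, 5, 1, 9, 5, 7, 9, 3, 9, 7, 5, 9, 5, 3, 5, 7, 9, 10, 8, 6, 4, 2, 4, 8, 4, 6, 8, 2, 8, 6, 4, 8, 0, 4, 2, 4, 8, 4, 2, 4, 6, 0], [1, 7, 5, 7, 9, 7, 9, 5, 3, 7, 9, 5, 7, 5, 7, 5, 9, 7, 5, 9, 5, 3, 5, 7, 9, 0, 8, 6, 4, 2, 4, 8, 4, 6, 8, 4, 6, 4, 6, 4, 8, 6, 2, 4, 8, 6, 8, 6, 4, 6], [3, 7, 5, 7, 9, 7, 9, 5, 3, 7, 9, 5, 7, 5, 7, 5, 9, 7, 5, 9, 5, 3, 5, 7, 9, 2, 8, 6, 4, 2, 4, 8, 4, 6, 8, 4, 6, 4, 6, 4, 8, 6, 2, 4, 8, 6, 8, 6, 4, 6], [5, 7, 5, 7, 9, 7, 9, 5, 3, 7, 9, 5, 7, 5, 7, 5, 9, 7, 5, 9, 5, 3, 5, 7, 9, 4, 8, 6, 4, 2, 4, 8, 4, 6, 8, 4, 6, 4, 6, 4, 8, 6, 2, 4,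 8, 6, 8, 6, 4, 6], [7, 7, 5, 7, 9, 7, 9, 5, 3, 7, 9, 5, 7, 5, 7, 5, 9, 7, 5, 9, 5, 3, 5, 7, 9, 6, 8, 6, 4, 2, 4, 8, 4, 6, 8, 4, 6, 4, 6, 4, 8, 6, 2, 4, 8, 6, 8, 6, 4, 6], [9, 7, 5, 7, 9, 7, 9, 5, 3, 7, 9, 5, 7, 5, 7, 5, 9, 7, 5, 9, 5, 3, 5, 7, 9, 8, 8, 6, 4, 2, 4, 8, 4, 6, 8, 4, 6, 4, 6, 4, 8, 6, 2, 4, 8, 6, 8, 6, 4, 6], [11, 7, 5, 7, 9, 7, 9, 5, 3, 7, 9, 5, 7, 5, 7, 5, 9, 7, 5, 9, 5, 3, 5, 7, 9, 10, 8, 6, 4, 2, 4, 8, 4, 6, 8, 4, 6, 4, 6, 4, 8, 6, 2, 4, 8, 6, 8, 6, 4, 6], [1, 7, 5, 9, 5, 3, 9, 7, 5, 9, 5, 7, 9, 7, 5, 9, 5, 7, 9, 5, 9, 5, 7, 9, 0, 8, 6, 4, 8, 4, 8, 6, 4, 8, 4, 6, 8, 6, 4, 8, 4, 6, 8, 2, 4, 8, 4, 6], [3,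 7, 5, 9, 5, 3, 9, 7, 5, 9, 5, 7, 9, 7, 5, 9, 5, 7, 9, 5, 9, 5, 7, 9, 2, 8, 6, 4, 8, 4, 8, 6, 4, 8, 4, 6, 8, 6, 4, 8, 4, 6, 8, 2, 4, 8, 4, 6], [5, 7, 5, 9, 5, 3, 9, 7, 5, 9, 5, 7, 9, 7, 5, 9, 5, 7, 9, 5, 9, 5, 7, 9, 4, 8, 6, 4, 8, 4, 8, 6, 4, 8, 4, 6, 8, 6, 4, 8, 4, 6, 8, 2, 4, 8, 4, 6], [7, 7, 5, 9, 5, 3, 9, 7, 5, 9, 5, 7, 9, 7, 5, 9, 5, 7, 9, 5, 9, 5, 7, 9, 6, 8, 6, 4, 8, 4, 8, 6, 4, 8, 4, 6, 8, 6, 4, 8, 4, 6, 8, 2, 4, 8, 4, 6], [9, 7, 5, 9, 5, 3, 9, 7, 5, 9, 5, 7, 9, 7, 5, 9, 5, 7, 9, 5, 9, 5, 7, 9, 8, 8, 6, 4, 8, 4, 8, 6, 4, 8, 4, 6, 8, 6, 4, 8, 4, 6, 8, 2, 4, 8, 4, 6], [11, 7, 5, 9, 5, 3, 9, 7, 5, 9, 5, 7, 9, 7, 5,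 9, 5, 7, 9, 5, 9, 5, 7, 9, 10, 8, 6, 4, 8, 4, 8, 6, 4, 8, 4, 6, 8, 6, 4, 8, 4, 6, 8, 2, 4, 8, 4, 6], [7, 7, 7, 7, 7, 7, 7, 7, 5, 5, 5, 5, 5, 5, 5, 5, 5, 5, 5, 5, 3, 3, 3, 3, 3, 11, 3, 11, 3, 11, 3, 11, 3, 11, 11, 3, 11, 11, 3, 11, 11, 3, 11, 11, 10, 10, 10, 10, 2, 10, 10, 10, 10, 2, 10, 10, 10, 10, 2, 2, 2, 2, 2, 1, 1, 1, 1, 1, 1, 6, 4, 0, 4, 2, 6, 4, 0, 6, 4, 6, 2, 6, 4, 6, 0, 4, 6, 2, 4, 0, 4, 6, 4, 2, 0, 4, 0, 4, 2, 0, 4], [3, 3, 3, 3, 3, 11, 11, 11, 11, 3, 11, 11, 11, 11, 3, 11, 11, 11, 11, 10, 10, 2, 10, 10, 2, 10, 10, 2, 10, 10, 2, 10, 2, 10, 2, 10, 2, 10, 2], [5, 5, 5, 5, 5, 5, 5, 5, 5, 5, 5, 5, 3, 3, 3, 3, 1, 1,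 1, 1, 1, 1, 1, 1, 1, 1, 1, 1, 0, 4, 0, 2, 4, 0, 4, 0, 4, 0, 4, 0, 4, 2, 0, 4, 2, 4, 0, 4, 0, 4, 0, 4, 0, 4, 0, 4, 2], [7, 7, 4, 4, 5, 3, 5, 1, 5, 3, 5, 1, 5, 3, 5, 7, 5, 3, 5, 1, 5, 7, 5, 3, 5, 1, 5, 3, 5, 7, 5, 1, 5, 3, 5, 7, 6, 4, 0, 4, 2, 6, 4, 0, 4, 2, 6, 4, 2, 4, 6, 4, 2, 4, 6, 2, 4, 0, 4, 2, 4, 6, 2, 0, 4, 6, 4, 0, 4], [7, 7, 4, 4, 4, 4, 2, 2, 2, 2, 8, 6, 4, 8, 4, 8, 6, 4, 8, 4, 6, 8, 6, 4, 8, 4, 6, 8, 2, 4, 8, 4, 6, 5, 3, 5, 7, 5, 3, 9, 5, 9, 7, 5, 9, 5, 3, 5, 9, 5, 7, 5, 9, 3, 5, 7, 9, 5, 3, 5, 9], [10, 10, 10, 10, 10, 10, 10, 10, 10, 10, 10, 10, 10, 2, 2, 2, 2, 2, 2, 2, 2, 3, 11, 11, 3, 11, 11, 3, 11, 11, 3, 11,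 11, 3, 11, 3, 11, 3, 11, 3, 11]]
/-- the coset table -/
def table : Table where
  n := 1
  k := 12
  w := 1
  M := 2
  CH := 1024
  NCH := 1
  col := colTT
  inv := (BT.node 6 (BT.node 3 (BT.node 1 (BT.node 0 (BT.leaf 1) (BT.leaf 0)) (BT.node 2 (BT.leaf 3) (BT.leaf 2))) (BT.node 5 (BT.node 4 (BT.leaf 5) (BT.leaf 4)) (BT.leaf 7))) (BT.node 9 (BT.node 8 (BT.node 7 (BT.leaf 6) (BT.leaf 9)) (BT.leaf 8)) (BT.node 11 (BT.node 10 (BT.leaf 11) (BT.leaf 10)) (BT.leaf 12))))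
  tw := 9
  TM := 512
  tree := treeT

end Cfsg.Agent.Lib.Helper16.RuM.E3Table
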