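import Cfsg.Agent.Lib.Helper16.RuM.E3Data
set_option autoImplicit false
set_option maxRecDepth 100000
set_option maxHeartbeats 0

namespace Cfsg.Agent.Lib.Helper16.RuM.E3U0
open Cfsg.Agent.Lib.Helper28.TC2Upper Cfsg.Agent.Lib.Helper16.RuM.E3Data

theorem chk0 : data.checkRange 0 477 = true := by decide +kernel
theorem chk1 : data.checkRange 477 523 = true := by decide +kernel
theorem chk2 : data.checkRange 1000 484 = true := by decide +kernel
theorem chk3 : data.checkRange 1484 502 = true := by decide +kernel
theorem chk4 : data.checkRange 1986 498 = true := by decide +kernel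

theorem all : ∀ v, 0 ≤ v → v < 2484 → data.checkNode v = true := by
  intro v h1 h2
  rcases Nat.lt_or_ge v 477 with h | h
  · exact (data.checkRange_iff 0 477).mp chk0 v (by omega) (by omega)
  rcases Nat.lt_or_ge v 1000 with h | h
  · exact (data.checkRange_iff 477 523).mp chk1 v (by omega) (by omega)
  rcases Nat.lt_or_ge v 1484 with h | h
  · exact (data.checkRange_iff 1000 484).mp chk2 v (by omega) (by omega)
  rcases Nat.lt_or_ge v 1986 with h | h
  · exact (data.checkRange_iff 1484 502).mp chk3 v (by omega) (by omega)
  exact (data.checkRange_iff 1986 498).mp chk4 v (by omega) (by omega)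

end Cfsg.Agent.Lib.Helper16.RuM.E3U0
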