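import Cfsg.Agent.Lib.Helper16.RuM.E3Data
set_option autoImplicit false
set_option maxRecDepth 100000
set_option maxHeartbeats 0

namespace Cfsg.Agent.Lib.Helper16.RuM.E3U1
open Cfsg.Agent.Lib.Helper28.TC2Upper Cfsg.Agent.Lib.Helper16.RuM.E3Data

theorem chk5 : data.checkRange 2484 577 = true := by decide +kernel
theorem chk6 : data.checkRange 3061 558 = true := by decide +kernel
theorem chk7 : data.checkRange 3619 620 = true := by decide +kernel
theorem chk8 : data.checkRange 4239 527 = true := by decide +kernel
theorem chk9 : data.checkRange 4766 488 = true := by decide +kernel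

theorem all : ∀ v, 2484 ≤ v → v < 5254 → data.checkNode v = true := by
  intro v h1 h2
  rcases Nat.lt_or_ge v 3061 with h | h
  · exact (data.checkRange_iff 2484 577).mp chk5 v (by omega) (by omega)
  rcases Nat.lt_or_ge v 3619 with h | h
  · exact (data.checkRange_iff 3061 558).mp chk6 v (by omega) (by omega)
  rcases Nat.lt_or_ge v 4239 with h | h
  · exact (data.checkRange_iff 3619 620).mp chk7 v (by omega) (by omega)
  rcases Nat.lt_or_ge v 4766 with h | h
  · exact (data.checkRange_iff 4239 527).mp chk8 v (by omega) (by omega)
  exact (data.checkRange_iff 4766 488).mp chk9 v (by omega) (by omega)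

end Cfsg.Agent.Lib.Helper16.RuM.E3U1
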