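import Cfsg.Agent.Lib.Helper16.RuM.E3Data
import Cfsg.Agent.Lib.Helper16.RuM.E3U0
set_option autoImplicit false
set_option maxRecDepth 100000
set_option maxHeartbeats 0

namespace Cfsg.Agent.Lib.Helper16.RuM.E3U10
open Cfsg.Agent.Lib.Helper28.TC2Upper Cfsg.Agent.Lib.Helper16.RuM.E3Data

theorem chk50 : data.checkRange 35484 1307 = true := by decide +kernel
theorem chk51 : data.checkRange 36791 922 = true := by decide +kernel
theorem chk52 : data.checkRange 37713 1022 = true := by decide +kernel
theorem chk53 : data.checkRange 38735 774 = true := by decide +kernel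
theorem chk54 : data.checkRange 39509 1076 = true := by decide +kernel

theorem all : ∀ v, 35484 ≤ v → v < 40585 → data.checkNode v = true := by
  intro v h1 h2
  rcases Nat.lt_or_ge v 36791 with h | h
  · exact (data.checkRange_iff 35484 1307).mp chk50 v (by omega) (by omega)
  rcases Nat.lt_or_ge v 37713 with h | h
  · exact (data.checkRange_iff 36791 922).mp chk51 v (by omega) (by omega)
  rcases Nat.lt_or_ge v 38735 with h | h
  · exact (data.checkRange_iff 37713 1022).mp chk52 v (by omega) (by omega)
  rcases Nat.lt_or_ge v 39509 with h | h
  · exact (data.checkRange_iff 38735 774).mp chk53 v (by omega) (by omega)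
  exact (data.checkRange_iff 39509 1076).mp chk54 v (by omega) (by omega)

end Cfsg.Agent.Lib.Helper16.RuM.E3U10
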