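import Cfsg.Agent.Lib.Helper16.RuM.E3Data
import Cfsg.Agent.Lib.Helper16.RuM.E3U1
set_option autoImplicit false
set_option maxRecDepth 100000
set_option maxHeartbeats 0

namespace Cfsg.Agent.Lib.Helper16.RuM.E3U11
open Cfsg.Agent.Lib.Helper28.TC2Upper Cfsg.Agent.Lib.Helper16.RuM.E3Data

theorem chk55 : data.checkRange 40585 991 = true := by decide +kernel
theorem chk56 : data.checkRange 41576 1168 = true := by decide +kernel
theorem chk57 : data.checkRange 42744 857 = true := by decide +kernel
theorem chk58 : data.checkRange 43601 1140 = true := by decide +kernel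
theorem chk59 : data.checkRange 44741 1481 = true := by decide +kernel

theorem all : ∀ v, 40585 ≤ v → v < 46222 → data.checkNode v = true := by
  intro v h1 h2
  rcases Nat.lt_or_ge v 41576 with h | h
  · exact (data.checkRange_iff 40585 991).mp chk55 v (by omega) (by omega)
  rcases Nat.lt_or_ge v 42744 with h | h
  · exact (data.checkRange_iff 41576 1168).mp chk56 v (by omega) (by omega)
  rcases Nat.lt_or_ge v 43601 with h | h
  · exact (data.checkRange_iff 42744 857).mp chk57 v (by omega) (by omega)
  rcases Nat.lt_or_ge v 44741 with h | h
  · exact (data.checkRange_iff 43601 1140).mp chk58 v (by omega) (by omega)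
  exact (data.checkRange_iff 44741 1481).mp chk59 v (by omega) (by omega)

end Cfsg.Agent.Lib.Helper16.RuM.E3U11
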