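import Cfsg.Agent.Lib.Helper16.RuM.E3Data
set_option autoImplicit false
set_option maxRecDepth 100000
set_option maxHeartbeats 0

namespace Cfsg.Agent.Lib.Helper16.RuM.E3U2
open Cfsg.Agent.Lib.Helper28.TC2Upper Cfsg.Agent.Lib.Helper16.RuM.E3Data

theorem chk10 : data.checkRange 5254 560 = true := by decide +kernel
theorem chk11 : data.checkRange 5814 651 = true := by decide +kernel
theorem chk12 : data.checkRange 6465 703 = true := by decide +kernel
theorem chk13 : data.checkRange 7168 568 = true := by decide +kernel
theorem chk14 : data.checkRange 7736 581 = true := by decide +kernel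

theorem all : ∀ v, 5254 ≤ v → v < 8317 → data.checkNode v = true := by
  intro v h1 h2
  rcases Nat.lt_or_ge v 5814 with h | h
  · exact (data.checkRange_iff 5254 560).mp chk10 v (by omega) (by omega)
  rcases Nat.lt_or_ge v 6465 with h | h
  · exact (data.checkRange_iff 5814 651).mp chk11 v (by omega) (by omega)
  rcases Nat.lt_or_ge v 7168 with h | h
  · exact (data.checkRange_iff 6465 703).mp chk12 v (by omega) (by omega)
  rcases Nat.lt_or_ge v 7736 with h | h
  · exact (data.checkRange_iff 7168 568).mp chk13 v (by omega) (by omega)
  exact (data.checkRange_iff 7736 581).mp chk14 v (by omega) (by omega)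

end Cfsg.Agent.Lib.Helper16.RuM.E3U2
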