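import Cfsg.Agent.Lib.Helper16.RuM.E3Data
import Cfsg.Agent.Lib.Helper16.RuM.E3U2
set_option autoImplicit false
set_option maxRecDepth 100000
set_option maxHeartbeats 0

namespace Cfsg.Agent.Lib.Helper16.RuM.E3U12
open Cfsg.Agent.Lib.Helper28.TC2Upper Cfsg.Agent.Lib.Helper16.RuM.E3Data

theorem chk60 : data.checkRange 46222 1719 = true := by decide +kernel
theorem chk61 : data.checkRange 47941 1207 = true := by decide +kernel
theorem chk62 : data.checkRange 49148 1478 = true := by decide +kernel
theorem chk63 : data.checkRange 50626 1522 = true := by decide +kernel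
theorem chk64 : data.checkRange 52148 1110 = true := by decide +kernel

theorem all : ∀ v, 46222 ≤ v → v < 53258 → data.checkNode v = true := by
  intro v h1 h2
  rcases Nat.lt_or_ge v 47941 with h | h
  · exact (data.checkRange_iff 46222 1719).mp chk60 v (by omega) (by omega)
  rcases Nat.lt_or_ge v 49148 with h | h
  · exact (data.checkRange_iff 47941 1207).mp chk61 v (by omega) (by omega)
  rcases Nat.lt_or_ge v 50626 with h | h
  · exact (data.checkRange_iff 49148 1478).mp chk62 v (by omega) (by omega)
  rcases Nat.lt_or_ge v 52148 with h | h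
  · exact (data.checkRange_iff 50626 1522).mp chk63 v (by omega) (by omega)
  exact (data.checkRange_iff 52148 1110).mp chk64 v (by omega) (by omega)

end Cfsg.Agent.Lib.Helper16.RuM.E3U12
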