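import Cfsg.Agent.Lib.Helper16.RuM.E3Data
set_option autoImplicit false
set_option maxRecDepth 100000
set_option maxHeartbeats 0

namespace Cfsg.Agent.Lib.Helper16.RuM.E3U3
open Cfsg.Agent.Lib.Helper28.TC2Upper Cfsg.Agent.Lib.Helper16.RuM.E3Data

theorem chk15 : data.checkRange 8317 651 = true := by decide +kernel
theorem chk16 : data.checkRange 8968 719 = true := by decide +kernel
theorem chk17 : data.checkRange 9687 568 = true := by decide +kernel
theorem chk18 : data.checkRange 10255 695 = true := by decide +kernel
theorem chk19 : data.checkRange 10950 649 = true := by decide +kernel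

theorem all : ∀ v, 8317 ≤ v → v < 11599 → data.checkNode v = true := by
  intro v h1 h2
  rcases Nat.lt_or_ge v 8968 with h | h
  · exact (data.checkRange_iff 8317 651).mp chk15 v (by omega) (by omega)
  rcases Nat.lt_or_ge v 9687 with h | h
  · exact (data.checkRange_iff 8968 719).mp chk16 v (by omega) (by omega)
  rcases Nat.lt_or_ge v 10255 with h | h
  · exact (data.checkRange_iff 9687 568).mp chk17 v (by omega) (by omega)
  rcases Nat.lt_or_ge v 10950 with h | h
  · exact (data.checkRange_iff 10255 695).mp chk18 v (by omega) (by omega)
  exact (data.checkRange_iff 10950 649).mp chk19 v (by omega) (by omega)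

end Cfsg.Agent.Lib.Helper16.RuM.E3U3
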