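import Cfsg.Agent.Lib.Helper16.RuM.E3Data
import Cfsg.Agent.Lib.Helper16.RuM.E3U3
set_option autoImplicit false
set_option maxRecDepth 100000
set_option maxHeartbeats 0

namespace Cfsg.Agent.Lib.Helper16.RuM.E3U13
open Cfsg.Agent.Lib.Helper28.TC2Upper Cfsg.Agent.Lib.Helper16.RuM.E3Data

theorem chk65 : data.checkRange 53258 1696 = true := by decide +kernel
theorem chk66 : data.checkRange 54954 1275 = true := by decide +kernel
theorem chk67 : data.checkRange 56229 1743 = true := by decide +kernel
theorem chk68 : data.checkRange 57972 1053 = true := by decide +kernel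
theorem chk69 : data.checkRange 59025 1076 = true := by decide +kernel

theorem all : ∀ v, 53258 ≤ v → v < 60101 → data.checkNode v = true := by
  intro v h1 h2
  rcases Nat.lt_or_ge v 54954 with h | h
  · exact (data.checkRange_iff 53258 1696).mp chk65 v (by omega) (by omega)
  rcases Nat.lt_or_ge v 56229 with h | h
  · exact (data.checkRange_iff 54954 1275).mp chk66 v (by omega) (by omega)
  rcases Nat.lt_or_ge v 57972 with h | h
  · exact (data.checkRange_iff 56229 1743).mp chk67 v (by omega) (by omega)
  rcases Nat.lt_or_ge v 59025 with h | h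
  · exact (data.checkRange_iff 57972 1053).mp chk68 v (by omega) (by omega)
  exact (data.checkRange_iff 59025 1076).mp chk69 v (by omega) (by omega)

end Cfsg.Agent.Lib.Helper16.RuM.E3U13
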