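import Cfsg.Agent.Lib.Helper16.RuM.E3Data
set_option autoImplicit false
set_option maxRecDepth 100000
set_option maxHeartbeats 0

namespace Cfsg.Agent.Lib.Helper16.RuM.E3U4
open Cfsg.Agent.Lib.Helper28.TC2Upper Cfsg.Agent.Lib.Helper16.RuM.E3Data

theorem chk20 : data.checkRange 11599 607 = true := by decide +kernel
theorem chk21 : data.checkRange 12206 641 = true := by decide +kernel
theorem chk22 : data.checkRange 12847 728 = true := by decide +kernel
theorem chk23 : data.checkRange 13575 605 = true := by decide +kernel
theorem chk24 : data.checkRange 14180 648 = true := by decide +kernel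

theorem all : ∀ v, 11599 ≤ v → v < 14828 → data.checkNode v = true := by
  intro v h1 h2
  rcases Nat.lt_or_ge v 12206 with h | h
  · exact (data.checkRange_iff 11599 607).mp chk20 v (by omega) (by omega)
  rcases Nat.lt_or_ge v 12847 with h | h
  · exact (data.checkRange_iff 12206 641).mp chk21 v (by omega) (by omega)
  rcases Nat.lt_or_ge v 13575 with h | h
  · exact (data.checkRange_iff 12847 728).mp chk22 v (by omega) (by omega)
  rcases Nat.lt_or_ge v 14180 with h | h
  · exact (data.checkRange_iff 13575 605).mp chk23 v (by omega) (by omega)
  exact (data.checkRange_iff 14180 648).mp chk24 v (by omega) (by omega)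

end Cfsg.Agent.Lib.Helper16.RuM.E3U4
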