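import Cfsg.Agent.Lib.Helper16.RuM.E3Data
import Cfsg.Agent.Lib.Helper16.RuM.E3U4
set_option autoImplicit false
set_option maxRecDepth 100000
set_option maxHeartbeats 0

namespace Cfsg.Agent.Lib.Helper16.RuM.E3U14
open Cfsg.Agent.Lib.Helper28.TC2Upper Cfsg.Agent.Lib.Helper16.RuM.E3Data

theorem chk70 : data.checkRange 60101 1062 = true := by decide +kernel
theorem chk71 : data.checkRange 61163 977 = true := by decide +kernel
theorem chk72 : data.checkRange 62140 1189 = true := by decide +kernel
theorem chk73 : data.checkRange 63329 1460 = true := by decide +kernel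
theorem chk74 : data.checkRange 64789 1435 = true := by decide +kernel

theorem all : ∀ v, 60101 ≤ v → v < 66224 → data.checkNode v = true := by
  intro v h1 h2
  rcases Nat.lt_or_ge v 61163 with h | h
  · exact (data.checkRange_iff 60101 1062).mp chk70 v (by omega) (by omega)
  rcases Nat.lt_or_ge v 62140 with h | h
  · exact (data.checkRange_iff 61163 977).mp chk71 v (by omega) (by omega)
  rcases Nat.lt_or_ge v 63329 with h | h
  · exact (data.checkRange_iff 62140 1189).mp chk72 v (by omega) (by omega)
  rcases Nat.lt_or_ge v 64789 with h | h
  · exact (data.checkRange_iff 63329 1460).mp chk73 v (by omega) (by omega)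
  exact (data.checkRange_iff 64789 1435).mp chk74 v (by omega) (by omega)

end Cfsg.Agent.Lib.Helper16.RuM.E3U14
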