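import Cfsg.Agent.Lib.Helper16.RuM.E3Data
set_option autoImplicit false
set_option maxRecDepth 100000
set_option maxHeartbeats 0

namespace Cfsg.Agent.Lib.Helper16.RuM.E3U5
open Cfsg.Agent.Lib.Helper28.TC2Upper Cfsg.Agent.Lib.Helper16.RuM.E3Data

theorem chk25 : data.checkRange 14828 739 = true := by decide +kernel
theorem chk26 : data.checkRange 15567 635 = true := by decide +kernel
theorem chk27 : data.checkRange 16202 586 = true := by decide +kernel
theorem chk28 : data.checkRange 16788 747 = true := by decide +kernel
theorem chk29 : data.checkRange 17535 1130 = true := by decide +kernel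

theorem all : ∀ v, 14828 ≤ v → v < 18665 → data.checkNode v = true := by
  intro v h1 h2
  rcases Nat.lt_or_ge v 15567 with h | h
  · exact (data.checkRange_iff 14828 739).mp chk25 v (by omega) (by omega)
  rcases Nat.lt_or_ge v 16202 with h | h
  · exact (data.checkRange_iff 15567 635).mp chk26 v (by omega) (by omega)
  rcases Nat.lt_or_ge v 16788 with h | h
  · exact (data.checkRange_iff 16202 586).mp chk27 v (by omega) (by omega)
  rcases Nat.lt_or_ge v 17535 with h | h
  · exact (data.checkRange_iff 16788 747).mp chk28 v (by omega) (by omega)
  exact (data.checkRange_iff 17535 1130).mp chk29 v (by omega) (by omega)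

end Cfsg.Agent.Lib.Helper16.RuM.E3U5
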