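import Cfsg.Agent.Lib.Helper16.RuM.E3Data
import Cfsg.Agent.Lib.Helper16.RuM.E3U5
set_option autoImplicit false
set_option maxRecDepth 100000
set_option maxHeartbeats 0

namespace Cfsg.Agent.Lib.Helper16.RuM.E3U15
open Cfsg.Agent.Lib.Helper28.TC2Upper Cfsg.Agent.Lib.Helper16.RuM.E3Data

theorem chk75 : data.checkRange 66224 1670 = true := by decide +kernel
theorem chk76 : data.checkRange 67894 1553 = true := by decide +kernel
theorem chk77 : data.checkRange 69447 1413 = true := by decide +kernel
theorem chk78 : data.checkRange 70860 1751 = true := by decide +kernel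
theorem chk79 : data.checkRange 72611 1389 = true := by decide +kernel

theorem all : ∀ v, 66224 ≤ v → v < 74000 → data.checkNode v = true := by
  intro v h1 h2
  rcases Nat.lt_or_ge v 67894 with h | h
  · exact (data.checkRange_iff 66224 1670).mp chk75 v (by omega) (by omega)
  rcases Nat.lt_or_ge v 69447 with h | h
  · exact (data.checkRange_iff 67894 1553).mp chk76 v (by omega) (by omega)
  rcases Nat.lt_or_ge v 70860 with h | h
  · exact (data.checkRange_iff 69447 1413).mp chk77 v (by omega) (by omega)
  rcases Nat.lt_or_ge v 72611 with h | h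
  · exact (data.checkRange_iff 70860 1751).mp chk78 v (by omega) (by omega)
  exact (data.checkRange_iff 72611 1389).mp chk79 v (by omega) (by omega)

end Cfsg.Agent.Lib.Helper16.RuM.E3U15
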