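import Cfsg.Agent.Lib.Helper16.RuM.E3Data
set_option autoImplicit false
set_option maxRecDepth 100000
set_option maxHeartbeats 0

namespace Cfsg.Agent.Lib.Helper16.RuM.E3U6
open Cfsg.Agent.Lib.Helper28.TC2Upper Cfsg.Agent.Lib.Helper16.RuM.E3Data

theorem chk30 : data.checkRange 18665 747 = true := by decide +kernel
theorem chk31 : data.checkRange 19412 657 = true := by decide +kernel
theorem chk32 : data.checkRange 20069 783 = true := by decide +kernel
theorem chk33 : data.checkRange 20852 970 = true := by decide +kernel
theorem chk34 : data.checkRange 21822 683 = true := by decide +kernel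

theorem all : ∀ v, 18665 ≤ v → v < 22505 → data.checkNode v = true := by
  intro v h1 h2
  rcases Nat.lt_or_ge v 19412 with h | h
  · exact (data.checkRange_iff 18665 747).mp chk30 v (by omega) (by omega)
  rcases Nat.lt_or_ge v 20069 with h | h
  · exact (data.checkRange_iff 19412 657).mp chk31 v (by omega) (by omega)
  rcases Nat.lt_or_ge v 20852 with h | h
  · exact (data.checkRange_iff 20069 783).mp chk32 v (by omega) (by omega)
  rcases Nat.lt_or_ge v 21822 with h | h
  · exact (data.checkRange_iff 20852 970).mp chk33 v (by omega) (by omega)
  exact (data.checkRange_iff 21822 683).mp chk34 v (by omega) (by omega)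

end Cfsg.Agent.Lib.Helper16.RuM.E3U6
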