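import Cfsg.Agent.Lib.Helper16.RuM.E3Data
import Cfsg.Agent.Lib.Helper16.RuM.E3U6
set_option autoImplicit false
set_option maxRecDepth 100000
set_option maxHeartbeats 0

namespace Cfsg.Agent.Lib.Helper16.RuM.E3U16
open Cfsg.Agent.Lib.Helper28.TC2Upper Cfsg.Agent.Lib.Helper16.RuM.E3Data

theorem chk80 : data.checkRange 74000 1648 = true := by decide +kernel
theorem chk81 : data.checkRange 75648 1738 = true := by decide +kernel
theorem chk82 : data.checkRange 77386 1874 = true := by decide +kernel
theorem chk83 : data.checkRange 79260 1692 = true := by decide +kernel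
theorem chk84 : data.checkRange 80952 1565 = true := by decide +kernel

theorem all : ∀ v, 74000 ≤ v → v < 82517 → data.checkNode v = true := by
  intro v h1 h2
  rcases Nat.lt_or_ge v 75648 with h | h
  · exact (data.checkRange_iff 74000 1648).mp chk80 v (by omega) (by omega)
  rcases Nat.lt_or_ge v 77386 with h | h
  · exact (data.checkRange_iff 75648 1738).mp chk81 v (by omega) (by omega)
  rcases Nat.lt_or_ge v 79260 with h | h
  · exact (data.checkRange_iff 77386 1874).mp chk82 v (by omega) (by omega)
  rcases Nat.lt_or_ge v 80952 with h | h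
  · exact (data.checkRange_iff 79260 1692).mp chk83 v (by omega) (by omega)
  exact (data.checkRange_iff 80952 1565).mp chk84 v (by omega) (by omega)

end Cfsg.Agent.Lib.Helper16.RuM.E3U16
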