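import Cfsg.Agent.Lib.Helper16.RuM.E3Data
set_option autoImplicit false
set_option maxRecDepth 100000
set_option maxHeartbeats 0

namespace Cfsg.Agent.Lib.Helper16.RuM.E3U7
open Cfsg.Agent.Lib.Helper28.TC2Upper Cfsg.Agent.Lib.Helper16.RuM.E3Data

theorem chk35 : data.checkRange 22505 632 = true := by decide +kernel
theorem chk36 : data.checkRange 23137 903 = true := by decide +kernel
theorem chk37 : data.checkRange 24040 788 = true := by decide +kernel
theorem chk38 : data.checkRange 24828 814 = true := by decide +kernel
theorem chk39 : data.checkRange 25642 932 = true := by decide +kernel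

theorem all : ∀ v, 22505 ≤ v → v < 26574 → data.checkNode v = true := by
  intro v h1 h2
  rcases Nat.lt_or_ge v 23137 with h | h
  · exact (data.checkRange_iff 22505 632).mp chk35 v (by omega) (by omega)
  rcases Nat.lt_or_ge v 24040 with h | h
  · exact (data.checkRange_iff 23137 903).mp chk36 v (by omega) (by omega)
  rcases Nat.lt_or_ge v 24828 with h | h
  · exact (data.checkRange_iff 24040 788).mp chk37 v (by omega) (by omega)
  rcases Nat.lt_or_ge v 25642 with h | h
  · exact (data.checkRange_iff 24828 814).mp chk38 v (by omega) (by omega)
  exact (data.checkRange_iff 25642 932).mp chk39 v (by omega) (by omega)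

end Cfsg.Agent.Lib.Helper16.RuM.E3U7
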