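import Cfsg.Agent.Lib.Helper16.RuM.E3Data
import Cfsg.Agent.Lib.Helper16.RuM.E3U7
set_option autoImplicit false
set_option maxRecDepth 100000
set_option maxHeartbeats 0

namespace Cfsg.Agent.Lib.Helper16.RuM.E3U17
open Cfsg.Agent.Lib.Helper28.TC2Upper Cfsg.Agent.Lib.Helper16.RuM.E3Data

theorem chk85 : data.checkRange 82517 1862 = true := by decide +kernel
theorem chk86 : data.checkRange 84379 1121 = true := by decide +kernel
theorem chk87 : data.checkRange 85500 1335 = true := by decide +kernel
theorem chk88 : data.checkRange 86835 1609 = true := by decide +kernel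
theorem chk89 : data.checkRange 88444 1646 = true := by decide +kernel

theorem all : ∀ v, 82517 ≤ v → v < 90090 → data.checkNode v = true := by
  intro v h1 h2
  rcases Nat.lt_or_ge v 84379 with h | h
  · exact (data.checkRange_iff 82517 1862).mp chk85 v (by omega) (by omega)
  rcases Nat.lt_or_ge v 85500 with h | h
  · exact (data.checkRange_iff 84379 1121).mp chk86 v (by omega) (by omega)
  rcases Nat.lt_or_ge v 86835 with h | h
  · exact (data.checkRange_iff 85500 1335).mp chk87 v (by omega) (by omega)
  rcases Nat.lt_or_ge v 88444 with h | h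
  · exact (data.checkRange_iff 86835 1609).mp chk88 v (by omega) (by omega)
  exact (data.checkRange_iff 88444 1646).mp chk89 v (by omega) (by omega)

end Cfsg.Agent.Lib.Helper16.RuM.E3U17
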