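import Cfsg.Agent.Lib.Helper16.RuM.E3Data
set_option autoImplicit false
set_option maxRecDepth 100000
set_option maxHeartbeats 0

namespace Cfsg.Agent.Lib.Helper16.RuM.E3U9
open Cfsg.Agent.Lib.Helper28.TC2Upper Cfsg.Agent.Lib.Helper16.RuM.E3Data

theorem chk45 : data.checkRange 30862 645 = true := by decide +kernel
theorem chk46 : data.checkRange 31507 789 = true := by decide +kernel
theorem chk47 : data.checkRange 32296 1574 = true := by decide +kernel
theorem chk48 : data.checkRange 33870 687 = true := by decide +kernel
theorem chk49 : data.checkRange 34557 927 = true := by decide +kernel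

theorem all : ∀ v, 30862 ≤ v → v < 35484 → data.checkNode v = true := by
  intro v h1 h2
  rcases Nat.lt_or_ge v 31507 with h | h
  · exact (data.checkRange_iff 30862 645).mp chk45 v (by omega) (by omega)
  rcases Nat.lt_or_ge v 32296 with h | h
  · exact (data.checkRange_iff 31507 789).mp chk46 v (by omega) (by omega)
  rcases Nat.lt_or_ge v 33870 with h | h
  · exact (data.checkRange_iff 32296 1574).mp chk47 v (by omega) (by omega)
  rcases Nat.lt_or_ge v 34557 with h | h
  · exact (data.checkRange_iff 33870 687).mp chk48 v (by omega) (by omega)
  exact (data.checkRange_iff 34557 927).mp chk49 v (by omega) (by omega)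

end Cfsg.Agent.Lib.Helper16.RuM.E3U9
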