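import Cfsg.Agent.Lib.Helper16.RuM.E3Data
import Cfsg.Agent.Lib.Helper16.RuM.E3U9
set_option autoImplicit false
set_option maxRecDepth 100000
set_option maxHeartbeats 0

namespace Cfsg.Agent.Lib.Helper16.RuM.E3U19
open Cfsg.Agent.Lib.Helper28.TC2Upper Cfsg.Agent.Lib.Helper16.RuM.E3Data

theorem chk95 : data.checkRange 98791 1617 = true := by decide +kernel
theorem chk96 : data.checkRange 100408 1701 = true := by decide +kernel
theorem chk97 : data.checkRange 102109 1658 = true := by decide +kernel
theorem chk98 : data.checkRange 103767 1952 = true := by decide +kernel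
theorem chk99 : data.checkRange 105719 1830 = true := by decide +kernel

theorem all : ∀ v, 98791 ≤ v → v < 107549 → data.checkNode v = true := by
  intro v h1 h2
  rcases Nat.lt_or_ge v 100408 with h | h
  · exact (data.checkRange_iff 98791 1617).mp chk95 v (by omega) (by omega)
  rcases Nat.lt_or_ge v 102109 with h | h
  · exact (data.checkRange_iff 100408 1701).mp chk96 v (by omega) (by omega)
  rcases Nat.lt_or_ge v 103767 with h | h
  · exact (data.checkRange_iff 102109 1658).mp chk97 v (by omega) (by omega)
  rcases Nat.lt_or_ge v 105719 with h | h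
  · exact (data.checkRange_iff 103767 1952).mp chk98 v (by omega) (by omega)
  exact (data.checkRange_iff 105719 1830).mp chk99 v (by omega) (by omega)

end Cfsg.Agent.Lib.Helper16.RuM.E3U19
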