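import Cfsg.Agent.Lib.Helper16.RuM.E3Data
import Cfsg.Agent.Lib.Helper16.RuM.E3U10
set_option autoImplicit false
set_option maxRecDepth 100000
set_option maxHeartbeats 0

namespace Cfsg.Agent.Lib.Helper16.RuM.E3U20
open Cfsg.Agent.Lib.Helper28.TC2Upper Cfsg.Agent.Lib.Helper16.RuM.E3Data

theorem chk100 : data.checkRange 107549 1575 = true := by decide +kernel
theorem chk101 : data.checkRange 109124 1659 = true := by decide +kernel
theorem chk102 : data.checkRange 110783 1349 = true := by decide +kernel
theorem chk103 : data.checkRange 112132 1342 = true := by decide +kernel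
theorem chk104 : data.checkRange 113474 1327 = true := by decide +kernel

theorem all : ∀ v, 107549 ≤ v → v < 114801 → data.checkNode v = true := by
  intro v h1 h2
  rcases Nat.lt_or_ge v 109124 with h | h
  · exact (data.checkRange_iff 107549 1575).mp chk100 v (by omega) (by omega)
  rcases Nat.lt_or_ge v 110783 with h | h
  · exact (data.checkRange_iff 109124 1659).mp chk101 v (by omega) (by omega)
  rcases Nat.lt_or_ge v 112132 with h | h
  · exact (data.checkRange_iff 110783 1349).mp chk102 v (by omega) (by omega)
  rcases Nat.lt_or_ge v 113474 with h | h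
  · exact (data.checkRange_iff 112132 1342).mp chk103 v (by omega) (by omega)
  exact (data.checkRange_iff 113474 1327).mp chk104 v (by omega) (by omega)

end Cfsg.Agent.Lib.Helper16.RuM.E3U20
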