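import Cfsg.Agent.Lib.Helper16.RuM.E3Data
import Cfsg.Agent.Lib.Helper16.RuM.E3U11
set_option autoImplicit false
set_option maxRecDepth 100000
set_option maxHeartbeats 0

namespace Cfsg.Agent.Lib.Helper16.RuM.E3U21
open Cfsg.Agent.Lib.Helper28.TC2Upper Cfsg.Agent.Lib.Helper16.RuM.E3Data

theorem chk105 : data.checkRange 114801 1358 = true := by decide +kernel
theorem chk106 : data.checkRange 116159 1459 = true := by decide +kernel
theorem chk107 : data.checkRange 117618 1234 = true := by decide +kernel
theorem chk108 : data.checkRange 118852 1649 = true := by decide +kernel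
theorem chk109 : data.checkRange 120501 1298 = true := by decide +kernel

theorem all : ∀ v, 114801 ≤ v → v < 121799 → data.checkNode v = true := by
  intro v h1 h2
  rcases Nat.lt_or_ge v 116159 with h | h
  · exact (data.checkRange_iff 114801 1358).mp chk105 v (by omega) (by omega)
  rcases Nat.lt_or_ge v 117618 with h | h
  · exact (data.checkRange_iff 116159 1459).mp chk106 v (by omega) (by omega)
  rcases Nat.lt_or_ge v 118852 with h | h
  · exact (data.checkRange_iff 117618 1234).mp chk107 v (by omega) (by omega)
  rcases Nat.lt_or_ge v 120501 with h | h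
  · exact (data.checkRange_iff 118852 1649).mp chk108 v (by omega) (by omega)
  exact (data.checkRange_iff 120501 1298).mp chk109 v (by omega) (by omega)

end Cfsg.Agent.Lib.Helper16.RuM.E3U21
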