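import Cfsg.Agent.Lib.Helper16.RuM.E3Data
import Cfsg.Agent.Lib.Helper16.RuM.E3U12
set_option autoImplicit false
set_option maxRecDepth 100000
set_option maxHeartbeats 0

namespace Cfsg.Agent.Lib.Helper16.RuM.E3U22
open Cfsg.Agent.Lib.Helper28.TC2Upper Cfsg.Agent.Lib.Helper16.RuM.E3Data

theorem chk110 : data.checkRange 121799 1340 = true := by decide +kernel
theorem chk111 : data.checkRange 123139 1297 = true := by decide +kernel
theorem chk112 : data.checkRange 124436 931 = true := by decide +kernel
theorem chk113 : data.checkRange 125367 1823 = true := by decide +kernel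
theorem chk114 : data.checkRange 127190 1233 = true := by decide +kernel

theorem all : ∀ v, 121799 ≤ v → v < 128423 → data.checkNode v = true := by
  intro v h1 h2
  rcases Nat.lt_or_ge v 123139 with h | h
  · exact (data.checkRange_iff 121799 1340).mp chk110 v (by omega) (by omega)
  rcases Nat.lt_or_ge v 124436 with h | h
  · exact (data.checkRange_iff 123139 1297).mp chk111 v (by omega) (by omega)
  rcases Nat.lt_or_ge v 125367 with h | h
  · exact (data.checkRange_iff 124436 931).mp chk112 v (by omega) (by omega)
  rcases Nat.lt_or_ge v 127190 with h | h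
  · exact (data.checkRange_iff 125367 1823).mp chk113 v (by omega) (by omega)
  exact (data.checkRange_iff 127190 1233).mp chk114 v (by omega) (by omega)

end Cfsg.Agent.Lib.Helper16.RuM.E3U22
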