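import Cfsg.Agent.Lib.Helper16.RuM.E3Data
import Cfsg.Agent.Lib.Helper16.RuM.E3U13
set_option autoImplicit false
set_option maxRecDepth 100000
set_option maxHeartbeats 0

namespace Cfsg.Agent.Lib.Helper16.RuM.E3U23
open Cfsg.Agent.Lib.Helper28.TC2Upper Cfsg.Agent.Lib.Helper16.RuM.E3Data

theorem chk115 : data.checkRange 128423 1749 = true := by decide +kernel
theorem chk116 : data.checkRange 130172 1291 = true := by decide +kernel
theorem chk117 : data.checkRange 131463 1102 = true := by decide +kernel
theorem chk118 : data.checkRange 132565 1286 = true := by decide +kernel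
theorem chk119 : data.checkRange 133851 1409 = true := by decide +kernel

theorem all : ∀ v, 128423 ≤ v → v < 135260 → data.checkNode v = true := by
  intro v h1 h2
  rcases Nat.lt_or_ge v 130172 with h | h
  · exact (data.checkRange_iff 128423 1749).mp chk115 v (by omega) (by omega)
  rcases Nat.lt_or_ge v 131463 with h | h
  · exact (data.checkRange_iff 130172 1291).mp chk116 v (by omega) (by omega)
  rcases Nat.lt_or_ge v 132565 with h | h
  · exact (data.checkRange_iff 131463 1102).mp chk117 v (by omega) (by omega)
  rcases Nat.lt_or_ge v 133851 with h | h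
  · exact (data.checkRange_iff 132565 1286).mp chk118 v (by omega) (by omega)
  exact (data.checkRange_iff 133851 1409).mp chk119 v (by omega) (by omega)

end Cfsg.Agent.Lib.Helper16.RuM.E3U23
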