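import Cfsg.Agent.Lib.Helper16.RuM.E3Data
import Cfsg.Agent.Lib.Helper16.RuM.E3U14
set_option autoImplicit false
set_option maxRecDepth 100000
set_option maxHeartbeats 0

namespace Cfsg.Agent.Lib.Helper16.RuM.E3U24
open Cfsg.Agent.Lib.Helper28.TC2Upper Cfsg.Agent.Lib.Helper16.RuM.E3Data

theorem chk120 : data.checkRange 135260 1450 = true := by decide +kernel
theorem chk121 : data.checkRange 136710 1457 = true := by decide +kernel
theorem chk122 : data.checkRange 138167 1618 = true := by decide +kernel
theorem chk123 : data.checkRange 139785 1170 = true := by decide +kernel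
theorem chk124 : data.checkRange 140955 1730 = true := by decide +kernel

theorem all : ∀ v, 135260 ≤ v → v < 142685 → data.checkNode v = true := by
  intro v h1 h2
  rcases Nat.lt_or_ge v 136710 with h | h
  · exact (data.checkRange_iff 135260 1450).mp chk120 v (by omega) (by omega)
  rcases Nat.lt_or_ge v 138167 with h | h
  · exact (data.checkRange_iff 136710 1457).mp chk121 v (by omega) (by omega)
  rcases Nat.lt_or_ge v 139785 with h | h
  · exact (data.checkRange_iff 138167 1618).mp chk122 v (by omega) (by omega)
  rcases Nat.lt_or_ge v 140955 with h | h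
  · exact (data.checkRange_iff 139785 1170).mp chk123 v (by omega) (by omega)
  exact (data.checkRange_iff 140955 1730).mp chk124 v (by omega) (by omega)

end Cfsg.Agent.Lib.Helper16.RuM.E3U24
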