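import Cfsg.Agent.Lib.Helper16.RuM.E3Data
import Cfsg.Agent.Lib.Helper16.RuM.E3U15
set_option autoImplicit false
set_option maxRecDepth 100000
set_option maxHeartbeats 0

namespace Cfsg.Agent.Lib.Helper16.RuM.E3U25
open Cfsg.Agent.Lib.Helper28.TC2Upper Cfsg.Agent.Lib.Helper16.RuM.E3Data

theorem chk125 : data.checkRange 142685 1155 = true := by decide +kernel
theorem chk126 : data.checkRange 143840 1712 = true := by decide +kernel
theorem chk127 : data.checkRange 145552 1444 = true := by decide +kernel
theorem chk128 : data.checkRange 146996 1513 = true := by decide +kernel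
theorem chk129 : data.checkRange 148509 1749 = true := by decide +kernel

theorem all : ∀ v, 142685 ≤ v → v < 150258 → data.checkNode v = true := by
  intro v h1 h2
  rcases Nat.lt_or_ge v 143840 with h | h
  · exact (data.checkRange_iff 142685 1155).mp chk125 v (by omega) (by omega)
  rcases Nat.lt_or_ge v 145552 with h | h
  · exact (data.checkRange_iff 143840 1712).mp chk126 v (by omega) (by omega)
  rcases Nat.lt_or_ge v 146996 with h | h
  · exact (data.checkRange_iff 145552 1444).mp chk127 v (by omega) (by omega)
  rcases Nat.lt_or_ge v 148509 with h | h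
  · exact (data.checkRange_iff 146996 1513).mp chk128 v (by omega) (by omega)
  exact (data.checkRange_iff 148509 1749).mp chk129 v (by omega) (by omega)

end Cfsg.Agent.Lib.Helper16.RuM.E3U25
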