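import Cfsg.Agent.Lib.Helper16.RuM.E3Data
import Cfsg.Agent.Lib.Helper16.RuM.E3U16
set_option autoImplicit false
set_option maxRecDepth 100000
set_option maxHeartbeats 0

namespace Cfsg.Agent.Lib.Helper16.RuM.E3U26
open Cfsg.Agent.Lib.Helper28.TC2Upper Cfsg.Agent.Lib.Helper16.RuM.E3Data

theorem chk130 : data.checkRange 150258 1325 = true := by decide +kernel
theorem chk131 : data.checkRange 151583 1549 = true := by decide +kernel
theorem chk132 : data.checkRange 153132 1809 = true := by decide +kernel
theorem chk133 : data.checkRange 154941 1540 = true := by decide +kernel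
theorem chk134 : data.checkRange 156481 1731 = true := by decide +kernel

theorem all : ∀ v, 150258 ≤ v → v < 158212 → data.checkNode v = true := by
  intro v h1 h2
  rcases Nat.lt_or_ge v 151583 with h | h
  · exact (data.checkRange_iff 150258 1325).mp chk130 v (by omega) (by omega)
  rcases Nat.lt_or_ge v 153132 with h | h
  · exact (data.checkRange_iff 151583 1549).mp chk131 v (by omega) (by omega)
  rcases Nat.lt_or_ge v 154941 with h | h
  · exact (data.checkRange_iff 153132 1809).mp chk132 v (by omega) (by omega)
  rcases Nat.lt_or_ge v 156481 with h | h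
  · exact (data.checkRange_iff 154941 1540).mp chk133 v (by omega) (by omega)
  exact (data.checkRange_iff 156481 1731).mp chk134 v (by omega) (by omega)

end Cfsg.Agent.Lib.Helper16.RuM.E3U26
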