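import Cfsg.Agent.Lib.Helper16.RuM.E3Data
import Cfsg.Agent.Lib.Helper16.RuM.E3U17
set_option autoImplicit false
set_option maxRecDepth 100000
set_option maxHeartbeats 0

namespace Cfsg.Agent.Lib.Helper16.RuM.E3U27
open Cfsg.Agent.Lib.Helper28.TC2Upper Cfsg.Agent.Lib.Helper16.RuM.E3Data

theorem chk135 : data.checkRange 158212 1642 = true := by decide +kernel
theorem chk136 : data.checkRange 159854 1577 = true := by decide +kernel
theorem chk137 : data.checkRange 161431 1822 = true := by decide +kernel
theorem chk138 : data.checkRange 163253 1579 = true := by decide +kernel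
theorem chk139 : data.checkRange 164832 1919 = true := by decide +kernel

theorem all : ∀ v, 158212 ≤ v → v < 166751 → data.checkNode v = true := by
  intro v h1 h2
  rcases Nat.lt_or_ge v 159854 with h | h
  · exact (data.checkRange_iff 158212 1642).mp chk135 v (by omega) (by omega)
  rcases Nat.lt_or_ge v 161431 with h | h
  · exact (data.checkRange_iff 159854 1577).mp chk136 v (by omega) (by omega)
  rcases Nat.lt_or_ge v 163253 with h | h
  · exact (data.checkRange_iff 161431 1822).mp chk137 v (by omega) (by omega)
  rcases Nat.lt_or_ge v 164832 with h | h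
  · exact (data.checkRange_iff 163253 1579).mp chk138 v (by omega) (by omega)
  exact (data.checkRange_iff 164832 1919).mp chk139 v (by omega) (by omega)

end Cfsg.Agent.Lib.Helper16.RuM.E3U27
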