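import Cfsg.Agent.Lib.Helper16.RuM.E3Data
set_option autoImplicit false
set_option maxRecDepth 100000
set_option maxHeartbeats 0

namespace Cfsg.Agent.Lib.Helper16.RuM.E3U8
open Cfsg.Agent.Lib.Helper28.TC2Upper Cfsg.Agent.Lib.Helper16.RuM.E3Data

theorem chk40 : data.checkRange 26574 628 = true := by decide +kernel
theorem chk41 : data.checkRange 27202 889 = true := by decide +kernel
theorem chk42 : data.checkRange 28091 922 = true := by decide +kernel
theorem chk43 : data.checkRange 29013 765 = true := by decide +kernel
theorem chk44 : data.checkRange 29778 1084 = true := by decide +kernel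

theorem all : ∀ v, 26574 ≤ v → v < 30862 → data.checkNode v = true := by
  intro v h1 h2
  rcases Nat.lt_or_ge v 27202 with h | h
  · exact (data.checkRange_iff 26574 628).mp chk40 v (by omega) (by omega)
  rcases Nat.lt_or_ge v 28091 with h | h
  · exact (data.checkRange_iff 27202 889).mp chk41 v (by omega) (by omega)
  rcases Nat.lt_or_ge v 29013 with h | h
  · exact (data.checkRange_iff 28091 922).mp chk42 v (by omega) (by omega)
  rcases Nat.lt_or_ge v 29778 with h | h
  · exact (data.checkRange_iff 29013 765).mp chk43 v (by omega) (by omega)
  exact (data.checkRange_iff 29778 1084).mp chk44 v (by omega) (by omega)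

end Cfsg.Agent.Lib.Helper16.RuM.E3U8
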