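import Cfsg.Agent.Lib.Helper16.RuM.E3Data
import Cfsg.Agent.Lib.Helper16.RuM.E3U8
set_option autoImplicit false
set_option maxRecDepth 100000
set_option maxHeartbeats 0

namespace Cfsg.Agent.Lib.Helper16.RuM.E3U18
open Cfsg.Agent.Lib.Helper28.TC2Upper Cfsg.Agent.Lib.Helper16.RuM.E3Data

theorem chk90 : data.checkRange 90090 1950 = true := by decide +kernel
theorem chk91 : data.checkRange 92040 1377 = true := by decide +kernel
theorem chk92 : data.checkRange 93417 1924 = true := by decide +kernel
theorem chk93 : data.checkRange 95341 1911 = true := by decide +kernel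
theorem chk94 : data.checkRange 97252 1539 = true := by decide +kernel

theorem all : ∀ v, 90090 ≤ v → v < 98791 → data.checkNode v = true := by
  intro v h1 h2
  rcases Nat.lt_or_ge v 92040 with h | h
  · exact (data.checkRange_iff 90090 1950).mp chk90 v (by omega) (by omega)
  rcases Nat.lt_or_ge v 93417 with h | h
  · exact (data.checkRange_iff 92040 1377).mp chk91 v (by omega) (by omega)
  rcases Nat.lt_or_ge v 95341 with h | h
  · exact (data.checkRange_iff 93417 1924).mp chk92 v (by omega) (by omega)
  rcases Nat.lt_or_ge v 97252 with h | h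
  · exact (data.checkRange_iff 95341 1911).mp chk93 v (by omega) (by omega)
  exact (data.checkRange_iff 97252 1539).mp chk94 v (by omega) (by omega)

end Cfsg.Agent.Lib.Helper16.RuM.E3U18
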