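import Cfsg.Agent.Lib.Helper16.RuM.E3Data
import Cfsg.Agent.Lib.Helper16.RuM.E3U18
set_option autoImplicit false
set_option maxRecDepth 100000
set_option maxHeartbeats 0

namespace Cfsg.Agent.Lib.Helper16.RuM.E3U28
open Cfsg.Agent.Lib.Helper28.TC2Upper Cfsg.Agent.Lib.Helper16.RuM.E3Data

theorem chk140 : data.checkRange 166751 1826 = true := by decide +kernel
theorem chk141 : data.checkRange 168577 1774 = true := by decide +kernel
theorem chk142 : data.checkRange 170351 1800 = true := by decide +kernel
theorem chk143 : data.checkRange 172151 1660 = true := by decide +kernel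
theorem chk144 : data.checkRange 173811 1830 = true := by decide +kernel

theorem all : ∀ v, 166751 ≤ v → v < 175641 → data.checkNode v = true := by
  intro v h1 h2
  rcases Nat.lt_or_ge v 168577 with h | h
  · exact (data.checkRange_iff 166751 1826).mp chk140 v (by omega) (by omega)
  rcases Nat.lt_or_ge v 170351 with h | h
  · exact (data.checkRange_iff 168577 1774).mp chk141 v (by omega) (by omega)
  rcases Nat.lt_or_ge v 172151 with h | h
  · exact (data.checkRange_iff 170351 1800).mp chk142 v (by omega) (by omega)
  rcases Nat.lt_or_ge v 173811 with h | h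
  · exact (data.checkRange_iff 172151 1660).mp chk143 v (by omega) (by omega)
  exact (data.checkRange_iff 173811 1830).mp chk144 v (by omega) (by omega)

end Cfsg.Agent.Lib.Helper16.RuM.E3U28
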