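import Cfsg.Agent.Lib.Helper16.RuM.E3Data
import Cfsg.Agent.Lib.Helper16.RuM.E3U19
set_option autoImplicit false
set_option maxRecDepth 100000
set_option maxHeartbeats 0

namespace Cfsg.Agent.Lib.Helper16.RuM.E3U29
open Cfsg.Agent.Lib.Helper28.TC2Upper Cfsg.Agent.Lib.Helper16.RuM.E3Data

theorem chk145 : data.checkRange 175641 1634 = true := by decide +kernel
theorem chk146 : data.checkRange 177275 1850 = true := by decide +kernel
theorem chk147 : data.checkRange 179125 1752 = true := by decide +kernel
theorem chk148 : data.checkRange 180877 1902 = true := by decide +kernel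
theorem chk149 : data.checkRange 182779 1878 = true := by decide +kernel

theorem all : ∀ v, 175641 ≤ v → v < 184657 → data.checkNode v = true := by
  intro v h1 h2
  rcases Nat.lt_or_ge v 177275 with h | h
  · exact (data.checkRange_iff 175641 1634).mp chk145 v (by omega) (by omega)
  rcases Nat.lt_or_ge v 179125 with h | h
  · exact (data.checkRange_iff 177275 1850).mp chk146 v (by omega) (by omega)
  rcases Nat.lt_or_ge v 180877 with h | h
  · exact (data.checkRange_iff 179125 1752).mp chk147 v (by omega) (by omega)
  rcases Nat.lt_or_ge v 182779 with h | h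
  · exact (data.checkRange_iff 180877 1902).mp chk148 v (by omega) (by omega)
  exact (data.checkRange_iff 182779 1878).mp chk149 v (by omega) (by omega)

end Cfsg.Agent.Lib.Helper16.RuM.E3U29
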