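import Cfsg.Agent.Lib.Helper16.RuM.E3Data
import Cfsg.Agent.Lib.Helper16.RuM.E3U21
set_option autoImplicit false
set_option maxRecDepth 100000
set_option maxHeartbeats 0

namespace Cfsg.Agent.Lib.Helper16.RuM.E3U31
open Cfsg.Agent.Lib.Helper28.TC2Upper Cfsg.Agent.Lib.Helper16.RuM.E3Data

theorem chk155 : data.checkRange 194213 1961 = true := by decide +kernel
theorem chk156 : data.checkRange 196174 2028 = true := by decide +kernel
theorem chk157 : data.checkRange 198202 2134 = true := by decide +kernel
theorem chk158 : data.checkRange 200336 1923 = true := by decide +kernel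
theorem chk159 : data.checkRange 202259 2056 = true := by decide +kernel

theorem all : ∀ v, 194213 ≤ v → v < 204315 → data.checkNode v = true := by
  intro v h1 h2
  rcases Nat.lt_or_ge v 196174 with h | h
  · exact (data.checkRange_iff 194213 1961).mp chk155 v (by omega) (by omega)
  rcases Nat.lt_or_ge v 198202 with h | h
  · exact (data.checkRange_iff 196174 2028).mp chk156 v (by omega) (by omega)
  rcases Nat.lt_or_ge v 200336 with h | h
  · exact (data.checkRange_iff 198202 2134).mp chk157 v (by omega) (by omega)
  rcases Nat.lt_or_ge v 202259 with h | h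
  · exact (data.checkRange_iff 200336 1923).mp chk158 v (by omega) (by omega)
  exact (data.checkRange_iff 202259 2056).mp chk159 v (by omega) (by omega)

end Cfsg.Agent.Lib.Helper16.RuM.E3U31
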