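import Cfsg.Agent.Lib.Helper16.RuM.E3Data
import Cfsg.Agent.Lib.Helper16.RuM.E3U22
set_option autoImplicit false
set_option maxRecDepth 100000
set_option maxHeartbeats 0

namespace Cfsg.Agent.Lib.Helper16.RuM.E3U32
open Cfsg.Agent.Lib.Helper28.TC2Upper Cfsg.Agent.Lib.Helper16.RuM.E3Data

theorem chk160 : data.checkRange 204315 2045 = true := by decide +kernel
theorem chk161 : data.checkRange 206360 1792 = true := by decide +kernel
theorem chk162 : data.checkRange 208152 2006 = true := by decide +kernel
theorem chk163 : data.checkRange 210158 1939 = true := by decide +kernel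
theorem chk164 : data.checkRange 212097 2061 = true := by decide +kernel

theorem all : ∀ v, 204315 ≤ v → v < 214158 → data.checkNode v = true := by
  intro v h1 h2
  rcases Nat.lt_or_ge v 206360 with h | h
  · exact (data.checkRange_iff 204315 2045).mp chk160 v (by omega) (by omega)
  rcases Nat.lt_or_ge v 208152 with h | h
  · exact (data.checkRange_iff 206360 1792).mp chk161 v (by omega) (by omega)
  rcases Nat.lt_or_ge v 210158 with h | h
  · exact (data.checkRange_iff 208152 2006).mp chk162 v (by omega) (by omega)
  rcases Nat.lt_or_ge v 212097 with h | h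
  · exact (data.checkRange_iff 210158 1939).mp chk163 v (by omega) (by omega)
  exact (data.checkRange_iff 212097 2061).mp chk164 v (by omega) (by omega)

end Cfsg.Agent.Lib.Helper16.RuM.E3U32
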