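import Cfsg.Agent.Lib.Helper16.RuM.E3Data
import Cfsg.Agent.Lib.Helper16.RuM.E3U23
set_option autoImplicit false
set_option maxRecDepth 100000
set_option maxHeartbeats 0

namespace Cfsg.Agent.Lib.Helper16.RuM.E3U33
open Cfsg.Agent.Lib.Helper28.TC2Upper Cfsg.Agent.Lib.Helper16.RuM.E3Data

theorem chk165 : data.checkRange 214158 1888 = true := by decide +kernel
theorem chk166 : data.checkRange 216046 1799 = true := by decide +kernel
theorem chk167 : data.checkRange 217845 1775 = true := by decide +kernel
theorem chk168 : data.checkRange 219620 1778 = true := by decide +kernel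
theorem chk169 : data.checkRange 221398 2015 = true := by decide +kernel

theorem all : ∀ v, 214158 ≤ v → v < 223413 → data.checkNode v = true := by
  intro v h1 h2
  rcases Nat.lt_or_ge v 216046 with h | h
  · exact (data.checkRange_iff 214158 1888).mp chk165 v (by omega) (by omega)
  rcases Nat.lt_or_ge v 217845 with h | h
  · exact (data.checkRange_iff 216046 1799).mp chk166 v (by omega) (by omega)
  rcases Nat.lt_or_ge v 219620 with h | h
  · exact (data.checkRange_iff 217845 1775).mp chk167 v (by omega) (by omega)
  rcases Nat.lt_or_ge v 221398 with h | h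
  · exact (data.checkRange_iff 219620 1778).mp chk168 v (by omega) (by omega)
  exact (data.checkRange_iff 221398 2015).mp chk169 v (by omega) (by omega)

end Cfsg.Agent.Lib.Helper16.RuM.E3U33
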