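import Cfsg.Agent.Lib.Helper16.RuM.E3Data
import Cfsg.Agent.Lib.Helper16.RuM.E3U24
set_option autoImplicit false
set_option maxRecDepth 100000
set_option maxHeartbeats 0

namespace Cfsg.Agent.Lib.Helper16.RuM.E3U34
open Cfsg.Agent.Lib.Helper28.TC2Upper Cfsg.Agent.Lib.Helper16.RuM.E3Data

theorem chk170 : data.checkRange 223413 2076 = true := by decide +kernel
theorem chk171 : data.checkRange 225489 1943 = true := by decide +kernel
theorem chk172 : data.checkRange 227432 1973 = true := by decide +kernel
theorem chk173 : data.checkRange 229405 2068 = true := by decide +kernel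
theorem chk174 : data.checkRange 231473 2010 = true := by decide +kernel

theorem all : ∀ v, 223413 ≤ v → v < 233483 → data.checkNode v = true := by
  intro v h1 h2
  rcases Nat.lt_or_ge v 225489 with h | h
  · exact (data.checkRange_iff 223413 2076).mp chk170 v (by omega) (by omega)
  rcases Nat.lt_or_ge v 227432 with h | h
  · exact (data.checkRange_iff 225489 1943).mp chk171 v (by omega) (by omega)
  rcases Nat.lt_or_ge v 229405 with h | h
  · exact (data.checkRange_iff 227432 1973).mp chk172 v (by omega) (by omega)
  rcases Nat.lt_or_ge v 231473 with h | h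
  · exact (data.checkRange_iff 229405 2068).mp chk173 v (by omega) (by omega)
  exact (data.checkRange_iff 231473 2010).mp chk174 v (by omega) (by omega)

end Cfsg.Agent.Lib.Helper16.RuM.E3U34
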