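import Cfsg.Agent.Lib.Helper16.RuM.E3Data
import Cfsg.Agent.Lib.Helper16.RuM.E3U25
set_option autoImplicit false
set_option maxRecDepth 100000
set_option maxHeartbeats 0

namespace Cfsg.Agent.Lib.Helper16.RuM.E3U35
open Cfsg.Agent.Lib.Helper28.TC2Upper Cfsg.Agent.Lib.Helper16.RuM.E3Data

theorem chk175 : data.checkRange 233483 1825 = true := by decide +kernel
theorem chk176 : data.checkRange 235308 2098 = true := by decide +kernel
theorem chk177 : data.checkRange 237406 2080 = true := by decide +kernel
theorem chk178 : data.checkRange 239486 1682 = true := by decide +kernel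
theorem chk179 : data.checkRange 241168 1912 = true := by decide +kernel

theorem all : ∀ v, 233483 ≤ v → v < 243080 → data.checkNode v = true := by
  intro v h1 h2
  rcases Nat.lt_or_ge v 235308 with h | h
  · exact (data.checkRange_iff 233483 1825).mp chk175 v (by omega) (by omega)
  rcases Nat.lt_or_ge v 237406 with h | h
  · exact (data.checkRange_iff 235308 2098).mp chk176 v (by omega) (by omega)
  rcases Nat.lt_or_ge v 239486 with h | h
  · exact (data.checkRange_iff 237406 2080).mp chk177 v (by omega) (by omega)
  rcases Nat.lt_or_ge v 241168 with h | h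
  · exact (data.checkRange_iff 239486 1682).mp chk178 v (by omega) (by omega)
  exact (data.checkRange_iff 241168 1912).mp chk179 v (by omega) (by omega)

end Cfsg.Agent.Lib.Helper16.RuM.E3U35
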