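import Cfsg.Agent.Lib.Helper16.RuM.E3Data
import Cfsg.Agent.Lib.Helper16.RuM.E3U26
set_option autoImplicit false
set_option maxRecDepth 100000
set_option maxHeartbeats 0

namespace Cfsg.Agent.Lib.Helper16.RuM.E3U36
open Cfsg.Agent.Lib.Helper28.TC2Upper Cfsg.Agent.Lib.Helper16.RuM.E3Data

theorem chk180 : data.checkRange 243080 1794 = true := by decide +kernel
theorem chk181 : data.checkRange 244874 1868 = true := by decide +kernel
theorem chk182 : data.checkRange 246742 1650 = true := by decide +kernel
theorem chk183 : data.checkRange 248392 1607 = true := by decide +kernel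
theorem chk184 : data.checkRange 249999 1776 = true := by decide +kernel

theorem all : ∀ v, 243080 ≤ v → v < 251775 → data.checkNode v = true := by
  intro v h1 h2
  rcases Nat.lt_or_ge v 244874 with h | h
  · exact (data.checkRange_iff 243080 1794).mp chk180 v (by omega) (by omega)
  rcases Nat.lt_or_ge v 246742 with h | h
  · exact (data.checkRange_iff 244874 1868).mp chk181 v (by omega) (by omega)
  rcases Nat.lt_or_ge v 248392 with h | h
  · exact (data.checkRange_iff 246742 1650).mp chk182 v (by omega) (by omega)
  rcases Nat.lt_or_ge v 249999 with h | h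
  · exact (data.checkRange_iff 248392 1607).mp chk183 v (by omega) (by omega)
  exact (data.checkRange_iff 249999 1776).mp chk184 v (by omega) (by omega)

end Cfsg.Agent.Lib.Helper16.RuM.E3U36
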