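import Cfsg.Agent.Lib.Helper16.RuM.E3Data
import Cfsg.Agent.Lib.Helper16.RuM.E3U27
set_option autoImplicit false
set_option maxRecDepth 100000
set_option maxHeartbeats 0

namespace Cfsg.Agent.Lib.Helper16.RuM.E3U37
open Cfsg.Agent.Lib.Helper28.TC2Upper Cfsg.Agent.Lib.Helper16.RuM.E3Data

theorem chk185 : data.checkRange 251775 1787 = true := by decide +kernel
theorem chk186 : data.checkRange 253562 1819 = true := by decide +kernel
theorem chk187 : data.checkRange 255381 2028 = true := by decide +kernel
theorem chk188 : data.checkRange 257409 2019 = true := by decide +kernel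
theorem chk189 : data.checkRange 259428 1884 = true := by decide +kernel

theorem all : ∀ v, 251775 ≤ v → v < 261312 → data.checkNode v = true := by
  intro v h1 h2
  rcases Nat.lt_or_ge v 253562 with h | h
  · exact (data.checkRange_iff 251775 1787).mp chk185 v (by omega) (by omega)
  rcases Nat.lt_or_ge v 255381 with h | h
  · exact (data.checkRange_iff 253562 1819).mp chk186 v (by omega) (by omega)
  rcases Nat.lt_or_ge v 257409 with h | h
  · exact (data.checkRange_iff 255381 2028).mp chk187 v (by omega) (by omega)
  rcases Nat.lt_or_ge v 259428 with h | h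
  · exact (data.checkRange_iff 257409 2019).mp chk188 v (by omega) (by omega)
  exact (data.checkRange_iff 259428 1884).mp chk189 v (by omega) (by omega)

end Cfsg.Agent.Lib.Helper16.RuM.E3U37
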