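import Cfsg.Agent.Lib.Helper16.RuM.E3Data
import Cfsg.Agent.Lib.Helper16.RuM.E3U28
set_option autoImplicit false
set_option maxRecDepth 100000
set_option maxHeartbeats 0

namespace Cfsg.Agent.Lib.Helper16.RuM.E3U38
open Cfsg.Agent.Lib.Helper28.TC2Upper Cfsg.Agent.Lib.Helper16.RuM.E3Data

theorem chk190 : data.checkRange 261312 1737 = true := by decide +kernel
theorem chk191 : data.checkRange 263049 2365 = true := by decide +kernel
theorem chk192 : data.checkRange 265414 1834 = true := by decide +kernel
theorem chk193 : data.checkRange 267248 2083 = true := by decide +kernel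
theorem chk194 : data.checkRange 269331 2027 = true := by decide +kernel

theorem all : ∀ v, 261312 ≤ v → v < 271358 → data.checkNode v = true := by
  intro v h1 h2
  rcases Nat.lt_or_ge v 263049 with h | h
  · exact (data.checkRange_iff 261312 1737).mp chk190 v (by omega) (by omega)
  rcases Nat.lt_or_ge v 265414 with h | h
  · exact (data.checkRange_iff 263049 2365).mp chk191 v (by omega) (by omega)
  rcases Nat.lt_or_ge v 267248 with h | h
  · exact (data.checkRange_iff 265414 1834).mp chk192 v (by omega) (by omega)
  rcases Nat.lt_or_ge v 269331 with h | h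
  · exact (data.checkRange_iff 267248 2083).mp chk193 v (by omega) (by omega)
  exact (data.checkRange_iff 269331 2027).mp chk194 v (by omega) (by omega)

end Cfsg.Agent.Lib.Helper16.RuM.E3U38
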