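import Cfsg.Agent.Lib.Helper16.RuM.E3Data
import Cfsg.Agent.Lib.Helper16.RuM.E3U29
set_option autoImplicit false
set_option maxRecDepth 100000
set_option maxHeartbeats 0

namespace Cfsg.Agent.Lib.Helper16.RuM.E3U39
open Cfsg.Agent.Lib.Helper28.TC2Upper Cfsg.Agent.Lib.Helper16.RuM.E3Data

theorem chk195 : data.checkRange 271358 2199 = true := by decide +kernel
theorem chk196 : data.checkRange 273557 2176 = true := by decide +kernel
theorem chk197 : data.checkRange 275733 1966 = true := by decide +kernel
theorem chk198 : data.checkRange 277699 2124 = true := by decide +kernel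
theorem chk199 : data.checkRange 279823 2061 = true := by decide +kernel

theorem all : ∀ v, 271358 ≤ v → v < 281884 → data.checkNode v = true := by
  intro v h1 h2
  rcases Nat.lt_or_ge v 273557 with h | h
  · exact (data.checkRange_iff 271358 2199).mp chk195 v (by omega) (by omega)
  rcases Nat.lt_or_ge v 275733 with h | h
  · exact (data.checkRange_iff 273557 2176).mp chk196 v (by omega) (by omega)
  rcases Nat.lt_or_ge v 277699 with h | h
  · exact (data.checkRange_iff 275733 1966).mp chk197 v (by omega) (by omega)
  rcases Nat.lt_or_ge v 279823 with h | h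
  · exact (data.checkRange_iff 277699 2124).mp chk198 v (by omega) (by omega)
  exact (data.checkRange_iff 279823 2061).mp chk199 v (by omega) (by omega)

end Cfsg.Agent.Lib.Helper16.RuM.E3U39
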