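import Cfsg.Agent.Lib.Helper16.RuM.E3Data
import Cfsg.Agent.Lib.Helper16.RuM.E3U20
set_option autoImplicit false
set_option maxRecDepth 100000
set_option maxHeartbeats 0

namespace Cfsg.Agent.Lib.Helper16.RuM.E3U30
open Cfsg.Agent.Lib.Helper28.TC2Upper Cfsg.Agent.Lib.Helper16.RuM.E3Data

theorem chk150 : data.checkRange 184657 1938 = true := by decide +kernel
theorem chk151 : data.checkRange 186595 2066 = true := by decide +kernel
theorem chk152 : data.checkRange 188661 1673 = true := by decide +kernel
theorem chk153 : data.checkRange 190334 1836 = true := by decide +kernel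
theorem chk154 : data.checkRange 192170 2043 = true := by decide +kernel

theorem all : ∀ v, 184657 ≤ v → v < 194213 → data.checkNode v = true := by
  intro v h1 h2
  rcases Nat.lt_or_ge v 186595 with h | h
  · exact (data.checkRange_iff 184657 1938).mp chk150 v (by omega) (by omega)
  rcases Nat.lt_or_ge v 188661 with h | h
  · exact (data.checkRange_iff 186595 2066).mp chk151 v (by omega) (by omega)
  rcases Nat.lt_or_ge v 190334 with h | h
  · exact (data.checkRange_iff 188661 1673).mp chk152 v (by omega) (by omega)
  rcases Nat.lt_or_ge v 192170 with h | h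
  · exact (data.checkRange_iff 190334 1836).mp chk153 v (by omega) (by omega)
  exact (data.checkRange_iff 192170 2043).mp chk154 v (by omega) (by omega)

end Cfsg.Agent.Lib.Helper16.RuM.E3U30
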