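import Cfsg.Agent.Lib.Helper16.RuM.E3Data
import Cfsg.Agent.Lib.Helper16.RuM.E3U30
set_option autoImplicit false
set_option maxRecDepth 100000
set_option maxHeartbeats 0

namespace Cfsg.Agent.Lib.Helper16.RuM.E3U40
open Cfsg.Agent.Lib.Helper28.TC2Upper Cfsg.Agent.Lib.Helper16.RuM.E3Data

theorem chk200 : data.checkRange 281884 1836 = true := by decide +kernel
theorem chk201 : data.checkRange 283720 1894 = true := by decide +kernel
theorem chk202 : data.checkRange 285614 2018 = true := by decide +kernel
theorem chk203 : data.checkRange 287632 2103 = true := by decide +kernel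
theorem chk204 : data.checkRange 289735 1845 = true := by decide +kernel

theorem all : ∀ v, 281884 ≤ v → v < 291580 → data.checkNode v = true := by
  intro v h1 h2
  rcases Nat.lt_or_ge v 283720 with h | h
  · exact (data.checkRange_iff 281884 1836).mp chk200 v (by omega) (by omega)
  rcases Nat.lt_or_ge v 285614 with h | h
  · exact (data.checkRange_iff 283720 1894).mp chk201 v (by omega) (by omega)
  rcases Nat.lt_or_ge v 287632 with h | h
  · exact (data.checkRange_iff 285614 2018).mp chk202 v (by omega) (by omega)
  rcases Nat.lt_or_ge v 289735 with h | h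
  · exact (data.checkRange_iff 287632 2103).mp chk203 v (by omega) (by omega)
  exact (data.checkRange_iff 289735 1845).mp chk204 v (by omega) (by omega)

end Cfsg.Agent.Lib.Helper16.RuM.E3U40
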