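import Cfsg.Agent.Lib.Helper16.RuM.E3Data
import Cfsg.Agent.Lib.Helper16.RuM.E3U31
set_option autoImplicit false
set_option maxRecDepth 100000
set_option maxHeartbeats 0

namespace Cfsg.Agent.Lib.Helper16.RuM.E3U41
open Cfsg.Agent.Lib.Helper28.TC2Upper Cfsg.Agent.Lib.Helper16.RuM.E3Data

theorem chk205 : data.checkRange 291580 1537 = true := by decide +kernel
theorem chk206 : data.checkRange 293117 1723 = true := by decide +kernel
theorem chk207 : data.checkRange 294840 1616 = true := by decide +kernel
theorem chk208 : data.checkRange 296456 1875 = true := by decide +kernel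
theorem chk209 : data.checkRange 298331 1870 = true := by decide +kernel

theorem all : ∀ v, 291580 ≤ v → v < 300201 → data.checkNode v = true := by
  intro v h1 h2
  rcases Nat.lt_or_ge v 293117 with h | h
  · exact (data.checkRange_iff 291580 1537).mp chk205 v (by omega) (by omega)
  rcases Nat.lt_or_ge v 294840 with h | h
  · exact (data.checkRange_iff 293117 1723).mp chk206 v (by omega) (by omega)
  rcases Nat.lt_or_ge v 296456 with h | h
  · exact (data.checkRange_iff 294840 1616).mp chk207 v (by omega) (by omega)
  rcases Nat.lt_or_ge v 298331 with h | h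
  · exact (data.checkRange_iff 296456 1875).mp chk208 v (by omega) (by omega)
  exact (data.checkRange_iff 298331 1870).mp chk209 v (by omega) (by omega)

end Cfsg.Agent.Lib.Helper16.RuM.E3U41
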