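import Cfsg.Agent.Lib.Helper16.RuM.E3Data
import Cfsg.Agent.Lib.Helper16.RuM.E3U33
set_option autoImplicit false
set_option maxRecDepth 100000
set_option maxHeartbeats 0

namespace Cfsg.Agent.Lib.Helper16.RuM.E3U43
open Cfsg.Agent.Lib.Helper28.TC2Upper Cfsg.Agent.Lib.Helper16.RuM.E3Data

theorem chk215 : data.checkRange 309875 2052 = true := by decide +kernel
theorem chk216 : data.checkRange 311927 1860 = true := by decide +kernel
theorem chk217 : data.checkRange 313787 1676 = true := by decide +kernel
theorem chk218 : data.checkRange 315463 1493 = true := by decide +kernel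
theorem chk219 : data.checkRange 316956 1784 = true := by decide +kernel

theorem all : ∀ v, 309875 ≤ v → v < 318740 → data.checkNode v = true := by
  intro v h1 h2
  rcases Nat.lt_or_ge v 311927 with h | h
  · exact (data.checkRange_iff 309875 2052).mp chk215 v (by omega) (by omega)
  rcases Nat.lt_or_ge v 313787 with h | h
  · exact (data.checkRange_iff 311927 1860).mp chk216 v (by omega) (by omega)
  rcases Nat.lt_or_ge v 315463 with h | h
  · exact (data.checkRange_iff 313787 1676).mp chk217 v (by omega) (by omega)
  rcases Nat.lt_or_ge v 316956 with h | h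
  · exact (data.checkRange_iff 315463 1493).mp chk218 v (by omega) (by omega)
  exact (data.checkRange_iff 316956 1784).mp chk219 v (by omega) (by omega)

end Cfsg.Agent.Lib.Helper16.RuM.E3U43
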