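import Cfsg.Agent.Lib.Helper16.RuM.E3Data
import Cfsg.Agent.Lib.Helper16.RuM.E3U34
set_option autoImplicit false
set_option maxRecDepth 100000
set_option maxHeartbeats 0

namespace Cfsg.Agent.Lib.Helper16.RuM.E3U44
open Cfsg.Agent.Lib.Helper28.TC2Upper Cfsg.Agent.Lib.Helper16.RuM.E3Data

theorem chk220 : data.checkRange 318740 1857 = true := by decide +kernel
theorem chk221 : data.checkRange 320597 1568 = true := by decide +kernel
theorem chk222 : data.checkRange 322165 1949 = true := by decide +kernel
theorem chk223 : data.checkRange 324114 1762 = true := by decide +kernel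
theorem chk224 : data.checkRange 325876 2024 = true := by decide +kernel

theorem all : ∀ v, 318740 ≤ v → v < 327900 → data.checkNode v = true := by
  intro v h1 h2
  rcases Nat.lt_or_ge v 320597 with h | h
  · exact (data.checkRange_iff 318740 1857).mp chk220 v (by omega) (by omega)
  rcases Nat.lt_or_ge v 322165 with h | h
  · exact (data.checkRange_iff 320597 1568).mp chk221 v (by omega) (by omega)
  rcases Nat.lt_or_ge v 324114 with h | h
  · exact (data.checkRange_iff 322165 1949).mp chk222 v (by omega) (by omega)
  rcases Nat.lt_or_ge v 325876 with h | h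
  · exact (data.checkRange_iff 324114 1762).mp chk223 v (by omega) (by omega)
  exact (data.checkRange_iff 325876 2024).mp chk224 v (by omega) (by omega)

end Cfsg.Agent.Lib.Helper16.RuM.E3U44
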