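import Cfsg.Agent.Lib.Helper16.RuM.E3Data
import Cfsg.Agent.Lib.Helper16.RuM.E3U35
set_option autoImplicit false
set_option maxRecDepth 100000
set_option maxHeartbeats 0

namespace Cfsg.Agent.Lib.Helper16.RuM.E3U45
open Cfsg.Agent.Lib.Helper28.TC2Upper Cfsg.Agent.Lib.Helper16.RuM.E3Data

theorem chk225 : data.checkRange 327900 2033 = true := by decide +kernel
theorem chk226 : data.checkRange 329933 2089 = true := by decide +kernel
theorem chk227 : data.checkRange 332022 2075 = true := by decide +kernel
theorem chk228 : data.checkRange 334097 2113 = true := by decide +kernel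
theorem chk229 : data.checkRange 336210 2227 = true := by decide +kernel

theorem all : ∀ v, 327900 ≤ v → v < 338437 → data.checkNode v = true := by
  intro v h1 h2
  rcases Nat.lt_or_ge v 329933 with h | h
  · exact (data.checkRange_iff 327900 2033).mp chk225 v (by omega) (by omega)
  rcases Nat.lt_or_ge v 332022 with h | h
  · exact (data.checkRange_iff 329933 2089).mp chk226 v (by omega) (by omega)
  rcases Nat.lt_or_ge v 334097 with h | h
  · exact (data.checkRange_iff 332022 2075).mp chk227 v (by omega) (by omega)
  rcases Nat.lt_or_ge v 336210 with h | h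
  · exact (data.checkRange_iff 334097 2113).mp chk228 v (by omega) (by omega)
  exact (data.checkRange_iff 336210 2227).mp chk229 v (by omega) (by omega)

end Cfsg.Agent.Lib.Helper16.RuM.E3U45
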