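import Cfsg.Agent.Lib.Helper16.RuM.E3Data
import Cfsg.Agent.Lib.Helper16.RuM.E3U36
set_option autoImplicit false
set_option maxRecDepth 100000
set_option maxHeartbeats 0

namespace Cfsg.Agent.Lib.Helper16.RuM.E3U46
open Cfsg.Agent.Lib.Helper28.TC2Upper Cfsg.Agent.Lib.Helper16.RuM.E3Data

theorem chk230 : data.checkRange 338437 2014 = true := by decide +kernel
theorem chk231 : data.checkRange 340451 2153 = true := by decide +kernel
theorem chk232 : data.checkRange 342604 2022 = true := by decide +kernel
theorem chk233 : data.checkRange 344626 2070 = true := by decide +kernel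
theorem chk234 : data.checkRange 346696 1972 = true := by decide +kernel

theorem all : ∀ v, 338437 ≤ v → v < 348668 → data.checkNode v = true := by
  intro v h1 h2
  rcases Nat.lt_or_ge v 340451 with h | h
  · exact (data.checkRange_iff 338437 2014).mp chk230 v (by omega) (by omega)
  rcases Nat.lt_or_ge v 342604 with h | h
  · exact (data.checkRange_iff 340451 2153).mp chk231 v (by omega) (by omega)
  rcases Nat.lt_or_ge v 344626 with h | h
  · exact (data.checkRange_iff 342604 2022).mp chk232 v (by omega) (by omega)
  rcases Nat.lt_or_ge v 346696 with h | h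
  · exact (data.checkRange_iff 344626 2070).mp chk233 v (by omega) (by omega)
  exact (data.checkRange_iff 346696 1972).mp chk234 v (by omega) (by omega)

end Cfsg.Agent.Lib.Helper16.RuM.E3U46
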