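import Cfsg.Agent.Lib.Helper16.RuM.E3Data
import Cfsg.Agent.Lib.Helper16.RuM.E3U37
set_option autoImplicit false
set_option maxRecDepth 100000
set_option maxHeartbeats 0

namespace Cfsg.Agent.Lib.Helper16.RuM.E3U47
open Cfsg.Agent.Lib.Helper28.TC2Upper Cfsg.Agent.Lib.Helper16.RuM.E3Data

theorem chk235 : data.checkRange 348668 1925 = true := by decide +kernel
theorem chk236 : data.checkRange 350593 2176 = true := by decide +kernel
theorem chk237 : data.checkRange 352769 2135 = true := by decide +kernel
theorem chk238 : data.checkRange 354904 1610 = true := by decide +kernel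
theorem chk239 : data.checkRange 356514 1759 = true := by decide +kernel

theorem all : ∀ v, 348668 ≤ v → v < 358273 → data.checkNode v = true := by
  intro v h1 h2
  rcases Nat.lt_or_ge v 350593 with h | h
  · exact (data.checkRange_iff 348668 1925).mp chk235 v (by omega) (by omega)
  rcases Nat.lt_or_ge v 352769 with h | h
  · exact (data.checkRange_iff 350593 2176).mp chk236 v (by omega) (by omega)
  rcases Nat.lt_or_ge v 354904 with h | h
  · exact (data.checkRange_iff 352769 2135).mp chk237 v (by omega) (by omega)
  rcases Nat.lt_or_ge v 356514 with h | h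
  · exact (data.checkRange_iff 354904 1610).mp chk238 v (by omega) (by omega)
  exact (data.checkRange_iff 356514 1759).mp chk239 v (by omega) (by omega)

end Cfsg.Agent.Lib.Helper16.RuM.E3U47
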