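import Cfsg.Agent.Lib.Helper16.RuM.E3Data
import Cfsg.Agent.Lib.Helper16.RuM.E3U38
set_option autoImplicit false
set_option maxRecDepth 100000
set_option maxHeartbeats 0

namespace Cfsg.Agent.Lib.Helper16.RuM.E3U48
open Cfsg.Agent.Lib.Helper28.TC2Upper Cfsg.Agent.Lib.Helper16.RuM.E3Data

theorem chk240 : data.checkRange 358273 2012 = true := by decide +kernel
theorem chk241 : data.checkRange 360285 2143 = true := by decide +kernel
theorem chk242 : data.checkRange 362428 1777 = true := by decide +kernel
theorem chk243 : data.checkRange 364205 1705 = true := by decide +kernel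
theorem chk244 : data.checkRange 365910 1783 = true := by decide +kernel

theorem all : ∀ v, 358273 ≤ v → v < 367693 → data.checkNode v = true := by
  intro v h1 h2
  rcases Nat.lt_or_ge v 360285 with h | h
  · exact (data.checkRange_iff 358273 2012).mp chk240 v (by omega) (by omega)
  rcases Nat.lt_or_ge v 362428 with h | h
  · exact (data.checkRange_iff 360285 2143).mp chk241 v (by omega) (by omega)
  rcases Nat.lt_or_ge v 364205 with h | h
  · exact (data.checkRange_iff 362428 1777).mp chk242 v (by omega) (by omega)
  rcases Nat.lt_or_ge v 365910 with h | h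
  · exact (data.checkRange_iff 364205 1705).mp chk243 v (by omega) (by omega)
  exact (data.checkRange_iff 365910 1783).mp chk244 v (by omega) (by omega)

end Cfsg.Agent.Lib.Helper16.RuM.E3U48
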