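import Cfsg.Agent.Lib.Helper16.RuM.E3Data
import Cfsg.Agent.Lib.Helper16.RuM.E3U39
set_option autoImplicit false
set_option maxRecDepth 100000
set_option maxHeartbeats 0

namespace Cfsg.Agent.Lib.Helper16.RuM.E3U49
open Cfsg.Agent.Lib.Helper28.TC2Upper Cfsg.Agent.Lib.Helper16.RuM.E3Data

theorem chk245 : data.checkRange 367693 2028 = true := by decide +kernel
theorem chk246 : data.checkRange 369721 1742 = true := by decide +kernel
theorem chk247 : data.checkRange 371463 1925 = true := by decide +kernel
theorem chk248 : data.checkRange 373388 1873 = true := by decide +kernel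
theorem chk249 : data.checkRange 375261 2035 = true := by decide +kernel

theorem all : ∀ v, 367693 ≤ v → v < 377296 → data.checkNode v = true := by
  intro v h1 h2
  rcases Nat.lt_or_ge v 369721 with h | h
  · exact (data.checkRange_iff 367693 2028).mp chk245 v (by omega) (by omega)
  rcases Nat.lt_or_ge v 371463 with h | h
  · exact (data.checkRange_iff 369721 1742).mp chk246 v (by omega) (by omega)
  rcases Nat.lt_or_ge v 373388 with h | h
  · exact (data.checkRange_iff 371463 1925).mp chk247 v (by omega) (by omega)
  rcases Nat.lt_or_ge v 375261 with h | h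
  · exact (data.checkRange_iff 373388 1873).mp chk248 v (by omega) (by omega)
  exact (data.checkRange_iff 375261 2035).mp chk249 v (by omega) (by omega)

end Cfsg.Agent.Lib.Helper16.RuM.E3U49
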