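import Cfsg.Agent.Lib.Helper16.RuM.E3Data
import Cfsg.Agent.Lib.Helper16.RuM.E3U40
set_option autoImplicit false
set_option maxRecDepth 100000
set_option maxHeartbeats 0

namespace Cfsg.Agent.Lib.Helper16.RuM.E3U50
open Cfsg.Agent.Lib.Helper28.TC2Upper Cfsg.Agent.Lib.Helper16.RuM.E3Data

theorem chk250 : data.checkRange 377296 2062 = true := by decide +kernel
theorem chk251 : data.checkRange 379358 1761 = true := by decide +kernel
theorem chk252 : data.checkRange 381119 1776 = true := by decide +kernel
theorem chk253 : data.checkRange 382895 1762 = true := by decide +kernel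
theorem chk254 : data.checkRange 384657 1996 = true := by decide +kernel

theorem all : ∀ v, 377296 ≤ v → v < 386653 → data.checkNode v = true := by
  intro v h1 h2
  rcases Nat.lt_or_ge v 379358 with h | h
  · exact (data.checkRange_iff 377296 2062).mp chk250 v (by omega) (by omega)
  rcases Nat.lt_or_ge v 381119 with h | h
  · exact (data.checkRange_iff 379358 1761).mp chk251 v (by omega) (by omega)
  rcases Nat.lt_or_ge v 382895 with h | h
  · exact (data.checkRange_iff 381119 1776).mp chk252 v (by omega) (by omega)
  rcases Nat.lt_or_ge v 384657 with h | h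
  · exact (data.checkRange_iff 382895 1762).mp chk253 v (by omega) (by omega)
  exact (data.checkRange_iff 384657 1996).mp chk254 v (by omega) (by omega)

end Cfsg.Agent.Lib.Helper16.RuM.E3U50
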