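import Cfsg.Agent.Lib.Helper16.RuM.E3Data
import Cfsg.Agent.Lib.Helper16.RuM.E3U41
set_option autoImplicit false
set_option maxRecDepth 100000
set_option maxHeartbeats 0

namespace Cfsg.Agent.Lib.Helper16.RuM.E3U51
open Cfsg.Agent.Lib.Helper28.TC2Upper Cfsg.Agent.Lib.Helper16.RuM.E3Data

theorem chk255 : data.checkRange 386653 2343 = true := by decide +kernel
theorem chk256 : data.checkRange 388996 2086 = true := by decide +kernel
theorem chk257 : data.checkRange 391082 1869 = true := by decide +kernel
theorem chk258 : data.checkRange 392951 1554 = true := by decide +kernel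
theorem chk259 : data.checkRange 394505 1693 = true := by decide +kernel

theorem all : ∀ v, 386653 ≤ v → v < 396198 → data.checkNode v = true := by
  intro v h1 h2
  rcases Nat.lt_or_ge v 388996 with h | h
  · exact (data.checkRange_iff 386653 2343).mp chk255 v (by omega) (by omega)
  rcases Nat.lt_or_ge v 391082 with h | h
  · exact (data.checkRange_iff 388996 2086).mp chk256 v (by omega) (by omega)
  rcases Nat.lt_or_ge v 392951 with h | h
  · exact (data.checkRange_iff 391082 1869).mp chk257 v (by omega) (by omega)
  rcases Nat.lt_or_ge v 394505 with h | h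
  · exact (data.checkRange_iff 392951 1554).mp chk258 v (by omega) (by omega)
  exact (data.checkRange_iff 394505 1693).mp chk259 v (by omega) (by omega)

end Cfsg.Agent.Lib.Helper16.RuM.E3U51
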