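import Cfsg.Agent.Lib.Helper16.RuM.E3Data
import Cfsg.Agent.Lib.Helper16.RuM.E3U32
set_option autoImplicit false
set_option maxRecDepth 100000
set_option maxHeartbeats 0

namespace Cfsg.Agent.Lib.Helper16.RuM.E3U42
open Cfsg.Agent.Lib.Helper28.TC2Upper Cfsg.Agent.Lib.Helper16.RuM.E3Data

theorem chk210 : data.checkRange 300201 1923 = true := by decide +kernel
theorem chk211 : data.checkRange 302124 1999 = true := by decide +kernel
theorem chk212 : data.checkRange 304123 1994 = true := by decide +kernel
theorem chk213 : data.checkRange 306117 1855 = true := by decide +kernel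
theorem chk214 : data.checkRange 307972 1903 = true := by decide +kernel

theorem all : ∀ v, 300201 ≤ v → v < 309875 → data.checkNode v = true := by
  intro v h1 h2
  rcases Nat.lt_or_ge v 302124 with h | h
  · exact (data.checkRange_iff 300201 1923).mp chk210 v (by omega) (by omega)
  rcases Nat.lt_or_ge v 304123 with h | h
  · exact (data.checkRange_iff 302124 1999).mp chk211 v (by omega) (by omega)
  rcases Nat.lt_or_ge v 306117 with h | h
  · exact (data.checkRange_iff 304123 1994).mp chk212 v (by omega) (by omega)
  rcases Nat.lt_or_ge v 307972 with h | h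
  · exact (data.checkRange_iff 306117 1855).mp chk213 v (by omega) (by omega)
  exact (data.checkRange_iff 307972 1903).mp chk214 v (by omega) (by omega)

end Cfsg.Agent.Lib.Helper16.RuM.E3U42
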