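import Cfsg.Agent.Lib.Helper16.RuM.E3Data
import Cfsg.Agent.Lib.Helper16.RuM.E3U42
set_option autoImplicit false
set_option maxRecDepth 100000
set_option maxHeartbeats 0

namespace Cfsg.Agent.Lib.Helper16.RuM.E3U52
open Cfsg.Agent.Lib.Helper28.TC2Upper Cfsg.Agent.Lib.Helper16.RuM.E3Data

theorem chk260 : data.checkRange 396198 1810 = true := by decide +kernel
theorem chk261 : data.checkRange 398008 1948 = true := by decide +kernel
theorem chk262 : data.checkRange 399956 1866 = true := by decide +kernel
theorem chk263 : data.checkRange 401822 1695 = true := by decide +kernel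
theorem chk264 : data.checkRange 403517 1608 = true := by decide +kernel

theorem all : ∀ v, 396198 ≤ v → v < 405125 → data.checkNode v = true := by
  intro v h1 h2
  rcases Nat.lt_or_ge v 398008 with h | h
  · exact (data.checkRange_iff 396198 1810).mp chk260 v (by omega) (by omega)
  rcases Nat.lt_or_ge v 399956 with h | h
  · exact (data.checkRange_iff 398008 1948).mp chk261 v (by omega) (by omega)
  rcases Nat.lt_or_ge v 401822 with h | h
  · exact (data.checkRange_iff 399956 1866).mp chk262 v (by omega) (by omega)
  rcases Nat.lt_or_ge v 403517 with h | h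
  · exact (data.checkRange_iff 401822 1695).mp chk263 v (by omega) (by omega)
  exact (data.checkRange_iff 403517 1608).mp chk264 v (by omega) (by omega)

end Cfsg.Agent.Lib.Helper16.RuM.E3U52
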