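import Cfsg.Agent.Lib.Helper16.RuM.E3Data
import Cfsg.Agent.Lib.Helper16.RuM.E3U43
set_option autoImplicit false
set_option maxRecDepth 100000
set_option maxHeartbeats 0

namespace Cfsg.Agent.Lib.Helper16.RuM.E3U53
open Cfsg.Agent.Lib.Helper28.TC2Upper Cfsg.Agent.Lib.Helper16.RuM.E3Data

theorem chk265 : data.checkRange 405125 1708 = true := by decide +kernel
theorem chk266 : data.checkRange 406833 1740 = true := by decide +kernel
theorem chk267 : data.checkRange 408573 1862 = true := by decide +kernel
theorem chk268 : data.checkRange 410435 2045 = true := by decide +kernel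
theorem chk269 : data.checkRange 412480 1695 = true := by decide +kernel

theorem all : ∀ v, 405125 ≤ v → v < 414175 → data.checkNode v = true := by
  intro v h1 h2
  rcases Nat.lt_or_ge v 406833 with h | h
  · exact (data.checkRange_iff 405125 1708).mp chk265 v (by omega) (by omega)
  rcases Nat.lt_or_ge v 408573 with h | h
  · exact (data.checkRange_iff 406833 1740).mp chk266 v (by omega) (by omega)
  rcases Nat.lt_or_ge v 410435 with h | h
  · exact (data.checkRange_iff 408573 1862).mp chk267 v (by omega) (by omega)
  rcases Nat.lt_or_ge v 412480 with h | h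
  · exact (data.checkRange_iff 410435 2045).mp chk268 v (by omega) (by omega)
  exact (data.checkRange_iff 412480 1695).mp chk269 v (by omega) (by omega)

end Cfsg.Agent.Lib.Helper16.RuM.E3U53
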