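import Cfsg.Agent.Lib.Helper16.RuM.E3Data
import Cfsg.Agent.Lib.Helper16.RuM.E3U45
set_option autoImplicit false
set_option maxRecDepth 100000
set_option maxHeartbeats 0

namespace Cfsg.Agent.Lib.Helper16.RuM.E3U55
open Cfsg.Agent.Lib.Helper28.TC2Upper Cfsg.Agent.Lib.Helper16.RuM.E3Data

theorem chk275 : data.checkRange 422331 1638 = true := by decide +kernel
theorem chk276 : data.checkRange 423969 1875 = true := by decide +kernel
theorem chk277 : data.checkRange 425844 2138 = true := by decide +kernel
theorem chk278 : data.checkRange 427982 1861 = true := by decide +kernel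
theorem chk279 : data.checkRange 429843 1833 = true := by decide +kernel

theorem all : ∀ v, 422331 ≤ v → v < 431676 → data.checkNode v = true := by
  intro v h1 h2
  rcases Nat.lt_or_ge v 423969 with h | h
  · exact (data.checkRange_iff 422331 1638).mp chk275 v (by omega) (by omega)
  rcases Nat.lt_or_ge v 425844 with h | h
  · exact (data.checkRange_iff 423969 1875).mp chk276 v (by omega) (by omega)
  rcases Nat.lt_or_ge v 427982 with h | h
  · exact (data.checkRange_iff 425844 2138).mp chk277 v (by omega) (by omega)
  rcases Nat.lt_or_ge v 429843 with h | h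
  · exact (data.checkRange_iff 427982 1861).mp chk278 v (by omega) (by omega)
  exact (data.checkRange_iff 429843 1833).mp chk279 v (by omega) (by omega)

end Cfsg.Agent.Lib.Helper16.RuM.E3U55
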