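import Cfsg.Agent.Lib.Helper16.RuM.E3Data
import Cfsg.Agent.Lib.Helper16.RuM.E3U46
set_option autoImplicit false
set_option maxRecDepth 100000
set_option maxHeartbeats 0

namespace Cfsg.Agent.Lib.Helper16.RuM.E3U56
open Cfsg.Agent.Lib.Helper28.TC2Upper Cfsg.Agent.Lib.Helper16.RuM.E3Data

theorem chk280 : data.checkRange 431676 2024 = true := by decide +kernel
theorem chk281 : data.checkRange 433700 1839 = true := by decide +kernel
theorem chk282 : data.checkRange 435539 1646 = true := by decide +kernel
theorem chk283 : data.checkRange 437185 1865 = true := by decide +kernel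
theorem chk284 : data.checkRange 439050 1887 = true := by decide +kernel

theorem all : ∀ v, 431676 ≤ v → v < 440937 → data.checkNode v = true := by
  intro v h1 h2
  rcases Nat.lt_or_ge v 433700 with h | h
  · exact (data.checkRange_iff 431676 2024).mp chk280 v (by omega) (by omega)
  rcases Nat.lt_or_ge v 435539 with h | h
  · exact (data.checkRange_iff 433700 1839).mp chk281 v (by omega) (by omega)
  rcases Nat.lt_or_ge v 437185 with h | h
  · exact (data.checkRange_iff 435539 1646).mp chk282 v (by omega) (by omega)
  rcases Nat.lt_or_ge v 439050 with h | h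
  · exact (data.checkRange_iff 437185 1865).mp chk283 v (by omega) (by omega)
  exact (data.checkRange_iff 439050 1887).mp chk284 v (by omega) (by omega)

end Cfsg.Agent.Lib.Helper16.RuM.E3U56
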