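import Cfsg.Agent.Lib.Helper16.RuM.E3Data
import Cfsg.Agent.Lib.Helper16.RuM.E3U47
set_option autoImplicit false
set_option maxRecDepth 100000
set_option maxHeartbeats 0

namespace Cfsg.Agent.Lib.Helper16.RuM.E3U57
open Cfsg.Agent.Lib.Helper28.TC2Upper Cfsg.Agent.Lib.Helper16.RuM.E3Data

theorem chk285 : data.checkRange 440937 1938 = true := by decide +kernel
theorem chk286 : data.checkRange 442875 2042 = true := by decide +kernel
theorem chk287 : data.checkRange 444917 2303 = true := by decide +kernel
theorem chk288 : data.checkRange 447220 1978 = true := by decide +kernel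
theorem chk289 : data.checkRange 449198 1756 = true := by decide +kernel

theorem all : ∀ v, 440937 ≤ v → v < 450954 → data.checkNode v = true := by
  intro v h1 h2
  rcases Nat.lt_or_ge v 442875 with h | h
  · exact (data.checkRange_iff 440937 1938).mp chk285 v (by omega) (by omega)
  rcases Nat.lt_or_ge v 444917 with h | h
  · exact (data.checkRange_iff 442875 2042).mp chk286 v (by omega) (by omega)
  rcases Nat.lt_or_ge v 447220 with h | h
  · exact (data.checkRange_iff 444917 2303).mp chk287 v (by omega) (by omega)
  rcases Nat.lt_or_ge v 449198 with h | h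
  · exact (data.checkRange_iff 447220 1978).mp chk288 v (by omega) (by omega)
  exact (data.checkRange_iff 449198 1756).mp chk289 v (by omega) (by omega)

end Cfsg.Agent.Lib.Helper16.RuM.E3U57
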