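import Cfsg.Agent.Lib.Helper16.RuM.E3Data
import Cfsg.Agent.Lib.Helper16.RuM.E3U48
set_option autoImplicit false
set_option maxRecDepth 100000
set_option maxHeartbeats 0

namespace Cfsg.Agent.Lib.Helper16.RuM.E3U58
open Cfsg.Agent.Lib.Helper28.TC2Upper Cfsg.Agent.Lib.Helper16.RuM.E3Data

theorem chk290 : data.checkRange 450954 1686 = true := by decide +kernel
theorem chk291 : data.checkRange 452640 1961 = true := by decide +kernel
theorem chk292 : data.checkRange 454601 1884 = true := by decide +kernel
theorem chk293 : data.checkRange 456485 1901 = true := by decide +kernel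
theorem chk294 : data.checkRange 458386 1805 = true := by decide +kernel

theorem all : ∀ v, 450954 ≤ v → v < 460191 → data.checkNode v = true := by
  intro v h1 h2
  rcases Nat.lt_or_ge v 452640 with h | h
  · exact (data.checkRange_iff 450954 1686).mp chk290 v (by omega) (by omega)
  rcases Nat.lt_or_ge v 454601 with h | h
  · exact (data.checkRange_iff 452640 1961).mp chk291 v (by omega) (by omega)
  rcases Nat.lt_or_ge v 456485 with h | h
  · exact (data.checkRange_iff 454601 1884).mp chk292 v (by omega) (by omega)
  rcases Nat.lt_or_ge v 458386 with h | h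
  · exact (data.checkRange_iff 456485 1901).mp chk293 v (by omega) (by omega)
  exact (data.checkRange_iff 458386 1805).mp chk294 v (by omega) (by omega)

end Cfsg.Agent.Lib.Helper16.RuM.E3U58
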