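import Cfsg.Agent.Lib.Helper16.RuM.E3Data
import Cfsg.Agent.Lib.Helper16.RuM.E3U49
set_option autoImplicit false
set_option maxRecDepth 100000
set_option maxHeartbeats 0

namespace Cfsg.Agent.Lib.Helper16.RuM.E3U59
open Cfsg.Agent.Lib.Helper28.TC2Upper Cfsg.Agent.Lib.Helper16.RuM.E3Data

theorem chk295 : data.checkRange 460191 1830 = true := by decide +kernel
theorem chk296 : data.checkRange 462021 1961 = true := by decide +kernel
theorem chk297 : data.checkRange 463982 2077 = true := by decide +kernel
theorem chk298 : data.checkRange 466059 2186 = true := by decide +kernel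
theorem chk299 : data.checkRange 468245 1977 = true := by decide +kernel

theorem all : ∀ v, 460191 ≤ v → v < 470222 → data.checkNode v = true := by
  intro v h1 h2
  rcases Nat.lt_or_ge v 462021 with h | h
  · exact (data.checkRange_iff 460191 1830).mp chk295 v (by omega) (by omega)
  rcases Nat.lt_or_ge v 463982 with h | h
  · exact (data.checkRange_iff 462021 1961).mp chk296 v (by omega) (by omega)
  rcases Nat.lt_or_ge v 466059 with h | h
  · exact (data.checkRange_iff 463982 2077).mp chk297 v (by omega) (by omega)
  rcases Nat.lt_or_ge v 468245 with h | h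
  · exact (data.checkRange_iff 466059 2186).mp chk298 v (by omega) (by omega)
  exact (data.checkRange_iff 468245 1977).mp chk299 v (by omega) (by omega)

end Cfsg.Agent.Lib.Helper16.RuM.E3U59
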