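import Cfsg.Agent.Lib.Helper16.RuM.E3Data
import Cfsg.Agent.Lib.Helper16.RuM.E3U50
set_option autoImplicit false
set_option maxRecDepth 100000
set_option maxHeartbeats 0

namespace Cfsg.Agent.Lib.Helper16.RuM.E3U60
open Cfsg.Agent.Lib.Helper28.TC2Upper Cfsg.Agent.Lib.Helper16.RuM.E3Data

theorem chk300 : data.checkRange 470222 2019 = true := by decide +kernel
theorem chk301 : data.checkRange 472241 1964 = true := by decide +kernel
theorem chk302 : data.checkRange 474205 1932 = true := by decide +kernel
theorem chk303 : data.checkRange 476137 1752 = true := by decide +kernel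
theorem chk304 : data.checkRange 477889 2060 = true := by decide +kernel

theorem all : ∀ v, 470222 ≤ v → v < 479949 → data.checkNode v = true := by
  intro v h1 h2
  rcases Nat.lt_or_ge v 472241 with h | h
  · exact (data.checkRange_iff 470222 2019).mp chk300 v (by omega) (by omega)
  rcases Nat.lt_or_ge v 474205 with h | h
  · exact (data.checkRange_iff 472241 1964).mp chk301 v (by omega) (by omega)
  rcases Nat.lt_or_ge v 476137 with h | h
  · exact (data.checkRange_iff 474205 1932).mp chk302 v (by omega) (by omega)
  rcases Nat.lt_or_ge v 477889 with h | h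
  · exact (data.checkRange_iff 476137 1752).mp chk303 v (by omega) (by omega)
  exact (data.checkRange_iff 477889 2060).mp chk304 v (by omega) (by omega)

end Cfsg.Agent.Lib.Helper16.RuM.E3U60
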