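import Cfsg.Agent.Lib.Helper16.RuM.E3Data
import Cfsg.Agent.Lib.Helper16.RuM.E3U51
set_option autoImplicit false
set_option maxRecDepth 100000
set_option maxHeartbeats 0

namespace Cfsg.Agent.Lib.Helper16.RuM.E3U61
open Cfsg.Agent.Lib.Helper28.TC2Upper Cfsg.Agent.Lib.Helper16.RuM.E3Data

theorem chk305 : data.checkRange 479949 2011 = true := by decide +kernel
theorem chk306 : data.checkRange 481960 1896 = true := by decide +kernel
theorem chk307 : data.checkRange 483856 1908 = true := by decide +kernel
theorem chk308 : data.checkRange 485764 1952 = true := by decide +kernel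
theorem chk309 : data.checkRange 487716 1577 = true := by decide +kernel

theorem all : ∀ v, 479949 ≤ v → v < 489293 → data.checkNode v = true := by
  intro v h1 h2
  rcases Nat.lt_or_ge v 481960 with h | h
  · exact (data.checkRange_iff 479949 2011).mp chk305 v (by omega) (by omega)
  rcases Nat.lt_or_ge v 483856 with h | h
  · exact (data.checkRange_iff 481960 1896).mp chk306 v (by omega) (by omega)
  rcases Nat.lt_or_ge v 485764 with h | h
  · exact (data.checkRange_iff 483856 1908).mp chk307 v (by omega) (by omega)
  rcases Nat.lt_or_ge v 487716 with h | h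
  · exact (data.checkRange_iff 485764 1952).mp chk308 v (by omega) (by omega)
  exact (data.checkRange_iff 487716 1577).mp chk309 v (by omega) (by omega)

end Cfsg.Agent.Lib.Helper16.RuM.E3U61
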