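import Cfsg.Agent.Lib.Helper16.RuM.E3Data
import Cfsg.Agent.Lib.Helper16.RuM.E3U52
set_option autoImplicit false
set_option maxRecDepth 100000
set_option maxHeartbeats 0

namespace Cfsg.Agent.Lib.Helper16.RuM.E3U62
open Cfsg.Agent.Lib.Helper28.TC2Upper Cfsg.Agent.Lib.Helper16.RuM.E3Data

theorem chk310 : data.checkRange 489293 1381 = true := by decide +kernel
theorem chk311 : data.checkRange 490674 1567 = true := by decide +kernel
theorem chk312 : data.checkRange 492241 1593 = true := by decide +kernel
theorem chk313 : data.checkRange 493834 1784 = true := by decide +kernel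
theorem chk314 : data.checkRange 495618 1900 = true := by decide +kernel

theorem all : ∀ v, 489293 ≤ v → v < 497518 → data.checkNode v = true := by
  intro v h1 h2
  rcases Nat.lt_or_ge v 490674 with h | h
  · exact (data.checkRange_iff 489293 1381).mp chk310 v (by omega) (by omega)
  rcases Nat.lt_or_ge v 492241 with h | h
  · exact (data.checkRange_iff 490674 1567).mp chk311 v (by omega) (by omega)
  rcases Nat.lt_or_ge v 493834 with h | h
  · exact (data.checkRange_iff 492241 1593).mp chk312 v (by omega) (by omega)
  rcases Nat.lt_or_ge v 495618 with h | h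
  · exact (data.checkRange_iff 493834 1784).mp chk313 v (by omega) (by omega)
  exact (data.checkRange_iff 495618 1900).mp chk314 v (by omega) (by omega)

end Cfsg.Agent.Lib.Helper16.RuM.E3U62
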