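import Cfsg.Agent.Lib.Helper16.RuM.E3Data
import Cfsg.Agent.Lib.Helper16.RuM.E3U53
set_option autoImplicit false
set_option maxRecDepth 100000
set_option maxHeartbeats 0

namespace Cfsg.Agent.Lib.Helper16.RuM.E3U63
open Cfsg.Agent.Lib.Helper28.TC2Upper Cfsg.Agent.Lib.Helper16.RuM.E3Data

theorem chk315 : data.checkRange 497518 1783 = true := by decide +kernel
theorem chk316 : data.checkRange 499301 2125 = true := by decide +kernel
theorem chk317 : data.checkRange 501426 1870 = true := by decide +kernel
theorem chk318 : data.checkRange 503296 1875 = true := by decide +kernel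
theorem chk319 : data.checkRange 505171 1791 = true := by decide +kernel

theorem all : ∀ v, 497518 ≤ v → v < 506962 → data.checkNode v = true := by
  intro v h1 h2
  rcases Nat.lt_or_ge v 499301 with h | h
  · exact (data.checkRange_iff 497518 1783).mp chk315 v (by omega) (by omega)
  rcases Nat.lt_or_ge v 501426 with h | h
  · exact (data.checkRange_iff 499301 2125).mp chk316 v (by omega) (by omega)
  rcases Nat.lt_or_ge v 503296 with h | h
  · exact (data.checkRange_iff 501426 1870).mp chk317 v (by omega) (by omega)
  rcases Nat.lt_or_ge v 505171 with h | h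
  · exact (data.checkRange_iff 503296 1875).mp chk318 v (by omega) (by omega)
  exact (data.checkRange_iff 505171 1791).mp chk319 v (by omega) (by omega)

end Cfsg.Agent.Lib.Helper16.RuM.E3U63
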