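import Cfsg.Agent.Lib.Helper16.RuM.E3Data
import Cfsg.Agent.Lib.Helper16.RuM.E3U44
set_option autoImplicit false
set_option maxRecDepth 100000
set_option maxHeartbeats 0

namespace Cfsg.Agent.Lib.Helper16.RuM.E3U54
open Cfsg.Agent.Lib.Helper28.TC2Upper Cfsg.Agent.Lib.Helper16.RuM.E3Data

theorem chk270 : data.checkRange 414175 1816 = true := by decide +kernel
theorem chk271 : data.checkRange 415991 1494 = true := by decide +kernel
theorem chk272 : data.checkRange 417485 1744 = true := by decide +kernel
theorem chk273 : data.checkRange 419229 1464 = true := by decide +kernel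
theorem chk274 : data.checkRange 420693 1638 = true := by decide +kernel

theorem all : ∀ v, 414175 ≤ v → v < 422331 → data.checkNode v = true := by
  intro v h1 h2
  rcases Nat.lt_or_ge v 415991 with h | h
  · exact (data.checkRange_iff 414175 1816).mp chk270 v (by omega) (by omega)
  rcases Nat.lt_or_ge v 417485 with h | h
  · exact (data.checkRange_iff 415991 1494).mp chk271 v (by omega) (by omega)
  rcases Nat.lt_or_ge v 419229 with h | h
  · exact (data.checkRange_iff 417485 1744).mp chk272 v (by omega) (by omega)
  rcases Nat.lt_or_ge v 420693 with h | h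
  · exact (data.checkRange_iff 419229 1464).mp chk273 v (by omega) (by omega)
  exact (data.checkRange_iff 420693 1638).mp chk274 v (by omega) (by omega)

end Cfsg.Agent.Lib.Helper16.RuM.E3U54
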