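import Cfsg.Agent.Lib.Helper16.RuM.E3Data
import Cfsg.Agent.Lib.Helper16.RuM.E3U54
set_option autoImplicit false
set_option maxRecDepth 100000
set_option maxHeartbeats 0

namespace Cfsg.Agent.Lib.Helper16.RuM.E3U64
open Cfsg.Agent.Lib.Helper28.TC2Upper Cfsg.Agent.Lib.Helper16.RuM.E3Data

theorem chk320 : data.checkRange 506962 1730 = true := by decide +kernel
theorem chk321 : data.checkRange 508692 1803 = true := by decide +kernel
theorem chk322 : data.checkRange 510495 1632 = true := by decide +kernel
theorem chk323 : data.checkRange 512127 1838 = true := by decide +kernel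
theorem chk324 : data.checkRange 513965 2072 = true := by decide +kernel

theorem all : ∀ v, 506962 ≤ v → v < 516037 → data.checkNode v = true := by
  intro v h1 h2
  rcases Nat.lt_or_ge v 508692 with h | h
  · exact (data.checkRange_iff 506962 1730).mp chk320 v (by omega) (by omega)
  rcases Nat.lt_or_ge v 510495 with h | h
  · exact (data.checkRange_iff 508692 1803).mp chk321 v (by omega) (by omega)
  rcases Nat.lt_or_ge v 512127 with h | h
  · exact (data.checkRange_iff 510495 1632).mp chk322 v (by omega) (by omega)
  rcases Nat.lt_or_ge v 513965 with h | h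
  · exact (data.checkRange_iff 512127 1838).mp chk323 v (by omega) (by omega)
  exact (data.checkRange_iff 513965 2072).mp chk324 v (by omega) (by omega)

end Cfsg.Agent.Lib.Helper16.RuM.E3U64
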