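import Cfsg.Agent.Lib.Helper16.RuM.E3Data
import Cfsg.Agent.Lib.Helper16.RuM.E3U55
set_option autoImplicit false
set_option maxRecDepth 100000
set_option maxHeartbeats 0

namespace Cfsg.Agent.Lib.Helper16.RuM.E3U65
open Cfsg.Agent.Lib.Helper28.TC2Upper Cfsg.Agent.Lib.Helper16.RuM.E3Data

theorem chk325 : data.checkRange 516037 1778 = true := by decide +kernel
theorem chk326 : data.checkRange 517815 1919 = true := by decide +kernel
theorem chk327 : data.checkRange 519734 2079 = true := by decide +kernel
theorem chk328 : data.checkRange 521813 1989 = true := by decide +kernel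
theorem chk329 : data.checkRange 523802 1881 = true := by decide +kernel

theorem all : ∀ v, 516037 ≤ v → v < 525683 → data.checkNode v = true := by
  intro v h1 h2
  rcases Nat.lt_or_ge v 517815 with h | h
  · exact (data.checkRange_iff 516037 1778).mp chk325 v (by omega) (by omega)
  rcases Nat.lt_or_ge v 519734 with h | h
  · exact (data.checkRange_iff 517815 1919).mp chk326 v (by omega) (by omega)
  rcases Nat.lt_or_ge v 521813 with h | h
  · exact (data.checkRange_iff 519734 2079).mp chk327 v (by omega) (by omega)
  rcases Nat.lt_or_ge v 523802 with h | h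
  · exact (data.checkRange_iff 521813 1989).mp chk328 v (by omega) (by omega)
  exact (data.checkRange_iff 523802 1881).mp chk329 v (by omega) (by omega)

end Cfsg.Agent.Lib.Helper16.RuM.E3U65
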