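import Cfsg.Agent.Lib.Helper16.RuM.E3Data
import Cfsg.Agent.Lib.Helper16.RuM.E3U57
set_option autoImplicit false
set_option maxRecDepth 100000
set_option maxHeartbeats 0

namespace Cfsg.Agent.Lib.Helper16.RuM.E3U67
open Cfsg.Agent.Lib.Helper28.TC2Upper Cfsg.Agent.Lib.Helper16.RuM.E3Data

theorem chk335 : data.checkRange 535296 1903 = true := by decide +kernel
theorem chk336 : data.checkRange 537199 2001 = true := by decide +kernel
theorem chk337 : data.checkRange 539200 2025 = true := by decide +kernel
theorem chk338 : data.checkRange 541225 1997 = true := by decide +kernel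
theorem chk339 : data.checkRange 543222 1903 = true := by decide +kernel

theorem all : ∀ v, 535296 ≤ v → v < 545125 → data.checkNode v = true := by
  intro v h1 h2
  rcases Nat.lt_or_ge v 537199 with h | h
  · exact (data.checkRange_iff 535296 1903).mp chk335 v (by omega) (by omega)
  rcases Nat.lt_or_ge v 539200 with h | h
  · exact (data.checkRange_iff 537199 2001).mp chk336 v (by omega) (by omega)
  rcases Nat.lt_or_ge v 541225 with h | h
  · exact (data.checkRange_iff 539200 2025).mp chk337 v (by omega) (by omega)
  rcases Nat.lt_or_ge v 543222 with h | h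
  · exact (data.checkRange_iff 541225 1997).mp chk338 v (by omega) (by omega)
  exact (data.checkRange_iff 543222 1903).mp chk339 v (by omega) (by omega)

end Cfsg.Agent.Lib.Helper16.RuM.E3U67
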