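import Cfsg.Agent.Lib.Helper16.RuM.E3Data
import Cfsg.Agent.Lib.Helper16.RuM.E3U58
set_option autoImplicit false
set_option maxRecDepth 100000
set_option maxHeartbeats 0

namespace Cfsg.Agent.Lib.Helper16.RuM.E3U68
open Cfsg.Agent.Lib.Helper28.TC2Upper Cfsg.Agent.Lib.Helper16.RuM.E3Data

theorem chk340 : data.checkRange 545125 2024 = true := by decide +kernel
theorem chk341 : data.checkRange 547149 2099 = true := by decide +kernel
theorem chk342 : data.checkRange 549248 1965 = true := by decide +kernel
theorem chk343 : data.checkRange 551213 1779 = true := by decide +kernel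
theorem chk344 : data.checkRange 552992 1756 = true := by decide +kernel

theorem all : ∀ v, 545125 ≤ v → v < 554748 → data.checkNode v = true := by
  intro v h1 h2
  rcases Nat.lt_or_ge v 547149 with h | h
  · exact (data.checkRange_iff 545125 2024).mp chk340 v (by omega) (by omega)
  rcases Nat.lt_or_ge v 549248 with h | h
  · exact (data.checkRange_iff 547149 2099).mp chk341 v (by omega) (by omega)
  rcases Nat.lt_or_ge v 551213 with h | h
  · exact (data.checkRange_iff 549248 1965).mp chk342 v (by omega) (by omega)
  rcases Nat.lt_or_ge v 552992 with h | h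
  · exact (data.checkRange_iff 551213 1779).mp chk343 v (by omega) (by omega)
  exact (data.checkRange_iff 552992 1756).mp chk344 v (by omega) (by omega)

end Cfsg.Agent.Lib.Helper16.RuM.E3U68
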