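import Cfsg.Agent.Lib.Helper16.RuM.E3Data
import Cfsg.Agent.Lib.Helper16.RuM.E3U59
set_option autoImplicit false
set_option maxRecDepth 100000
set_option maxHeartbeats 0

namespace Cfsg.Agent.Lib.Helper16.RuM.E3U69
open Cfsg.Agent.Lib.Helper28.TC2Upper Cfsg.Agent.Lib.Helper16.RuM.E3Data

theorem chk345 : data.checkRange 554748 1888 = true := by decide +kernel
theorem chk346 : data.checkRange 556636 1659 = true := by decide +kernel
theorem chk347 : data.checkRange 558295 1774 = true := by decide +kernel
theorem chk348 : data.checkRange 560069 1687 = true := by decide +kernel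
theorem chk349 : data.checkRange 561756 1949 = true := by decide +kernel

theorem all : ∀ v, 554748 ≤ v → v < 563705 → data.checkNode v = true := by
  intro v h1 h2
  rcases Nat.lt_or_ge v 556636 with h | h
  · exact (data.checkRange_iff 554748 1888).mp chk345 v (by omega) (by omega)
  rcases Nat.lt_or_ge v 558295 with h | h
  · exact (data.checkRange_iff 556636 1659).mp chk346 v (by omega) (by omega)
  rcases Nat.lt_or_ge v 560069 with h | h
  · exact (data.checkRange_iff 558295 1774).mp chk347 v (by omega) (by omega)
  rcases Nat.lt_or_ge v 561756 with h | h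
  · exact (data.checkRange_iff 560069 1687).mp chk348 v (by omega) (by omega)
  exact (data.checkRange_iff 561756 1949).mp chk349 v (by omega) (by omega)

end Cfsg.Agent.Lib.Helper16.RuM.E3U69
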