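import Cfsg.Agent.Lib.Helper16.RuM.E3Data
import Cfsg.Agent.Lib.Helper16.RuM.E3U60
set_option autoImplicit false
set_option maxRecDepth 100000
set_option maxHeartbeats 0

namespace Cfsg.Agent.Lib.Helper16.RuM.E3U70
open Cfsg.Agent.Lib.Helper28.TC2Upper Cfsg.Agent.Lib.Helper16.RuM.E3Data

theorem chk350 : data.checkRange 563705 1727 = true := by decide +kernel
theorem chk351 : data.checkRange 565432 1710 = true := by decide +kernel
theorem chk352 : data.checkRange 567142 2029 = true := by decide +kernel
theorem chk353 : data.checkRange 569171 1919 = true := by decide +kernel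
theorem chk354 : data.checkRange 571090 1985 = true := by decide +kernel

theorem all : ∀ v, 563705 ≤ v → v < 573075 → data.checkNode v = true := by
  intro v h1 h2
  rcases Nat.lt_or_ge v 565432 with h | h
  · exact (data.checkRange_iff 563705 1727).mp chk350 v (by omega) (by omega)
  rcases Nat.lt_or_ge v 567142 with h | h
  · exact (data.checkRange_iff 565432 1710).mp chk351 v (by omega) (by omega)
  rcases Nat.lt_or_ge v 569171 with h | h
  · exact (data.checkRange_iff 567142 2029).mp chk352 v (by omega) (by omega)
  rcases Nat.lt_or_ge v 571090 with h | h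
  · exact (data.checkRange_iff 569171 1919).mp chk353 v (by omega) (by omega)
  exact (data.checkRange_iff 571090 1985).mp chk354 v (by omega) (by omega)

end Cfsg.Agent.Lib.Helper16.RuM.E3U70
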