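import Cfsg.Agent.Lib.Helper16.RuM.E3Data
import Cfsg.Agent.Lib.Helper16.RuM.E3U61
set_option autoImplicit false
set_option maxRecDepth 100000
set_option maxHeartbeats 0

namespace Cfsg.Agent.Lib.Helper16.RuM.E3U71
open Cfsg.Agent.Lib.Helper28.TC2Upper Cfsg.Agent.Lib.Helper16.RuM.E3Data

theorem chk355 : data.checkRange 573075 1927 = true := by decide +kernel
theorem chk356 : data.checkRange 575002 1919 = true := by decide +kernel
theorem chk357 : data.checkRange 576921 1964 = true := by decide +kernel
theorem chk358 : data.checkRange 578885 2043 = true := by decide +kernel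
theorem chk359 : data.checkRange 580928 2289 = true := by decide +kernel

theorem all : ∀ v, 573075 ≤ v → v < 583217 → data.checkNode v = true := by
  intro v h1 h2
  rcases Nat.lt_or_ge v 575002 with h | h
  · exact (data.checkRange_iff 573075 1927).mp chk355 v (by omega) (by omega)
  rcases Nat.lt_or_ge v 576921 with h | h
  · exact (data.checkRange_iff 575002 1919).mp chk356 v (by omega) (by omega)
  rcases Nat.lt_or_ge v 578885 with h | h
  · exact (data.checkRange_iff 576921 1964).mp chk357 v (by omega) (by omega)
  rcases Nat.lt_or_ge v 580928 with h | h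
  · exact (data.checkRange_iff 578885 2043).mp chk358 v (by omega) (by omega)
  exact (data.checkRange_iff 580928 2289).mp chk359 v (by omega) (by omega)

end Cfsg.Agent.Lib.Helper16.RuM.E3U71
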