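import Cfsg.Agent.Lib.Helper16.RuM.E3Data
import Cfsg.Agent.Lib.Helper16.RuM.E3U62
set_option autoImplicit false
set_option maxRecDepth 100000
set_option maxHeartbeats 0

namespace Cfsg.Agent.Lib.Helper16.RuM.E3U72
open Cfsg.Agent.Lib.Helper28.TC2Upper Cfsg.Agent.Lib.Helper16.RuM.E3Data

theorem chk360 : data.checkRange 583217 1950 = true := by decide +kernel
theorem chk361 : data.checkRange 585167 1785 = true := by decide +kernel
theorem chk362 : data.checkRange 586952 1984 = true := by decide +kernel
theorem chk363 : data.checkRange 588936 2043 = true := by decide +kernel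
theorem chk364 : data.checkRange 590979 2124 = true := by decide +kernel

theorem all : ∀ v, 583217 ≤ v → v < 593103 → data.checkNode v = true := by
  intro v h1 h2
  rcases Nat.lt_or_ge v 585167 with h | h
  · exact (data.checkRange_iff 583217 1950).mp chk360 v (by omega) (by omega)
  rcases Nat.lt_or_ge v 586952 with h | h
  · exact (data.checkRange_iff 585167 1785).mp chk361 v (by omega) (by omega)
  rcases Nat.lt_or_ge v 588936 with h | h
  · exact (data.checkRange_iff 586952 1984).mp chk362 v (by omega) (by omega)
  rcases Nat.lt_or_ge v 590979 with h | h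
  · exact (data.checkRange_iff 588936 2043).mp chk363 v (by omega) (by omega)
  exact (data.checkRange_iff 590979 2124).mp chk364 v (by omega) (by omega)

end Cfsg.Agent.Lib.Helper16.RuM.E3U72
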