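import Cfsg.Agent.Lib.Helper16.RuM.E3Data
import Cfsg.Agent.Lib.Helper16.RuM.E3U63
set_option autoImplicit false
set_option maxRecDepth 100000
set_option maxHeartbeats 0

namespace Cfsg.Agent.Lib.Helper16.RuM.E3U73
open Cfsg.Agent.Lib.Helper28.TC2Upper Cfsg.Agent.Lib.Helper16.RuM.E3Data

theorem chk365 : data.checkRange 593103 2017 = true := by decide +kernel
theorem chk366 : data.checkRange 595120 2026 = true := by decide +kernel
theorem chk367 : data.checkRange 597146 2110 = true := by decide +kernel
theorem chk368 : data.checkRange 599256 2013 = true := by decide +kernel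
theorem chk369 : data.checkRange 601269 2158 = true := by decide +kernel

theorem all : ∀ v, 593103 ≤ v → v < 603427 → data.checkNode v = true := by
  intro v h1 h2
  rcases Nat.lt_or_ge v 595120 with h | h
  · exact (data.checkRange_iff 593103 2017).mp chk365 v (by omega) (by omega)
  rcases Nat.lt_or_ge v 597146 with h | h
  · exact (data.checkRange_iff 595120 2026).mp chk366 v (by omega) (by omega)
  rcases Nat.lt_or_ge v 599256 with h | h
  · exact (data.checkRange_iff 597146 2110).mp chk367 v (by omega) (by omega)
  rcases Nat.lt_or_ge v 601269 with h | h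
  · exact (data.checkRange_iff 599256 2013).mp chk368 v (by omega) (by omega)
  exact (data.checkRange_iff 601269 2158).mp chk369 v (by omega) (by omega)

end Cfsg.Agent.Lib.Helper16.RuM.E3U73
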