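import Cfsg.Agent.Lib.Helper16.RuM.E3Data
import Cfsg.Agent.Lib.Helper16.RuM.E3U64
set_option autoImplicit false
set_option maxRecDepth 100000
set_option maxHeartbeats 0

namespace Cfsg.Agent.Lib.Helper16.RuM.E3U74
open Cfsg.Agent.Lib.Helper28.TC2Upper Cfsg.Agent.Lib.Helper16.RuM.E3Data

theorem chk370 : data.checkRange 603427 2012 = true := by decide +kernel
theorem chk371 : data.checkRange 605439 1754 = true := by decide +kernel
theorem chk372 : data.checkRange 607193 1668 = true := by decide +kernel
theorem chk373 : data.checkRange 608861 1515 = true := by decide +kernel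
theorem chk374 : data.checkRange 610376 1596 = true := by decide +kernel

theorem all : ∀ v, 603427 ≤ v → v < 611972 → data.checkNode v = true := by
  intro v h1 h2
  rcases Nat.lt_or_ge v 605439 with h | h
  · exact (data.checkRange_iff 603427 2012).mp chk370 v (by omega) (by omega)
  rcases Nat.lt_or_ge v 607193 with h | h
  · exact (data.checkRange_iff 605439 1754).mp chk371 v (by omega) (by omega)
  rcases Nat.lt_or_ge v 608861 with h | h
  · exact (data.checkRange_iff 607193 1668).mp chk372 v (by omega) (by omega)
  rcases Nat.lt_or_ge v 610376 with h | h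
  · exact (data.checkRange_iff 608861 1515).mp chk373 v (by omega) (by omega)
  exact (data.checkRange_iff 610376 1596).mp chk374 v (by omega) (by omega)

end Cfsg.Agent.Lib.Helper16.RuM.E3U74
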