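import Cfsg.Agent.Lib.Helper16.RuM.E3Data
import Cfsg.Agent.Lib.Helper16.RuM.E3U65
set_option autoImplicit false
set_option maxRecDepth 100000
set_option maxHeartbeats 0

namespace Cfsg.Agent.Lib.Helper16.RuM.E3U75
open Cfsg.Agent.Lib.Helper28.TC2Upper Cfsg.Agent.Lib.Helper16.RuM.E3Data

theorem chk375 : data.checkRange 611972 1575 = true := by decide +kernel
theorem chk376 : data.checkRange 613547 1603 = true := by decide +kernel
theorem chk377 : data.checkRange 615150 1854 = true := by decide +kernel
theorem chk378 : data.checkRange 617004 2248 = true := by decide +kernel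
theorem chk379 : data.checkRange 619252 1987 = true := by decide +kernel

theorem all : ∀ v, 611972 ≤ v → v < 621239 → data.checkNode v = true := by
  intro v h1 h2
  rcases Nat.lt_or_ge v 613547 with h | h
  · exact (data.checkRange_iff 611972 1575).mp chk375 v (by omega) (by omega)
  rcases Nat.lt_or_ge v 615150 with h | h
  · exact (data.checkRange_iff 613547 1603).mp chk376 v (by omega) (by omega)
  rcases Nat.lt_or_ge v 617004 with h | h
  · exact (data.checkRange_iff 615150 1854).mp chk377 v (by omega) (by omega)
  rcases Nat.lt_or_ge v 619252 with h | h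
  · exact (data.checkRange_iff 617004 2248).mp chk378 v (by omega) (by omega)
  exact (data.checkRange_iff 619252 1987).mp chk379 v (by omega) (by omega)

end Cfsg.Agent.Lib.Helper16.RuM.E3U75
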