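import Cfsg.Agent.Lib.Helper16.RuM.E3Data
import Cfsg.Agent.Lib.Helper16.RuM.E3U56
set_option autoImplicit false
set_option maxRecDepth 100000
set_option maxHeartbeats 0

namespace Cfsg.Agent.Lib.Helper16.RuM.E3U66
open Cfsg.Agent.Lib.Helper28.TC2Upper Cfsg.Agent.Lib.Helper16.RuM.E3Data

theorem chk330 : data.checkRange 525683 1960 = true := by decide +kernel
theorem chk331 : data.checkRange 527643 2048 = true := by decide +kernel
theorem chk332 : data.checkRange 529691 1732 = true := by decide +kernel
theorem chk333 : data.checkRange 531423 2002 = true := by decide +kernel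
theorem chk334 : data.checkRange 533425 1871 = true := by decide +kernel

theorem all : ∀ v, 525683 ≤ v → v < 535296 → data.checkNode v = true := by
  intro v h1 h2
  rcases Nat.lt_or_ge v 527643 with h | h
  · exact (data.checkRange_iff 525683 1960).mp chk330 v (by omega) (by omega)
  rcases Nat.lt_or_ge v 529691 with h | h
  · exact (data.checkRange_iff 527643 2048).mp chk331 v (by omega) (by omega)
  rcases Nat.lt_or_ge v 531423 with h | h
  · exact (data.checkRange_iff 529691 1732).mp chk332 v (by omega) (by omega)
  rcases Nat.lt_or_ge v 533425 with h | h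
  · exact (data.checkRange_iff 531423 2002).mp chk333 v (by omega) (by omega)
  exact (data.checkRange_iff 533425 1871).mp chk334 v (by omega) (by omega)

end Cfsg.Agent.Lib.Helper16.RuM.E3U66
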