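import Cfsg.Agent.Lib.Helper16.RuM.E3Data
import Cfsg.Agent.Lib.Helper16.RuM.E3U66
set_option autoImplicit false
set_option maxRecDepth 100000
set_option maxHeartbeats 0

namespace Cfsg.Agent.Lib.Helper16.RuM.E3U76
open Cfsg.Agent.Lib.Helper28.TC2Upper Cfsg.Agent.Lib.Helper16.RuM.E3Data

theorem chk380 : data.checkRange 621239 2001 = true := by decide +kernel
theorem chk381 : data.checkRange 623240 1727 = true := by decide +kernel
theorem chk382 : data.checkRange 624967 2053 = true := by decide +kernel
theorem chk383 : data.checkRange 627020 2417 = true := by decide +kernel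
theorem chk384 : data.checkRange 629437 2384 = true := by decide +kernel

theorem all : ∀ v, 621239 ≤ v → v < 631821 → data.checkNode v = true := by
  intro v h1 h2
  rcases Nat.lt_or_ge v 623240 with h | h
  · exact (data.checkRange_iff 621239 2001).mp chk380 v (by omega) (by omega)
  rcases Nat.lt_or_ge v 624967 with h | h
  · exact (data.checkRange_iff 623240 1727).mp chk381 v (by omega) (by omega)
  rcases Nat.lt_or_ge v 627020 with h | h
  · exact (data.checkRange_iff 624967 2053).mp chk382 v (by omega) (by omega)
  rcases Nat.lt_or_ge v 629437 with h | h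
  · exact (data.checkRange_iff 627020 2417).mp chk383 v (by omega) (by omega)
  exact (data.checkRange_iff 629437 2384).mp chk384 v (by omega) (by omega)

end Cfsg.Agent.Lib.Helper16.RuM.E3U76
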