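import Cfsg.Agent.Lib.Helper16.RuM.E3Data
import Cfsg.Agent.Lib.Helper16.RuM.E3U67
set_option autoImplicit false
set_option maxRecDepth 100000
set_option maxHeartbeats 0

namespace Cfsg.Agent.Lib.Helper16.RuM.E3U77
open Cfsg.Agent.Lib.Helper28.TC2Upper Cfsg.Agent.Lib.Helper16.RuM.E3Data

theorem chk385 : data.checkRange 631821 1966 = true := by decide +kernel
theorem chk386 : data.checkRange 633787 1970 = true := by decide +kernel
theorem chk387 : data.checkRange 635757 1993 = true := by decide +kernel
theorem chk388 : data.checkRange 637750 1651 = true := by decide +kernel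
theorem chk389 : data.checkRange 639401 1530 = true := by decide +kernel

theorem all : ∀ v, 631821 ≤ v → v < 640931 → data.checkNode v = true := by
  intro v h1 h2
  rcases Nat.lt_or_ge v 633787 with h | h
  · exact (data.checkRange_iff 631821 1966).mp chk385 v (by omega) (by omega)
  rcases Nat.lt_or_ge v 635757 with h | h
  · exact (data.checkRange_iff 633787 1970).mp chk386 v (by omega) (by omega)
  rcases Nat.lt_or_ge v 637750 with h | h
  · exact (data.checkRange_iff 635757 1993).mp chk387 v (by omega) (by omega)
  rcases Nat.lt_or_ge v 639401 with h | h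
  · exact (data.checkRange_iff 637750 1651).mp chk388 v (by omega) (by omega)
  exact (data.checkRange_iff 639401 1530).mp chk389 v (by omega) (by omega)

end Cfsg.Agent.Lib.Helper16.RuM.E3U77
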