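import Cfsg.Agent.Lib.Helper16.RuM.E3Data
import Cfsg.Agent.Lib.Helper16.RuM.E3U69
set_option autoImplicit false
set_option maxRecDepth 100000
set_option maxHeartbeats 0

namespace Cfsg.Agent.Lib.Helper16.RuM.E3U79
open Cfsg.Agent.Lib.Helper28.TC2Upper Cfsg.Agent.Lib.Helper16.RuM.E3Data

theorem chk395 : data.checkRange 651117 2145 = true := by decide +kernel
theorem chk396 : data.checkRange 653262 1831 = true := by decide +kernel
theorem chk397 : data.checkRange 655093 2038 = true := by decide +kernel
theorem chk398 : data.checkRange 657131 2284 = true := by decide +kernel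
theorem chk399 : data.checkRange 659415 2234 = true := by decide +kernel

theorem all : ∀ v, 651117 ≤ v → v < 661649 → data.checkNode v = true := by
  intro v h1 h2
  rcases Nat.lt_or_ge v 653262 with h | h
  · exact (data.checkRange_iff 651117 2145).mp chk395 v (by omega) (by omega)
  rcases Nat.lt_or_ge v 655093 with h | h
  · exact (data.checkRange_iff 653262 1831).mp chk396 v (by omega) (by omega)
  rcases Nat.lt_or_ge v 657131 with h | h
  · exact (data.checkRange_iff 655093 2038).mp chk397 v (by omega) (by omega)
  rcases Nat.lt_or_ge v 659415 with h | h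
  · exact (data.checkRange_iff 657131 2284).mp chk398 v (by omega) (by omega)
  exact (data.checkRange_iff 659415 2234).mp chk399 v (by omega) (by omega)

end Cfsg.Agent.Lib.Helper16.RuM.E3U79
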