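import Cfsg.Agent.Lib.Helper16.RuM.E3Data
import Cfsg.Agent.Lib.Helper16.RuM.E3U70
set_option autoImplicit false
set_option maxRecDepth 100000
set_option maxHeartbeats 0

namespace Cfsg.Agent.Lib.Helper16.RuM.E3U80
open Cfsg.Agent.Lib.Helper28.TC2Upper Cfsg.Agent.Lib.Helper16.RuM.E3Data

theorem chk400 : data.checkRange 661649 2408 = true := by decide +kernel
theorem chk401 : data.checkRange 664057 2299 = true := by decide +kernel
theorem chk402 : data.checkRange 666356 2160 = true := by decide +kernel
theorem chk403 : data.checkRange 668516 2055 = true := by decide +kernel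
theorem chk404 : data.checkRange 670571 1920 = true := by decide +kernel

theorem all : ∀ v, 661649 ≤ v → v < 672491 → data.checkNode v = true := by
  intro v h1 h2
  rcases Nat.lt_or_ge v 664057 with h | h
  · exact (data.checkRange_iff 661649 2408).mp chk400 v (by omega) (by omega)
  rcases Nat.lt_or_ge v 666356 with h | h
  · exact (data.checkRange_iff 664057 2299).mp chk401 v (by omega) (by omega)
  rcases Nat.lt_or_ge v 668516 with h | h
  · exact (data.checkRange_iff 666356 2160).mp chk402 v (by omega) (by omega)
  rcases Nat.lt_or_ge v 670571 with h | h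
  · exact (data.checkRange_iff 668516 2055).mp chk403 v (by omega) (by omega)
  exact (data.checkRange_iff 670571 1920).mp chk404 v (by omega) (by omega)

end Cfsg.Agent.Lib.Helper16.RuM.E3U80
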