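import Cfsg.Agent.Lib.Helper16.RuM.E3Data
import Cfsg.Agent.Lib.Helper16.RuM.E3U71
set_option autoImplicit false
set_option maxRecDepth 100000
set_option maxHeartbeats 0

namespace Cfsg.Agent.Lib.Helper16.RuM.E3U81
open Cfsg.Agent.Lib.Helper28.TC2Upper Cfsg.Agent.Lib.Helper16.RuM.E3Data

theorem chk405 : data.checkRange 672491 1528 = true := by decide +kernel
theorem chk406 : data.checkRange 674019 1801 = true := by decide +kernel
theorem chk407 : data.checkRange 675820 2109 = true := by decide +kernel
theorem chk408 : data.checkRange 677929 2048 = true := by decide +kernel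
theorem chk409 : data.checkRange 679977 1980 = true := by decide +kernel

theorem all : ∀ v, 672491 ≤ v → v < 681957 → data.checkNode v = true := by
  intro v h1 h2
  rcases Nat.lt_or_ge v 674019 with h | h
  · exact (data.checkRange_iff 672491 1528).mp chk405 v (by omega) (by omega)
  rcases Nat.lt_or_ge v 675820 with h | h
  · exact (data.checkRange_iff 674019 1801).mp chk406 v (by omega) (by omega)
  rcases Nat.lt_or_ge v 677929 with h | h
  · exact (data.checkRange_iff 675820 2109).mp chk407 v (by omega) (by omega)
  rcases Nat.lt_or_ge v 679977 with h | h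
  · exact (data.checkRange_iff 677929 2048).mp chk408 v (by omega) (by omega)
  exact (data.checkRange_iff 679977 1980).mp chk409 v (by omega) (by omega)

end Cfsg.Agent.Lib.Helper16.RuM.E3U81
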