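import Cfsg.Agent.Lib.Helper16.RuM.E3Data
import Cfsg.Agent.Lib.Helper16.RuM.E3U72
set_option autoImplicit false
set_option maxRecDepth 100000
set_option maxHeartbeats 0

namespace Cfsg.Agent.Lib.Helper16.RuM.E3U82
open Cfsg.Agent.Lib.Helper28.TC2Upper Cfsg.Agent.Lib.Helper16.RuM.E3Data

theorem chk410 : data.checkRange 681957 2069 = true := by decide +kernel
theorem chk411 : data.checkRange 684026 2014 = true := by decide +kernel
theorem chk412 : data.checkRange 686040 1992 = true := by decide +kernel
theorem chk413 : data.checkRange 688032 2202 = true := by decide +kernel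
theorem chk414 : data.checkRange 690234 2278 = true := by decide +kernel

theorem all : ∀ v, 681957 ≤ v → v < 692512 → data.checkNode v = true := by
  intro v h1 h2
  rcases Nat.lt_or_ge v 684026 with h | h
  · exact (data.checkRange_iff 681957 2069).mp chk410 v (by omega) (by omega)
  rcases Nat.lt_or_ge v 686040 with h | h
  · exact (data.checkRange_iff 684026 2014).mp chk411 v (by omega) (by omega)
  rcases Nat.lt_or_ge v 688032 with h | h
  · exact (data.checkRange_iff 686040 1992).mp chk412 v (by omega) (by omega)
  rcases Nat.lt_or_ge v 690234 with h | h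
  · exact (data.checkRange_iff 688032 2202).mp chk413 v (by omega) (by omega)
  exact (data.checkRange_iff 690234 2278).mp chk414 v (by omega) (by omega)

end Cfsg.Agent.Lib.Helper16.RuM.E3U82
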