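import Cfsg.Agent.Lib.Helper16.RuM.E3Data
import Cfsg.Agent.Lib.Helper16.RuM.E3U73
set_option autoImplicit false
set_option maxRecDepth 100000
set_option maxHeartbeats 0

namespace Cfsg.Agent.Lib.Helper16.RuM.E3U83
open Cfsg.Agent.Lib.Helper28.TC2Upper Cfsg.Agent.Lib.Helper16.RuM.E3Data

theorem chk415 : data.checkRange 692512 1956 = true := by decide +kernel
theorem chk416 : data.checkRange 694468 2191 = true := by decide +kernel
theorem chk417 : data.checkRange 696659 2047 = true := by decide +kernel
theorem chk418 : data.checkRange 698706 2221 = true := by decide +kernel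
theorem chk419 : data.checkRange 700927 2113 = true := by decide +kernel

theorem all : ∀ v, 692512 ≤ v → v < 703040 → data.checkNode v = true := by
  intro v h1 h2
  rcases Nat.lt_or_ge v 694468 with h | h
  · exact (data.checkRange_iff 692512 1956).mp chk415 v (by omega) (by omega)
  rcases Nat.lt_or_ge v 696659 with h | h
  · exact (data.checkRange_iff 694468 2191).mp chk416 v (by omega) (by omega)
  rcases Nat.lt_or_ge v 698706 with h | h
  · exact (data.checkRange_iff 696659 2047).mp chk417 v (by omega) (by omega)
  rcases Nat.lt_or_ge v 700927 with h | h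
  · exact (data.checkRange_iff 698706 2221).mp chk418 v (by omega) (by omega)
  exact (data.checkRange_iff 700927 2113).mp chk419 v (by omega) (by omega)

end Cfsg.Agent.Lib.Helper16.RuM.E3U83
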