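import Cfsg.Agent.Lib.Helper16.RuM.E3Data
import Cfsg.Agent.Lib.Helper16.RuM.E3U74
set_option autoImplicit false
set_option maxRecDepth 100000
set_option maxHeartbeats 0

namespace Cfsg.Agent.Lib.Helper16.RuM.E3U84
open Cfsg.Agent.Lib.Helper28.TC2Upper Cfsg.Agent.Lib.Helper16.RuM.E3Data

theorem chk420 : data.checkRange 703040 2479 = true := by decide +kernel
theorem chk421 : data.checkRange 705519 2340 = true := by decide +kernel
theorem chk422 : data.checkRange 707859 2117 = true := by decide +kernel
theorem chk423 : data.checkRange 709976 2005 = true := by decide +kernel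
theorem chk424 : data.checkRange 711981 2002 = true := by decide +kernel

theorem all : ∀ v, 703040 ≤ v → v < 713983 → data.checkNode v = true := by
  intro v h1 h2
  rcases Nat.lt_or_ge v 705519 with h | h
  · exact (data.checkRange_iff 703040 2479).mp chk420 v (by omega) (by omega)
  rcases Nat.lt_or_ge v 707859 with h | h
  · exact (data.checkRange_iff 705519 2340).mp chk421 v (by omega) (by omega)
  rcases Nat.lt_or_ge v 709976 with h | h
  · exact (data.checkRange_iff 707859 2117).mp chk422 v (by omega) (by omega)
  rcases Nat.lt_or_ge v 711981 with h | h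
  · exact (data.checkRange_iff 709976 2005).mp chk423 v (by omega) (by omega)
  exact (data.checkRange_iff 711981 2002).mp chk424 v (by omega) (by omega)

end Cfsg.Agent.Lib.Helper16.RuM.E3U84
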