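import Cfsg.Agent.Lib.Helper16.RuM.E3Data
import Cfsg.Agent.Lib.Helper16.RuM.E3U75
set_option autoImplicit false
set_option maxRecDepth 100000
set_option maxHeartbeats 0

namespace Cfsg.Agent.Lib.Helper16.RuM.E3U85
open Cfsg.Agent.Lib.Helper28.TC2Upper Cfsg.Agent.Lib.Helper16.RuM.E3Data

theorem chk425 : data.checkRange 713983 1739 = true := by decide +kernel
theorem chk426 : data.checkRange 715722 1607 = true := by decide +kernel
theorem chk427 : data.checkRange 717329 2015 = true := by decide +kernel
theorem chk428 : data.checkRange 719344 2177 = true := by decide +kernel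
theorem chk429 : data.checkRange 721521 2160 = true := by decide +kernel

theorem all : ∀ v, 713983 ≤ v → v < 723681 → data.checkNode v = true := by
  intro v h1 h2
  rcases Nat.lt_or_ge v 715722 with h | h
  · exact (data.checkRange_iff 713983 1739).mp chk425 v (by omega) (by omega)
  rcases Nat.lt_or_ge v 717329 with h | h
  · exact (data.checkRange_iff 715722 1607).mp chk426 v (by omega) (by omega)
  rcases Nat.lt_or_ge v 719344 with h | h
  · exact (data.checkRange_iff 717329 2015).mp chk427 v (by omega) (by omega)
  rcases Nat.lt_or_ge v 721521 with h | h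
  · exact (data.checkRange_iff 719344 2177).mp chk428 v (by omega) (by omega)
  exact (data.checkRange_iff 721521 2160).mp chk429 v (by omega) (by omega)

end Cfsg.Agent.Lib.Helper16.RuM.E3U85
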