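import Cfsg.Agent.Lib.Helper16.RuM.E3Data
import Cfsg.Agent.Lib.Helper16.RuM.E3U76
set_option autoImplicit false
set_option maxRecDepth 100000
set_option maxHeartbeats 0

namespace Cfsg.Agent.Lib.Helper16.RuM.E3U86
open Cfsg.Agent.Lib.Helper28.TC2Upper Cfsg.Agent.Lib.Helper16.RuM.E3Data

theorem chk430 : data.checkRange 723681 2190 = true := by decide +kernel
theorem chk431 : data.checkRange 725871 2062 = true := by decide +kernel
theorem chk432 : data.checkRange 727933 2116 = true := by decide +kernel
theorem chk433 : data.checkRange 730049 2106 = true := by decide +kernel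
theorem chk434 : data.checkRange 732155 2348 = true := by decide +kernel

theorem all : ∀ v, 723681 ≤ v → v < 734503 → data.checkNode v = true := by
  intro v h1 h2
  rcases Nat.lt_or_ge v 725871 with h | h
  · exact (data.checkRange_iff 723681 2190).mp chk430 v (by omega) (by omega)
  rcases Nat.lt_or_ge v 727933 with h | h
  · exact (data.checkRange_iff 725871 2062).mp chk431 v (by omega) (by omega)
  rcases Nat.lt_or_ge v 730049 with h | h
  · exact (data.checkRange_iff 727933 2116).mp chk432 v (by omega) (by omega)
  rcases Nat.lt_or_ge v 732155 with h | h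
  · exact (data.checkRange_iff 730049 2106).mp chk433 v (by omega) (by omega)
  exact (data.checkRange_iff 732155 2348).mp chk434 v (by omega) (by omega)

end Cfsg.Agent.Lib.Helper16.RuM.E3U86
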