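import Cfsg.Agent.Lib.Helper16.RuM.E3Data
import Cfsg.Agent.Lib.Helper16.RuM.E3U77
set_option autoImplicit false
set_option maxRecDepth 100000
set_option maxHeartbeats 0

namespace Cfsg.Agent.Lib.Helper16.RuM.E3U87
open Cfsg.Agent.Lib.Helper28.TC2Upper Cfsg.Agent.Lib.Helper16.RuM.E3Data

theorem chk435 : data.checkRange 734503 2055 = true := by decide +kernel
theorem chk436 : data.checkRange 736558 1825 = true := by decide +kernel
theorem chk437 : data.checkRange 738383 1853 = true := by decide +kernel
theorem chk438 : data.checkRange 740236 2202 = true := by decide +kernel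
theorem chk439 : data.checkRange 742438 2220 = true := by decide +kernel

theorem all : ∀ v, 734503 ≤ v → v < 744658 → data.checkNode v = true := by
  intro v h1 h2
  rcases Nat.lt_or_ge v 736558 with h | h
  · exact (data.checkRange_iff 734503 2055).mp chk435 v (by omega) (by omega)
  rcases Nat.lt_or_ge v 738383 with h | h
  · exact (data.checkRange_iff 736558 1825).mp chk436 v (by omega) (by omega)
  rcases Nat.lt_or_ge v 740236 with h | h
  · exact (data.checkRange_iff 738383 1853).mp chk437 v (by omega) (by omega)
  rcases Nat.lt_or_ge v 742438 with h | h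
  · exact (data.checkRange_iff 740236 2202).mp chk438 v (by omega) (by omega)
  exact (data.checkRange_iff 742438 2220).mp chk439 v (by omega) (by omega)

end Cfsg.Agent.Lib.Helper16.RuM.E3U87
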