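import Cfsg.Agent.Lib.Helper16.RuM.E3Data
import Cfsg.Agent.Lib.Helper16.RuM.E3U68
set_option autoImplicit false
set_option maxRecDepth 100000
set_option maxHeartbeats 0

namespace Cfsg.Agent.Lib.Helper16.RuM.E3U78
open Cfsg.Agent.Lib.Helper28.TC2Upper Cfsg.Agent.Lib.Helper16.RuM.E3Data

theorem chk390 : data.checkRange 640931 1829 = true := by decide +kernel
theorem chk391 : data.checkRange 642760 2073 = true := by decide +kernel
theorem chk392 : data.checkRange 644833 2159 = true := by decide +kernel
theorem chk393 : data.checkRange 646992 2047 = true := by decide +kernel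
theorem chk394 : data.checkRange 649039 2078 = true := by decide +kernel

theorem all : ∀ v, 640931 ≤ v → v < 651117 → data.checkNode v = true := by
  intro v h1 h2
  rcases Nat.lt_or_ge v 642760 with h | h
  · exact (data.checkRange_iff 640931 1829).mp chk390 v (by omega) (by omega)
  rcases Nat.lt_or_ge v 644833 with h | h
  · exact (data.checkRange_iff 642760 2073).mp chk391 v (by omega) (by omega)
  rcases Nat.lt_or_ge v 646992 with h | h
  · exact (data.checkRange_iff 644833 2159).mp chk392 v (by omega) (by omega)
  rcases Nat.lt_or_ge v 649039 with h | h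
  · exact (data.checkRange_iff 646992 2047).mp chk393 v (by omega) (by omega)
  exact (data.checkRange_iff 649039 2078).mp chk394 v (by omega) (by omega)

end Cfsg.Agent.Lib.Helper16.RuM.E3U78
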