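import Cfsg.Agent.Lib.Helper16.RuM.E3Data
import Cfsg.Agent.Lib.Helper16.RuM.E3U78
set_option autoImplicit false
set_option maxRecDepth 100000
set_option maxHeartbeats 0

namespace Cfsg.Agent.Lib.Helper16.RuM.E3U88
open Cfsg.Agent.Lib.Helper28.TC2Upper Cfsg.Agent.Lib.Helper16.RuM.E3Data

theorem chk440 : data.checkRange 744658 1892 = true := by decide +kernel
theorem chk441 : data.checkRange 746550 2253 = true := by decide +kernel
theorem chk442 : data.checkRange 748803 2310 = true := by decide +kernel
theorem chk443 : data.checkRange 751113 2242 = true := by decide +kernel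
theorem chk444 : data.checkRange 753355 2210 = true := by decide +kernel

theorem all : ∀ v, 744658 ≤ v → v < 755565 → data.checkNode v = true := by
  intro v h1 h2
  rcases Nat.lt_or_ge v 746550 with h | h
  · exact (data.checkRange_iff 744658 1892).mp chk440 v (by omega) (by omega)
  rcases Nat.lt_or_ge v 748803 with h | h
  · exact (data.checkRange_iff 746550 2253).mp chk441 v (by omega) (by omega)
  rcases Nat.lt_or_ge v 751113 with h | h
  · exact (data.checkRange_iff 748803 2310).mp chk442 v (by omega) (by omega)
  rcases Nat.lt_or_ge v 753355 with h | h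
  · exact (data.checkRange_iff 751113 2242).mp chk443 v (by omega) (by omega)
  exact (data.checkRange_iff 753355 2210).mp chk444 v (by omega) (by omega)

end Cfsg.Agent.Lib.Helper16.RuM.E3U88
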