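import Cfsg.Agent.Lib.Helper16.RuM.E3Data
import Cfsg.Agent.Lib.Helper16.RuM.E3U79
set_option autoImplicit false
set_option maxRecDepth 100000
set_option maxHeartbeats 0

namespace Cfsg.Agent.Lib.Helper16.RuM.E3U89
open Cfsg.Agent.Lib.Helper28.TC2Upper Cfsg.Agent.Lib.Helper16.RuM.E3Data

theorem chk445 : data.checkRange 755565 2112 = true := by decide +kernel
theorem chk446 : data.checkRange 757677 2221 = true := by decide +kernel
theorem chk447 : data.checkRange 759898 1999 = true := by decide +kernel
theorem chk448 : data.checkRange 761897 2029 = true := by decide +kernel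
theorem chk449 : data.checkRange 763926 1849 = true := by decide +kernel

theorem all : ∀ v, 755565 ≤ v → v < 765775 → data.checkNode v = true := by
  intro v h1 h2
  rcases Nat.lt_or_ge v 757677 with h | h
  · exact (data.checkRange_iff 755565 2112).mp chk445 v (by omega) (by omega)
  rcases Nat.lt_or_ge v 759898 with h | h
  · exact (data.checkRange_iff 757677 2221).mp chk446 v (by omega) (by omega)
  rcases Nat.lt_or_ge v 761897 with h | h
  · exact (data.checkRange_iff 759898 1999).mp chk447 v (by omega) (by omega)
  rcases Nat.lt_or_ge v 763926 with h | h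
  · exact (data.checkRange_iff 761897 2029).mp chk448 v (by omega) (by omega)
  exact (data.checkRange_iff 763926 1849).mp chk449 v (by omega) (by omega)

end Cfsg.Agent.Lib.Helper16.RuM.E3U89
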