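import Cfsg.Agent.Lib.Helper16.RuM.E3Data
import Cfsg.Agent.Lib.Helper16.RuM.E3U81
set_option autoImplicit false
set_option maxRecDepth 100000
set_option maxHeartbeats 0

namespace Cfsg.Agent.Lib.Helper16.RuM.E3U91
open Cfsg.Agent.Lib.Helper28.TC2Upper Cfsg.Agent.Lib.Helper16.RuM.E3Data

theorem chk455 : data.checkRange 776772 2118 = true := by decide +kernel
theorem chk456 : data.checkRange 778890 2151 = true := by decide +kernel
theorem chk457 : data.checkRange 781041 2215 = true := by decide +kernel
theorem chk458 : data.checkRange 783256 2041 = true := by decide +kernel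
theorem chk459 : data.checkRange 785297 2107 = true := by decide +kernel

theorem all : ∀ v, 776772 ≤ v → v < 787404 → data.checkNode v = true := by
  intro v h1 h2
  rcases Nat.lt_or_ge v 778890 with h | h
  · exact (data.checkRange_iff 776772 2118).mp chk455 v (by omega) (by omega)
  rcases Nat.lt_or_ge v 781041 with h | h
  · exact (data.checkRange_iff 778890 2151).mp chk456 v (by omega) (by omega)
  rcases Nat.lt_or_ge v 783256 with h | h
  · exact (data.checkRange_iff 781041 2215).mp chk457 v (by omega) (by omega)
  rcases Nat.lt_or_ge v 785297 with h | h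
  · exact (data.checkRange_iff 783256 2041).mp chk458 v (by omega) (by omega)
  exact (data.checkRange_iff 785297 2107).mp chk459 v (by omega) (by omega)

end Cfsg.Agent.Lib.Helper16.RuM.E3U91
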