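import Cfsg.Agent.Lib.Helper16.RuM.E3Data
import Cfsg.Agent.Lib.Helper16.RuM.E3U82
set_option autoImplicit false
set_option maxRecDepth 100000
set_option maxHeartbeats 0

namespace Cfsg.Agent.Lib.Helper16.RuM.E3U92
open Cfsg.Agent.Lib.Helper28.TC2Upper Cfsg.Agent.Lib.Helper16.RuM.E3Data

theorem chk460 : data.checkRange 787404 2264 = true := by decide +kernel
theorem chk461 : data.checkRange 789668 2395 = true := by decide +kernel
theorem chk462 : data.checkRange 792063 1924 = true := by decide +kernel
theorem chk463 : data.checkRange 793987 1886 = true := by decide +kernel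
theorem chk464 : data.checkRange 795873 1857 = true := by decide +kernel

theorem all : ∀ v, 787404 ≤ v → v < 797730 → data.checkNode v = true := by
  intro v h1 h2
  rcases Nat.lt_or_ge v 789668 with h | h
  · exact (data.checkRange_iff 787404 2264).mp chk460 v (by omega) (by omega)
  rcases Nat.lt_or_ge v 792063 with h | h
  · exact (data.checkRange_iff 789668 2395).mp chk461 v (by omega) (by omega)
  rcases Nat.lt_or_ge v 793987 with h | h
  · exact (data.checkRange_iff 792063 1924).mp chk462 v (by omega) (by omega)
  rcases Nat.lt_or_ge v 795873 with h | h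
  · exact (data.checkRange_iff 793987 1886).mp chk463 v (by omega) (by omega)
  exact (data.checkRange_iff 795873 1857).mp chk464 v (by omega) (by omega)

end Cfsg.Agent.Lib.Helper16.RuM.E3U92
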