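import Cfsg.Agent.Lib.Helper16.RuM.E3Data
import Cfsg.Agent.Lib.Helper16.RuM.E3U83
set_option autoImplicit false
set_option maxRecDepth 100000
set_option maxHeartbeats 0

namespace Cfsg.Agent.Lib.Helper16.RuM.E3U93
open Cfsg.Agent.Lib.Helper28.TC2Upper Cfsg.Agent.Lib.Helper16.RuM.E3Data

theorem chk465 : data.checkRange 797730 1824 = true := by decide +kernel
theorem chk466 : data.checkRange 799554 1859 = true := by decide +kernel
theorem chk467 : data.checkRange 801413 2099 = true := by decide +kernel
theorem chk468 : data.checkRange 803512 2317 = true := by decide +kernel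
theorem chk469 : data.checkRange 805829 2248 = true := by decide +kernel

theorem all : ∀ v, 797730 ≤ v → v < 808077 → data.checkNode v = true := by
  intro v h1 h2
  rcases Nat.lt_or_ge v 799554 with h | h
  · exact (data.checkRange_iff 797730 1824).mp chk465 v (by omega) (by omega)
  rcases Nat.lt_or_ge v 801413 with h | h
  · exact (data.checkRange_iff 799554 1859).mp chk466 v (by omega) (by omega)
  rcases Nat.lt_or_ge v 803512 with h | h
  · exact (data.checkRange_iff 801413 2099).mp chk467 v (by omega) (by omega)
  rcases Nat.lt_or_ge v 805829 with h | h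
  · exact (data.checkRange_iff 803512 2317).mp chk468 v (by omega) (by omega)
  exact (data.checkRange_iff 805829 2248).mp chk469 v (by omega) (by omega)

end Cfsg.Agent.Lib.Helper16.RuM.E3U93
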