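import Cfsg.Agent.Lib.Helper16.RuM.E3Data
import Cfsg.Agent.Lib.Helper16.RuM.E3U84
set_option autoImplicit false
set_option maxRecDepth 100000
set_option maxHeartbeats 0

namespace Cfsg.Agent.Lib.Helper16.RuM.E3U94
open Cfsg.Agent.Lib.Helper28.TC2Upper Cfsg.Agent.Lib.Helper16.RuM.E3Data

theorem chk470 : data.checkRange 808077 2228 = true := by decide +kernel
theorem chk471 : data.checkRange 810305 1897 = true := by decide +kernel
theorem chk472 : data.checkRange 812202 1976 = true := by decide +kernel
theorem chk473 : data.checkRange 814178 33 = true := by decide +kernel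

theorem all : ∀ v, 808077 ≤ v → v < 814211 → data.checkNode v = true := by
  intro v h1 h2
  rcases Nat.lt_or_ge v 810305 with h | h
  · exact (data.checkRange_iff 808077 2228).mp chk470 v (by omega) (by omega)
  rcases Nat.lt_or_ge v 812202 with h | h
  · exact (data.checkRange_iff 810305 1897).mp chk471 v (by omega) (by omega)
  rcases Nat.lt_or_ge v 814178 with h | h
  · exact (data.checkRange_iff 812202 1976).mp chk472 v (by omega) (by omega)
  exact (data.checkRange_iff 814178 33).mp chk473 v (by omega) (by omega)

end Cfsg.Agent.Lib.Helper16.RuM.E3U94
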