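import Cfsg.Agent.Lib.Helper28.TC2Glue
import Cfsg.Agent.Lib.Helper16.RuM.E3Link
set_option autoImplicit false
set_option maxRecDepth 100000
set_option maxHeartbeats 0

namespace Cfsg.Agent.Lib.Helper16.RuM.E3W
open Cfsg.Agent.Lib.Helper28.TC2Upper Cfsg.Agent.Lib.Helper28.TC2Lower Cfsg.Agent.Lib.Helper28.TC2Glue Cfsg.Agent.Lib.Helper16.RuM.E3Data Cfsg.Agent.Lib.Helper16.RuM.E3Table Cfsg.Agent.Lib.Helper16.RuM.E3Link

/-- the words whose walks return to the first node -/
def targets : List (List (Cfsg.Agent.Lib.Helper16.RuM.E3Def.Gen × Bool)) := [
  [(.b, true), (.b, true)],
  [(.b, true), (.v, true), (.b, true), (.v, true), (.b, true), (.v, true), (.b, true), (.v, true)],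
  [(.b, true), (.v, true), (.v, true), (.b, true), (.v, true), (.v, true), (.b, true), (.v, true), (.v, true), (.b, true), (.v, true), (.v, true)],
  [(.v, true), (.v, true), (.v, true), (.v, true), (.v, true), (.v, true), (.v, true), (.v, true), (.v, true), (.v, true), (.v, true), (.v, true), (.v, true)],
  [(.b, true), (.v, true), (.v, true), (.v, true), (.v, true), (.b, true), (.v, true), (.v, true), (.v, true), (.v, true), (.b, true), (.v, true), (.v, true), (.v, true), (.v, true)],
  [(.v, false), (.a, true), (.c, true), (.a, true), (.b, true), (.c, true)],
  [(.a, true), (.a, true)],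
  [(.c, true), (.c, true)],
  [(.d, true), (.d, true)],
  [(.a, true), (.b, true), (.a, true), (.b, true)],
  [(.a, true), (.c, true), (.a, true), (.c, true), (.a, true), (.c, true), (.a, true), (.c, true), (.a, true), (.c, true), (.a, true), (.c, true), (.a, true), (.c, true), (.a, true), (.c, true), (.a, true), (.c, true), (.a, true), (.c, true), (.a, true), (.c, true), (.a, true), (.c, true)],
  [(.a, true), (.d, true), (.a, true), (.d, true)],
  [(.b, true), (.c, true), (.b, true), (.c, true), (.b, true), (.c, true), (.b, true), (.c, true)],
  [(.b, true), (.d, true), (.b, true), (.d, true)],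
  [(.c, true), (.d, true), (.c, true), (.d, true), (.c, true), (.d, true), (.c, true), (.d, true)],
  [(.a, true), (.c, true), (.a, true), (.c, true), (.a, true), (.c, true), (.a, true), (.c, true), (.b, true), (.c, true), (.a, true), (.c, true), (.a, true), (.c, true), (.a, true), (.c, true), (.a, true), (.c, true), (.b, true), (.c, true), (.a, true), (.c, true), (.a, true), (.c, true), (.a, true), (.c, true), (.a, true), (.c, true), (.b, true), (.c, true)],
  [(.b, true), (.c, true), (.a, true), (.c, true), (.b, true), (.c, true), (.a, true), (.c, true), (.a, true), (.b, true), (.c, true), (.b, true), (.c, true), (.a, true), (.c, true), (.a, true), (.c, true), (.b, true), (.c, true), (.b, true), (.a, true), (.c, true), (.a, true), (.c, true), (.b, true), (.c, true), (.a, true), (.c, true), (.b, true), (.c, true)],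
  [(.b, true), (.c, true), (.a, true), (.c, true), (.a, true), (.c, true), (.a, true), (.c, true), (.a, true), (.c, true), (.a, true), (.c, true), (.b, true), (.c, true), (.a, true), (.b, true), (.c, true), (.a, true), (.c, true), (.a, true), (.c, true), (.a, true), (.c, true), (.a, true), (.c, true), (.b, true), (.a, true), (.c, true), (.a, true)],
  [(.b, true), (.c, true), (.b, true), (.c, true), (.a, true), (.c, true), (.a, true), (.c, true), (.a, true), (.c, true), (.a, true), (.b, true), (.c, true), (.b, true), (.c, true), (.d, true), (.c, true), (.a, true), (.c, true), (.a, true), (.c, true), (.a, true), (.c, true), (.a, true), (.d, true), (.c, true), (.a, true), (.c, true), (.a, true), (.c, true), (.a, true), (.c, true), (.d, true)],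
  [(.c, true), (.a, true), (.c, true), (.d, true), (.c, true), (.a, true), (.b, true), (.d, true), (.c, true), (.b, true), (.c, true), (.a, true), (.c, true), (.b, true), (.d, true), (.c, true), (.b, true), (.c, true), (.d, true), (.c, true), (.b, true), (.c, true), (.d, true), (.b, true), (.c, true), (.a, true), (.c, true), (.d, true), (.b, true), (.c, true), (.a, true), (.c, true), (.d, true)],
  [(.c, true), (.a, true), (.b, true), (.c, true), (.a, true), (.c, true), (.a, true), (.b, true), (.c, true), (.d, true), (.c, true), (.a, true), (.c, true), (.b, true), (.d, true), (.c, true), (.a, true), (.c, true), (.b, true), (.c, true), (.d, true), (.c, true), (.b, true), (.c, true), (.a, true), (.c, true), (.d, true), (.b, true), (.c, true), (.a, true), (.c, true), (.d, true)],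
  [(.c, true), (.a, true), (.b, true), (.c, true), (.a, true), (.c, true), (.a, true), (.b, true), (.c, true), (.d, true), (.c, true), (.a, true), (.c, true), (.b, true), (.d, true), (.c, true), (.a, true), (.d, true), (.c, true), (.d, true), (.b, true), (.d, true), (.c, true), (.d, true), (.a, true), (.c, true), (.d, true), (.b, true), (.c, true), (.a, true), (.c, true), (.d, true)],
  [(.c, true), (.b, true), (.c, true), (.a, true), (.c, true), (.b, true), (.c, true), (.a, true), (.c, true), (.b, true), (.c, true), (.d, true), (.c, true), (.b, true), (.c, true), (.a, true), (.c, true), (.d, true), (.c, true), (.b, true), (.c, true), (.a, true), (.c, true), (.b, true), (.c, true), (.d, true), (.c, true), (.a, true), (.c, true), (.b, true), (.c, true), (.d, true)],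
  [(.c, true), (.a, true), (.c, true), (.b, true), (.c, true), (.a, true), (.c, true), (.b, true), (.c, true), (.d, true), (.c, true), (.b, true), (.c, true), (.a, true), (.c, true), (.b, true), (.c, true), (.a, true), (.c, true), (.a, true), (.d, true), (.a, true), (.c, true), (.d, true), (.b, true), (.c, true), (.a, true), (.c, true), (.d, true), (.b, true), (.c, true), (.d, true)],
  [(.e, true), (.e, true)],
  [(.a, true), (.e, true), (.a, true), (.e, true)],
  [(.b, true), (.e, true), (.b, true), (.e, true)],
  [(.c, true), (.e, true), (.c, true), (.e, true), (.c, true), (.e, true), (.c, true), (.e, true)],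
  [(.d, true), (.e, true), (.d, true), (.e, true), (.d, true), (.e, true), (.d, true), (.e, true)],
  [(.b, true), (.c, true), (.a, true), (.c, true), (.a, true), (.c, true), (.a, true), (.c, true), (.a, true), (.c, true), (.a, true), (.c, true), (.b, true), (.e, true), (.c, true), (.a, true), (.c, true), (.a, true), (.c, true), (.e, true), (.a, true), (.e, true), (.c, true), (.a, true), (.c, true), (.a, true), (.c, true), (.e, true)],
  [(.e, false), (.d, false), (.c, false), (.b, false), (.c, false), (.e, false), (.c, false), (.d, false), (.e, false), (.c, false), (.d, false), (.c, false), (.d, false), (.c, false), (.e, false), (.d, false), (.b, false), (.c, false), (.e, false), (.d, false), (.e, false), (.d, false), (.c, false), (.d, false), (.b, true), (.c, true), (.a, true), (.c, true), (.a, true), (.b, true), (.c, true), (.a, true), (.c, true), (.b, true), (.e, true), (.c, true), (.a, true), (.c, true), (.a, true), (.d, true), (.e, true), (.c, true), (.b, true), (.e, true), (.c, true), (.e, true), (.d, true), (.a, true), (.c, true), (.a, true), (.c, true), (.e, true)],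
  [(.c, true), (.b, true), (.c, true), (.e, true), (.c, true), (.a, true), (.d, true), (.e, true), (.d, true), (.c, true), (.d, true), (.e, true), (.c, true), (.d, true), (.c, true), (.d, true), (.c, true), (.d, true), (.e, true), (.b, true), (.c, true), (.d, true), (.e, true), (.d, true), (.c, true), (.a, true), (.c, true), (.e, true)],
  [(.b, true), (.c, true), (.d, true), (.c, true), (.b, true), (.e, true), (.c, true), (.a, true), (.c, true), (.e, true), (.c, true), (.b, true), (.e, true), (.d, true), (.c, true), (.a, true), (.b, true), (.a, true), (.c, true), (.d, true), (.e, true), (.b, true), (.c, true), (.e, true), (.c, true), (.a, true), (.c, true), (.e, true)],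
  [(.a, true), (.b, true), (.c, true), (.a, true), (.c, true), (.a, true), (.c, true), (.a, true), (.d, true), (.c, true), (.a, true), (.c, true), (.a, true), (.c, true), (.a, true), (.b, true), (.e, true), (.c, true), (.a, true), (.d, true), (.c, true), (.a, true), (.d, true), (.c, true), (.d, true), (.a, true), (.c, true), (.e, true)],
  [(.c, true), (.b, true), (.c, true), (.d, true), (.c, true), (.b, true), (.e, true), (.c, true), (.e, true), (.d, true), (.c, true), (.e, true), (.c, true), (.b, true), (.c, true), (.e, true), (.c, true), (.d, true), (.c, true), (.e, true), (.b, true), (.c, true), (.d, true), (.e, true), (.c, true), (.b, true), (.c, true), (.e, true)],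
  [(.b, true), (.c, true), (.a, true), (.d, true), (.c, true), (.b, true), (.e, true), (.c, true), (.a, true), (.d, true), (.c, true), (.e, true), (.c, true), (.b, true), (.d, true), (.c, true), (.a, true), (.b, true), (.a, true), (.c, true), (.d, true), (.c, true), (.e, true), (.c, true), (.d, true), (.b, true), (.c, true), (.e, true)],
  [(.e, false), (.d, false), (.c, false), (.b, false), (.c, false), (.e, false), (.c, false), (.d, false), (.e, false), (.c, false), (.d, false), (.c, false), (.d, false), (.c, false), (.e, false), (.d, false), (.b, false), (.c, false), (.e, false), (.d, false), (.e, false), (.d, false), (.c, false), (.d, false), (.c, true), (.a, true), (.c, true), (.b, true), (.c, true), (.a, true), (.c, true), (.b, true), (.c, true), (.a, true), (.c, true), (.e, true), (.c, true), (.b, true), (.d, true), (.c, true), (.e, true), (.c, true), (.b, true), (.a, true), (.e, true), (.c, true), (.e, true), (.c, true), (.d, true), (.b, true), (.c, true), (.e, true)],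
  [(.b, true), (.c, true), (.a, true), (.b, true), (.c, true), (.b, true), (.e, true), (.c, true), (.e, true), (.d, true), (.c, true), (.b, true), (.e, true), (.c, true), (.a, true), (.c, true), (.e, true), (.c, true), (.e, true), (.c, true), (.b, true), (.c, true), (.e, true), (.d, true), (.e, true), (.b, true), (.c, true), (.e, true)],
  [(.b, true), (.c, true), (.d, true), (.c, true), (.b, true), (.c, true), (.e, true), (.c, true), (.b, true), (.c, true), (.d, true), (.e, true), (.c, true), (.b, true), (.e, true), (.c, true), (.d, true), (.b, true), (.c, true), (.b, true), (.c, true), (.e, true), (.c, true), (.b, true), (.c, true), (.d, true), (.c, true), (.e, true)],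
  [(.e, false), (.d, false), (.c, false), (.b, false), (.c, false), (.e, false), (.c, false), (.d, false), (.e, false), (.c, false), (.d, false), (.c, false), (.d, false), (.c, false), (.e, false), (.d, false), (.b, false), (.c, false), (.e, false), (.d, false), (.e, false), (.d, false), (.c, false), (.d, false), (.c, true), (.a, true), (.c, true), (.b, true), (.c, true), (.a, true), (.c, true), (.b, true), (.c, true), (.a, true), (.c, true), (.e, true), (.c, true), (.d, true), (.c, true), (.e, true), (.c, true), (.b, true), (.d, true), (.e, true), (.d, true), (.a, true), (.c, true), (.e, true), (.c, true), (.d, true), (.c, true), (.e, true)],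
  [(.c, true), (.b, true), (.c, true), (.a, true), (.d, true), (.c, true), (.b, true), (.c, true), (.e, true), (.d, true), (.e, true), (.c, true), (.d, true), (.e, true), (.c, true), (.b, true), (.c, true), (.a, true), (.c, true), (.b, true), (.c, true), (.e, true), (.d, true), (.b, true), (.c, true), (.e, true), (.d, true), (.e, true)],
  [(.a, true), (.d, true), (.c, true), (.b, true), (.c, true), (.e, true), (.c, true), (.b, true), (.c, true), (.a, true), (.e, true), (.c, true), (.d, true), (.e, true), (.b, true), (.e, true), (.d, true), (.c, true), (.e, true), (.c, true), (.b, true), (.c, true), (.d, true), (.e, true)],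
  [(.e, false), (.d, false), (.c, false), (.b, false), (.c, false), (.e, false), (.c, false), (.d, false), (.e, false), (.c, false), (.d, false), (.c, false), (.d, false), (.c, false), (.e, false), (.d, false), (.b, false), (.c, false), (.e, false), (.d, false), (.e, false), (.d, false), (.c, false), (.d, false), (.d, true), (.c, true), (.d, true), (.e, true), (.d, true), (.e, true), (.c, true), (.b, true), (.d, true), (.e, true), (.c, true), (.d, true), (.c, true), (.d, true), (.c, true), (.e, true), (.d, true), (.c, true), (.e, true), (.c, true), (.b, true), (.c, true), (.d, true), (.e, true)],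
  [(.d, true), (.c, true), (.e, true), (.c, true), (.b, true), (.e, true), (.d, true), (.c, true), (.e, true), (.c, true), (.d, true), (.e, true), (.d, true), (.c, true), (.e, true), (.c, true), (.d, true), (.e, true), (.c, true), (.e, true), (.c, true), (.d, true), (.e, true)],
  [(.d, true), (.c, true), (.d, true), (.e, true), (.d, true), (.e, true), (.c, true), (.b, true), (.d, true), (.e, true), (.c, true), (.d, true), (.c, true), (.d, true), (.c, true), (.e, true), (.d, true), (.c, true), (.e, true), (.c, true), (.b, true), (.c, true), (.d, true), (.e, true), (.d, true), (.c, true), (.d, true), (.e, true), (.d, true), (.e, true), (.c, true), (.b, true), (.d, true), (.e, true), (.c, true), (.d, true), (.c, true), (.d, true), (.c, true), (.e, true), (.d, true), (.c, true), (.e, true), (.c, true), (.b, true), (.c, true), (.d, true), (.e, true)] ]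

/-- the walk of a word from the first node returns to it -/
noncomputable def walkOK (L : List (Cfsg.Agent.Lib.Helper16.RuM.E3Def.Gen × Bool)) : Bool :=
  decide (data.walkN data.MW (pathOf lw L).length (pathOf lw L) 0 = some (0, []))

theorem walk0 : ∀ L ∈ (targets.drop 0).take 8, walkOK L = true := by decide +kernel
theorem walk1 : ∀ L ∈ (targets.drop 8).take 8, walkOK L = true := by decide +kernel
theorem walk2 : ∀ L ∈ (targets.drop 16).take 8, walkOK L = true := by decide +kernel
theorem walk3 : ∀ L ∈ (targets.drop 24).take 8, walkOK L = true := by decide +kernel
theorem walk4 : ∀ L ∈ (targets.drop 32).take 8, walkOK L = true := by decide +kernel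
theorem walk5 : ∀ L ∈ (targets.drop 40).take 5, walkOK L = true := by decide +kernel

theorem walk_split : ∀ L ∈ targets, L ∈ (targets.drop 0).take 8 ∨ L ∈ (targets.drop 8).take 8 ∨ L ∈ (targets.drop 16).take 8 ∨ L ∈ (targets.drop 24).take 8 ∨ L ∈ (targets.drop 32).take 8 ∨ L ∈ (targets.drop 40).take 5 := by
  decide +kernel

theorem walk_all : ∀ L ∈ targets, data.walkN data.MW (pathOf lw L).length (pathOf lw L) 0 = some (0, []) := by
  intro L hL
  have key : walkOK L = true := by
    rcases walk_split L hL with h | h | h | h | h | h
    · exact walk0 L h
    · exact walk1 L h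
    · exact walk2 L h
    · exact walk3 L h
    · exact walk4 L h
    · exact walk5 L h
  exact of_decide_eq_true key

end Cfsg.Agent.Lib.Helper16.RuM.E3W
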