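import Cfsg.Agent.Lib.Helper28.TC2Glue
import Cfsg.Agent.Lib.Helper28.TC2Range
import Cfsg.Agent.Lib.Helper16.RuM.Target
import Cfsg.Agent.Lib.Helper16.RuM.E3Link
import Cfsg.Agent.Lib.Helper16.RuM.E3W
import Cfsg.Agent.Lib.Helper16.RuM.E3U0
import Cfsg.Agent.Lib.Helper16.RuM.E3U1
import Cfsg.Agent.Lib.Helper16.RuM.E3U2
import Cfsg.Agent.Lib.Helper16.RuM.E3U3
import Cfsg.Agent.Lib.Helper16.RuM.E3U4
import Cfsg.Agent.Lib.Helper16.RuM.E3U5
import Cfsg.Agent.Lib.Helper16.RuM.E3U6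
import Cfsg.Agent.Lib.Helper16.RuM.E3U7
import Cfsg.Agent.Lib.Helper16.RuM.E3U8
import Cfsg.Agent.Lib.Helper16.RuM.E3U9
import Cfsg.Agent.Lib.Helper16.RuM.E3U10
import Cfsg.Agent.Lib.Helper16.RuM.E3U11
import Cfsg.Agent.Lib.Helper16.RuM.E3U12
import Cfsg.Agent.Lib.Helper16.RuM.E3U13
import Cfsg.Agent.Lib.Helper16.RuM.E3U14
import Cfsg.Agent.Lib.Helper16.RuM.E3U15
import Cfsg.Agent.Lib.Helper16.RuM.E3U16
import Cfsg.Agent.Lib.Helper16.RuM.E3U17
import Cfsg.Agent.Lib.Helper16.RuM.E3U18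
import Cfsg.Agent.Lib.Helper16.RuM.E3U19
import Cfsg.Agent.Lib.Helper16.RuM.E3U20
import Cfsg.Agent.Lib.Helper16.RuM.E3U21
import Cfsg.Agent.Lib.Helper16.RuM.E3U22
import Cfsg.Agent.Lib.Helper16.RuM.E3U23
import Cfsg.Agent.Lib.Helper16.RuM.E3U24
import Cfsg.Agent.Lib.Helper16.RuM.E3U25
import Cfsg.Agent.Lib.Helper16.RuM.E3U26
import Cfsg.Agent.Lib.Helper16.RuM.E3U27
import Cfsg.Agent.Lib.Helper16.RuM.E3U28
import Cfsg.Agent.Lib.Helper16.RuM.E3U29
import Cfsg.Agent.Lib.Helper16.RuM.E3U30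
import Cfsg.Agent.Lib.Helper16.RuM.E3U31
import Cfsg.Agent.Lib.Helper16.RuM.E3U32
import Cfsg.Agent.Lib.Helper16.RuM.E3U33
import Cfsg.Agent.Lib.Helper16.RuM.E3U34
import Cfsg.Agent.Lib.Helper16.RuM.E3U35
import Cfsg.Agent.Lib.Helper16.RuM.E3U36
import Cfsg.Agent.Lib.Helper16.RuM.E3U37
import Cfsg.Agent.Lib.Helper16.RuM.E3U38
import Cfsg.Agent.Lib.Helper16.RuM.E3U39
import Cfsg.Agent.Lib.Helper16.RuM.E3U40
import Cfsg.Agent.Lib.Helper16.RuM.E3U41
import Cfsg.Agent.Lib.Helper16.RuM.E3U42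
import Cfsg.Agent.Lib.Helper16.RuM.E3U43
import Cfsg.Agent.Lib.Helper16.RuM.E3U44
import Cfsg.Agent.Lib.Helper16.RuM.E3U45
import Cfsg.Agent.Lib.Helper16.RuM.E3U46
import Cfsg.Agent.Lib.Helper16.RuM.E3U47
import Cfsg.Agent.Lib.Helper16.RuM.E3U48
import Cfsg.Agent.Lib.Helper16.RuM.E3U49
import Cfsg.Agent.Lib.Helper16.RuM.E3U50
import Cfsg.Agent.Lib.Helper16.RuM.E3U51
import Cfsg.Agent.Lib.Helper16.RuM.E3U52
import Cfsg.Agent.Lib.Helper16.RuM.E3U53
import Cfsg.Agent.Lib.Helper16.RuM.E3U54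
import Cfsg.Agent.Lib.Helper16.RuM.E3U55
import Cfsg.Agent.Lib.Helper16.RuM.E3U56
import Cfsg.Agent.Lib.Helper16.RuM.E3U57
import Cfsg.Agent.Lib.Helper16.RuM.E3U58
import Cfsg.Agent.Lib.Helper16.RuM.E3U59
import Cfsg.Agent.Lib.Helper16.RuM.E3U60
import Cfsg.Agent.Lib.Helper16.RuM.E3U61
import Cfsg.Agent.Lib.Helper16.RuM.E3U62
import Cfsg.Agent.Lib.Helper16.RuM.E3U63
import Cfsg.Agent.Lib.Helper16.RuM.E3U64
import Cfsg.Agent.Lib.Helper16.RuM.E3U65
import Cfsg.Agent.Lib.Helper16.RuM.E3U66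
import Cfsg.Agent.Lib.Helper16.RuM.E3U67
import Cfsg.Agent.Lib.Helper16.RuM.E3U68
import Cfsg.Agent.Lib.Helper16.RuM.E3U69
import Cfsg.Agent.Lib.Helper16.RuM.E3U70
import Cfsg.Agent.Lib.Helper16.RuM.E3U71
import Cfsg.Agent.Lib.Helper16.RuM.E3U72
import Cfsg.Agent.Lib.Helper16.RuM.E3U73
import Cfsg.Agent.Lib.Helper16.RuM.E3U74
import Cfsg.Agent.Lib.Helper16.RuM.E3U75
import Cfsg.Agent.Lib.Helper16.RuM.E3U76
import Cfsg.Agent.Lib.Helper16.RuM.E3U77
import Cfsg.Agent.Lib.Helper16.RuM.E3U78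
import Cfsg.Agent.Lib.Helper16.RuM.E3U79
import Cfsg.Agent.Lib.Helper16.RuM.E3U80
import Cfsg.Agent.Lib.Helper16.RuM.E3U81
import Cfsg.Agent.Lib.Helper16.RuM.E3U82
import Cfsg.Agent.Lib.Helper16.RuM.E3U83
import Cfsg.Agent.Lib.Helper16.RuM.E3U84
import Cfsg.Agent.Lib.Helper16.RuM.E3U85
import Cfsg.Agent.Lib.Helper16.RuM.E3U86
import Cfsg.Agent.Lib.Helper16.RuM.E3U87
import Cfsg.Agent.Lib.Helper16.RuM.E3U88
import Cfsg.Agent.Lib.Helper16.RuM.E3U89
import Cfsg.Agent.Lib.Helper16.RuM.E3U90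
import Cfsg.Agent.Lib.Helper16.RuM.E3U91
import Cfsg.Agent.Lib.Helper16.RuM.E3U92
import Cfsg.Agent.Lib.Helper16.RuM.E3U93
import Cfsg.Agent.Lib.Helper16.RuM.E3U94

set_option autoImplicit false
set_option maxRecDepth 100000
open Cfsg

namespace Cfsg.Agent.Lib.Helper16.RuM.E3MainT
open Cfsg.Agent.Lib.Helper28.TC2Upper Cfsg.Agent.Lib.Helper28.TC2Lower Cfsg.Agent.Lib.Helper28.TC2Glue Cfsg.Agent.Lib.Helper28.TC2Range
open Cfsg.Agent.Lib.Helper16.RuM.E3Data Cfsg.Agent.Lib.Helper16.RuM.E3Table Cfsg.Agent.Lib.Helper16.RuM.E3Link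

theorem hchk : ∀ v, v < data.N → data.checkNode v = true := by
  intro v hv
  have hv' : v < 814211 := hv
  rcases Nat.lt_or_ge v 2484 with h0 | h0
  · exact Cfsg.Agent.Lib.Helper16.RuM.E3U0.all v (by omega) (by omega)
  rcases Nat.lt_or_ge v 5254 with h1 | h1
  · exact Cfsg.Agent.Lib.Helper16.RuM.E3U1.all v (by omega) (by omega)
  rcases Nat.lt_or_ge v 8317 with h2 | h2
  · exact Cfsg.Agent.Lib.Helper16.RuM.E3U2.all v (by omega) (by omega)
  rcases Nat.lt_or_ge v 11599 with h3 | h3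
  · exact Cfsg.Agent.Lib.Helper16.RuM.E3U3.all v (by omega) (by omega)
  rcases Nat.lt_or_ge v 14828 with h4 | h4
  · exact Cfsg.Agent.Lib.Helper16.RuM.E3U4.all v (by omega) (by omega)
  rcases Nat.lt_or_ge v 18665 with h5 | h5
  · exact Cfsg.Agent.Lib.Helper16.RuM.E3U5.all v (by omega) (by omega)
  rcases Nat.lt_or_ge v 22505 with h6 | h6
  · exact Cfsg.Agent.Lib.Helper16.RuM.E3U6.all v (by omega) (by omega)
  rcases Nat.lt_or_ge v 26574 with h7 | h7
  · exact Cfsg.Agent.Lib.Helper16.RuM.E3U7.all v (by omega) (by omega)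
  rcases Nat.lt_or_ge v 30862 with h8 | h8
  · exact Cfsg.Agent.Lib.Helper16.RuM.E3U8.all v (by omega) (by omega)
  rcases Nat.lt_or_ge v 35484 with h9 | h9
  · exact Cfsg.Agent.Lib.Helper16.RuM.E3U9.all v (by omega) (by omega)
  rcases Nat.lt_or_ge v 40585 with h10 | h10
  · exact Cfsg.Agent.Lib.Helper16.RuM.E3U10.all v (by omega) (by omega)
  rcases Nat.lt_or_ge v 46222 with h11 | h11
  · exact Cfsg.Agent.Lib.Helper16.RuM.E3U11.all v (by omega) (by omega)
  rcases Nat.lt_or_ge v 53258 with h12 | h12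
  · exact Cfsg.Agent.Lib.Helper16.RuM.E3U12.all v (by omega) (by omega)
  rcases Nat.lt_or_ge v 60101 with h13 | h13
  · exact Cfsg.Agent.Lib.Helper16.RuM.E3U13.all v (by omega) (by omega)
  rcases Nat.lt_or_ge v 66224 with h14 | h14
  · exact Cfsg.Agent.Lib.Helper16.RuM.E3U14.all v (by omega) (by omega)
  rcases Nat.lt_or_ge v 74000 with h15 | h15
  · exact Cfsg.Agent.Lib.Helper16.RuM.E3U15.all v (by omega) (by omega)
  rcases Nat.lt_or_ge v 82517 with h16 | h16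
  · exact Cfsg.Agent.Lib.Helper16.RuM.E3U16.all v (by omega) (by omega)
  rcases Nat.lt_or_ge v 90090 with h17 | h17
  · exact Cfsg.Agent.Lib.Helper16.RuM.E3U17.all v (by omega) (by omega)
  rcases Nat.lt_or_ge v 98791 with h18 | h18
  · exact Cfsg.Agent.Lib.Helper16.RuM.E3U18.all v (by omega) (by omega)
  rcases Nat.lt_or_ge v 107549 with h19 | h19
  · exact Cfsg.Agent.Lib.Helper16.RuM.E3U19.all v (by omega) (by omega)
  rcases Nat.lt_or_ge v 114801 with h20 | h20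
  · exact Cfsg.Agent.Lib.Helper16.RuM.E3U20.all v (by omega) (by omega)
  rcases Nat.lt_or_ge v 121799 with h21 | h21
  · exact Cfsg.Agent.Lib.Helper16.RuM.E3U21.all v (by omega) (by omega)
  rcases Nat.lt_or_ge v 128423 with h22 | h22
  · exact Cfsg.Agent.Lib.Helper16.RuM.E3U22.all v (by omega) (by omega)
  rcases Nat.lt_or_ge v 135260 with h23 | h23
  · exact Cfsg.Agent.Lib.Helper16.RuM.E3U23.all v (by omega) (by omega)
  rcases Nat.lt_or_ge v 142685 with h24 | h24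
  · exact Cfsg.Agent.Lib.Helper16.RuM.E3U24.all v (by omega) (by omega)
  rcases Nat.lt_or_ge v 150258 with h25 | h25
  · exact Cfsg.Agent.Lib.Helper16.RuM.E3U25.all v (by omega) (by omega)
  rcases Nat.lt_or_ge v 158212 with h26 | h26
  · exact Cfsg.Agent.Lib.Helper16.RuM.E3U26.all v (by omega) (by omega)
  rcases Nat.lt_or_ge v 166751 with h27 | h27
  · exact Cfsg.Agent.Lib.Helper16.RuM.E3U27.all v (by omega) (by omega)
  rcases Nat.lt_or_ge v 175641 with h28 | h28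
  · exact Cfsg.Agent.Lib.Helper16.RuM.E3U28.all v (by omega) (by omega)
  rcases Nat.lt_or_ge v 184657 with h29 | h29
  · exact Cfsg.Agent.Lib.Helper16.RuM.E3U29.all v (by omega) (by omega)
  rcases Nat.lt_or_ge v 194213 with h30 | h30
  · exact Cfsg.Agent.Lib.Helper16.RuM.E3U30.all v (by omega) (by omega)
  rcases Nat.lt_or_ge v 204315 with h31 | h31
  · exact Cfsg.Agent.Lib.Helper16.RuM.E3U31.all v (by omega) (by omega)
  rcases Nat.lt_or_ge v 214158 with h32 | h32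
  · exact Cfsg.Agent.Lib.Helper16.RuM.E3U32.all v (by omega) (by omega)
  rcases Nat.lt_or_ge v 223413 with h33 | h33
  · exact Cfsg.Agent.Lib.Helper16.RuM.E3U33.all v (by omega) (by omega)
  rcases Nat.lt_or_ge v 233483 with h34 | h34
  · exact Cfsg.Agent.Lib.Helper16.RuM.E3U34.all v (by omega) (by omega)
  rcases Nat.lt_or_ge v 243080 with h35 | h35
  · exact Cfsg.Agent.Lib.Helper16.RuM.E3U35.all v (by omega) (by omega)
  rcases Nat.lt_or_ge v 251775 with h36 | h36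
  · exact Cfsg.Agent.Lib.Helper16.RuM.E3U36.all v (by omega) (by omega)
  rcases Nat.lt_or_ge v 261312 with h37 | h37
  · exact Cfsg.Agent.Lib.Helper16.RuM.E3U37.all v (by omega) (by omega)
  rcases Nat.lt_or_ge v 271358 with h38 | h38
  · exact Cfsg.Agent.Lib.Helper16.RuM.E3U38.all v (by omega) (by omega)
  rcases Nat.lt_or_ge v 281884 with h39 | h39
  · exact Cfsg.Agent.Lib.Helper16.RuM.E3U39.all v (by omega) (by omega)
  rcases Nat.lt_or_ge v 291580 with h40 | h40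
  · exact Cfsg.Agent.Lib.Helper16.RuM.E3U40.all v (by omega) (by omega)
  rcases Nat.lt_or_ge v 300201 with h41 | h41
  · exact Cfsg.Agent.Lib.Helper16.RuM.E3U41.all v (by omega) (by omega)
  rcases Nat.lt_or_ge v 309875 with h42 | h42
  · exact Cfsg.Agent.Lib.Helper16.RuM.E3U42.all v (by omega) (by omega)
  rcases Nat.lt_or_ge v 318740 with h43 | h43
  · exact Cfsg.Agent.Lib.Helper16.RuM.E3U43.all v (by omega) (by omega)
  rcases Nat.lt_or_ge v 327900 with h44 | h44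
  · exact Cfsg.Agent.Lib.Helper16.RuM.E3U44.all v (by omega) (by omega)
  rcases Nat.lt_or_ge v 338437 with h45 | h45
  · exact Cfsg.Agent.Lib.Helper16.RuM.E3U45.all v (by omega) (by omega)
  rcases Nat.lt_or_ge v 348668 with h46 | h46
  · exact Cfsg.Agent.Lib.Helper16.RuM.E3U46.all v (by omega) (by omega)
  rcases Nat.lt_or_ge v 358273 with h47 | h47
  · exact Cfsg.Agent.Lib.Helper16.RuM.E3U47.all v (by omega) (by omega)
  rcases Nat.lt_or_ge v 367693 with h48 | h48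
  · exact Cfsg.Agent.Lib.Helper16.RuM.E3U48.all v (by omega) (by omega)
  rcases Nat.lt_or_ge v 377296 with h49 | h49
  · exact Cfsg.Agent.Lib.Helper16.RuM.E3U49.all v (by omega) (by omega)
  rcases Nat.lt_or_ge v 386653 with h50 | h50
  · exact Cfsg.Agent.Lib.Helper16.RuM.E3U50.all v (by omega) (by omega)
  rcases Nat.lt_or_ge v 396198 with h51 | h51
  · exact Cfsg.Agent.Lib.Helper16.RuM.E3U51.all v (by omega) (by omega)
  rcases Nat.lt_or_ge v 405125 with h52 | h52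
  · exact Cfsg.Agent.Lib.Helper16.RuM.E3U52.all v (by omega) (by omega)
  rcases Nat.lt_or_ge v 414175 with h53 | h53
  · exact Cfsg.Agent.Lib.Helper16.RuM.E3U53.all v (by omega) (by omega)
  rcases Nat.lt_or_ge v 422331 with h54 | h54
  · exact Cfsg.Agent.Lib.Helper16.RuM.E3U54.all v (by omega) (by omega)
  rcases Nat.lt_or_ge v 431676 with h55 | h55
  · exact Cfsg.Agent.Lib.Helper16.RuM.E3U55.all v (by omega) (by omega)
  rcases Nat.lt_or_ge v 440937 with h56 | h56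
  · exact Cfsg.Agent.Lib.Helper16.RuM.E3U56.all v (by omega) (by omega)
  rcases Nat.lt_or_ge v 450954 with h57 | h57
  · exact Cfsg.Agent.Lib.Helper16.RuM.E3U57.all v (by omega) (by omega)
  rcases Nat.lt_or_ge v 460191 with h58 | h58
  · exact Cfsg.Agent.Lib.Helper16.RuM.E3U58.all v (by omega) (by omega)
  rcases Nat.lt_or_ge v 470222 with h59 | h59
  · exact Cfsg.Agent.Lib.Helper16.RuM.E3U59.all v (by omega) (by omega)
  rcases Nat.lt_or_ge v 479949 with h60 | h60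
  · exact Cfsg.Agent.Lib.Helper16.RuM.E3U60.all v (by omega) (by omega)
  rcases Nat.lt_or_ge v 489293 with h61 | h61
  · exact Cfsg.Agent.Lib.Helper16.RuM.E3U61.all v (by omega) (by omega)
  rcases Nat.lt_or_ge v 497518 with h62 | h62
  · exact Cfsg.Agent.Lib.Helper16.RuM.E3U62.all v (by omega) (by omega)
  rcases Nat.lt_or_ge v 506962 with h63 | h63
  · exact Cfsg.Agent.Lib.Helper16.RuM.E3U63.all v (by omega) (by omega)
  rcases Nat.lt_or_ge v 516037 with h64 | h64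
  · exact Cfsg.Agent.Lib.Helper16.RuM.E3U64.all v (by omega) (by omega)
  rcases Nat.lt_or_ge v 525683 with h65 | h65
  · exact Cfsg.Agent.Lib.Helper16.RuM.E3U65.all v (by omega) (by omega)
  rcases Nat.lt_or_ge v 535296 with h66 | h66
  · exact Cfsg.Agent.Lib.Helper16.RuM.E3U66.all v (by omega) (by omega)
  rcases Nat.lt_or_ge v 545125 with h67 | h67
  · exact Cfsg.Agent.Lib.Helper16.RuM.E3U67.all v (by omega) (by omega)
  rcases Nat.lt_or_ge v 554748 with h68 | h68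
  · exact Cfsg.Agent.Lib.Helper16.RuM.E3U68.all v (by omega) (by omega)
  rcases Nat.lt_or_ge v 563705 with h69 | h69
  · exact Cfsg.Agent.Lib.Helper16.RuM.E3U69.all v (by omega) (by omega)
  rcases Nat.lt_or_ge v 573075 with h70 | h70
  · exact Cfsg.Agent.Lib.Helper16.RuM.E3U70.all v (by omega) (by omega)
  rcases Nat.lt_or_ge v 583217 with h71 | h71
  · exact Cfsg.Agent.Lib.Helper16.RuM.E3U71.all v (by omega) (by omega)
  rcases Nat.lt_or_ge v 593103 with h72 | h72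
  · exact Cfsg.Agent.Lib.Helper16.RuM.E3U72.all v (by omega) (by omega)
  rcases Nat.lt_or_ge v 603427 with h73 | h73
  · exact Cfsg.Agent.Lib.Helper16.RuM.E3U73.all v (by omega) (by omega)
  rcases Nat.lt_or_ge v 611972 with h74 | h74
  · exact Cfsg.Agent.Lib.Helper16.RuM.E3U74.all v (by omega) (by omega)
  rcases Nat.lt_or_ge v 621239 with h75 | h75
  · exact Cfsg.Agent.Lib.Helper16.RuM.E3U75.all v (by omega) (by omega)
  rcases Nat.lt_or_ge v 631821 with h76 | h76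
  · exact Cfsg.Agent.Lib.Helper16.RuM.E3U76.all v (by omega) (by omega)
  rcases Nat.lt_or_ge v 640931 with h77 | h77
  · exact Cfsg.Agent.Lib.Helper16.RuM.E3U77.all v (by omega) (by omega)
  rcases Nat.lt_or_ge v 651117 with h78 | h78
  · exact Cfsg.Agent.Lib.Helper16.RuM.E3U78.all v (by omega) (by omega)
  rcases Nat.lt_or_ge v 661649 with h79 | h79
  · exact Cfsg.Agent.Lib.Helper16.RuM.E3U79.all v (by omega) (by omega)
  rcases Nat.lt_or_ge v 672491 with h80 | h80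
  · exact Cfsg.Agent.Lib.Helper16.RuM.E3U80.all v (by omega) (by omega)
  rcases Nat.lt_or_ge v 681957 with h81 | h81
  · exact Cfsg.Agent.Lib.Helper16.RuM.E3U81.all v (by omega) (by omega)
  rcases Nat.lt_or_ge v 692512 with h82 | h82
  · exact Cfsg.Agent.Lib.Helper16.RuM.E3U82.all v (by omega) (by omega)
  rcases Nat.lt_or_ge v 703040 with h83 | h83
  · exact Cfsg.Agent.Lib.Helper16.RuM.E3U83.all v (by omega) (by omega)
  rcases Nat.lt_or_ge v 713983 with h84 | h84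
  · exact Cfsg.Agent.Lib.Helper16.RuM.E3U84.all v (by omega) (by omega)
  rcases Nat.lt_or_ge v 723681 with h85 | h85
  · exact Cfsg.Agent.Lib.Helper16.RuM.E3U85.all v (by omega) (by omega)
  rcases Nat.lt_or_ge v 734503 with h86 | h86
  · exact Cfsg.Agent.Lib.Helper16.RuM.E3U86.all v (by omega) (by omega)
  rcases Nat.lt_or_ge v 744658 with h87 | h87
  · exact Cfsg.Agent.Lib.Helper16.RuM.E3U87.all v (by omega) (by omega)
  rcases Nat.lt_or_ge v 755565 with h88 | h88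
  · exact Cfsg.Agent.Lib.Helper16.RuM.E3U88.all v (by omega) (by omega)
  rcases Nat.lt_or_ge v 765775 with h89 | h89
  · exact Cfsg.Agent.Lib.Helper16.RuM.E3U89.all v (by omega) (by omega)
  rcases Nat.lt_or_ge v 776772 with h90 | h90
  · exact Cfsg.Agent.Lib.Helper16.RuM.E3U90.all v (by omega) (by omega)
  rcases Nat.lt_or_ge v 787404 with h91 | h91
  · exact Cfsg.Agent.Lib.Helper16.RuM.E3U91.all v (by omega) (by omega)
  rcases Nat.lt_or_ge v 797730 with h92 | h92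
  · exact Cfsg.Agent.Lib.Helper16.RuM.E3U92.all v (by omega) (by omega)
  rcases Nat.lt_or_ge v 808077 with h93 | h93
  · exact Cfsg.Agent.Lib.Helper16.RuM.E3U93.all v (by omega) (by omega)
  exact Cfsg.Agent.Lib.Helper16.RuM.E3U94.all v (by omega) (by omega)

/-- the target words lie in the subgroup -/
theorem hmem : ∀ L ∈ Cfsg.Agent.Lib.Helper16.RuM.E3W.targets,
    PresentedGroup.mk rels (FreeGroup.mk L) ∈ (Subgroup.closure S).map (PresentedGroup.mk rels) :=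
  fun L hL => Cfsg.Agent.Lib.Helper16.RuM.Target.mem_of_walk link hchk L (Cfsg.Agent.Lib.Helper16.RuM.E3W.walk_all L hL)

end Cfsg.Agent.Lib.Helper16.RuM.E3MainT
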