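import Cfsg.Agent.Lib.Helper16.RuM.E3Data
import Cfsg.Agent.Lib.Helper16.RuM.E3U80
set_option autoImplicit false
set_option maxRecDepth 100000
set_option maxHeartbeats 0

namespace Cfsg.Agent.Lib.Helper16.RuM.E3U90
open Cfsg.Agent.Lib.Helper28.TC2Upper Cfsg.Agent.Lib.Helper16.RuM.E3Data

theorem chk450 : data.checkRange 765775 2266 = true := by decide +kernel
theorem chk451 : data.checkRange 768041 2186 = true := by decide +kernel
theorem chk452 : data.checkRange 770227 2188 = true := by decide +kernel
theorem chk453 : data.checkRange 772415 2209 = true := by decide +kernel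
theorem chk454 : data.checkRange 774624 2148 = true := by decide +kernel

theorem all : ∀ v, 765775 ≤ v → v < 776772 → data.checkNode v = true := by
  intro v h1 h2
  rcases Nat.lt_or_ge v 768041 with h | h
  · exact (data.checkRange_iff 765775 2266).mp chk450 v (by omega) (by omega)
  rcases Nat.lt_or_ge v 770227 with h | h
  · exact (data.checkRange_iff 768041 2186).mp chk451 v (by omega) (by omega)
  rcases Nat.lt_or_ge v 772415 with h | h
  · exact (data.checkRange_iff 770227 2188).mp chk452 v (by omega) (by omega)
  rcases Nat.lt_or_ge v 774624 with h | h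
  · exact (data.checkRange_iff 772415 2209).mp chk453 v (by omega) (by omega)
  exact (data.checkRange_iff 774624 2148).mp chk454 v (by omega) (by omega)

end Cfsg.Agent.Lib.Helper16.RuM.E3U90
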