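import Cfsg.Agent.Lib.Helper28.TC2Range
import Cfsg.Agent.Lib.Helper16.McLM.CoverLow
import Cfsg.Agent.Lib.Helper16.RuM.LCovTable
set_option autoImplicit false
set_option maxRecDepth 100000
set_option maxHeartbeats 0

namespace Cfsg.Agent.Lib.Helper16.RuM.LCovC1
open Cfsg.Agent.Lib.Helper28.TC2Upper Cfsg.Agent.Lib.Helper28.TC2Lower Cfsg.Agent.Lib.Helper28.TC2Range Cfsg.Agent.Lib.Helper16.McLM.CoverLow Cfsg.Agent.Lib.Helper16.RuM.LCovTable

theorem cm0 : table.relOK commPaths 0 6000 = true := by decide +kernel
theorem cm1 : table.relOK commPaths 6000 6000 = true := by decide +kernel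
theorem cm2 : table.relOK commPaths 12000 4240 = true := by decide +kernel
theorem rel0 : table.relOK relzPaths 0 207 = true := by decide +kernel
theorem rel1 : table.relOK relzPaths 207 207 = true := by decide +kernel

end Cfsg.Agent.Lib.Helper16.RuM.LCovC1
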