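import Cfsg.Agent.Lib.Helper28.TC2Range
import Cfsg.Agent.Lib.Helper16.McLM.CoverLow
import Cfsg.Agent.Lib.Helper16.RuM.LCovTable
set_option autoImplicit false
set_option maxRecDepth 100000
set_option maxHeartbeats 0

namespace Cfsg.Agent.Lib.Helper16.RuM.LCovC2
open Cfsg.Agent.Lib.Helper28.TC2Upper Cfsg.Agent.Lib.Helper28.TC2Lower Cfsg.Agent.Lib.Helper28.TC2Range Cfsg.Agent.Lib.Helper16.McLM.CoverLow Cfsg.Agent.Lib.Helper16.RuM.LCovTable

theorem rel2 : table.relOK relzPaths 414 207 = true := by decide +kernel
theorem rel3 : table.relOK relzPaths 621 207 = true := by decide +kernel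
theorem rel4 : table.relOK relzPaths 828 207 = true := by decide +kernel
theorem rel5 : table.relOK relzPaths 1035 207 = true := by decide +kernel
theorem rel6 : table.relOK relzPaths 1242 207 = true := by decide +kernel

end Cfsg.Agent.Lib.Helper16.RuM.LCovC2
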