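import Cfsg.Agent.Lib.Helper28.TC2Range
import Cfsg.Agent.Lib.Helper16.McLM.CoverLow
import Cfsg.Agent.Lib.Helper16.RuM.LCovTable
import Cfsg.Agent.Lib.Helper16.RuM.LCovC1
set_option autoImplicit false
set_option maxRecDepth 100000
set_option maxHeartbeats 0

namespace Cfsg.Agent.Lib.Helper16.RuM.LCovC6
open Cfsg.Agent.Lib.Helper28.TC2Upper Cfsg.Agent.Lib.Helper28.TC2Lower Cfsg.Agent.Lib.Helper28.TC2Range Cfsg.Agent.Lib.Helper16.McLM.CoverLow Cfsg.Agent.Lib.Helper16.RuM.LCovTable

theorem rel22 : table.relOK relzPaths 4554 207 = true := by decide +kernel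
theorem rel23 : table.relOK relzPaths 4761 207 = true := by decide +kernel
theorem rel24 : table.relOK relzPaths 4968 207 = true := by decide +kernel
theorem rel25 : table.relOK relzPaths 5175 207 = true := by decide +kernel
theorem rel26 : table.relOK relzPaths 5382 207 = true := by decide +kernel

end Cfsg.Agent.Lib.Helper16.RuM.LCovC6
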