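import Cfsg.Agent.Lib.Helper28.TC2Range
import Cfsg.Agent.Lib.Helper16.McLM.CoverLow
import Cfsg.Agent.Lib.Helper16.RuM.LCovTable
import Cfsg.Agent.Lib.Helper16.RuM.LCovC2
set_option autoImplicit false
set_option maxRecDepth 100000
set_option maxHeartbeats 0

namespace Cfsg.Agent.Lib.Helper16.RuM.LCovC7
open Cfsg.Agent.Lib.Helper28.TC2Upper Cfsg.Agent.Lib.Helper28.TC2Lower Cfsg.Agent.Lib.Helper28.TC2Range Cfsg.Agent.Lib.Helper16.McLM.CoverLow Cfsg.Agent.Lib.Helper16.RuM.LCovTable

theorem rel27 : table.relOK relzPaths 5589 207 = true := by decide +kernel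
theorem rel28 : table.relOK relzPaths 5796 207 = true := by decide +kernel
theorem rel29 : table.relOK relzPaths 6003 207 = true := by decide +kernel
theorem rel30 : table.relOK relzPaths 6210 207 = true := by decide +kernel
theorem rel31 : table.relOK relzPaths 6417 207 = true := by decide +kernel

end Cfsg.Agent.Lib.Helper16.RuM.LCovC7
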