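import Cfsg.Agent.Lib.Helper28.TC2Range
import Cfsg.Agent.Lib.Helper16.McLM.CoverLow
import Cfsg.Agent.Lib.Helper16.RuM.LCovTable
import Cfsg.Agent.Lib.Helper16.RuM.LCovC0
import Cfsg.Agent.Lib.Helper16.RuM.LCovC1
import Cfsg.Agent.Lib.Helper16.RuM.LCovC2
import Cfsg.Agent.Lib.Helper16.RuM.LCovC3
import Cfsg.Agent.Lib.Helper16.RuM.LCovC4
import Cfsg.Agent.Lib.Helper16.RuM.LCovC5
import Cfsg.Agent.Lib.Helper16.RuM.LCovC6
import Cfsg.Agent.Lib.Helper16.RuM.LCovC7
import Cfsg.Agent.Lib.Helper16.RuM.LCovC8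
import Cfsg.Agent.Lib.Helper16.RuM.LCovC9

set_option autoImplicit false
set_option maxRecDepth 100000

namespace Cfsg.Agent.Lib.Helper16.RuM.LCovLow
open Cfsg.Agent.Lib.Helper28.TC2Upper Cfsg.Agent.Lib.Helper28.TC2Lower Cfsg.Agent.Lib.Helper28.TC2Range Cfsg.Agent.Lib.Helper16.McLM.CoverLow Cfsg.Agent.Lib.Helper16.RuM.LCovTable

theorem hpermAll : ∀ p, p < table.n → Table.permRow table p = true := by
  intro p hv
  have hv' : p < 16240 := hv
  rcases Nat.lt_or_ge p 6000 with h0 | h0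
  · exact (Table.permRange_iff table 0 6000).mp Cfsg.Agent.Lib.Helper16.RuM.LCovC0.prm0 p (by omega) (by omega)
  rcases Nat.lt_or_ge p 12000 with h1 | h1
  · exact (Table.permRange_iff table 6000 6000).mp Cfsg.Agent.Lib.Helper16.RuM.LCovC0.prm1 p (by omega) (by omega)
  exact (Table.permRange_iff table 12000 4240).mp Cfsg.Agent.Lib.Helper16.RuM.LCovC0.prm2 p (by omega) (by omega)

theorem hT : table.OK := Table.ok_of_rows table Cfsg.Agent.Lib.Helper16.RuM.LCovC0.hinvOK hpermAll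

theorem hz : ∀ q, q < table.n → table.tau 12 q = (q + 8120) % table.n := by
  intro q hv
  have hv' : q < 16240 := hv
  exact (zRange_iff table 12 8120 0 16240).mp Cfsg.Agent.Lib.Helper16.RuM.LCovC0.zr0 q (by omega) (by omega)

theorem hcommT : ∀ P ∈ commPaths, ∀ p, p < table.n → table.walkT P p = p := by
  intro P hm p hv
  have hv' : p < 16240 := hv
  rcases Nat.lt_or_ge p 6000 with h0 | h0
  · exact (Table.relOK_iff commPaths 0 6000).mp Cfsg.Agent.Lib.Helper16.RuM.LCovC1.cm0 p (by omega) (by omega) _ hm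
  rcases Nat.lt_or_ge p 12000 with h1 | h1
  · exact (Table.relOK_iff commPaths 6000 6000).mp Cfsg.Agent.Lib.Helper16.RuM.LCovC1.cm1 p (by omega) (by omega) _ hm
  exact (Table.relOK_iff commPaths 12000 4240).mp Cfsg.Agent.Lib.Helper16.RuM.LCovC1.cm2 p (by omega) (by omega) _ hm

theorem hrelzT : ∀ P ∈ relzPaths, ∀ p, p < 8120 → table.walkT P p = p := by
  intro P hm p hv
  have hv' : p < 8120 := hv
  rcases Nat.lt_or_ge p 207 with h0 | h0
  · exact (Table.relOK_iff relzPaths 0 207).mp Cfsg.Agent.Lib.Helper16.RuM.LCovC1.rel0 p (by omega) (by omega) _ hm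
  rcases Nat.lt_or_ge p 414 with h1 | h1
  · exact (Table.relOK_iff relzPaths 207 207).mp Cfsg.Agent.Lib.Helper16.RuM.LCovC1.rel1 p (by omega) (by omega) _ hm
  rcases Nat.lt_or_ge p 621 with h2 | h2
  · exact (Table.relOK_iff relzPaths 414 207).mp Cfsg.Agent.Lib.Helper16.RuM.LCovC2.rel2 p (by omega) (by omega) _ hm
  rcases Nat.lt_or_ge p 828 with h3 | h3
  · exact (Table.relOK_iff relzPaths 621 207).mp Cfsg.Agent.Lib.Helper16.RuM.LCovC2.rel3 p (by omega) (by omega) _ hm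
  rcases Nat.lt_or_ge p 1035 with h4 | h4
  · exact (Table.relOK_iff relzPaths 828 207).mp Cfsg.Agent.Lib.Helper16.RuM.LCovC2.rel4 p (by omega) (by omega) _ hm
  rcases Nat.lt_or_ge p 1242 with h5 | h5
  · exact (Table.relOK_iff relzPaths 1035 207).mp Cfsg.Agent.Lib.Helper16.RuM.LCovC2.rel5 p (by omega) (by omega) _ hm
  rcases Nat.lt_or_ge p 1449 with h6 | h6
  · exact (Table.relOK_iff relzPaths 1242 207).mp Cfsg.Agent.Lib.Helper16.RuM.LCovC2.rel6 p (by omega) (by omega) _ hm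
  rcases Nat.lt_or_ge p 1656 with h7 | h7
  · exact (Table.relOK_iff relzPaths 1449 207).mp Cfsg.Agent.Lib.Helper16.RuM.LCovC3.rel7 p (by omega) (by omega) _ hm
  rcases Nat.lt_or_ge p 1863 with h8 | h8
  · exact (Table.relOK_iff relzPaths 1656 207).mp Cfsg.Agent.Lib.Helper16.RuM.LCovC3.rel8 p (by omega) (by omega) _ hm
  rcases Nat.lt_or_ge p 2070 with h9 | h9
  · exact (Table.relOK_iff relzPaths 1863 207).mp Cfsg.Agent.Lib.Helper16.RuM.LCovC3.rel9 p (by omega) (by omega) _ hm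
  rcases Nat.lt_or_ge p 2277 with h10 | h10
  · exact (Table.relOK_iff relzPaths 2070 207).mp Cfsg.Agent.Lib.Helper16.RuM.LCovC3.rel10 p (by omega) (by omega) _ hm
  rcases Nat.lt_or_ge p 2484 with h11 | h11
  · exact (Table.relOK_iff relzPaths 2277 207).mp Cfsg.Agent.Lib.Helper16.RuM.LCovC3.rel11 p (by omega) (by omega) _ hm
  rcases Nat.lt_or_ge p 2691 with h12 | h12
  · exact (Table.relOK_iff relzPaths 2484 207).mp Cfsg.Agent.Lib.Helper16.RuM.LCovC4.rel12 p (by omega) (by omega) _ hm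
  rcases Nat.lt_or_ge p 2898 with h13 | h13
  · exact (Table.relOK_iff relzPaths 2691 207).mp Cfsg.Agent.Lib.Helper16.RuM.LCovC4.rel13 p (by omega) (by omega) _ hm
  rcases Nat.lt_or_ge p 3105 with h14 | h14
  · exact (Table.relOK_iff relzPaths 2898 207).mp Cfsg.Agent.Lib.Helper16.RuM.LCovC4.rel14 p (by omega) (by omega) _ hm
  rcases Nat.lt_or_ge p 3312 with h15 | h15
  · exact (Table.relOK_iff relzPaths 3105 207).mp Cfsg.Agent.Lib.Helper16.RuM.LCovC4.rel15 p (by omega) (by omega) _ hm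
  rcases Nat.lt_or_ge p 3519 with h16 | h16
  · exact (Table.relOK_iff relzPaths 3312 207).mp Cfsg.Agent.Lib.Helper16.RuM.LCovC4.rel16 p (by omega) (by omega) _ hm
  rcases Nat.lt_or_ge p 3726 with h17 | h17
  · exact (Table.relOK_iff relzPaths 3519 207).mp Cfsg.Agent.Lib.Helper16.RuM.LCovC5.rel17 p (by omega) (by omega) _ hm
  rcases Nat.lt_or_ge p 3933 with h18 | h18
  · exact (Table.relOK_iff relzPaths 3726 207).mp Cfsg.Agent.Lib.Helper16.RuM.LCovC5.rel18 p (by omega) (by omega) _ hm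
  rcases Nat.lt_or_ge p 4140 with h19 | h19
  · exact (Table.relOK_iff relzPaths 3933 207).mp Cfsg.Agent.Lib.Helper16.RuM.LCovC5.rel19 p (by omega) (by omega) _ hm
  rcases Nat.lt_or_ge p 4347 with h20 | h20
  · exact (Table.relOK_iff relzPaths 4140 207).mp Cfsg.Agent.Lib.Helper16.RuM.LCovC5.rel20 p (by omega) (by omega) _ hm
  rcases Nat.lt_or_ge p 4554 with h21 | h21
  · exact (Table.relOK_iff relzPaths 4347 207).mp Cfsg.Agent.Lib.Helper16.RuM.LCovC5.rel21 p (by omega) (by omega) _ hm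
  rcases Nat.lt_or_ge p 4761 with h22 | h22
  · exact (Table.relOK_iff relzPaths 4554 207).mp Cfsg.Agent.Lib.Helper16.RuM.LCovC6.rel22 p (by omega) (by omega) _ hm
  rcases Nat.lt_or_ge p 4968 with h23 | h23
  · exact (Table.relOK_iff relzPaths 4761 207).mp Cfsg.Agent.Lib.Helper16.RuM.LCovC6.rel23 p (by omega) (by omega) _ hm
  rcases Nat.lt_or_ge p 5175 with h24 | h24
  · exact (Table.relOK_iff relzPaths 4968 207).mp Cfsg.Agent.Lib.Helper16.RuM.LCovC6.rel24 p (by omega) (by omega) _ hm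
  rcases Nat.lt_or_ge p 5382 with h25 | h25
  · exact (Table.relOK_iff relzPaths 5175 207).mp Cfsg.Agent.Lib.Helper16.RuM.LCovC6.rel25 p (by omega) (by omega) _ hm
  rcases Nat.lt_or_ge p 5589 with h26 | h26
  · exact (Table.relOK_iff relzPaths 5382 207).mp Cfsg.Agent.Lib.Helper16.RuM.LCovC6.rel26 p (by omega) (by omega) _ hm
  rcases Nat.lt_or_ge p 5796 with h27 | h27
  · exact (Table.relOK_iff relzPaths 5589 207).mp Cfsg.Agent.Lib.Helper16.RuM.LCovC7.rel27 p (by omega) (by omega) _ hm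
  rcases Nat.lt_or_ge p 6003 with h28 | h28
  · exact (Table.relOK_iff relzPaths 5796 207).mp Cfsg.Agent.Lib.Helper16.RuM.LCovC7.rel28 p (by omega) (by omega) _ hm
  rcases Nat.lt_or_ge p 6210 with h29 | h29
  · exact (Table.relOK_iff relzPaths 6003 207).mp Cfsg.Agent.Lib.Helper16.RuM.LCovC7.rel29 p (by omega) (by omega) _ hm
  rcases Nat.lt_or_ge p 6417 with h30 | h30
  · exact (Table.relOK_iff relzPaths 6210 207).mp Cfsg.Agent.Lib.Helper16.RuM.LCovC7.rel30 p (by omega) (by omega) _ hm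
  rcases Nat.lt_or_ge p 6624 with h31 | h31
  · exact (Table.relOK_iff relzPaths 6417 207).mp Cfsg.Agent.Lib.Helper16.RuM.LCovC7.rel31 p (by omega) (by omega) _ hm
  rcases Nat.lt_or_ge p 6831 with h32 | h32
  · exact (Table.relOK_iff relzPaths 6624 207).mp Cfsg.Agent.Lib.Helper16.RuM.LCovC8.rel32 p (by omega) (by omega) _ hm
  rcases Nat.lt_or_ge p 7038 with h33 | h33
  · exact (Table.relOK_iff relzPaths 6831 207).mp Cfsg.Agent.Lib.Helper16.RuM.LCovC8.rel33 p (by omega) (by omega) _ hm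
  rcases Nat.lt_or_ge p 7245 with h34 | h34
  · exact (Table.relOK_iff relzPaths 7038 207).mp Cfsg.Agent.Lib.Helper16.RuM.LCovC8.rel34 p (by omega) (by omega) _ hm
  rcases Nat.lt_or_ge p 7452 with h35 | h35
  · exact (Table.relOK_iff relzPaths 7245 207).mp Cfsg.Agent.Lib.Helper16.RuM.LCovC8.rel35 p (by omega) (by omega) _ hm
  rcases Nat.lt_or_ge p 7659 with h36 | h36
  · exact (Table.relOK_iff relzPaths 7452 207).mp Cfsg.Agent.Lib.Helper16.RuM.LCovC8.rel36 p (by omega) (by omega) _ hm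
  rcases Nat.lt_or_ge p 7866 with h37 | h37
  · exact (Table.relOK_iff relzPaths 7659 207).mp Cfsg.Agent.Lib.Helper16.RuM.LCovC9.rel37 p (by omega) (by omega) _ hm
  rcases Nat.lt_or_ge p 8073 with h38 | h38
  · exact (Table.relOK_iff relzPaths 7866 207).mp Cfsg.Agent.Lib.Helper16.RuM.LCovC9.rel38 p (by omega) (by omega) _ hm
  exact (Table.relOK_iff relzPaths 8073 47).mp Cfsg.Agent.Lib.Helper16.RuM.LCovC9.rel39 p (by omega) (by omega) _ hm

end Cfsg.Agent.Lib.Helper16.RuM.LCovLow
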