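import Cfsg.Agent.Lib.Helper28.TC2Glue
import Cfsg.Agent.Lib.Helper28.TC2Range
import Cfsg.Agent.Lib.Helper16.RuM.P1Link
import Cfsg.Agent.Lib.Helper16.RuM.P1M0
import Cfsg.Agent.Lib.Helper16.RuM.P1U0
import Cfsg.Agent.Lib.Helper16.RuM.P1U1

set_option autoImplicit false
set_option maxRecDepth 100000
open Cfsg

namespace Cfsg.Agent.Lib.Helper16.RuM.P1MainU
open Cfsg.Agent.Lib.Helper28.TC2Upper Cfsg.Agent.Lib.Helper28.TC2Lower Cfsg.Agent.Lib.Helper28.TC2Glue Cfsg.Agent.Lib.Helper28.TC2Range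
open Cfsg.Agent.Lib.Helper16.RuM.P1Data Cfsg.Agent.Lib.Helper16.RuM.P1Table Cfsg.Agent.Lib.Helper16.RuM.P1Link

theorem hchk : ∀ v, v < data.N → data.checkNode v = true := by
  intro v hv
  have hv' : v < 7152 := hv
  rcases Nat.lt_or_ge v 1193 with h0 | h0
  · exact (data.checkRange_iff 0 1193).mp Cfsg.Agent.Lib.Helper16.RuM.P1U0.chk0 v (by omega) (by omega)
  rcases Nat.lt_or_ge v 2400 with h1 | h1
  · exact (data.checkRange_iff 1193 1207).mp Cfsg.Agent.Lib.Helper16.RuM.P1U0.chk1 v (by omega) (by omega)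
  rcases Nat.lt_or_ge v 3632 with h2 | h2
  · exact (data.checkRange_iff 2400 1232).mp Cfsg.Agent.Lib.Helper16.RuM.P1U0.chk2 v (by omega) (by omega)
  rcases Nat.lt_or_ge v 4908 with h3 | h3
  · exact (data.checkRange_iff 3632 1276).mp Cfsg.Agent.Lib.Helper16.RuM.P1U0.chk3 v (by omega) (by omega)
  rcases Nat.lt_or_ge v 6208 with h4 | h4
  · exact (data.checkRange_iff 4908 1300).mp Cfsg.Agent.Lib.Helper16.RuM.P1U0.chk4 v (by omega) (by omega)
  exact (data.checkRange_iff 6208 944).mp Cfsg.Agent.Lib.Helper16.RuM.P1U1.chk5 v (by omega) (by omega)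

theorem hrows : ∀ v, v < data.N → Data.rowOK data v = true := by
  intro v hv
  have hv' : v < 7152 := hv
  rcases Nat.lt_or_ge v 6000 with h0 | h0
  · exact (Data.finalRange_iff data 0 6000).mp Cfsg.Agent.Lib.Helper16.RuM.P1M0.fin0 v (by omega) (by omega)
  exact (Data.finalRange_iff data 6000 1152).mp Cfsg.Agent.Lib.Helper16.RuM.P1M0.fin1 v (by omega) (by omega)

theorem hfin : data.finalOK = true := Data.finalOK_of_rows data Cfsg.Agent.Lib.Helper16.RuM.P1M0.hlive0 (by decide) hrows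

theorem pc0 : Data.countFrom data 0 6000 = 4558 := Cfsg.Agent.Lib.Helper16.RuM.P1M0.cnt0
theorem pc1 : Data.countFrom data 0 7152 = 5616 := Data.countFrom_step data pc0 Cfsg.Agent.Lib.Helper16.RuM.P1M0.cnt1 (by norm_num) (by norm_num)

theorem hcount : data.countLive = 5616 := by
  rw [Data.countLive_eq]
  exact pc1

/-- the number of cosets is at most `5616` -/
theorem mainU : Finite (PresentedGroup rels ⧸ (Subgroup.closure S).map (PresentedGroup.mk rels)) ∧
    Nat.card (PresentedGroup rels ⧸ (Subgroup.closure S).map (PresentedGroup.mk rels)) ≤ 5616 := by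
  have h := upper link hchk hfin
  rw [hcount] at h
  exact h

end Cfsg.Agent.Lib.Helper16.RuM.P1MainU
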