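import Cfsg.Agent.Lib.Helper28.TC2Upper
import Cfsg.Agent.Lib.Helper16.RuM.P2DataC0
set_option autoImplicit false
set_option maxRecDepth 100000

namespace Cfsg.Agent.Lib.Helper16.RuM.P2Data
open Cfsg.Agent.Lib.Helper28.TC2Upper

/-- relators -/
def relT : BT (ℕ × List ℕ × List ℕ) := (BT.node 11 (BT.node 5 (BT.node 2 (BT.node 1 (BT.node 0 (BT.leaf (2, [2, 2], [3, 3])) (BT.leaf (8, [8, 2, 8, 2, 8, 2, 8, 2], [3, 9, 3, 9, 3, 9, 3, 9]))) (BT.leaf (12, [8, 8, 2, 8, 8, 2, 8, 8, 2, 8, 8, 2], [3, 9, 9, 3, 9, 9, 3, 9, 9, 3, 9, 9]))) (BT.node 4 (BT.node 3 (BT.leaf (13, [8, 8, 8, 8, 8, 8, 8, 8, 8, 8, 8, 8, 8], [9, 9, 9, 9, 9, 9, 9, 9, 9, 9, 9, 9, 9])) (BT.leaf (15, [8, 8, 8, 8, 2, 8, 8, 8, 8, 2, 8, 8, 8, 8, 2], [3, 9, 9, 9, 9, 3, 9, 9, 9, 9, 3, 9, 9, 9, 9]))) (BT.leaf (6, [4, 2, 0, 4, 0, 9],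 [8, 1, 5, 1, 3, 5])))) (BT.node 8 (BT.node 7 (BT.node 6 (BT.leaf (2, [0, 0], [1, 1])) (BT.leaf (2, [4, 4], [5, 5]))) (BT.leaf (2, [6, 6], [7, 7]))) (BT.node 10 (BT.node 9 (BT.leaf (4, [2, 0, 2, 0], [1, 3, 1, 3])) (BT.leaf (24, [4, 0, 4, 0, 4, 0, 4, 0, 4, 0, 4, 0, 4, 0, 4, 0, 4, 0, 4, 0, 4, 0, 4, 0], [1, 5, 1, 5, 1, 5, 1, 5, 1, 5, 1, 5, 1, 5, 1, 5, 1, 5, 1, 5, 1, 5, 1, 5]))) (BT.leaf (4, [6, 0, 6, 0], [1, 7, 1, 7]))))) (BT.node 17 (BT.node 14 (BT.node 13 (BT.node 12 (BT.leaf (8, [4, 2, 4, 2, 4, 2, 4, 2], [3, 5, 3, 5, 3, 5, 3, 5])) (BT.leaf (4, [6, 2, 6, 2], [3, 7, 3, 7]))) (BT.leaf (8, [6, 4, 6, 4, 6, 4, 6, 4], [5, 7, 5, 7, 5, 7, 5, 7]))) (BT.node 16 (BT.node 15 (BT.leaf (30, [4, 2, 4, 0, 4, 0, 4, 0, 4, 0, 4, 2, 4, 0, 4, 0, 4, 0, 4, 0, 4, 2, 4, 0, 4, 0, 4, 0, 4, 0], [1, 5, 1, 5,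 1, 5, 1, 5, 3, 5, 1, 5, 1, 5, 1, 5, 1, 5, 3, 5, 1, 5, 1, 5, 1, 5, 1, 5, 3, 5])) (BT.leaf (30, [4, 2, 4, 0, 4, 2, 4, 0, 4, 0, 2, 4, 2, 4, 0, 4, 0, 4, 2, 4, 2, 0, 4, 0, 4, 2, 4, 0, 4, 2], [3, 5, 1, 5, 3, 5, 1, 5, 1, 3, 5, 3, 5, 1, 5, 1, 5, 3, 5, 3, 1, 5, 1, 5, 3, 5, 1, 5, 3, 5]))) (BT.leaf (29, [0, 4, 0, 2, 4, 0, 4, 0, 4, 0, 4, 0, 4, 2, 0, 4, 2, 4, 0, 4, 0, 4, 0, 4, 0, 4, 0, 4, 2], [3, 5, 1, 5, 1, 5, 1, 5, 1, 5, 1, 5, 3, 5, 1, 3, 5, 1, 5, 1, 5, 1, 5, 1, 5, 3, 1, 5, 1])))) (BT.node 20 (BT.node 19 (BT.node 18 (BT.leaf (33, [6, 4, 0, 4, 0, 4, 0, 4, 6, 0, 4, 0, 4, 0, 4, 0, 4, 6, 4, 2, 4, 2, 0, 4, 0, 4, 0, 4, 0, 4, 2, 4, 2], [3, 5, 3, 5, 1, 5, 1, 5, 1, 5, 1, 3, 5, 3, 5, 7, 5, 1, 5, 1, 5, 1, 5, 1, 7, 5, 1, 5, 1, 5, 1, 5, 7])) (BT.leaf (33, [6, 4, 0, 4, 2, 6, 4, 0, 4, 2, 6, 4, 2, 4, 6,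 4, 2, 4, 6, 2, 4, 0, 4, 2, 4, 6, 2, 0, 4, 6, 4, 0, 4], [5, 1, 5, 7, 5, 1, 3, 7, 5, 3, 5, 1, 5, 3, 7, 5, 3, 5, 7, 5, 3, 5, 7, 3, 5, 1, 5, 7, 3, 5, 1, 5, 7]))) (BT.leaf (32, [6, 4, 0, 4, 2, 6, 4, 0, 4, 2, 4, 6, 4, 2, 4, 0, 4, 6, 2, 4, 0, 4, 6, 4, 2, 0, 4, 0, 4, 2, 0, 4], [5, 1, 3, 5, 1, 5, 1, 3, 5, 7, 5, 1, 5, 3, 7, 5, 1, 5, 3, 5, 7, 5, 3, 5, 1, 5, 7, 3, 5, 1, 5, 7]))) (BT.node 22 (BT.node 21 (BT.leaf (32, [6, 4, 0, 4, 2, 6, 4, 0, 6, 4, 6, 2, 6, 4, 6, 0, 4, 6, 2, 4, 0, 4, 6, 4, 2, 0, 4, 0, 4, 2, 0, 4], [5, 1, 3, 5, 1, 5, 1, 3, 5, 7, 5, 1, 5, 3, 7, 5, 1, 7, 5, 7, 3, 7, 5, 7, 1, 5, 7, 3, 5, 1, 5, 7])) (BT.leaf (32, [6, 4, 2, 4, 0, 4, 6, 4, 2, 4, 0, 4, 2, 4, 6, 4, 0, 4, 2, 4, 6, 4, 2, 4, 0, 4, 2, 4, 0, 4, 2, 4], [5, 3, 5, 1, 5, 3, 5, 1, 5, 3, 5, 7, 5, 3, 5, 1, 5, 7, 5, 3, 5, 1, 5,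 3, 5, 7, 5, 1, 5, 3, 5, 7]))) (BT.leaf (32, [6, 4, 2, 6, 4, 0, 4, 2, 6, 4, 0, 6, 0, 4, 0, 4, 2, 4, 0, 4, 2, 4, 6, 4, 2, 4, 0, 4, 2, 4, 0, 4], [5, 1, 5, 3, 5, 1, 5, 3, 5, 7, 5, 3, 5, 1, 5, 3, 5, 1, 5, 1, 7, 1, 5, 7, 3, 5, 1, 5, 7, 3, 5, 7]))))))
/-- subgroup generators -/
def subT : BT (ℕ × List ℕ × List ℕ) := (BT.node 0 (BT.leaf (1, [2], [3])) (BT.leaf (1, [8], [9])))
/-- fact chunks -/
def colET : BT ℕ := (BT.node 60 (BT.node 30 (BT.node 15 (BT.node 7 (BT.node 3 (BT.node 1 (BT.node 0 (BT.leaf cE0) (BT.leaf cE1)) (BT.node 2 (BT.leaf cE2) (BT.leaf cE3))) (BT.node 5 (BT.node 4 (BT.leaf cE4) (BT.leaf cE5)) (BT.node 6 (BT.leaf cE6) (BT.leaf cE7)))) (BT.node 11 (BT.node 9 (BT.node 8 (BT.leaf cE8) (BT.leaf cE9)) (BT.node 10 (BT.leaf cE10) (BT.leaf cE11))) (BT.node 13 (BT.node 12 (BT.leaf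 cE12) (BT.leaf cE13)) (BT.node 14 (BT.leaf cE14) (BT.leaf cE15))))) (BT.node 23 (BT.node 19 (BT.node 17 (BT.node 16 (BT.leaf cE16) (BT.leaf cE17)) (BT.node 18 (BT.leaf cE18) (BT.leaf cE19))) (BT.node 21 (BT.node 20 (BT.leaf cE20) (BT.leaf cE21)) (BT.node 22 (BT.leaf cE22) (BT.leaf cE23)))) (BT.node 27 (BT.node 25 (BT.node 24 (BT.leaf cE24) (BT.leaf cE25)) (BT.node 26 (BT.leaf cE26) (BT.leaf cE27))) (BT.node 29 (BT.node 28 (BT.leaf cE28) (BT.leaf cE29)) (BT.leaf cE30))))) (BT.node 45 (BT.node 38 (BT.node 34 (BT.node 32 (BT.node 31 (BT.leaf cE31) (BT.leaf cE32)) (BT.node 33 (BT.leaf cE33) (BT.leaf cE34))) (BT.node 36 (BT.node 35 (BT.leaf cE35) (BT.leaf cE36)) (BT.node 37 (BT.leaf cE37) (BT.leaf cE38)))) (BT.node 42 (BT.node 40 (BT.node 39 (BT.leaf cE39) (BT.leaf cE40)) (BT.node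 41 (BT.leaf cE41) (BT.leaf cE42))) (BT.node 44 (BT.node 43 (BT.leaf cE43) (BT.leaf cE44)) (BT.leaf cE45)))) (BT.node 53 (BT.node 49 (BT.node 47 (BT.node 46 (BT.leaf cE46) (BT.leaf cE47)) (BT.node 48 (BT.leaf cE48) (BT.leaf cE49))) (BT.node 51 (BT.node 50 (BT.leaf cE50) (BT.leaf cE51)) (BT.node 52 (BT.leaf cE52) (BT.leaf cE53)))) (BT.node 57 (BT.node 55 (BT.node 54 (BT.leaf cE54) (BT.leaf cE55)) (BT.node 56 (BT.leaf cE56) (BT.leaf cE57))) (BT.node 59 (BT.node 58 (BT.leaf cE58) (BT.leaf cE59)) (BT.leaf cE60)))))) (BT.node 90 (BT.node 75 (BT.node 68 (BT.node 64 (BT.node 62 (BT.node 61 (BT.leaf cE61) (BT.leaf cE62)) (BT.node 63 (BT.leaf cE63) (BT.leaf cE64))) (BT.node 66 (BT.node 65 (BT.leaf cE65) (BT.leaf cE66)) (BT.node 67 (BT.leaf cE67) (BT.leaf cE68)))) (BT.node 72 (BT.node 70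 (BT.node 69 (BT.leaf cE69) (BT.leaf cE70)) (BT.node 71 (BT.leaf cE71) (BT.leaf cE72))) (BT.node 74 (BT.node 73 (BT.leaf cE73) (BT.leaf cE74)) (BT.leaf cE75)))) (BT.node 83 (BT.node 79 (BT.node 77 (BT.node 76 (BT.leaf cE76) (BT.leaf cE77)) (BT.node 78 (BT.leaf cE78) (BT.leaf cE79))) (BT.node 81 (BT.node 80 (BT.leaf cE80) (BT.leaf cE81)) (BT.node 82 (BT.leaf cE82) (BT.leaf cE83)))) (BT.node 87 (BT.node 85 (BT.node 84 (BT.leaf cE84) (BT.leaf cE85)) (BT.node 86 (BT.leaf cE86) (BT.leaf cE87))) (BT.node 89 (BT.node 88 (BT.leaf cE88) (BT.leaf cE89)) (BT.leaf cE90))))) (BT.node 105 (BT.node 98 (BT.node 94 (BT.node 92 (BT.node 91 (BT.leaf cE91) (BT.leaf cE92)) (BT.node 93 (BT.leaf cE93) (BT.leaf cE94))) (BT.node 96 (BT.node 95 (BT.leaf cE95) (BT.leaf cE96)) (BT.node 97 (BT.leaf cE97) (BT.leaf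 cE98)))) (BT.node 102 (BT.node 100 (BT.node 99 (BT.leaf cE99) (BT.leaf cE100)) (BT.node 101 (BT.leaf cE101) (BT.leaf cE102))) (BT.node 104 (BT.node 103 (BT.leaf cE103) (BT.leaf cE104)) (BT.leaf cE105)))) (BT.node 113 (BT.node 109 (BT.node 107 (BT.node 106 (BT.leaf cE106) (BT.leaf cE107)) (BT.node 108 (BT.leaf cE108) (BT.leaf cE109))) (BT.node 111 (BT.node 110 (BT.leaf cE110) (BT.leaf cE111)) (BT.node 112 (BT.leaf cE112) (BT.leaf cE113)))) (BT.node 117 (BT.node 115 (BT.node 114 (BT.leaf cE114) (BT.leaf cE115)) (BT.node 116 (BT.leaf cE116) (BT.leaf cE117))) (BT.node 119 (BT.node 118 (BT.leaf cE118) (BT.leaf cE119)) (BT.leaf cE120)))))))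
/-- justification chunks -/
def colJT : BT ℕ := (BT.node 60 (BT.node 30 (BT.node 15 (BT.node 7 (BT.node 3 (BT.node 1 (BT.node 0 (BT.leaf cJ0) (BT.leaf cJ1)) (BT.node 2 (BT.leaf cJ2) (BT.leaf cJ3))) (BT.node 5 (BT.node 4 (BT.leaf cJ4) (BT.leaf cJ5)) (BT.node 6 (BT.leaf cJ6) (BT.leaf cJ7)))) (BT.node 11 (BT.node 9 (BT.node 8 (BT.leaf cJ8) (BT.leaf cJ9)) (BT.node 10 (BT.leaf cJ10) (BT.leaf cJ11))) (BT.node 13 (BT.node 12 (BT.leaf cJ12) (BT.leaf cJ13)) (BT.node 14 (BT.leaf cJ14) (BT.leaf cJ15))))) (BT.node 23 (BT.node 19 (BT.node 17 (BT.node 16 (BT.leaf cJ16) (BT.leaf cJ17)) (BT.node 18 (BT.leaf cJ18) (BT.leaf cJ19))) (BT.node 21 (BT.node 20 (BT.leaf cJ20) (BT.leaf cJ21)) (BT.node 22 (BT.leaf cJ22) (BT.leaf cJ23)))) (BT.node 27 (BT.node 25 (BT.node 24 (BT.leaf cJ24) (BT.leaf cJ25))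 (BT.node 26 (BT.leaf cJ26) (BT.leaf cJ27))) (BT.node 29 (BT.node 28 (BT.leaf cJ28) (BT.leaf cJ29)) (BT.leaf cJ30))))) (BT.node 45 (BT.node 38 (BT.node 34 (BT.node 32 (BT.node 31 (BT.leaf cJ31) (BT.leaf cJ32)) (BT.node 33 (BT.leaf cJ33) (BT.leaf cJ34))) (BT.node 36 (BT.node 35 (BT.leaf cJ35) (BT.leaf cJ36)) (BT.node 37 (BT.leaf cJ37) (BT.leaf cJ38)))) (BT.node 42 (BT.node 40 (BT.node 39 (BT.leaf cJ39) (BT.leaf cJ40)) (BT.node 41 (BT.leaf cJ41) (BT.leaf cJ42))) (BT.node 44 (BT.node 43 (BT.leaf cJ43) (BT.leaf cJ44)) (BT.leaf cJ45)))) (BT.node 53 (BT.node 49 (BT.node 47 (BT.node 46 (BT.leaf cJ46) (BT.leaf cJ47)) (BT.node 48 (BT.leaf cJ48) (BT.leaf cJ49))) (BT.node 51 (BT.node 50 (BT.leaf cJ50) (BT.leaf cJ51)) (BT.node 52 (BT.leaf cJ52) (BT.leaf cJ53)))) (BT.node 57 (BT.node 55 (BT.node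 54 (BT.leaf cJ54) (BT.leaf cJ55)) (BT.node 56 (BT.leaf cJ56) (BT.leaf cJ57))) (BT.node 59 (BT.node 58 (BT.leaf cJ58) (BT.leaf cJ59)) (BT.leaf cJ60)))))) (BT.node 90 (BT.node 75 (BT.node 68 (BT.node 64 (BT.node 62 (BT.node 61 (BT.leaf cJ61) (BT.leaf cJ62)) (BT.node 63 (BT.leaf cJ63) (BT.leaf cJ64))) (BT.node 66 (BT.node 65 (BT.leaf cJ65) (BT.leaf cJ66)) (BT.node 67 (BT.leaf cJ67) (BT.leaf cJ68)))) (BT.node 72 (BT.node 70 (BT.node 69 (BT.leaf cJ69) (BT.leaf cJ70)) (BT.node 71 (BT.leaf cJ71) (BT.leaf cJ72))) (BT.node 74 (BT.node 73 (BT.leaf cJ73) (BT.leaf cJ74)) (BT.leaf cJ75)))) (BT.node 83 (BT.node 79 (BT.node 77 (BT.node 76 (BT.leaf cJ76) (BT.leaf cJ77)) (BT.node 78 (BT.leaf cJ78) (BT.leaf cJ79))) (BT.node 81 (BT.node 80 (BT.leaf cJ80) (BT.leaf cJ81)) (BT.node 82 (BT.leaf cJ82)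 (BT.leaf cJ83)))) (BT.node 87 (BT.node 85 (BT.node 84 (BT.leaf cJ84) (BT.leaf cJ85)) (BT.node 86 (BT.leaf cJ86) (BT.leaf cJ87))) (BT.node 89 (BT.node 88 (BT.leaf cJ88) (BT.leaf cJ89)) (BT.leaf cJ90))))) (BT.node 105 (BT.node 98 (BT.node 94 (BT.node 92 (BT.node 91 (BT.leaf cJ91) (BT.leaf cJ92)) (BT.node 93 (BT.leaf cJ93) (BT.leaf cJ94))) (BT.node 96 (BT.node 95 (BT.leaf cJ95) (BT.leaf cJ96)) (BT.node 97 (BT.leaf cJ97) (BT.leaf cJ98)))) (BT.node 102 (BT.node 100 (BT.node 99 (BT.leaf cJ99) (BT.leaf cJ100)) (BT.node 101 (BT.leaf cJ101) (BT.leaf cJ102))) (BT.node 104 (BT.node 103 (BT.leaf cJ103) (BT.leaf cJ104)) (BT.leaf cJ105)))) (BT.node 113 (BT.node 109 (BT.node 107 (BT.node 106 (BT.leaf cJ106) (BT.leaf cJ107)) (BT.node 108 (BT.leaf cJ108) (BT.leaf cJ109))) (BT.node 111 (BT.node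 110 (BT.leaf cJ110) (BT.leaf cJ111)) (BT.node 112 (BT.leaf cJ112) (BT.leaf cJ113)))) (BT.node 117 (BT.node 115 (BT.node 114 (BT.leaf cJ114) (BT.leaf cJ115)) (BT.node 116 (BT.leaf cJ116) (BT.leaf cJ117))) (BT.node 119 (BT.node 118 (BT.leaf cJ118) (BT.leaf cJ119)) (BT.leaf cJ120)))))))
/-- parent chunks -/
def parCT : BT ℕ := (BT.node 5 (BT.node 2 (BT.node 1 (BT.node 0 (BT.leaf cP0) (BT.leaf cP1)) (BT.leaf cP2)) (BT.node 4 (BT.node 3 (BT.leaf cP3) (BT.leaf cP4)) (BT.leaf cP5))) (BT.node 8 (BT.node 7 (BT.node 6 (BT.leaf cP6) (BT.leaf cP7)) (BT.leaf cP8)) (BT.node 9 (BT.leaf cP9) (BT.leaf cP10))))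
/-- the certificate -/
def data : Data where
  k := 10
  N := 5436
  W := 29
  MW := 536870912
  B := 8192
  CH := 512
  NCH := 11
  colE := colET
  JW := 64
  MJ := 18446744073709551616
  A := 1048576
  colJ := colJT
  PW := 23
  MP := 8388608
  parC := parCT
  inv := (BT.node 5 (BT.node 2 (BT.node 1 (BT.node 0 (BT.leaf 1) (BT.leaf 0)) (BT.leaf 3)) (BT.node 4 (BT.node 3 (BT.leaf 2) (BT.leaf 5)) (BT.leaf 4))) (BT.node 8 (BT.node 7 (BT.node 6 (BT.leaf 7) (BT.leaf 6)) (BT.leaf 9)) (BT.node 9 (BT.leaf 8) (BT.leaf 10))))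
  rel := relT
  sub := subT
  fuel := 64

end Cfsg.Agent.Lib.Helper16.RuM.P2Data
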