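import Cfsg.Agent.Lib.Helper28.TC2Upper
import Cfsg.Agent.Lib.Helper16.RuM.P3DataC0
import Cfsg.Agent.Lib.Helper16.RuM.P3DataC1
set_option autoImplicit false
set_option maxRecDepth 100000

namespace Cfsg.Agent.Lib.Helper16.RuM.P3Data
open Cfsg.Agent.Lib.Helper28.TC2Upper

/-- relators -/
def relT : BT (ℕ × List ℕ × List ℕ) := (BT.node 21 (BT.node 10 (BT.node 5 (BT.node 2 (BT.node 1 (BT.node 0 (BT.leaf (2, [2, 2], [3, 3])) (BT.leaf (8, [10, 2, 10, 2, 10, 2, 10, 2], [3, 11, 3, 11, 3, 11, 3, 11]))) (BT.leaf (12, [10, 10, 2, 10, 10, 2, 10, 10, 2, 10, 10, 2], [3, 11, 11, 3, 11, 11, 3, 11, 11, 3, 11, 11]))) (BT.node 4 (BT.node 3 (BT.leaf (13, [10, 10, 10, 10, 10, 10, 10, 10, 10, 10, 10, 10, 10], [11, 11, 11, 11, 11, 11, 11, 11, 11, 11, 11, 11, 11])) (BT.leaf (15, [10, 10, 10, 10, 2, 10, 10, 10, 10, 2, 10, 10, 10, 10, 2], [3,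 11, 11, 11, 11, 3, 11, 11, 11, 11, 3, 11, 11, 11, 11]))) (BT.leaf (6, [4, 2, 0, 4, 0, 11], [10, 1, 5, 1, 3, 5])))) (BT.node 8 (BT.node 7 (BT.node 6 (BT.leaf (2, [0, 0], [1, 1])) (BT.leaf (2, [4, 4], [5, 5]))) (BT.leaf (2, [6, 6], [7, 7]))) (BT.node 9 (BT.leaf (4, [2, 0, 2, 0], [1, 3, 1, 3])) (BT.leaf (24, [4, 0, 4, 0, 4, 0, 4, 0, 4, 0, 4, 0, 4, 0, 4, 0, 4, 0, 4, 0, 4, 0, 4, 0], [1, 5, 1, 5, 1, 5, 1, 5, 1, 5, 1, 5, 1, 5, 1, 5, 1, 5, 1, 5, 1, 5, 1, 5]))))) (BT.node 16 (BT.node 13 (BT.node 12 (BT.node 11 (BT.leaf (4, [6, 0, 6, 0], [1, 7, 1, 7])) (BT.leaf (8, [4, 2, 4, 2, 4, 2, 4, 2], [3, 5, 3, 5, 3, 5, 3, 5]))) (BT.leaf (4, [6, 2, 6, 2], [3, 7, 3, 7]))) (BT.node 15 (BT.node 14 (BT.leaf (8, [6, 4, 6, 4, 6, 4, 6, 4], [5, 7, 5, 7, 5, 7, 5, 7])) (BT.leaf (30, [4, 2, 4, 0, 4, 0, 4, 0, 4, 0, 4, 2, 4, 0, 4, 0, 4, 0, 4, 0, 4, 2,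 4, 0, 4, 0, 4, 0, 4, 0], [1, 5, 1, 5, 1, 5, 1, 5, 3, 5, 1, 5, 1, 5, 1, 5, 1, 5, 3, 5, 1, 5, 1, 5, 1, 5, 1, 5, 3, 5]))) (BT.leaf (30, [4, 2, 4, 0, 4, 2, 4, 0, 4, 0, 2, 4, 2, 4, 0, 4, 0, 4, 2, 4, 2, 0, 4, 0, 4, 2, 4, 0, 4, 2], [3, 5, 1, 5, 3, 5, 1, 5, 1, 3, 5, 3, 5, 1, 5, 1, 5, 3, 5, 3, 1, 5, 1, 5, 3, 5, 1, 5, 3, 5])))) (BT.node 19 (BT.node 18 (BT.node 17 (BT.leaf (29, [0, 4, 0, 2, 4, 0, 4, 0, 4, 0, 4, 0, 4, 2, 0, 4, 2, 4, 0, 4, 0, 4, 0, 4, 0, 4, 0, 4, 2], [3, 5, 1, 5, 1, 5, 1, 5, 1, 5, 1, 5, 3, 5, 1, 3, 5, 1, 5, 1, 5, 1, 5, 1, 5, 3, 1, 5, 1])) (BT.leaf (33, [6, 4, 0, 4, 0, 4, 0, 4, 6, 0, 4, 0, 4, 0, 4, 0, 4, 6, 4, 2, 4, 2, 0, 4, 0, 4, 0, 4, 0, 4, 2, 4, 2], [3, 5, 3, 5, 1, 5, 1, 5, 1, 5, 1, 3, 5, 3, 5, 7, 5, 1, 5, 1, 5, 1, 5, 1, 7, 5, 1, 5, 1, 5, 1, 5, 7]))) (BT.leaf (33, [6, 4, 0, 4, 2, 6, 4, 0, 4, 2, 6, 4, 2, 4, 6, 4,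 2, 4, 6, 2, 4, 0, 4, 2, 4, 6, 2, 0, 4, 6, 4, 0, 4], [5, 1, 5, 7, 5, 1, 3, 7, 5, 3, 5, 1, 5, 3, 7, 5, 3, 5, 7, 5, 3, 5, 7, 3, 5, 1, 5, 7, 3, 5, 1, 5, 7]))) (BT.node 20 (BT.leaf (32, [6, 4, 0, 4, 2, 6, 4, 0, 4, 2, 4, 6, 4, 2, 4, 0, 4, 6, 2, 4, 0, 4, 6, 4, 2, 0, 4, 0, 4, 2, 0, 4], [5, 1, 3, 5, 1, 5, 1, 3, 5, 7, 5, 1, 5, 3, 7, 5, 1, 5, 3, 5, 7, 5, 3, 5, 1, 5, 7, 3, 5, 1, 5, 7])) (BT.leaf (32, [6, 4, 0, 4, 2, 6, 4, 0, 6, 4, 6, 2, 6, 4, 6, 0, 4, 6, 2, 4, 0, 4, 6, 4, 2, 0, 4, 0, 4, 2, 0, 4], [5, 1, 3, 5, 1, 5, 1, 3, 5, 7, 5, 1, 5, 3, 7, 5, 1, 7, 5, 7, 3, 7, 5, 7, 1, 5, 7, 3, 5, 1, 5, 7])))))) (BT.node 32 (BT.node 27 (BT.node 24 (BT.node 23 (BT.node 22 (BT.leaf (32, [6, 4, 2, 4, 0, 4, 6, 4, 2, 4, 0, 4, 2, 4, 6, 4, 0, 4, 2, 4, 6, 4, 2, 4, 0, 4, 2, 4, 0, 4, 2, 4], [5, 3, 5, 1, 5, 3, 5, 1, 5, 3, 5, 7, 5, 3, 5, 1, 5, 7, 5, 3, 5,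 1, 5, 3, 5, 7, 5, 1, 5, 3, 5, 7])) (BT.leaf (32, [6, 4, 2, 6, 4, 0, 4, 2, 6, 4, 0, 6, 0, 4, 0, 4, 2, 4, 0, 4, 2, 4, 6, 4, 2, 4, 0, 4, 2, 4, 0, 4], [5, 1, 5, 3, 5, 1, 5, 3, 5, 7, 5, 3, 5, 1, 5, 3, 5, 1, 5, 1, 7, 1, 5, 7, 3, 5, 1, 5, 7, 3, 5, 7]))) (BT.leaf (2, [8, 8], [9, 9]))) (BT.node 26 (BT.node 25 (BT.leaf (4, [8, 0, 8, 0], [1, 9, 1, 9])) (BT.leaf (4, [8, 2, 8, 2], [3, 9, 3, 9]))) (BT.leaf (8, [8, 4, 8, 4, 8, 4, 8, 4], [5, 9, 5, 9, 5, 9, 5, 9])))) (BT.node 30 (BT.node 29 (BT.node 28 (BT.leaf (8, [8, 6, 8, 6, 8, 6, 8, 6], [7, 9, 7, 9, 7, 9, 7, 9])) (BT.leaf (28, [8, 4, 0, 4, 0, 4, 8, 0, 8, 4, 0, 4, 0, 4, 8, 2, 4, 0, 4, 0, 4, 0, 4, 0, 4, 0, 4, 2], [3, 5, 1, 5, 1, 5, 1, 5, 1, 5, 1, 5, 3, 9, 5, 1, 5, 1, 5, 9, 1, 9, 5, 1, 5, 1, 5, 9]))) (BT.leaf (28, [8, 4, 0, 4, 0, 6, 8, 4, 8, 2, 4, 8, 6, 0, 4, 0, 4, 8, 2, 4, 0, 4, 2,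 0, 4, 0, 4, 2], [3, 5, 1, 5, 1, 3, 5, 1, 5, 3, 9, 5, 1, 5, 1, 7, 9, 5, 3, 9, 5, 9, 7, 1, 5, 1, 5, 9]))) (BT.node 31 (BT.leaf (28, [8, 4, 0, 4, 6, 8, 6, 4, 2, 8, 6, 4, 6, 4, 6, 4, 8, 6, 4, 6, 8, 6, 0, 4, 8, 4, 2, 4], [5, 3, 5, 9, 5, 1, 7, 9, 7, 5, 7, 9, 5, 7, 5, 7, 5, 7, 9, 3, 5, 7, 9, 7, 5, 1, 5, 9])) (BT.leaf (28, [8, 4, 0, 4, 8, 4, 2, 8, 6, 4, 0, 2, 0, 4, 6, 8, 2, 4, 8, 4, 0, 4, 8, 2, 4, 6, 4, 2], [3, 5, 7, 5, 3, 9, 5, 1, 5, 9, 5, 3, 9, 7, 5, 1, 3, 1, 5, 7, 9, 3, 5, 9, 5, 1, 5, 9]))))) (BT.node 38 (BT.node 35 (BT.node 34 (BT.node 33 (BT.leaf (28, [8, 4, 0, 6, 4, 6, 0, 4, 6, 0, 4, 8, 2, 0, 4, 0, 4, 0, 4, 6, 0, 4, 0, 4, 0, 4, 2, 0], [1, 3, 5, 1, 5, 1, 5, 1, 7, 5, 1, 5, 1, 5, 1, 3, 9, 5, 1, 7, 5, 1, 7, 5, 7, 1, 5, 9])) (BT.leaf (28, [8, 4, 2, 4, 8, 6, 4, 2, 8, 4, 6, 4, 8, 4, 2, 4, 8, 4, 6, 8, 4, 8, 2, 4, 6, 4, 2, 4],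 [5, 3, 5, 7, 5, 3, 9, 5, 9, 7, 5, 9, 5, 3, 5, 9, 5, 7, 5, 9, 3, 5, 7, 9, 5, 3, 5, 9]))) (BT.leaf (28, [8, 4, 2, 6, 4, 8, 4, 6, 4, 0, 2, 0, 4, 6, 2, 4, 8, 4, 6, 0, 4, 8, 2, 4, 6, 0, 4, 2], [3, 5, 1, 7, 5, 3, 9, 5, 1, 7, 5, 9, 5, 3, 7, 5, 1, 3, 1, 5, 7, 5, 9, 5, 7, 3, 5, 9]))) (BT.node 37 (BT.node 36 (BT.leaf (28, [8, 4, 2, 6, 4, 8, 4, 8, 0, 2, 4, 8, 4, 6, 2, 4, 8, 4, 0, 4, 2, 4, 0, 4, 2, 4, 0, 4], [5, 1, 5, 3, 5, 1, 5, 3, 5, 1, 5, 9, 5, 3, 7, 5, 9, 5, 3, 1, 9, 5, 9, 5, 7, 3, 5, 9])) (BT.leaf (28, [8, 4, 2, 8, 6, 8, 4, 2, 4, 8, 4, 8, 4, 0, 4, 8, 2, 4, 6, 8, 4, 8, 2, 4, 2, 0, 4, 2], [3, 5, 1, 3, 5, 3, 9, 5, 9, 7, 5, 3, 9, 5, 1, 5, 9, 5, 9, 5, 3, 5, 9, 7, 9, 3, 5, 9]))) (BT.leaf (28, [8, 4, 6, 4, 2, 4, 8, 4, 2, 4, 2, 6, 4, 8, 2, 4, 8, 6, 4, 2, 4, 8, 4, 2, 4, 6, 4, 2], [3, 5, 7, 5, 3, 5, 9, 5, 3, 5, 7, 9, 5, 3, 9, 5, 7, 3,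 5, 3, 5, 9, 5, 3, 5, 7, 5, 9])))) (BT.node 41 (BT.node 40 (BT.node 39 (BT.leaf (28, [8, 4, 6, 4, 8, 4, 0, 6, 8, 6, 2, 4, 8, 4, 6, 4, 8, 4, 0, 4, 2, 4, 0, 4, 2, 4, 0, 4], [5, 1, 5, 3, 5, 1, 5, 3, 5, 1, 5, 9, 5, 7, 5, 9, 5, 3, 7, 9, 7, 1, 5, 9, 5, 7, 5, 9])) (BT.leaf (28, [8, 6, 8, 4, 2, 6, 8, 4, 2, 4, 0, 4, 2, 4, 8, 6, 4, 8, 6, 8, 4, 2, 4, 6, 0, 4, 2, 4], [5, 3, 5, 1, 7, 5, 3, 5, 9, 7, 9, 5, 7, 9, 5, 3, 5, 1, 5, 3, 5, 9, 7, 3, 5, 9, 7, 9]))) (BT.leaf (24, [8, 6, 4, 2, 4, 8, 4, 6, 8, 2, 8, 6, 4, 8, 0, 4, 2, 4, 8, 4, 2, 4, 6, 0], [1, 7, 5, 3, 5, 9, 5, 3, 5, 1, 9, 5, 7, 9, 3, 9, 7, 5, 9, 5, 3, 5, 7, 9]))) (BT.node 42 (BT.leaf (24, [8, 6, 4, 2, 4, 8, 4, 6, 8, 4, 6, 4, 6, 4, 8, 6, 2, 4, 8, 6, 8, 6, 4, 6], [7, 5, 7, 9, 7, 9, 5, 3, 7, 9, 5, 7, 5, 7, 5, 9, 7, 5, 9, 5, 3, 5, 7, 9])) (BT.leaf (23, [8, 6, 4, 8, 4, 8, 6, 4, 8, 4,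 6, 8, 6, 4, 8, 4, 6, 8, 2, 4, 8, 4, 6], [7, 5, 9, 5, 3, 9, 7, 5, 9, 5, 7, 9, 7, 5, 9, 5, 7, 9, 5, 9, 5, 7, 9])))))))
/-- subgroup generators -/
def subT : BT (ℕ × List ℕ × List ℕ) := (BT.node 2 (BT.node 1 (BT.node 0 (BT.leaf (1, [0], [1])) (BT.leaf (1, [2], [3]))) (BT.leaf (1, [4], [5]))) (BT.node 3 (BT.leaf (1, [6], [7])) (BT.leaf (1, [10], [11]))))
/-- fact chunks -/
def colET : BT ℕ := (BT.node 220 (BT.node 110 (BT.node 55 (BT.node 27 (BT.node 13 (BT.node 6 (BT.node 3 (BT.node 1 (BT.node 0 (BT.leaf cE0) (BT.leaf cE1)) (BT.node 2 (BT.leaf cE2) (BT.leaf cE3))) (BT.node 5 (BT.node 4 (BT.leaf cE4) (BT.leaf cE5)) (BT.leaf cE6))) (BT.node 10 (BT.node 8 (BT.node 7 (BT.leaf cE7) (BT.leaf cE8)) (BT.node 9 (BT.leaf cE9) (BT.leaf cE10))) (BT.node 12 (BT.node 11 (BT.leaf cE11) (BT.leaf cE12)) (BT.leaf cE13)))) (BT.node 20 (BT.node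 17 (BT.node 15 (BT.node 14 (BT.leaf cE14) (BT.leaf cE15)) (BT.node 16 (BT.leaf cE16) (BT.leaf cE17))) (BT.node 19 (BT.node 18 (BT.leaf cE18) (BT.leaf cE19)) (BT.leaf cE20))) (BT.node 24 (BT.node 22 (BT.node 21 (BT.leaf cE21) (BT.leaf cE22)) (BT.node 23 (BT.leaf cE23) (BT.leaf cE24))) (BT.node 26 (BT.node 25 (BT.leaf cE25) (BT.leaf cE26)) (BT.leaf cE27))))) (BT.node 41 (BT.node 34 (BT.node 31 (BT.node 29 (BT.node 28 (BT.leaf cE28) (BT.leaf cE29)) (BT.node 30 (BT.leaf cE30) (BT.leaf cE31))) (BT.node 33 (BT.node 32 (BT.leaf cE32) (BT.leaf cE33)) (BT.leaf cE34))) (BT.node 38 (BT.node 36 (BT.node 35 (BT.leaf cE35) (BT.leaf cE36)) (BT.node 37 (BT.leaf cE37) (BT.leaf cE38))) (BT.node 40 (BT.node 39 (BT.leaf cE39) (BT.leaf cE40)) (BT.leaf cE41)))) (BT.node 48 (BT.node 45 (BT.node 43 (BT.node 42 (BT.leaf cE42) (BT.leaf cE43))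 (BT.node 44 (BT.leaf cE44) (BT.leaf cE45))) (BT.node 47 (BT.node 46 (BT.leaf cE46) (BT.leaf cE47)) (BT.leaf cE48))) (BT.node 52 (BT.node 50 (BT.node 49 (BT.leaf cE49) (BT.leaf cE50)) (BT.node 51 (BT.leaf cE51) (BT.leaf cE52))) (BT.node 54 (BT.node 53 (BT.leaf cE53) (BT.leaf cE54)) (BT.leaf cE55)))))) (BT.node 83 (BT.node 69 (BT.node 62 (BT.node 59 (BT.node 57 (BT.node 56 (BT.leaf cE56) (BT.leaf cE57)) (BT.node 58 (BT.leaf cE58) (BT.leaf cE59))) (BT.node 61 (BT.node 60 (BT.leaf cE60) (BT.leaf cE61)) (BT.leaf cE62))) (BT.node 66 (BT.node 64 (BT.node 63 (BT.leaf cE63) (BT.leaf cE64)) (BT.node 65 (BT.leaf cE65) (BT.leaf cE66))) (BT.node 68 (BT.node 67 (BT.leaf cE67) (BT.leaf cE68)) (BT.leaf cE69)))) (BT.node 76 (BT.node 73 (BT.node 71 (BT.node 70 (BT.leaf cE70) (BT.leaf cE71)) (BT.node 72 (BT.leaf cE72) (BT.leaf cE73)))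 (BT.node 75 (BT.node 74 (BT.leaf cE74) (BT.leaf cE75)) (BT.leaf cE76))) (BT.node 80 (BT.node 78 (BT.node 77 (BT.leaf cE77) (BT.leaf cE78)) (BT.node 79 (BT.leaf cE79) (BT.leaf cE80))) (BT.node 82 (BT.node 81 (BT.leaf cE81) (BT.leaf cE82)) (BT.leaf cE83))))) (BT.node 97 (BT.node 90 (BT.node 87 (BT.node 85 (BT.node 84 (BT.leaf cE84) (BT.leaf cE85)) (BT.node 86 (BT.leaf cE86) (BT.leaf cE87))) (BT.node 89 (BT.node 88 (BT.leaf cE88) (BT.leaf cE89)) (BT.leaf cE90))) (BT.node 94 (BT.node 92 (BT.node 91 (BT.leaf cE91) (BT.leaf cE92)) (BT.node 93 (BT.leaf cE93) (BT.leaf cE94))) (BT.node 96 (BT.node 95 (BT.leaf cE95) (BT.leaf cE96)) (BT.leaf cE97)))) (BT.node 104 (BT.node 101 (BT.node 99 (BT.node 98 (BT.leaf cE98) (BT.leaf cE99)) (BT.node 100 (BT.leaf cE100) (BT.leaf cE101))) (BT.node 103 (BT.node 102 (BT.leaf cE102) (BT.leaf cE103))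 (BT.leaf cE104))) (BT.node 107 (BT.node 106 (BT.node 105 (BT.leaf cE105) (BT.leaf cE106)) (BT.leaf cE107)) (BT.node 109 (BT.node 108 (BT.leaf cE108) (BT.leaf cE109)) (BT.leaf cE110))))))) (BT.node 165 (BT.node 138 (BT.node 124 (BT.node 117 (BT.node 114 (BT.node 112 (BT.node 111 (BT.leaf cE111) (BT.leaf cE112)) (BT.node 113 (BT.leaf cE113) (BT.leaf cE114))) (BT.node 116 (BT.node 115 (BT.leaf cE115) (BT.leaf cE116)) (BT.leaf cE117))) (BT.node 121 (BT.node 119 (BT.node 118 (BT.leaf cE118) (BT.leaf cE119)) (BT.node 120 (BT.leaf cE120) (BT.leaf cE121))) (BT.node 123 (BT.node 122 (BT.leaf cE122) (BT.leaf cE123)) (BT.leaf cE124)))) (BT.node 131 (BT.node 128 (BT.node 126 (BT.node 125 (BT.leaf cE125) (BT.leaf cE126)) (BT.node 127 (BT.leaf cE127) (BT.leaf cE128))) (BT.node 130 (BT.node 129 (BT.leaf cE129) (BT.leaf cE130)) (BT.leaf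 cE131))) (BT.node 135 (BT.node 133 (BT.node 132 (BT.leaf cE132) (BT.leaf cE133)) (BT.node 134 (BT.leaf cE134) (BT.leaf cE135))) (BT.node 137 (BT.node 136 (BT.leaf cE136) (BT.leaf cE137)) (BT.leaf cE138))))) (BT.node 152 (BT.node 145 (BT.node 142 (BT.node 140 (BT.node 139 (BT.leaf cE139) (BT.leaf cE140)) (BT.node 141 (BT.leaf cE141) (BT.leaf cE142))) (BT.node 144 (BT.node 143 (BT.leaf cE143) (BT.leaf cE144)) (BT.leaf cE145))) (BT.node 149 (BT.node 147 (BT.node 146 (BT.leaf cE146) (BT.leaf cE147)) (BT.node 148 (BT.leaf cE148) (BT.leaf cE149))) (BT.node 151 (BT.node 150 (BT.leaf cE150) (BT.leaf cE151)) (BT.leaf cE152)))) (BT.node 159 (BT.node 156 (BT.node 154 (BT.node 153 (BT.leaf cE153) (BT.leaf cE154)) (BT.node 155 (BT.leaf cE155) (BT.leaf cE156))) (BT.node 158 (BT.node 157 (BT.leaf cE157) (BT.leaf cE158)) (BT.leaf cE159)))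 (BT.node 162 (BT.node 161 (BT.node 160 (BT.leaf cE160) (BT.leaf cE161)) (BT.leaf cE162)) (BT.node 164 (BT.node 163 (BT.leaf cE163) (BT.leaf cE164)) (BT.leaf cE165)))))) (BT.node 193 (BT.node 179 (BT.node 172 (BT.node 169 (BT.node 167 (BT.node 166 (BT.leaf cE166) (BT.leaf cE167)) (BT.node 168 (BT.leaf cE168) (BT.leaf cE169))) (BT.node 171 (BT.node 170 (BT.leaf cE170) (BT.leaf cE171)) (BT.leaf cE172))) (BT.node 176 (BT.node 174 (BT.node 173 (BT.leaf cE173) (BT.leaf cE174)) (BT.node 175 (BT.leaf cE175) (BT.leaf cE176))) (BT.node 178 (BT.node 177 (BT.leaf cE177) (BT.leaf cE178)) (BT.leaf cE179)))) (BT.node 186 (BT.node 183 (BT.node 181 (BT.node 180 (BT.leaf cE180) (BT.leaf cE181)) (BT.node 182 (BT.leaf cE182) (BT.leaf cE183))) (BT.node 185 (BT.node 184 (BT.leaf cE184) (BT.leaf cE185)) (BT.leaf cE186))) (BT.node 190 (BT.node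 188 (BT.node 187 (BT.leaf cE187) (BT.leaf cE188)) (BT.node 189 (BT.leaf cE189) (BT.leaf cE190))) (BT.node 192 (BT.node 191 (BT.leaf cE191) (BT.leaf cE192)) (BT.leaf cE193))))) (BT.node 207 (BT.node 200 (BT.node 197 (BT.node 195 (BT.node 194 (BT.leaf cE194) (BT.leaf cE195)) (BT.node 196 (BT.leaf cE196) (BT.leaf cE197))) (BT.node 199 (BT.node 198 (BT.leaf cE198) (BT.leaf cE199)) (BT.leaf cE200))) (BT.node 204 (BT.node 202 (BT.node 201 (BT.leaf cE201) (BT.leaf cE202)) (BT.node 203 (BT.leaf cE203) (BT.leaf cE204))) (BT.node 206 (BT.node 205 (BT.leaf cE205) (BT.leaf cE206)) (BT.leaf cE207)))) (BT.node 214 (BT.node 211 (BT.node 209 (BT.node 208 (BT.leaf cE208) (BT.leaf cE209)) (BT.node 210 (BT.leaf cE210) (BT.leaf cE211))) (BT.node 213 (BT.node 212 (BT.leaf cE212) (BT.leaf cE213)) (BT.leaf cE214))) (BT.node 217 (BT.node 216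 (BT.node 215 (BT.leaf cE215) (BT.leaf cE216)) (BT.leaf cE217)) (BT.node 219 (BT.node 218 (BT.leaf cE218) (BT.leaf cE219)) (BT.leaf cE220)))))))) (BT.node 331 (BT.node 276 (BT.node 248 (BT.node 234 (BT.node 227 (BT.node 224 (BT.node 222 (BT.node 221 (BT.leaf cE221) (BT.leaf cE222)) (BT.node 223 (BT.leaf cE223) (BT.leaf cE224))) (BT.node 226 (BT.node 225 (BT.leaf cE225) (BT.leaf cE226)) (BT.leaf cE227))) (BT.node 231 (BT.node 229 (BT.node 228 (BT.leaf cE228) (BT.leaf cE229)) (BT.node 230 (BT.leaf cE230) (BT.leaf cE231))) (BT.node 233 (BT.node 232 (BT.leaf cE232) (BT.leaf cE233)) (BT.leaf cE234)))) (BT.node 241 (BT.node 238 (BT.node 236 (BT.node 235 (BT.leaf cE235) (BT.leaf cE236)) (BT.node 237 (BT.leaf cE237) (BT.leaf cE238))) (BT.node 240 (BT.node 239 (BT.leaf cE239) (BT.leaf cE240)) (BT.leaf cE241))) (BT.node 245 (BT.node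 243 (BT.node 242 (BT.leaf cE242) (BT.leaf cE243)) (BT.node 244 (BT.leaf cE244) (BT.leaf cE245))) (BT.node 247 (BT.node 246 (BT.leaf cE246) (BT.leaf cE247)) (BT.leaf cE248))))) (BT.node 262 (BT.node 255 (BT.node 252 (BT.node 250 (BT.node 249 (BT.leaf cE249) (BT.leaf cE250)) (BT.node 251 (BT.leaf cE251) (BT.leaf cE252))) (BT.node 254 (BT.node 253 (BT.leaf cE253) (BT.leaf cE254)) (BT.leaf cE255))) (BT.node 259 (BT.node 257 (BT.node 256 (BT.leaf cE256) (BT.leaf cE257)) (BT.node 258 (BT.leaf cE258) (BT.leaf cE259))) (BT.node 261 (BT.node 260 (BT.leaf cE260) (BT.leaf cE261)) (BT.leaf cE262)))) (BT.node 269 (BT.node 266 (BT.node 264 (BT.node 263 (BT.leaf cE263) (BT.leaf cE264)) (BT.node 265 (BT.leaf cE265) (BT.leaf cE266))) (BT.node 268 (BT.node 267 (BT.leaf cE267) (BT.leaf cE268)) (BT.leaf cE269))) (BT.node 273 (BT.node 271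 (BT.node 270 (BT.leaf cE270) (BT.leaf cE271)) (BT.node 272 (BT.leaf cE272) (BT.leaf cE273))) (BT.node 275 (BT.node 274 (BT.leaf cE274) (BT.leaf cE275)) (BT.leaf cE276)))))) (BT.node 304 (BT.node 290 (BT.node 283 (BT.node 280 (BT.node 278 (BT.node 277 (BT.leaf cE277) (BT.leaf cE278)) (BT.node 279 (BT.leaf cE279) (BT.leaf cE280))) (BT.node 282 (BT.node 281 (BT.leaf cE281) (BT.leaf cE282)) (BT.leaf cE283))) (BT.node 287 (BT.node 285 (BT.node 284 (BT.leaf cE284) (BT.leaf cE285)) (BT.node 286 (BT.leaf cE286) (BT.leaf cE287))) (BT.node 289 (BT.node 288 (BT.leaf cE288) (BT.leaf cE289)) (BT.leaf cE290)))) (BT.node 297 (BT.node 294 (BT.node 292 (BT.node 291 (BT.leaf cE291) (BT.leaf cE292)) (BT.node 293 (BT.leaf cE293) (BT.leaf cE294))) (BT.node 296 (BT.node 295 (BT.leaf cE295) (BT.leaf cE296)) (BT.leaf cE297))) (BT.node 301 (BT.node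 299 (BT.node 298 (BT.leaf cE298) (BT.leaf cE299)) (BT.node 300 (BT.leaf cE300) (BT.leaf cE301))) (BT.node 303 (BT.node 302 (BT.leaf cE302) (BT.leaf cE303)) (BT.leaf cE304))))) (BT.node 318 (BT.node 311 (BT.node 308 (BT.node 306 (BT.node 305 (BT.leaf cE305) (BT.leaf cE306)) (BT.node 307 (BT.leaf cE307) (BT.leaf cE308))) (BT.node 310 (BT.node 309 (BT.leaf cE309) (BT.leaf cE310)) (BT.leaf cE311))) (BT.node 315 (BT.node 313 (BT.node 312 (BT.leaf cE312) (BT.leaf cE313)) (BT.node 314 (BT.leaf cE314) (BT.leaf cE315))) (BT.node 317 (BT.node 316 (BT.leaf cE316) (BT.leaf cE317)) (BT.leaf cE318)))) (BT.node 325 (BT.node 322 (BT.node 320 (BT.node 319 (BT.leaf cE319) (BT.leaf cE320)) (BT.node 321 (BT.leaf cE321) (BT.leaf cE322))) (BT.node 324 (BT.node 323 (BT.leaf cE323) (BT.leaf cE324)) (BT.leaf cE325))) (BT.node 328 (BT.node 327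 (BT.node 326 (BT.leaf cE326) (BT.leaf cE327)) (BT.leaf cE328)) (BT.node 330 (BT.node 329 (BT.leaf cE329) (BT.leaf cE330)) (BT.leaf cE331))))))) (BT.node 386 (BT.node 359 (BT.node 345 (BT.node 338 (BT.node 335 (BT.node 333 (BT.node 332 (BT.leaf cE332) (BT.leaf cE333)) (BT.node 334 (BT.leaf cE334) (BT.leaf cE335))) (BT.node 337 (BT.node 336 (BT.leaf cE336) (BT.leaf cE337)) (BT.leaf cE338))) (BT.node 342 (BT.node 340 (BT.node 339 (BT.leaf cE339) (BT.leaf cE340)) (BT.node 341 (BT.leaf cE341) (BT.leaf cE342))) (BT.node 344 (BT.node 343 (BT.leaf cE343) (BT.leaf cE344)) (BT.leaf cE345)))) (BT.node 352 (BT.node 349 (BT.node 347 (BT.node 346 (BT.leaf cE346) (BT.leaf cE347)) (BT.node 348 (BT.leaf cE348) (BT.leaf cE349))) (BT.node 351 (BT.node 350 (BT.leaf cE350) (BT.leaf cE351)) (BT.leaf cE352))) (BT.node 356 (BT.node 354 (BT.node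 353 (BT.leaf cE353) (BT.leaf cE354)) (BT.node 355 (BT.leaf cE355) (BT.leaf cE356))) (BT.node 358 (BT.node 357 (BT.leaf cE357) (BT.leaf cE358)) (BT.leaf cE359))))) (BT.node 373 (BT.node 366 (BT.node 363 (BT.node 361 (BT.node 360 (BT.leaf cE360) (BT.leaf cE361)) (BT.node 362 (BT.leaf cE362) (BT.leaf cE363))) (BT.node 365 (BT.node 364 (BT.leaf cE364) (BT.leaf cE365)) (BT.leaf cE366))) (BT.node 370 (BT.node 368 (BT.node 367 (BT.leaf cE367) (BT.leaf cE368)) (BT.node 369 (BT.leaf cE369) (BT.leaf cE370))) (BT.node 372 (BT.node 371 (BT.leaf cE371) (BT.leaf cE372)) (BT.leaf cE373)))) (BT.node 380 (BT.node 377 (BT.node 375 (BT.node 374 (BT.leaf cE374) (BT.leaf cE375)) (BT.node 376 (BT.leaf cE376) (BT.leaf cE377))) (BT.node 379 (BT.node 378 (BT.leaf cE378) (BT.leaf cE379)) (BT.leaf cE380))) (BT.node 383 (BT.node 382 (BT.node 381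 (BT.leaf cE381) (BT.leaf cE382)) (BT.leaf cE383)) (BT.node 385 (BT.node 384 (BT.leaf cE384) (BT.leaf cE385)) (BT.leaf cE386)))))) (BT.node 414 (BT.node 400 (BT.node 393 (BT.node 390 (BT.node 388 (BT.node 387 (BT.leaf cE387) (BT.leaf cE388)) (BT.node 389 (BT.leaf cE389) (BT.leaf cE390))) (BT.node 392 (BT.node 391 (BT.leaf cE391) (BT.leaf cE392)) (BT.leaf cE393))) (BT.node 397 (BT.node 395 (BT.node 394 (BT.leaf cE394) (BT.leaf cE395)) (BT.node 396 (BT.leaf cE396) (BT.leaf cE397))) (BT.node 399 (BT.node 398 (BT.leaf cE398) (BT.leaf cE399)) (BT.leaf cE400)))) (BT.node 407 (BT.node 404 (BT.node 402 (BT.node 401 (BT.leaf cE401) (BT.leaf cE402)) (BT.node 403 (BT.leaf cE403) (BT.leaf cE404))) (BT.node 406 (BT.node 405 (BT.leaf cE405) (BT.leaf cE406)) (BT.leaf cE407))) (BT.node 411 (BT.node 409 (BT.node 408 (BT.leaf cE408) (BT.leaf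 cE409)) (BT.node 410 (BT.leaf cE410) (BT.leaf cE411))) (BT.node 413 (BT.node 412 (BT.leaf cE412) (BT.leaf cE413)) (BT.leaf cE414))))) (BT.node 428 (BT.node 421 (BT.node 418 (BT.node 416 (BT.node 415 (BT.leaf cE415) (BT.leaf cE416)) (BT.node 417 (BT.leaf cE417) (BT.leaf cE418))) (BT.node 420 (BT.node 419 (BT.leaf cE419) (BT.leaf cE420)) (BT.leaf cE421))) (BT.node 425 (BT.node 423 (BT.node 422 (BT.leaf cE422) (BT.leaf cE423)) (BT.node 424 (BT.leaf cE424) (BT.leaf cE425))) (BT.node 427 (BT.node 426 (BT.leaf cE426) (BT.leaf cE427)) (BT.leaf cE428)))) (BT.node 435 (BT.node 432 (BT.node 430 (BT.node 429 (BT.leaf cE429) (BT.leaf cE430)) (BT.node 431 (BT.leaf cE431) (BT.leaf cE432))) (BT.node 434 (BT.node 433 (BT.leaf cE433) (BT.leaf cE434)) (BT.leaf cE435))) (BT.node 438 (BT.node 437 (BT.node 436 (BT.leaf cE436) (BT.leaf cE437))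 (BT.leaf cE438)) (BT.node 440 (BT.node 439 (BT.leaf cE439) (BT.leaf cE440)) (BT.leaf cE441)))))))))
/-- justification chunks -/
def colJT : BT ℕ := (BT.node 220 (BT.node 110 (BT.node 55 (BT.node 27 (BT.node 13 (BT.node 6 (BT.node 3 (BT.node 1 (BT.node 0 (BT.leaf cJ0) (BT.leaf cJ1)) (BT.node 2 (BT.leaf cJ2) (BT.leaf cJ3))) (BT.node 5 (BT.node 4 (BT.leaf cJ4) (BT.leaf cJ5)) (BT.leaf cJ6))) (BT.node 10 (BT.node 8 (BT.node 7 (BT.leaf cJ7) (BT.leaf cJ8)) (BT.node 9 (BT.leaf cJ9) (BT.leaf cJ10))) (BT.node 12 (BT.node 11 (BT.leaf cJ11) (BT.leaf cJ12)) (BT.leaf cJ13)))) (BT.node 20 (BT.node 17 (BT.node 15 (BT.node 14 (BT.leaf cJ14) (BT.leaf cJ15)) (BT.node 16 (BT.leaf cJ16) (BT.leaf cJ17))) (BT.node 19 (BT.node 18 (BT.leaf cJ18) (BT.leaf cJ19)) (BT.leaf cJ20))) (BT.node 24 (BT.node 22 (BT.node 21 (BT.leaf cJ21) (BT.leaf cJ22))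 (BT.node 23 (BT.leaf cJ23) (BT.leaf cJ24))) (BT.node 26 (BT.node 25 (BT.leaf cJ25) (BT.leaf cJ26)) (BT.leaf cJ27))))) (BT.node 41 (BT.node 34 (BT.node 31 (BT.node 29 (BT.node 28 (BT.leaf cJ28) (BT.leaf cJ29)) (BT.node 30 (BT.leaf cJ30) (BT.leaf cJ31))) (BT.node 33 (BT.node 32 (BT.leaf cJ32) (BT.leaf cJ33)) (BT.leaf cJ34))) (BT.node 38 (BT.node 36 (BT.node 35 (BT.leaf cJ35) (BT.leaf cJ36)) (BT.node 37 (BT.leaf cJ37) (BT.leaf cJ38))) (BT.node 40 (BT.node 39 (BT.leaf cJ39) (BT.leaf cJ40)) (BT.leaf cJ41)))) (BT.node 48 (BT.node 45 (BT.node 43 (BT.node 42 (BT.leaf cJ42) (BT.leaf cJ43)) (BT.node 44 (BT.leaf cJ44) (BT.leaf cJ45))) (BT.node 47 (BT.node 46 (BT.leaf cJ46) (BT.leaf cJ47)) (BT.leaf cJ48))) (BT.node 52 (BT.node 50 (BT.node 49 (BT.leaf cJ49) (BT.leaf cJ50)) (BT.node 51 (BT.leaf cJ51) (BT.leaf cJ52))) (BT.node 54 (BT.node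 53 (BT.leaf cJ53) (BT.leaf cJ54)) (BT.leaf cJ55)))))) (BT.node 83 (BT.node 69 (BT.node 62 (BT.node 59 (BT.node 57 (BT.node 56 (BT.leaf cJ56) (BT.leaf cJ57)) (BT.node 58 (BT.leaf cJ58) (BT.leaf cJ59))) (BT.node 61 (BT.node 60 (BT.leaf cJ60) (BT.leaf cJ61)) (BT.leaf cJ62))) (BT.node 66 (BT.node 64 (BT.node 63 (BT.leaf cJ63) (BT.leaf cJ64)) (BT.node 65 (BT.leaf cJ65) (BT.leaf cJ66))) (BT.node 68 (BT.node 67 (BT.leaf cJ67) (BT.leaf cJ68)) (BT.leaf cJ69)))) (BT.node 76 (BT.node 73 (BT.node 71 (BT.node 70 (BT.leaf cJ70) (BT.leaf cJ71)) (BT.node 72 (BT.leaf cJ72) (BT.leaf cJ73))) (BT.node 75 (BT.node 74 (BT.leaf cJ74) (BT.leaf cJ75)) (BT.leaf cJ76))) (BT.node 80 (BT.node 78 (BT.node 77 (BT.leaf cJ77) (BT.leaf cJ78)) (BT.node 79 (BT.leaf cJ79) (BT.leaf cJ80))) (BT.node 82 (BT.node 81 (BT.leaf cJ81) (BT.leaf cJ82)) (BT.leaf cJ83)))))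 (BT.node 97 (BT.node 90 (BT.node 87 (BT.node 85 (BT.node 84 (BT.leaf cJ84) (BT.leaf cJ85)) (BT.node 86 (BT.leaf cJ86) (BT.leaf cJ87))) (BT.node 89 (BT.node 88 (BT.leaf cJ88) (BT.leaf cJ89)) (BT.leaf cJ90))) (BT.node 94 (BT.node 92 (BT.node 91 (BT.leaf cJ91) (BT.leaf cJ92)) (BT.node 93 (BT.leaf cJ93) (BT.leaf cJ94))) (BT.node 96 (BT.node 95 (BT.leaf cJ95) (BT.leaf cJ96)) (BT.leaf cJ97)))) (BT.node 104 (BT.node 101 (BT.node 99 (BT.node 98 (BT.leaf cJ98) (BT.leaf cJ99)) (BT.node 100 (BT.leaf cJ100) (BT.leaf cJ101))) (BT.node 103 (BT.node 102 (BT.leaf cJ102) (BT.leaf cJ103)) (BT.leaf cJ104))) (BT.node 107 (BT.node 106 (BT.node 105 (BT.leaf cJ105) (BT.leaf cJ106)) (BT.leaf cJ107)) (BT.node 109 (BT.node 108 (BT.leaf cJ108) (BT.leaf cJ109)) (BT.leaf cJ110))))))) (BT.node 165 (BT.node 138 (BT.node 124 (BT.node 117 (BT.node 114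 (BT.node 112 (BT.node 111 (BT.leaf cJ111) (BT.leaf cJ112)) (BT.node 113 (BT.leaf cJ113) (BT.leaf cJ114))) (BT.node 116 (BT.node 115 (BT.leaf cJ115) (BT.leaf cJ116)) (BT.leaf cJ117))) (BT.node 121 (BT.node 119 (BT.node 118 (BT.leaf cJ118) (BT.leaf cJ119)) (BT.node 120 (BT.leaf cJ120) (BT.leaf cJ121))) (BT.node 123 (BT.node 122 (BT.leaf cJ122) (BT.leaf cJ123)) (BT.leaf cJ124)))) (BT.node 131 (BT.node 128 (BT.node 126 (BT.node 125 (BT.leaf cJ125) (BT.leaf cJ126)) (BT.node 127 (BT.leaf cJ127) (BT.leaf cJ128))) (BT.node 130 (BT.node 129 (BT.leaf cJ129) (BT.leaf cJ130)) (BT.leaf cJ131))) (BT.node 135 (BT.node 133 (BT.node 132 (BT.leaf cJ132) (BT.leaf cJ133)) (BT.node 134 (BT.leaf cJ134) (BT.leaf cJ135))) (BT.node 137 (BT.node 136 (BT.leaf cJ136) (BT.leaf cJ137)) (BT.leaf cJ138))))) (BT.node 152 (BT.node 145 (BT.node 142 (BT.node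 140 (BT.node 139 (BT.leaf cJ139) (BT.leaf cJ140)) (BT.node 141 (BT.leaf cJ141) (BT.leaf cJ142))) (BT.node 144 (BT.node 143 (BT.leaf cJ143) (BT.leaf cJ144)) (BT.leaf cJ145))) (BT.node 149 (BT.node 147 (BT.node 146 (BT.leaf cJ146) (BT.leaf cJ147)) (BT.node 148 (BT.leaf cJ148) (BT.leaf cJ149))) (BT.node 151 (BT.node 150 (BT.leaf cJ150) (BT.leaf cJ151)) (BT.leaf cJ152)))) (BT.node 159 (BT.node 156 (BT.node 154 (BT.node 153 (BT.leaf cJ153) (BT.leaf cJ154)) (BT.node 155 (BT.leaf cJ155) (BT.leaf cJ156))) (BT.node 158 (BT.node 157 (BT.leaf cJ157) (BT.leaf cJ158)) (BT.leaf cJ159))) (BT.node 162 (BT.node 161 (BT.node 160 (BT.leaf cJ160) (BT.leaf cJ161)) (BT.leaf cJ162)) (BT.node 164 (BT.node 163 (BT.leaf cJ163) (BT.leaf cJ164)) (BT.leaf cJ165)))))) (BT.node 193 (BT.node 179 (BT.node 172 (BT.node 169 (BT.node 167 (BT.node 166 (BT.leaf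 cJ166) (BT.leaf cJ167)) (BT.node 168 (BT.leaf cJ168) (BT.leaf cJ169))) (BT.node 171 (BT.node 170 (BT.leaf cJ170) (BT.leaf cJ171)) (BT.leaf cJ172))) (BT.node 176 (BT.node 174 (BT.node 173 (BT.leaf cJ173) (BT.leaf cJ174)) (BT.node 175 (BT.leaf cJ175) (BT.leaf cJ176))) (BT.node 178 (BT.node 177 (BT.leaf cJ177) (BT.leaf cJ178)) (BT.leaf cJ179)))) (BT.node 186 (BT.node 183 (BT.node 181 (BT.node 180 (BT.leaf cJ180) (BT.leaf cJ181)) (BT.node 182 (BT.leaf cJ182) (BT.leaf cJ183))) (BT.node 185 (BT.node 184 (BT.leaf cJ184) (BT.leaf cJ185)) (BT.leaf cJ186))) (BT.node 190 (BT.node 188 (BT.node 187 (BT.leaf cJ187) (BT.leaf cJ188)) (BT.node 189 (BT.leaf cJ189) (BT.leaf cJ190))) (BT.node 192 (BT.node 191 (BT.leaf cJ191) (BT.leaf cJ192)) (BT.leaf cJ193))))) (BT.node 207 (BT.node 200 (BT.node 197 (BT.node 195 (BT.node 194 (BT.leaf cJ194)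 (BT.leaf cJ195)) (BT.node 196 (BT.leaf cJ196) (BT.leaf cJ197))) (BT.node 199 (BT.node 198 (BT.leaf cJ198) (BT.leaf cJ199)) (BT.leaf cJ200))) (BT.node 204 (BT.node 202 (BT.node 201 (BT.leaf cJ201) (BT.leaf cJ202)) (BT.node 203 (BT.leaf cJ203) (BT.leaf cJ204))) (BT.node 206 (BT.node 205 (BT.leaf cJ205) (BT.leaf cJ206)) (BT.leaf cJ207)))) (BT.node 214 (BT.node 211 (BT.node 209 (BT.node 208 (BT.leaf cJ208) (BT.leaf cJ209)) (BT.node 210 (BT.leaf cJ210) (BT.leaf cJ211))) (BT.node 213 (BT.node 212 (BT.leaf cJ212) (BT.leaf cJ213)) (BT.leaf cJ214))) (BT.node 217 (BT.node 216 (BT.node 215 (BT.leaf cJ215) (BT.leaf cJ216)) (BT.leaf cJ217)) (BT.node 219 (BT.node 218 (BT.leaf cJ218) (BT.leaf cJ219)) (BT.leaf cJ220)))))))) (BT.node 331 (BT.node 276 (BT.node 248 (BT.node 234 (BT.node 227 (BT.node 224 (BT.node 222 (BT.node 221 (BT.leaf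 cJ221) (BT.leaf cJ222)) (BT.node 223 (BT.leaf cJ223) (BT.leaf cJ224))) (BT.node 226 (BT.node 225 (BT.leaf cJ225) (BT.leaf cJ226)) (BT.leaf cJ227))) (BT.node 231 (BT.node 229 (BT.node 228 (BT.leaf cJ228) (BT.leaf cJ229)) (BT.node 230 (BT.leaf cJ230) (BT.leaf cJ231))) (BT.node 233 (BT.node 232 (BT.leaf cJ232) (BT.leaf cJ233)) (BT.leaf cJ234)))) (BT.node 241 (BT.node 238 (BT.node 236 (BT.node 235 (BT.leaf cJ235) (BT.leaf cJ236)) (BT.node 237 (BT.leaf cJ237) (BT.leaf cJ238))) (BT.node 240 (BT.node 239 (BT.leaf cJ239) (BT.leaf cJ240)) (BT.leaf cJ241))) (BT.node 245 (BT.node 243 (BT.node 242 (BT.leaf cJ242) (BT.leaf cJ243)) (BT.node 244 (BT.leaf cJ244) (BT.leaf cJ245))) (BT.node 247 (BT.node 246 (BT.leaf cJ246) (BT.leaf cJ247)) (BT.leaf cJ248))))) (BT.node 262 (BT.node 255 (BT.node 252 (BT.node 250 (BT.node 249 (BT.leaf cJ249)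 (BT.leaf cJ250)) (BT.node 251 (BT.leaf cJ251) (BT.leaf cJ252))) (BT.node 254 (BT.node 253 (BT.leaf cJ253) (BT.leaf cJ254)) (BT.leaf cJ255))) (BT.node 259 (BT.node 257 (BT.node 256 (BT.leaf cJ256) (BT.leaf cJ257)) (BT.node 258 (BT.leaf cJ258) (BT.leaf cJ259))) (BT.node 261 (BT.node 260 (BT.leaf cJ260) (BT.leaf cJ261)) (BT.leaf cJ262)))) (BT.node 269 (BT.node 266 (BT.node 264 (BT.node 263 (BT.leaf cJ263) (BT.leaf cJ264)) (BT.node 265 (BT.leaf cJ265) (BT.leaf cJ266))) (BT.node 268 (BT.node 267 (BT.leaf cJ267) (BT.leaf cJ268)) (BT.leaf cJ269))) (BT.node 273 (BT.node 271 (BT.node 270 (BT.leaf cJ270) (BT.leaf cJ271)) (BT.node 272 (BT.leaf cJ272) (BT.leaf cJ273))) (BT.node 275 (BT.node 274 (BT.leaf cJ274) (BT.leaf cJ275)) (BT.leaf cJ276)))))) (BT.node 304 (BT.node 290 (BT.node 283 (BT.node 280 (BT.node 278 (BT.node 277 (BT.leaf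 cJ277) (BT.leaf cJ278)) (BT.node 279 (BT.leaf cJ279) (BT.leaf cJ280))) (BT.node 282 (BT.node 281 (BT.leaf cJ281) (BT.leaf cJ282)) (BT.leaf cJ283))) (BT.node 287 (BT.node 285 (BT.node 284 (BT.leaf cJ284) (BT.leaf cJ285)) (BT.node 286 (BT.leaf cJ286) (BT.leaf cJ287))) (BT.node 289 (BT.node 288 (BT.leaf cJ288) (BT.leaf cJ289)) (BT.leaf cJ290)))) (BT.node 297 (BT.node 294 (BT.node 292 (BT.node 291 (BT.leaf cJ291) (BT.leaf cJ292)) (BT.node 293 (BT.leaf cJ293) (BT.leaf cJ294))) (BT.node 296 (BT.node 295 (BT.leaf cJ295) (BT.leaf cJ296)) (BT.leaf cJ297))) (BT.node 301 (BT.node 299 (BT.node 298 (BT.leaf cJ298) (BT.leaf cJ299)) (BT.node 300 (BT.leaf cJ300) (BT.leaf cJ301))) (BT.node 303 (BT.node 302 (BT.leaf cJ302) (BT.leaf cJ303)) (BT.leaf cJ304))))) (BT.node 318 (BT.node 311 (BT.node 308 (BT.node 306 (BT.node 305 (BT.leaf cJ305)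 (BT.leaf cJ306)) (BT.node 307 (BT.leaf cJ307) (BT.leaf cJ308))) (BT.node 310 (BT.node 309 (BT.leaf cJ309) (BT.leaf cJ310)) (BT.leaf cJ311))) (BT.node 315 (BT.node 313 (BT.node 312 (BT.leaf cJ312) (BT.leaf cJ313)) (BT.node 314 (BT.leaf cJ314) (BT.leaf cJ315))) (BT.node 317 (BT.node 316 (BT.leaf cJ316) (BT.leaf cJ317)) (BT.leaf cJ318)))) (BT.node 325 (BT.node 322 (BT.node 320 (BT.node 319 (BT.leaf cJ319) (BT.leaf cJ320)) (BT.node 321 (BT.leaf cJ321) (BT.leaf cJ322))) (BT.node 324 (BT.node 323 (BT.leaf cJ323) (BT.leaf cJ324)) (BT.leaf cJ325))) (BT.node 328 (BT.node 327 (BT.node 326 (BT.leaf cJ326) (BT.leaf cJ327)) (BT.leaf cJ328)) (BT.node 330 (BT.node 329 (BT.leaf cJ329) (BT.leaf cJ330)) (BT.leaf cJ331))))))) (BT.node 386 (BT.node 359 (BT.node 345 (BT.node 338 (BT.node 335 (BT.node 333 (BT.node 332 (BT.leaf cJ332) (BT.leaf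 cJ333)) (BT.node 334 (BT.leaf cJ334) (BT.leaf cJ335))) (BT.node 337 (BT.node 336 (BT.leaf cJ336) (BT.leaf cJ337)) (BT.leaf cJ338))) (BT.node 342 (BT.node 340 (BT.node 339 (BT.leaf cJ339) (BT.leaf cJ340)) (BT.node 341 (BT.leaf cJ341) (BT.leaf cJ342))) (BT.node 344 (BT.node 343 (BT.leaf cJ343) (BT.leaf cJ344)) (BT.leaf cJ345)))) (BT.node 352 (BT.node 349 (BT.node 347 (BT.node 346 (BT.leaf cJ346) (BT.leaf cJ347)) (BT.node 348 (BT.leaf cJ348) (BT.leaf cJ349))) (BT.node 351 (BT.node 350 (BT.leaf cJ350) (BT.leaf cJ351)) (BT.leaf cJ352))) (BT.node 356 (BT.node 354 (BT.node 353 (BT.leaf cJ353) (BT.leaf cJ354)) (BT.node 355 (BT.leaf cJ355) (BT.leaf cJ356))) (BT.node 358 (BT.node 357 (BT.leaf cJ357) (BT.leaf cJ358)) (BT.leaf cJ359))))) (BT.node 373 (BT.node 366 (BT.node 363 (BT.node 361 (BT.node 360 (BT.leaf cJ360) (BT.leaf cJ361))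 (BT.node 362 (BT.leaf cJ362) (BT.leaf cJ363))) (BT.node 365 (BT.node 364 (BT.leaf cJ364) (BT.leaf cJ365)) (BT.leaf cJ366))) (BT.node 370 (BT.node 368 (BT.node 367 (BT.leaf cJ367) (BT.leaf cJ368)) (BT.node 369 (BT.leaf cJ369) (BT.leaf cJ370))) (BT.node 372 (BT.node 371 (BT.leaf cJ371) (BT.leaf cJ372)) (BT.leaf cJ373)))) (BT.node 380 (BT.node 377 (BT.node 375 (BT.node 374 (BT.leaf cJ374) (BT.leaf cJ375)) (BT.node 376 (BT.leaf cJ376) (BT.leaf cJ377))) (BT.node 379 (BT.node 378 (BT.leaf cJ378) (BT.leaf cJ379)) (BT.leaf cJ380))) (BT.node 383 (BT.node 382 (BT.node 381 (BT.leaf cJ381) (BT.leaf cJ382)) (BT.leaf cJ383)) (BT.node 385 (BT.node 384 (BT.leaf cJ384) (BT.leaf cJ385)) (BT.leaf cJ386)))))) (BT.node 414 (BT.node 400 (BT.node 393 (BT.node 390 (BT.node 388 (BT.node 387 (BT.leaf cJ387) (BT.leaf cJ388)) (BT.node 389 (BT.leaf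 cJ389) (BT.leaf cJ390))) (BT.node 392 (BT.node 391 (BT.leaf cJ391) (BT.leaf cJ392)) (BT.leaf cJ393))) (BT.node 397 (BT.node 395 (BT.node 394 (BT.leaf cJ394) (BT.leaf cJ395)) (BT.node 396 (BT.leaf cJ396) (BT.leaf cJ397))) (BT.node 399 (BT.node 398 (BT.leaf cJ398) (BT.leaf cJ399)) (BT.leaf cJ400)))) (BT.node 407 (BT.node 404 (BT.node 402 (BT.node 401 (BT.leaf cJ401) (BT.leaf cJ402)) (BT.node 403 (BT.leaf cJ403) (BT.leaf cJ404))) (BT.node 406 (BT.node 405 (BT.leaf cJ405) (BT.leaf cJ406)) (BT.leaf cJ407))) (BT.node 411 (BT.node 409 (BT.node 408 (BT.leaf cJ408) (BT.leaf cJ409)) (BT.node 410 (BT.leaf cJ410) (BT.leaf cJ411))) (BT.node 413 (BT.node 412 (BT.leaf cJ412) (BT.leaf cJ413)) (BT.leaf cJ414))))) (BT.node 428 (BT.node 421 (BT.node 418 (BT.node 416 (BT.node 415 (BT.leaf cJ415) (BT.leaf cJ416)) (BT.node 417 (BT.leaf cJ417)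 (BT.leaf cJ418))) (BT.node 420 (BT.node 419 (BT.leaf cJ419) (BT.leaf cJ420)) (BT.leaf cJ421))) (BT.node 425 (BT.node 423 (BT.node 422 (BT.leaf cJ422) (BT.leaf cJ423)) (BT.node 424 (BT.leaf cJ424) (BT.leaf cJ425))) (BT.node 427 (BT.node 426 (BT.leaf cJ426) (BT.leaf cJ427)) (BT.leaf cJ428)))) (BT.node 435 (BT.node 432 (BT.node 430 (BT.node 429 (BT.leaf cJ429) (BT.leaf cJ430)) (BT.node 431 (BT.leaf cJ431) (BT.leaf cJ432))) (BT.node 434 (BT.node 433 (BT.leaf cJ433) (BT.leaf cJ434)) (BT.leaf cJ435))) (BT.node 438 (BT.node 437 (BT.node 436 (BT.leaf cJ436) (BT.leaf cJ437)) (BT.leaf cJ438)) (BT.node 440 (BT.node 439 (BT.leaf cJ439) (BT.leaf cJ440)) (BT.leaf cJ441)))))))))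
/-- parent chunks -/
def parCT : BT ℕ := (BT.node 16 (BT.node 8 (BT.node 4 (BT.node 2 (BT.node 1 (BT.node 0 (BT.leaf cP0) (BT.leaf cP1)) (BT.leaf cP2)) (BT.node 3 (BT.leaf cP3) (BT.leaf cP4))) (BT.node 6 (BT.node 5 (BT.leaf cP5) (BT.leaf cP6)) (BT.node 7 (BT.leaf cP7) (BT.leaf cP8)))) (BT.node 12 (BT.node 10 (BT.node 9 (BT.leaf cP9) (BT.leaf cP10)) (BT.node 11 (BT.leaf cP11) (BT.leaf cP12))) (BT.node 14 (BT.node 13 (BT.leaf cP13) (BT.leaf cP14)) (BT.node 15 (BT.leaf cP15) (BT.leaf cP16))))) (BT.node 25 (BT.node 21 (BT.node 19 (BT.node 18 (BT.node 17 (BT.leaf cP17) (BT.leaf cP18)) (BT.leaf cP19)) (BT.node 20 (BT.leaf cP20) (BT.leaf cP21))) (BT.node 23 (BT.node 22 (BT.leaf cP22) (BT.leaf cP23)) (BT.node 24 (BT.leaf cP24) (BT.leaf cP25)))) (BT.node 29 (BT.node 27 (BT.node 26 (BT.leaf cP26) (BT.leaf cP27)) (BT.node 28 (BT.leaf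 cP28) (BT.leaf cP29))) (BT.node 31 (BT.node 30 (BT.leaf cP30) (BT.leaf cP31)) (BT.node 32 (BT.leaf cP32) (BT.leaf cP33))))))
/-- the certificate -/
def data : Data where
  k := 12
  N := 17372
  W := 33
  MW := 8589934592
  B := 32768
  CH := 512
  NCH := 34
  colE := colET
  JW := 64
  MJ := 18446744073709551616
  A := 1048576
  colJ := colJT
  PW := 25
  MP := 33554432
  parC := parCT
  inv := (BT.node 6 (BT.node 3 (BT.node 1 (BT.node 0 (BT.leaf 1) (BT.leaf 0)) (BT.node 2 (BT.leaf 3) (BT.leaf 2))) (BT.node 5 (BT.node 4 (BT.leaf 5) (BT.leaf 4)) (BT.leaf 7))) (BT.node 9 (BT.node 8 (BT.node 7 (BT.leaf 6) (BT.leaf 9)) (BT.leaf 8)) (BT.node 11 (BT.node 10 (BT.leaf 11) (BT.leaf 10)) (BT.leaf 12))))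
  rel := relT
  sub := subT
  fuel := 64

end Cfsg.Agent.Lib.Helper16.RuM.P3Data
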