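import Cfsg.Agent.Lib.Helper16.RuM.P3Data
set_option autoImplicit false
set_option maxRecDepth 100000
set_option maxHeartbeats 0

namespace Cfsg.Agent.Lib.Helper16.RuM.P3U5
open Cfsg.Agent.Lib.Helper28.TC2Upper Cfsg.Agent.Lib.Helper16.RuM.P3Data

theorem chk25 : data.checkRange 16683 467 = true := by decide +kernel
theorem chk26 : data.checkRange 17150 222 = true := by decide +kernel

end Cfsg.Agent.Lib.Helper16.RuM.P3U5
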