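import Cfsg.Agent.Lib.Helper28.TC2Glue
import Cfsg.Agent.Lib.Helper28.TC2Range
import Cfsg.Agent.Lib.Helper16.RuM.P3Link
import Cfsg.Agent.Lib.Helper16.RuM.P3M0
import Cfsg.Agent.Lib.Helper16.RuM.P3M1
import Cfsg.Agent.Lib.Helper16.RuM.P3U0
import Cfsg.Agent.Lib.Helper16.RuM.P3U1
import Cfsg.Agent.Lib.Helper16.RuM.P3U2
import Cfsg.Agent.Lib.Helper16.RuM.P3U3
import Cfsg.Agent.Lib.Helper16.RuM.P3U4
import Cfsg.Agent.Lib.Helper16.RuM.P3U5

set_option autoImplicit false
set_option maxRecDepth 100000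
open Cfsg

namespace Cfsg.Agent.Lib.Helper16.RuM.P3MainU
open Cfsg.Agent.Lib.Helper28.TC2Upper Cfsg.Agent.Lib.Helper28.TC2Lower Cfsg.Agent.Lib.Helper28.TC2Glue Cfsg.Agent.Lib.Helper28.TC2Range
open Cfsg.Agent.Lib.Helper16.RuM.P3Data Cfsg.Agent.Lib.Helper16.RuM.P3Table Cfsg.Agent.Lib.Helper16.RuM.P3Link

theorem hchk : ∀ v, v < data.N → data.checkNode v = true := by
  intro v hv
  have hv' : v < 17372 := hv
  rcases Nat.lt_or_ge v 512 with h0 | h0
  · exact (data.checkRange_iff 0 512).mp Cfsg.Agent.Lib.Helper16.RuM.P3U0.chk0 v (by omega) (by omega)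
  rcases Nat.lt_or_ge v 1033 with h1 | h1
  · exact (data.checkRange_iff 512 521).mp Cfsg.Agent.Lib.Helper16.RuM.P3U0.chk1 v (by omega) (by omega)
  rcases Nat.lt_or_ge v 1599 with h2 | h2
  · exact (data.checkRange_iff 1033 566).mp Cfsg.Agent.Lib.Helper16.RuM.P3U0.chk2 v (by omega) (by omega)
  rcases Nat.lt_or_ge v 2152 with h3 | h3
  · exact (data.checkRange_iff 1599 553).mp Cfsg.Agent.Lib.Helper16.RuM.P3U0.chk3 v (by omega) (by omega)
  rcases Nat.lt_or_ge v 2717 with h4 | h4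
  · exact (data.checkRange_iff 2152 565).mp Cfsg.Agent.Lib.Helper16.RuM.P3U0.chk4 v (by omega) (by omega)
  rcases Nat.lt_or_ge v 3321 with h5 | h5
  · exact (data.checkRange_iff 2717 604).mp Cfsg.Agent.Lib.Helper16.RuM.P3U1.chk5 v (by omega) (by omega)
  rcases Nat.lt_or_ge v 3983 with h6 | h6
  · exact (data.checkRange_iff 3321 662).mp Cfsg.Agent.Lib.Helper16.RuM.P3U1.chk6 v (by omega) (by omega)
  rcases Nat.lt_or_ge v 4626 with h7 | h7
  · exact (data.checkRange_iff 3983 643).mp Cfsg.Agent.Lib.Helper16.RuM.P3U1.chk7 v (by omega) (by omega)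
  rcases Nat.lt_or_ge v 5349 with h8 | h8
  · exact (data.checkRange_iff 4626 723).mp Cfsg.Agent.Lib.Helper16.RuM.P3U1.chk8 v (by omega) (by omega)
  rcases Nat.lt_or_ge v 5999 with h9 | h9
  · exact (data.checkRange_iff 5349 650).mp Cfsg.Agent.Lib.Helper16.RuM.P3U1.chk9 v (by omega) (by omega)
  rcases Nat.lt_or_ge v 6655 with h10 | h10
  · exact (data.checkRange_iff 5999 656).mp Cfsg.Agent.Lib.Helper16.RuM.P3U2.chk10 v (by omega) (by omega)
  rcases Nat.lt_or_ge v 7280 with h11 | h11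
  · exact (data.checkRange_iff 6655 625).mp Cfsg.Agent.Lib.Helper16.RuM.P3U2.chk11 v (by omega) (by omega)
  rcases Nat.lt_or_ge v 7933 with h12 | h12
  · exact (data.checkRange_iff 7280 653).mp Cfsg.Agent.Lib.Helper16.RuM.P3U2.chk12 v (by omega) (by omega)
  rcases Nat.lt_or_ge v 8606 with h13 | h13
  · exact (data.checkRange_iff 7933 673).mp Cfsg.Agent.Lib.Helper16.RuM.P3U2.chk13 v (by omega) (by omega)
  rcases Nat.lt_or_ge v 9281 with h14 | h14
  · exact (data.checkRange_iff 8606 675).mp Cfsg.Agent.Lib.Helper16.RuM.P3U2.chk14 v (by omega) (by omega)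
  rcases Nat.lt_or_ge v 9995 with h15 | h15
  · exact (data.checkRange_iff 9281 714).mp Cfsg.Agent.Lib.Helper16.RuM.P3U3.chk15 v (by omega) (by omega)
  rcases Nat.lt_or_ge v 10702 with h16 | h16
  · exact (data.checkRange_iff 9995 707).mp Cfsg.Agent.Lib.Helper16.RuM.P3U3.chk16 v (by omega) (by omega)
  rcases Nat.lt_or_ge v 11472 with h17 | h17
  · exact (data.checkRange_iff 10702 770).mp Cfsg.Agent.Lib.Helper16.RuM.P3U3.chk17 v (by omega) (by omega)
  rcases Nat.lt_or_ge v 12309 with h18 | h18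
  · exact (data.checkRange_iff 11472 837).mp Cfsg.Agent.Lib.Helper16.RuM.P3U3.chk18 v (by omega) (by omega)
  rcases Nat.lt_or_ge v 13124 with h19 | h19
  · exact (data.checkRange_iff 12309 815).mp Cfsg.Agent.Lib.Helper16.RuM.P3U3.chk19 v (by omega) (by omega)
  rcases Nat.lt_or_ge v 14019 with h20 | h20
  · exact (data.checkRange_iff 13124 895).mp Cfsg.Agent.Lib.Helper16.RuM.P3U4.chk20 v (by omega) (by omega)
  rcases Nat.lt_or_ge v 14900 with h21 | h21
  · exact (data.checkRange_iff 14019 881).mp Cfsg.Agent.Lib.Helper16.RuM.P3U4.chk21 v (by omega) (by omega)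
  rcases Nat.lt_or_ge v 15724 with h22 | h22
  · exact (data.checkRange_iff 14900 824).mp Cfsg.Agent.Lib.Helper16.RuM.P3U4.chk22 v (by omega) (by omega)
  rcases Nat.lt_or_ge v 16210 with h23 | h23
  · exact (data.checkRange_iff 15724 486).mp Cfsg.Agent.Lib.Helper16.RuM.P3U4.chk23 v (by omega) (by omega)
  rcases Nat.lt_or_ge v 16683 with h24 | h24
  · exact (data.checkRange_iff 16210 473).mp Cfsg.Agent.Lib.Helper16.RuM.P3U4.chk24 v (by omega) (by omega)
  rcases Nat.lt_or_ge v 17150 with h25 | h25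
  · exact (data.checkRange_iff 16683 467).mp Cfsg.Agent.Lib.Helper16.RuM.P3U5.chk25 v (by omega) (by omega)
  exact (data.checkRange_iff 17150 222).mp Cfsg.Agent.Lib.Helper16.RuM.P3U5.chk26 v (by omega) (by omega)

theorem hrows : ∀ v, v < data.N → Data.rowOK data v = true := by
  intro v hv
  have hv' : v < 17372 := hv
  rcases Nat.lt_or_ge v 6000 with h0 | h0
  · exact (Data.finalRange_iff data 0 6000).mp Cfsg.Agent.Lib.Helper16.RuM.P3M0.fin0 v (by omega) (by omega)
  rcases Nat.lt_or_ge v 12000 with h1 | h1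
  · exact (Data.finalRange_iff data 6000 6000).mp Cfsg.Agent.Lib.Helper16.RuM.P3M0.fin1 v (by omega) (by omega)
  exact (Data.finalRange_iff data 12000 5372).mp Cfsg.Agent.Lib.Helper16.RuM.P3M0.fin2 v (by omega) (by omega)

theorem hfin : data.finalOK = true := Data.finalOK_of_rows data Cfsg.Agent.Lib.Helper16.RuM.P3M0.hlive0 (by decide) hrows

theorem pc0 : Data.countFrom data 0 6000 = 3496 := Cfsg.Agent.Lib.Helper16.RuM.P3M0.cnt0
theorem pc1 : Data.countFrom data 0 12000 = 5832 := Data.countFrom_step data pc0 Cfsg.Agent.Lib.Helper16.RuM.P3M1.cnt1 (by norm_num) (by norm_num)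
theorem pc2 : Data.countFrom data 0 17372 = 8120 := Data.countFrom_step data pc1 Cfsg.Agent.Lib.Helper16.RuM.P3M1.cnt2 (by norm_num) (by norm_num)

theorem hcount : data.countLive = 8120 := by
  rw [Data.countLive_eq]
  exact pc2

/-- the number of cosets is at most `8120` -/
theorem mainU : Finite (PresentedGroup rels ⧸ (Subgroup.closure S).map (PresentedGroup.mk rels)) ∧
    Nat.card (PresentedGroup rels ⧸ (Subgroup.closure S).map (PresentedGroup.mk rels)) ≤ 8120 := by
  have h := upper link hchk hfin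
  rw [hcount] at h
  exact h

end Cfsg.Agent.Lib.Helper16.RuM.P3MainU
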