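import Cfsg.Agent.Lib.Helper28.TC2Range
import Cfsg.Agent.Lib.Helper3.TCX.RuPTable
set_option autoImplicit false
set_option maxRecDepth 100000
set_option maxHeartbeats 0

namespace Cfsg.Agent.Lib.Helper16.RuM.RuIsoChk
open Cfsg.Agent.Lib.Helper28.TC2Upper Cfsg.Agent.Lib.Helper28.TC2Lower Cfsg.Agent.Lib.Helper28.TC2Range Cfsg.Agent.Lib.Helper3.TCX.RuPTable

/-- the paths of the relators of the extended presentation, written in the five involutions -/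
def subPaths : List (List ℕ) := [[1, 1], [2, 1, 0, 2, 0, 1, 2, 1, 0, 2, 0, 1, 2, 1, 0, 2, 0, 1, 2, 1, 0, 2, 0, 1], [2, 1, 0, 2, 0, 2, 1, 0, 2, 0, 1, 2, 1, 0, 2, 0, 2, 1, 0, 2, 0, 1, 2, 1, 0, 2, 0, 2, 1, 0, 2, 0, 1, 2, 1, 0, 2, 0, 2, 1, 0, 2, 0, 1], [2, 1, 0, 2, 0, 2, 1, 0, 2, 0, 2, 1, 0, 2, 0, 2, 1, 0, 2, 0, 2, 1, 0, 2, 0, 2, 1, 0, 2, 0, 2, 1, 0, 2, 0, 2, 1, 0, 2, 0, 2, 1, 0, 2, 0, 2, 1, 0, 2, 0, 2, 1, 0, 2, 0, 2, 1, 0, 2, 0, 2, 1, 0, 2, 0], [2, 1, 0, 2, 0, 2, 1, 0, 2, 0, 2, 1, 0, 2, 0, 2, 1, 0, 2, 0, 1, 2, 1, 0, 2, 0, 2, 1, 0, 2, 0, 2, 1, 0, 2, 0, 2, 1, 0, 2, 0, 1, 2, 1, 0, 2, 0, 2, 1, 0, 2, 0, 2, 1, 0, 2, 0, 2, 1, 0, 2, 0, 1], [2, 1, 0, 2, 0, 0, 2, 0, 1, 2], [0, 0], [2, 2], [3, 3], [1, 0, 1, 0], [2, 0, 2, 0, 2, 0, 2, 0, 2, 0, 2, 0, 2, 0, 2, 0, 2, 0, 2, 0, 2, 0, 2, 0], [3, 0, 3, 0], [2, 1, 2, 1, 2, 1, 2,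 1], [3, 1, 3, 1], [3, 2, 3, 2, 3, 2, 3, 2], [2, 1, 2, 0, 2, 0, 2, 0, 2, 0, 2, 1, 2, 0, 2, 0, 2, 0, 2, 0, 2, 1, 2, 0, 2, 0, 2, 0, 2, 0], [2, 1, 2, 0, 2, 1, 2, 0, 2, 0, 1, 2, 1, 2, 0, 2, 0, 2, 1, 2, 1, 0, 2, 0, 2, 1, 2, 0, 2, 1], [0, 2, 0, 1, 2, 0, 2, 0, 2, 0, 2, 0, 2, 1, 0, 2, 1, 2, 0, 2, 0, 2, 0, 2, 0, 2, 0, 2, 1], [3, 2, 0, 2, 0, 2, 0, 2, 3, 0, 2, 0, 2, 0, 2, 0, 2, 3, 2, 1, 2, 1, 0, 2, 0, 2, 0, 2, 0, 2, 1, 2, 1], [3, 2, 0, 2, 1, 3, 2, 0, 2, 1, 3, 2, 1, 2, 3, 2, 1, 2, 3, 1, 2, 0, 2, 1, 2, 3, 1, 0, 2, 3, 2, 0, 2], [3, 2, 0, 2, 1, 3, 2, 0, 2, 1, 2, 3, 2, 1, 2, 0, 2, 3, 1, 2, 0, 2, 3, 2, 1, 0, 2, 0, 2, 1, 0, 2], [3, 2, 0, 2, 1, 3, 2, 0, 3, 2, 3, 1, 3, 2, 3, 0, 2, 3, 1, 2, 0, 2, 3, 2, 1, 0, 2, 0, 2, 1, 0, 2], [3, 2, 1, 2, 0, 2, 3, 2, 1, 2, 0, 2, 1, 2, 3, 2, 0, 2, 1, 2, 3, 2, 1, 2, 0, 2, 1, 2, 0, 2, 1, 2], [3,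 2, 1, 3, 2, 0, 2, 1, 3, 2, 0, 3, 0, 2, 0, 2, 1, 2, 0, 2, 1, 2, 3, 2, 1, 2, 0, 2, 1, 2, 0, 2], [4, 4], [4, 0, 4, 0], [4, 1, 4, 1], [4, 2, 4, 2, 4, 2, 4, 2], [4, 3, 4, 3, 4, 3, 4, 3], [4, 2, 0, 2, 0, 2, 4, 0, 4, 2, 0, 2, 0, 2, 4, 1, 2, 0, 2, 0, 2, 0, 2, 0, 2, 0, 2, 1], [4, 2, 0, 2, 0, 3, 4, 2, 4, 1, 2, 4, 3, 0, 2, 0, 2, 4, 1, 2, 0, 2, 1, 0, 2, 0, 2, 1], [4, 2, 0, 2, 3, 4, 3, 2, 1, 4, 3, 2, 3, 2, 3, 2, 4, 3, 2, 3, 4, 3, 0, 2, 4, 2, 1, 2], [4, 2, 0, 2, 4, 2, 1, 4, 3, 2, 0, 1, 0, 2, 3, 4, 1, 2, 4, 2, 0, 2, 4, 1, 2, 3, 2, 1], [4, 2, 0, 3, 2, 3, 0, 2, 3, 0, 2, 4, 1, 0, 2, 0, 2, 0, 2, 3, 0, 2, 0, 2, 0, 2, 1, 0], [4, 2, 1, 2, 4, 3, 2, 1, 4, 2, 3, 2, 4, 2, 1, 2, 4, 2, 3, 4, 2, 4, 1, 2, 3, 2, 1, 2], [4, 2, 1, 3, 2, 4, 2, 3, 2, 0, 1, 0, 2, 3, 1, 2, 4, 2, 3, 0, 2, 4, 1, 2, 3, 0, 2, 1], [4, 2, 1, 3, 2, 4, 2, 4, 0, 1,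 2, 4, 2, 3, 1, 2, 4, 2, 0, 2, 1, 2, 0, 2, 1, 2, 0, 2], [4, 2, 1, 4, 3, 4, 2, 1, 2, 4, 2, 4, 2, 0, 2, 4, 1, 2, 3, 4, 2, 4, 1, 2, 1, 0, 2, 1], [4, 2, 3, 2, 1, 2, 4, 2, 1, 2, 1, 3, 2, 4, 1, 2, 4, 3, 2, 1, 2, 4, 2, 1, 2, 3, 2, 1], [4, 2, 3, 2, 4, 2, 0, 3, 4, 3, 1, 2, 4, 2, 3, 2, 4, 2, 0, 2, 1, 2, 0, 2, 1, 2, 0, 2], [4, 3, 4, 2, 1, 3, 4, 2, 1, 2, 0, 2, 1, 2, 4, 3, 2, 4, 3, 4, 2, 1, 2, 3, 0, 2, 1, 2], [4, 3, 2, 1, 2, 4, 2, 3, 4, 1, 4, 3, 2, 4, 0, 2, 1, 2, 4, 2, 1, 2, 3, 0], [4, 3, 2, 1, 2, 4, 2, 3, 4, 2, 3, 2, 3, 2, 4, 3, 1, 2, 4, 3, 4, 3, 2, 3], [4, 3, 2, 4, 2, 4, 3, 2, 4, 2, 3, 4, 3, 2, 4, 2, 3, 4, 1, 2, 4, 2, 3]]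

theorem rel0 : table.relOK subPaths 0 254 = true := by decide +kernel
theorem rel1 : table.relOK subPaths 254 254 = true := by decide +kernel
theorem rel2 : table.relOK subPaths 508 254 = true := by decide +kernel
theorem rel3 : table.relOK subPaths 762 254 = true := by decide +kernel
theorem rel4 : table.relOK subPaths 1016 254 = true := by decide +kernel
theorem rel5 : table.relOK subPaths 1270 254 = true := by decide +kernel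
theorem rel6 : table.relOK subPaths 1524 254 = true := by decide +kernel
theorem rel7 : table.relOK subPaths 1778 254 = true := by decide +kernel
theorem rel8 : table.relOK subPaths 2032 254 = true := by decide +kernel
theorem rel9 : table.relOK subPaths 2286 254 = true := by decide +kernel
theorem rel10 : table.relOK subPaths 2540 254 = true := by decide +kernel
theorem rel11 : table.relOK subPaths 2794 254 = true := by decide +kernel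
theorem rel12 : table.relOK subPaths 3048 254 = true := by decide +kernel
theorem rel13 : table.relOK subPaths 3302 254 = true := by decide +kernel
theorem rel14 : table.relOK subPaths 3556 254 = true := by decide +kernel
theorem rel15 : table.relOK subPaths 3810 250 = true := by decide +kernel

theorem hsubT : ∀ P ∈ subPaths, ∀ p, p < 4060 → table.walkT P p = p := by
  intro P hm p hv
  rcases Nat.lt_or_ge p 254 with h0 | h0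
  · exact (Table.relOK_iff subPaths 0 254).mp rel0 p (by omega) (by omega) _ hm
  rcases Nat.lt_or_ge p 508 with h1 | h1
  · exact (Table.relOK_iff subPaths 254 254).mp rel1 p (by omega) (by omega) _ hm
  rcases Nat.lt_or_ge p 762 with h2 | h2
  · exact (Table.relOK_iff subPaths 508 254).mp rel2 p (by omega) (by omega) _ hm
  rcases Nat.lt_or_ge p 1016 with h3 | h3
  · exact (Table.relOK_iff subPaths 762 254).mp rel3 p (by omega) (by omega) _ hm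
  rcases Nat.lt_or_ge p 1270 with h4 | h4
  · exact (Table.relOK_iff subPaths 1016 254).mp rel4 p (by omega) (by omega) _ hm
  rcases Nat.lt_or_ge p 1524 with h5 | h5
  · exact (Table.relOK_iff subPaths 1270 254).mp rel5 p (by omega) (by omega) _ hm
  rcases Nat.lt_or_ge p 1778 with h6 | h6
  · exact (Table.relOK_iff subPaths 1524 254).mp rel6 p (by omega) (by omega) _ hm
  rcases Nat.lt_or_ge p 2032 with h7 | h7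
  · exact (Table.relOK_iff subPaths 1778 254).mp rel7 p (by omega) (by omega) _ hm
  rcases Nat.lt_or_ge p 2286 with h8 | h8
  · exact (Table.relOK_iff subPaths 2032 254).mp rel8 p (by omega) (by omega) _ hm
  rcases Nat.lt_or_ge p 2540 with h9 | h9
  · exact (Table.relOK_iff subPaths 2286 254).mp rel9 p (by omega) (by omega) _ hm
  rcases Nat.lt_or_ge p 2794 with h10 | h10
  · exact (Table.relOK_iff subPaths 2540 254).mp rel10 p (by omega) (by omega) _ hm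
  rcases Nat.lt_or_ge p 3048 with h11 | h11
  · exact (Table.relOK_iff subPaths 2794 254).mp rel11 p (by omega) (by omega) _ hm
  rcases Nat.lt_or_ge p 3302 with h12 | h12
  · exact (Table.relOK_iff subPaths 3048 254).mp rel12 p (by omega) (by omega) _ hm
  rcases Nat.lt_or_ge p 3556 with h13 | h13
  · exact (Table.relOK_iff subPaths 3302 254).mp rel13 p (by omega) (by omega) _ hm
  rcases Nat.lt_or_ge p 3810 with h14 | h14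
  · exact (Table.relOK_iff subPaths 3556 254).mp rel14 p (by omega) (by omega) _ hm
  exact (Table.relOK_iff subPaths 3810 250).mp rel15 p (by omega) (by omega) _ hm

end Cfsg.Agent.Lib.Helper16.RuM.RuIsoChk
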