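import Cfsg.Agent.Lib.Helper3.TCX.RuPSimple
import Cfsg.Agent.Lib.Helper3.Cover.Basic
import Cfsg.Agent.Lib.Helper16.RuM.E3Def
import Cfsg.Agent.Lib.Helper16.RuM.RuIsoChk
set_option autoImplicit false
set_option maxRecDepth 100000

/-!
# The extended presentation of the Rudvalis group

`E3Def.R` presents helper3's group `RuPSimple.P` (five involutions `a, …, e`) with one more generator
`v = a c a b c` of order 13; `⟨b, v⟩` is `L₃(3)` and `⟨a, b, c, d, v⟩` the Tits group, so that the tower consists of
perfect groups on subsets of the generators.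
-/

namespace Cfsg.Agent.Lib.Helper16.RuM.RuIso
open Cfsg.Agent.Lib.Helper3.Cover Cfsg.Agent.Lib.Helper3.TCX
open Cfsg.Agent.Lib.Helper28.TC2Upper Cfsg.Agent.Lib.Helper28.TC2Lower Cfsg.Agent.Lib.Helper28.TC2Glue

/-- helper3's presented group -/
abbrev Q : Type := RuPSimple.P
/-- the five involutions -/
abbrev G5 : Type := RuPDef.Gen
/-- the group of the extended presentation -/
abbrev PP : Type := PresentedGroup (relSet E3Def.R)

/-- the letters of the extended presentation as words in the five involutions -/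
def sub : E3Def.Gen × Bool → List (G5 × Bool)
  | (.a, _) => [(.a, true)]
  | (.b, _) => [(.b, true)]
  | (.c, _) => [(.c, true)]
  | (.d, _) => [(.d, true)]
  | (.e, _) => [(.e, true)]
  | (.v, true) => [(.a, true), (.c, true), (.a, true), (.b, true), (.c, true)]
  | (.v, false) => [(.c, true), (.b, true), (.a, true), (.c, true), (.a, true)]

/-- substitution in a word -/
def subWord (L : List (E3Def.Gen × Bool)) : List (G5 × Bool) := L.flatMap sub

/-- the element of a word -/
def mkQ (W : List (G5 × Bool)) : Q := PresentedGroup.mk RuPLink.rels (FreeGroup.mk W)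

theorem mkQ_append (U V : List (G5 × Bool)) : mkQ (U ++ V) = mkQ U * mkQ V := by
  unfold mkQ
  rw [← FreeGroup.mul_mk, map_mul]

theorem mkQ_nil : mkQ [] = 1 := by
  unfold mkQ
  rw [← FreeGroup.one_eq_mk, map_one]

theorem mkQ_single (x : G5) : mkQ [(x, true)] = PresentedGroup.of x := rfl

theorem of_inv (x : G5) : (PresentedGroup.of x : Q)⁻¹ = PresentedGroup.of x := by
  cases x <;> exact invol_of_mem_coxNodes _ _ (by decide)

/-- the images of the generators -/
def img (x : E3Def.Gen) : Q := mkQ (sub (x, true))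

theorem mkQ_sub_false (x : E3Def.Gen) : mkQ (sub (x, false)) = (img x)⁻¹ := by
  cases x
  · show mkQ [(.a, true)] = (mkQ [(.a, true)])⁻¹
    rw [mkQ_single, of_inv]
  · show mkQ [(.b, true)] = (mkQ [(.b, true)])⁻¹
    rw [mkQ_single, of_inv]
  · show mkQ [(.c, true)] = (mkQ [(.c, true)])⁻¹
    rw [mkQ_single, of_inv]
  · show mkQ [(.d, true)] = (mkQ [(.d, true)])⁻¹
    rw [mkQ_single, of_inv]
  · show mkQ [(.e, true)] = (mkQ [(.e, true)])⁻¹
    rw [mkQ_single, of_inv]
  · show mkQ ([(.c, true)] ++ ([(.b, true)] ++ ([(.a, true)] ++ ([(.c, true)] ++ [(.a, true)])))) =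
      (mkQ ([(.a, true)] ++ ([(.c, true)] ++ ([(.a, true)] ++ ([(.b, true)] ++ [(.c, true)])))))⁻¹
    simp only [mkQ_append, mkQ_single, mul_inv_rev, of_inv, mul_assoc]

theorem cond_img (xb : E3Def.Gen × Bool) : cond xb.2 (img xb.1) (img xb.1)⁻¹ = mkQ (sub xb) := by
  obtain ⟨x, b⟩ := xb
  cases b
  · exact (mkQ_sub_false x).symm
  · rfl

theorem lift_img (L : List (E3Def.Gen × Bool)) :
    FreeGroup.lift img (FreeGroup.mk L) = mkQ (subWord L) := by
  rw [FreeGroup.lift_mk]
  induction L with
  | nil => exact mkQ_nil.symm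
  | cons xb L ih =>
    rw [List.map_cons, List.prod_cons, ih, cond_img]
    show _ = mkQ (sub xb ++ subWord L)
    rw [mkQ_append]

/-- a word in the five involutions that fixes all 4060 points is trivial -/
theorem mkQ_eq_one_of_walk (W : List (G5 × Bool))
    (h : ∀ p, p < 4060 → RuPTable.table.walkT (pathOf RuPLink.lw W) p = p) : mkQ W = 1 := by
  have main' : ∃ φ : RuPSimple.P →* Equiv.Perm (Fin RuPTable.table.n), Function.Injective φ ∧
      ∀ x, φ (PresentedGroup.of x) = Table.sigma RuPMain.hT (RuPLink.lw (x, true)) := by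
    obtain ⟨-, -, φ, hinj, hφ, -⟩ := RuPSimple.main
    exact ⟨φ, hinj, hφ⟩
  obtain ⟨φ, hinj, hφ⟩ := main'
  set σ := Table.sigma RuPMain.hT with hσ
  have hinvl : ∀ x : G5, RuPTable.table.invl (RuPLink.lw (x, true)) = RuPLink.lw (x, true) := by
    intro x; cases x <;> decide +kernel
  have hlwk : ∀ xb : G5 × Bool, RuPLink.lw xb < RuPTable.table.k := by
    rintro ⟨x, b⟩; cases x <;> cases b <;> decide
  have hγ : ∀ x b, σ (RuPLink.lw (x, b)) =
      cond b (σ (RuPLink.lw (x, true))) (σ (RuPLink.lw (x, true)))⁻¹ := by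
    intro x b
    cases b with
    | true => rfl
    | false =>
      have e : RuPLink.lw (x, false) = RuPLink.lw (x, true) := by cases x <;> rfl
      show σ (RuPLink.lw (x, false)) = (σ (RuPLink.lw (x, true)))⁻¹
      rw [e, ← Table.sigma_inv RuPMain.hT (hlwk (x, true)), hinvl]
  have hcomp : φ.comp (PresentedGroup.mk RuPLink.rels) =
      FreeGroup.lift (fun x => σ (RuPLink.lw (x, true))) := by
    apply FreeGroup.ext_hom
    intro x
    rw [FreeGroup.lift_apply_of]
    exact hφ x
  have h1 : φ (mkQ W) = pathProd σ (pathOf RuPLink.lw W) := by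
    rw [← lift_mk_eq_pathProd (fun x => σ (RuPLink.lw (x, true))) RuPLink.lw σ hγ W, ← hcomp]
    rfl
  have hlt : ∀ l ∈ pathOf RuPLink.lw W, l < RuPTable.table.k := by
    intro l hl
    unfold pathOf at hl
    rw [List.mem_reverse, List.mem_map] at hl
    obtain ⟨xb, _, rfl⟩ := hl
    exact hlwk xb
  have h2 : pathProd σ (pathOf RuPLink.lw W) = 1 :=
    Table.pathProd_sigma_eq_one RuPMain.hT _ hlt h
  apply hinj
  rw [h1, h2, map_one]

theorem hsubmem : ∀ L ∈ E3Def.R, pathOf RuPLink.lw (subWord L) ∈ RuIsoChk.subPaths := by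
  decide +kernel

/-- the relators of the extended presentation hold -/
theorem hrel : ∀ r ∈ relSet E3Def.R, FreeGroup.lift img r = 1 := by
  rintro _ ⟨L, hL, rfl⟩
  rw [lift_img]
  exact mkQ_eq_one_of_walk _ (RuIsoChk.hsubT _ (hsubmem L hL))

/-- the homomorphism onto helper3's group -/
noncomputable def psi : PP →* Q := PresentedGroup.toGroup hrel

theorem psi_of (x : E3Def.Gen) : psi (PresentedGroup.of x) = img x := PresentedGroup.toGroup.of hrel

theorem psi_surjective : Function.Surjective psi := by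
  rw [← MonoidHom.range_eq_top, eq_top_iff, ← PresentedGroup.closure_range_of, Subgroup.closure_le]
  rintro _ ⟨x, rfl⟩
  cases x
  · exact ⟨PresentedGroup.of .a, psi_of .a⟩
  · exact ⟨PresentedGroup.of .b, psi_of .b⟩
  · exact ⟨PresentedGroup.of .c, psi_of .c⟩
  · exact ⟨PresentedGroup.of .d, psi_of .d⟩
  · exact ⟨PresentedGroup.of .e, psi_of .e⟩

/-- the two presentations give isomorphic groups -/
theorem exists_equiv (hfin : Finite PP) (hcard : Nat.card PP ≤ 145926144000) :
    Nonempty (PP ≃* Q) ∧ Nat.card PP = 145926144000 := by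
  have hQ : Nat.card Q = 145926144000 := RuPSimple.main.2.1
  have h1 : Nat.card Q ≤ Nat.card PP := Nat.card_le_card_of_surjective _ psi_surjective
  have hPP : Nat.card PP = 145926144000 := le_antisymm hcard (by rw [← hQ]; exact h1)
  have hbij : Function.Bijective psi :=
    psi_surjective.bijective_of_nat_card_le (by rw [hPP, hQ])
  exact ⟨⟨MulEquiv.ofBijective psi hbij⟩, hPP⟩

end Cfsg.Agent.Lib.Helper16.RuM.RuIso
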