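import Cfsg.Agent.Lib.Helper3.Cover.Finite
import Cfsg.Agent.Lib.Helper3.Cover.Lower
import Cfsg.Agent.Lib.Helper28.TC2Tower
import Cfsg.Agent.Lib.Helper28.TC2Tower2
import Cfsg.Agent.Lib.Helper16.RuM.CoverIdx
import Cfsg.Agent.Lib.Helper16.RuM.CoverLowM
import Cfsg.Agent.Lib.Helper16.RuM.RuIso
import Cfsg.Agent.Lib.Helper16.RuM.E1MainT
import Cfsg.Agent.Lib.Helper16.RuM.E2MainT
import Cfsg.Agent.Lib.Helper16.RuM.E3MainT
import Cfsg.Agent.Lib.Helper16.RuM.P1MainU
import Cfsg.Agent.Lib.Helper16.RuM.P2MainU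
import Cfsg.Agent.Lib.Helper16.RuM.P3MainU
import Cfsg.Agent.Lib.Helper16.RuM.LCovLow

set_option autoImplicit false
set_option maxRecDepth 100000

/-!
# The Schur multiplier of the Rudvalis group has order 2

`P3 = ⟨a, b, c, d, e, v | R⟩` is helper3's presentation of the Rudvalis group with one more generator `v = a c a b c`;
`⟨b, v⟩` is a quotient of `L₃(3)` (presentation `P1`) and `⟨a, b, c, d, v⟩` a quotient of the Tits group
(presentation `P2`).  For the covering presentations `E1`, `E2`, `E3` (helper3's `CoverData`) the images of all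
relators lie in the subgroup generated by the previous level (for `E3`: up to one central element `ζ` with `ζ²` in
the subgroup), which is read off partial coset enumeration certificates (`Target.mem_of_walk`), so the orders are at
most `5616`, `3200 * 5616` and `2 * 8120 * 3200 * 5616`.  `E3` acts on `2 * 8120` points with `ζ` acting
non-trivially.
-/

namespace Cfsg.Agent.Lib.Helper16.RuM.RuMain

open Cfsg Cfsg.Agent.Lib.Helper3.Cover
open Cfsg.Agent.Lib.Helper28.TC2Upper Cfsg.Agent.Lib.Helper28.TC2Lower Cfsg.Agent.Lib.Helper28.TC2Glue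
open Cfsg.Agent.Lib.Helper28.TC2Tower Cfsg.Agent.Lib.Helper28.TC2Tower2

/-- the covering data of the presentation of `L₃(3)` -/
abbrev D1 : CoverData E1Def.Gen := E1Def.cover
/-- the covering data of the presentation of the Tits group -/
abbrev D2 : CoverData E2Def.Gen := E2Def.cover
/-- the covering data of the presentation of the Rudvalis group -/
abbrev D3 : CoverData E3Def.Gen := E3Def.cover

/-- the generators of the first group as generators of the second -/
def up12 : E1Def.Gen → E2Def.Gen
  | .b => .b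
  | .v => .v

/-- the generators of the second group as generators of the third -/
def up23 : E2Def.Gen → E3Def.Gen
  | .a => .a
  | .b => .b
  | .c => .c
  | .d => .d
  | .v => .v

theorem upE12 : ∀ L ∈ E1Def.relWords, upWord up12 L ∈ E2Def.relWords := by decide +kernel
theorem upE23 : ∀ L ∈ E2Def.relWords, upWord up23 L ∈ E3Def.relWords := by decide +kernel

/-! ### the orders of the covering groups -/

theorem tgt1 : E1W.targets = D1.R := by decide +kernel

theorem cardE1 : Finite D1.E ∧ Nat.card D1.E ≤ 5616 := by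
  have hR : ∀ r ∈ D1.R, PresentedGroup.mk D1.relsE (FreeGroup.mk r) ∈
      (Subgroup.closure E1Link.S).map (PresentedGroup.mk D1.relsE) := by
    intro r hr
    exact E1MainT.hmem r (by rw [tgt1]; exact hr)
  obtain ⟨hq, hqle⟩ := CoverIdx.card_quot_le D1 E1Link.S 5616 P1MainU.mainU hR
  have e : (Subgroup.closure E1Link.S).map (PresentedGroup.mk D1.relsE) = ⊥ := by
    show (Subgroup.closure {1}).map _ = ⊥
    rw [Subgroup.closure_singleton_one, Subgroup.map_bot]
  have hH : Finite ↥((Subgroup.closure E1Link.S).map (PresentedGroup.mk D1.relsE)) := by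
    rw [e]; infer_instance
  have hc : Nat.card ↥((Subgroup.closure E1Link.S).map (PresentedGroup.mk D1.relsE)) ≤ 1 := by
    rw [e, Subgroup.card_bot]
  have h := card_le_of_quot _ hH hq hqle hc
  rwa [mul_one] at h

theorem hS2 : ∀ s ∈ E2Link.S, ∃ g, s = FreeGroup.of (up12 g) := by
  intro s hs
  simp only [E2Link.S, Set.mem_insert_iff, Set.mem_singleton_iff] at hs
  rcases hs with rfl | rfl
  exacts [⟨.b, rfl⟩, ⟨.v, rfl⟩]

theorem tgt2 : E2W.targets = D2.R := by decide +kernel

theorem cardE2 : Finite D2.E ∧ Nat.card D2.E ≤ 3200 * 5616 := by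
  haveI : Finite (PresentedGroup D1.relsE) := cardE1.1
  have hR : ∀ r ∈ D2.R, PresentedGroup.mk D2.relsE (FreeGroup.mk r) ∈
      (Subgroup.closure E2Link.S).map (PresentedGroup.mk D2.relsE) := by
    intro r hr
    exact E2MainT.hmem r (by rw [tgt2]; exact hr)
  obtain ⟨hq, hqle⟩ := CoverIdx.card_quot_le D2 E2Link.S 3200 P2MainU.mainU hR
  have hrel := hrel_of_words E2Link.rels D1.relsE up12 E2Link.relWords E1Def.relWords
    E2Link.link.hrels (fun _ => Iff.rfl) upE12
  obtain ⟨hfin, hle⟩ := card_le_of_subpres E2Link.rels D1.relsE up12 hrel E2Link.S hS2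
  exact card_le_of_quot _ hfin hq hqle (le_trans hle cardE1.2)

theorem hS3 : ∀ s ∈ E3Link.S, ∃ g, s = FreeGroup.of (up23 g) := by
  intro s hs
  simp only [E3Link.S, Set.mem_insert_iff, Set.mem_singleton_iff] at hs
  rcases hs with rfl | rfl | rfl | rfl | rfl
  exacts [⟨.a, rfl⟩, ⟨.b, rfl⟩, ⟨.c, rfl⟩, ⟨.d, rfl⟩, ⟨.v, rfl⟩]

/-- the relator whose image in the covering group is the central involution -/
def zc : List (E3Def.Gen × Bool) := E3Def.R.getD 42 []

theorem zc_mem : zc ∈ E3Def.R := by decide +kernel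

/-- the inverse word -/
def invW (L : List (E3Def.Gen × Bool)) : List (E3Def.Gen × Bool) := (L.map fun p => (p.1, !p.2)).reverse

theorem mk_invW (L : List (E3Def.Gen × Bool)) : FreeGroup.mk (invW L) = (FreeGroup.mk L)⁻¹ := by
  rw [FreeGroup.inv_mk]
  rfl

/-- the relators acting as the central involution -/
def K1 : List (List (E3Def.Gen × Bool)) :=
  [E3Def.R.getD 30 [], E3Def.R.getD 36 [], E3Def.R.getD 39 [], E3Def.R.getD 42 []]

theorem tgt3 : ∀ r ∈ D3.R, (if r ∈ K1 then invW zc ++ r else r) ∈ E3W.targets := by decide +kernel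
theorem tgt3z : zc ++ zc ∈ E3W.targets := by decide +kernel

theorem cardE3 : Finite D3.E ∧ Nat.card D3.E ≤ 2 * 8120 * (3200 * 5616) := by
  haveI : Finite (PresentedGroup D2.relsE) := cardE2.1
  have hR : ∀ r ∈ D3.R, PresentedGroup.mk D3.relsE (FreeGroup.mk r) ∈
        (Subgroup.closure E3Link.S).map (PresentedGroup.mk D3.relsE) ∨
      PresentedGroup.mk D3.relsE (FreeGroup.mk r) * (PresentedGroup.mk D3.relsE (FreeGroup.mk zc))⁻¹ ∈
        (Subgroup.closure E3Link.S).map (PresentedGroup.mk D3.relsE) := by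
    intro r hr
    have h := E3MainT.hmem _ (tgt3 r hr)
    by_cases hk : r ∈ K1
    · right
      rw [if_pos hk, ← FreeGroup.mul_mk, mk_invW, map_mul, map_inv] at h
      have hc := D3.mk_rel_mem_center r hr
      rw [Subgroup.mem_center_iff] at hc
      rw [← hc]
      exact h
    · left
      rw [if_neg hk] at h
      exact h
  have hz2 : PresentedGroup.mk D3.relsE (FreeGroup.mk zc) * PresentedGroup.mk D3.relsE (FreeGroup.mk zc) ∈
      (Subgroup.closure E3Link.S).map (PresentedGroup.mk D3.relsE) := by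
    have h := E3MainT.hmem _ tgt3z
    rw [← FreeGroup.mul_mk, map_mul] at h
    exact h
  obtain ⟨hq, hqle⟩ := CoverIdx.card_quot_le_two D3 E3Link.S 8120 P3MainU.mainU zc zc_mem hR hz2
  have hrel := hrel_of_words E3Link.rels D2.relsE up23 E3Link.relWords E2Def.relWords
    E3Link.link.hrels (fun _ => Iff.rfl) upE23
  obtain ⟨hfin, hle⟩ := card_le_of_subpres E3Link.rels D2.relsE up23 hrel E3Link.S hS3
  exact card_le_of_quot _ hfin hq hqle (le_trans hle cardE2.2)

/-! ### the kernel -/

theorem lwkC : ∀ xb, E3Link.lw xb < LCovTable.table.k := by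
  rintro ⟨x, b⟩; cases x <;> cases b <;> decide
theorem lwinvC : ∀ x, E3Link.lw (x, false) = LCovTable.table.invl (E3Link.lw (x, true)) := by
  intro x; cases x <;> decide +kernel

/-- the exponent of the central letter in the action of a relator -/
def kr (L : List (E3Def.Gen × Bool)) : ℕ := if L ∈ K1 then 1 else 0

theorem hmemR : ∀ L ∈ E3Def.R, pathOf E3Link.lw L ++ List.replicate (kr L) 13 ∈ LCovTable.relzPaths := by
  decide +kernel
theorem hmemN : ∀ L ∈ D3.norms, pathOf E3Link.lw L ∈ LCovTable.relzPaths := by decide +kernel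
theorem hmemC : ∀ x : E3Def.Gen, [12, E3Link.lw (x, true), 13, E3Link.lw (x, false)] ∈ LCovTable.commPaths := by
  intro x; cases x <;> decide +kernel

theorem walk_zc : LCovTable.table.walkT (pathOf E3Link.lw zc) 0 ≠ 0 := by decide +kernel

/-- a non-trivial element of the kernel -/
theorem ker_elt : ∃ z ∈ D3.proj.ker, z ≠ 1 := by
  have hinv : LCovTable.table.invl 12 = 13 := by decide +kernel
  obtain ⟨φ, hφ⟩ := CoverLowM.cover_hom D3 E3Link.lw LCovLow.hT lwkC lwinvC 12 8120 2 (by decide) rfl
    LCovLow.hz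
    (fun x q hq => by
      rw [hinv]
      exact LCovLow.hcommT _ (hmemC x) q hq)
    kr
    (fun L hL p hp => by
      rw [hinv]
      exact LCovLow.hrelzT _ (hmemR L hL) p hp)
    (fun L hL p hp => LCovLow.hrelzT _ (hmemN L hL) p hp)
  refine ⟨PresentedGroup.mk D3.relsE (FreeGroup.mk zc), ?_, ?_⟩
  · rw [MonoidHom.mem_ker, D3.proj_mk]
    exact PresentedGroup.one_of_mem ⟨zc, zc_mem, rfl⟩
  · intro h
    have h1 : φ (PresentedGroup.mk _ (FreeGroup.mk zc)) ≠ 1 :=
      ne_one_of_walk φ hφ zc ⟨0, by decide⟩ walk_zc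
    apply h1
    have : (PresentedGroup.mk (relSet E3Def.relWords) (FreeGroup.mk zc)) = 1 := h
    rw [this, map_one]

/-! ### the isomorphism and the multiplier -/

theorem two_le_card_ker [Finite D3.E] : 2 ≤ Nat.card D3.proj.ker := by
  obtain ⟨z, hz, hz1⟩ := ker_elt
  have : Nontrivial D3.proj.ker := ⟨⟨⟨z, hz⟩, 1, fun h => hz1 (congrArg Subtype.val h)⟩⟩
  exact Finite.one_lt_card

theorem iso : Nonempty (D3.P ≃* RuIso.Q) ∧ Nat.card D3.P = 145926144000 := by
  haveI := cardE3.1
  have h1 := D3.card_E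
  have h2 := cardE3.2
  have h3 := two_le_card_ker
  have hfinP : Finite D3.P := Finite.of_surjective _ D3.proj_surjective
  have hP : Nat.card D3.P ≤ 145926144000 := by
    rw [h1] at h2
    have : 2 * Nat.card D3.P ≤ 2 * 8120 * (3200 * 5616) :=
      le_trans (Nat.mul_le_mul_right _ h3) h2
    omega
  exact RuIso.exists_equiv hfinP hP

theorem card_ker : Nat.card D3.proj.ker = 2 := by
  haveI := cardE3.1
  have h1 := D3.card_E
  rw [iso.2] at h1
  have h2 := cardE3.2
  have h3 : Nat.card D3.proj.ker ≤ 2 := by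
    rw [h1] at h2
    exact Nat.le_of_mul_le_mul_right h2 (by norm_num)
  exact le_antisymm h3 two_le_card_ker

/-- the Schur multiplier of any group isomorphic to helper3's presented Rudvalis group is cyclic of order 2 -/
theorem schur_of_equiv {G : Type} [Group G] (e : RuIso.Q ≃* G) : Cfsg.HasCyclicSchurMultiplier G 2 := by
  haveI := cardE3.1
  obtain ⟨φ⟩ := iso.1
  haveI : Fact (Nat.Prime 2) := ⟨Nat.prime_two⟩
  have hc : IsCyclic D3.proj.ker := isCyclic_of_prime_card card_ker
  have e2 : Nat.card D3.proj.ker = Nat.card (Multiplicative (ZMod 2)) := by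
    rw [card_ker, Nat.card_eq_fintype_card]; rfl
  exact D3.hasSchurMultiplier (φ.trans e) (mulEquivOfCyclicCardEq e2)

end Cfsg.Agent.Lib.Helper16.RuM.RuMain
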